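import Groth.Agent.KFlatLib.Scheme.PullTensor
import Groth.Agent.KFlatLib.TotalMap

/-!
# Derived pullback commutes with derived tensor products
-/

set_option linter.style.haveILetI false

universe u

open CategoryTheory CategoryTheory.Limits AlgebraicGeometry TopologicalSpace Opposite MonoidalCategory

attribute [local instance] HasDerivedCategory.standard

namespace Groth.Agent.KFlatLib

variable {X Y : Scheme.{u}} (f : X ⟶ Y)

lemma tmSh_naturality_left {M M' : X.Modules} (φ : M ⟶ M') (N : X.Modules) {U : X.Opens}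
    (s : (DCoh.toP.obj M).obj (op U)) (t : (DCoh.toP.obj N).obj (op U)) :
    (DCoh.toP.map ((DCoh.tensorBi.map φ).app N)).app (op U) (tmSh M N s t) =
      tmSh M' N ((DCoh.toP.map φ).app (op U) s) t :=
  (congrArg (fun g : DCoh.toP.obj M ⊗ DCoh.toP.obj N ⟶ _ => g.app (op U) (tm s t))
    (unitShP_naturality (DCoh.toP.map φ ▷ DCoh.toP.obj N))).symm

lemma tmSh_naturality_right (M : X.Modules) {N N' : X.Modules} (φ : N ⟶ N') {U : X.Opens}
    (s : (DCoh.toP.obj M).obj (op U)) (t : (DCoh.toP.obj N).obj (op U)) :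
    (DCoh.toP.map ((DCoh.tensorBi.obj M).map φ)).app (op U) (tmSh M N s t) =
      tmSh M N' s ((DCoh.toP.map φ).app (op U) t) :=
  (congrArg (fun g : DCoh.toP.obj M ⊗ DCoh.toP.obj N ⟶ _ => g.app (op U) (tm s t))
    (unitShP_naturality (DCoh.toP.obj M ◁ DCoh.toP.map φ))).symm

/-- Maps out of a pullback of a tensor product are determined on simple tensors. -/
lemma pullback_tensor_ext {M N : Y.Modules} {Z : X.Modules}
    {a b : (Scheme.Modules.pullback f).obj ((DCoh.tensorBi.obj M).obj N) ⟶ Z}
    (h : ∀ (W : Y.Opens) (s : (DCoh.toP.obj M).obj (op W)) (t : (DCoh.toP.obj N).obj (op W)),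
      (DCoh.toP.map a).app (op (f ⁻¹ᵁ W)) (pb f (tmSh M N s t)) =
        (DCoh.toP.map b).app (op (f ⁻¹ᵁ W)) (pb f (tmSh M N s t))) : a = b := by
  apply ((Scheme.Modules.pullbackPushforwardAdjunction f).homEquiv _ _).injective
  apply ((PresheafOfModules.sheafificationAdjunction (𝟙 Y.ringCatSheaf.obj)).homEquiv _ _).injective
  refine PresheafOfModules.Hom.ext (funext fun U => ?_)
  exact ModuleCat.MonoidalCategory.tensor_ext fun s t => h U.unop s t

/-- `f^* (M ⊗ N) ≅ f^* M ⊗ f^* N`, natural in both variables. -/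
noncomputable def pullTensorBiIso :
    DCoh.tensorBi ⋙ (Functor.whiskeringRight _ _ _).obj (Scheme.Modules.pullback f) ≅
      Scheme.Modules.pullback f ⋙ DCoh.tensorBi ⋙
        (Functor.whiskeringLeft _ _ _).obj (Scheme.Modules.pullback f) :=
  NatIso.ofComponents
    (fun M => NatIso.ofComponents (fun N => asIso (pullTensorHom f M N)) fun {N N'} φ => by
      refine pullback_tensor_ext f fun W s t => ?_
      change (DCoh.toP.map (pullTensorHom f M N')).app _ ((DCoh.toP.map
          ((Scheme.Modules.pullback f).map ((DCoh.tensorBi.obj M).map φ))).app _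
            (pb f (tmSh M N s t))) =
        (DCoh.toP.map ((DCoh.tensorBi.obj _).map ((Scheme.Modules.pullback f).map φ))).app _
          ((DCoh.toP.map (pullTensorHom f M N)).app _ (pb f (tmSh M N s t)))
      rw [← pb_naturality, tmSh_naturality_right, pullTensorHom_pb, pullTensorHom_pb,
        tmSh_naturality_right, pb_naturality])
    fun {M M'} φ => by
      ext N : 2
      refine pullback_tensor_ext f fun W s t => ?_
      change (DCoh.toP.map (pullTensorHom f M' N)).app _ ((DCoh.toP.map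
          ((Scheme.Modules.pullback f).map ((DCoh.tensorBi.map φ).app N))).app _
            (pb f (tmSh M N s t))) =
        (DCoh.toP.map ((DCoh.tensorBi.map ((Scheme.Modules.pullback f).map φ)).app _)).app _
          ((DCoh.toP.map (pullTensorHom f M N)).app _ (pb f (tmSh M N s t)))
      rw [← pb_naturality, tmSh_naturality_left, pullTensorHom_pb, pullTensorHom_pb,
        tmSh_naturality_left, pb_naturality]

/-- Pullback commutes with tensor products of complexes. -/
noncomputable def pullTensorCxIso (L K : CochainComplex Y.Modules ℤ) :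
    (DCoh.tensorCx.obj ((pullCx f).obj L)).obj ((pullCx f).obj K) ≅
      (pullCx f).obj ((DCoh.tensorCx.obj L).obj K) :=
  totalMapIso (pullTensorBiIso f) L K

/-- Tensor products of K-flat complexes of modules are K-flat. -/
lemma kFlat_tensor {A : Type u} [CommRing A] {K L : CochainComplex (ModuleCat.{u} A) ℤ}
    (hK : KFlat (curriedTensor (ModuleCat.{u} A)) K) (hL : KFlat (curriedTensor (ModuleCat.{u} A)) L) :
    KFlat (curriedTensor (ModuleCat.{u} A))
      (((curriedTensor (ModuleCat.{u} A)).map₂CochainComplex.obj K).obj L) :=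
  kFlat_iff.2 fun M hM =>
    acyclic_of_iso (HomologicalComplex.associator M K L) (hL.acyclic (hK.acyclic hM))

/-- Tensor products of K-flat complexes are K-flat. -/
lemma isKFlat_tensorCx {K L : CochainComplex X.Modules ℤ} (hK : DCoh.IsKFlat K)
    (hL : DCoh.IsKFlat L) : DCoh.IsKFlat ((DCoh.tensorCx.obj K).obj L) :=
  (kFlat_iff_stalk _).2 fun x => (kFlat_tensor ((kFlat_iff_stalk K).1 hK x)
    ((kFlat_iff_stalk L).1 hL x)).of_iso (stalkTensorCxIso x K L)

/-- The derived tensor product of a K-flat complex. -/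
noncomputable def ltensorCxIso (E : CochainComplex X.Modules ℤ) [DCoh.HasLTensorCx E]
    {R : CochainComplex X.Modules ℤ} (hR : DCoh.IsKFlat R) :
    (DCoh.LTensorCx E).obj (DCoh.toD X R) ≅ DCoh.toD X ((DCoh.tensorCx.obj R).obj E) :=
  @asIso _ _ _ _ (((DCoh.tensorCxQ E).totalLeftDerivedCounit DerivedCategory.Q (qisX X)).app R)
    (isIso_LTensorCx_counit E hR)

/-- `Lf^*` of a K-flat complex. -/
noncomputable def lpullIso [DCoh.HasLpull f] {R : CochainComplex Y.Modules ℤ}
    (hR : DCoh.IsKFlat R) :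
    (DCoh.Lpull f).obj (DCoh.toD Y R) ≅ DCoh.toD X ((pullCx f).obj R) :=
  @asIso _ _ _ _ ((lpullComparison f).app R) (isIso_lpullComparison f hR)

/-- `Lf^* (K ⊗ L) ≅ Lf^* K ⊗ f^* L` for K-flat `L`. -/
lemma nonempty_lpull_ltensor [DCoh.HasLpull f] (L : CochainComplex Y.Modules ℤ)
    (hL : DCoh.IsKFlat L) [DCoh.HasLTensorCx L] [DCoh.HasLTensorCx ((pullCx f).obj L)]
    (K : DCoh.D Y) :
    Nonempty ((DCoh.Lpull f).obj ((DCoh.LTensorCx L).obj K) ≅
      (DCoh.LTensorCx ((pullCx f).obj L)).obj ((DCoh.Lpull f).obj K)) := by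
  let R := (kRes Y).obj (DerivedCategory.Q.objPreimage K)
  have hR : DCoh.IsKFlat R := isKFlat_kRes _
  let e : DCoh.toD Y R ≅ K :=
    (resQIso Y).app _ ≪≫ DerivedCategory.Q.objObjPreimageIso K
  exact ⟨(DCoh.Lpull f).mapIso ((DCoh.LTensorCx L).mapIso e.symm ≪≫ ltensorCxIso L hR) ≪≫
    lpullIso f (isKFlat_tensorCx hR hL) ≪≫
    DerivedCategory.Q.mapIso (pullTensorCxIso f R L).symm ≪≫
    (ltensorCxIso ((pullCx f).obj L) (isKFlat_pullback f hR)).symm ≪≫
    (DCoh.LTensorCx _).mapIso ((lpullIso f hR).symm ≪≫ (DCoh.Lpull f).mapIso e)⟩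

end Groth.Agent.KFlatLib
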