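import Groth.Agent.KFlatLib.Scheme.PullCx
import Groth.Prelude.Def_DRing2
import Mathlib.AlgebraicGeometry.Modules.Tilde

/-!
# Stalks of `M^~`, and K-flatness
-/

set_option linter.style.haveILetI false

universe u

open CategoryTheory CategoryTheory.Limits AlgebraicGeometry Opposite MonoidalCategory

namespace Groth.Agent.KFlatLib

variable {R : CommRingCat.{u}} (x : Spec R)

/-- `R ⟶ O_x`. -/
noncomputable def toStalkHom : R →+* (Spec R).presheaf.stalk x :=
  ((Scheme.ΓSpecIso R).inv ≫ (Spec R).presheaf.germ ⊤ x trivial).hom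

/-- Global sections of skyscrapers. -/
noncomputable def skyΓIso :
    sky x ⋙ moduleSpecΓFunctor ≅ ModuleCat.restrictScalars (toStalkHom x) :=
  NatIso.ofComponents
    (fun N => LinearEquiv.toModuleIso
      (m₁ := ((sky x ⋙ moduleSpecΓFunctor).obj N).isModule)
      (m₂ := ((ModuleCat.restrictScalars (toStalkHom x)).obj N).isModule)
      { toFun := fun s => ((show ∀ h : PLift (x ∈ (⊤ : (Spec R).Opens)), skyFiber x N ⊤ h.down from
          s) ⟨trivial⟩ : N)
        invFun := fun n => (show ∀ h : PLift (x ∈ (⊤ : (Spec R).Opens)), skyFiber x N ⊤ h.down from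
          fun _ => n)
        map_add' := fun _ _ => rfl
        map_smul' := fun r s => by
          change (Spec R).presheaf.germ ⊤ x trivial ((Spec R).presheaf.map (𝟙 (op ⊤))
              ((Scheme.ΓSpecIso R).inv r)) •
              (((show ∀ h : PLift (x ∈ (⊤ : (Spec R).Opens)), skyFiber x N ⊤ h.down from s) ⟨trivial⟩) : N) =
            (Spec R).presheaf.germ ⊤ x trivial ((Scheme.ΓSpecIso R).inv r) •
              (((show ∀ h : PLift (x ∈ (⊤ : (Spec R).Opens)), skyFiber x N ⊤ h.down from s) ⟨trivial⟩) : N)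
          rw [CategoryTheory.Functor.map_id]
          rfl
        left_inv := fun s => rfl
        right_inv := fun n => rfl })
    fun {N N'} g => rfl

/-- `(M^~)_x ≅ O_x ⊗_R M`. -/
noncomputable def stalkTildeIso :
    tilde.functor R ⋙ DerSch.stalkFunctor (Spec R) x ≅ ModuleCat.extendScalars (toStalkHom x) :=
  ((tilde.adjunction (R := R)).comp (skyAdj x)).leftAdjointUniq
    ((ModuleCat.extendRestrictScalarsAdj (toStalkHom x)).ofNatIsoRight (skyΓIso x).symm)

/-- `M^~` of a K-flat complex is K-flat. -/
lemma isKFlat_tilde (K : DRing.Cx R)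
    (hK : ∀ L : DRing.Cx R, (∀ i : ℤ, IsZero (L.homology i)) →
      ∀ i : ℤ, IsZero (((tensorRight K).obj L).homology i)) :
    DCoh.IsKFlat (((tilde.functor R).mapHomologicalComplex (ComplexShape.up ℤ)).obj K) := by
  refine (kFlat_iff_stalk _).2 fun x => ?_
  have hK' : KFlat (curriedTensor (ModuleCat.{u} R)) K := hK
  exact (kFlat_extendScalars (toStalkHom x) hK').of_iso
    ((NatIso.mapHomologicalComplex (stalkTildeIso x) (ComplexShape.up ℤ)).app K).symm

end Groth.Agent.KFlatLib
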