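import Groth.Agent.KFlatLib.Scheme.Flatness
import Groth.Agent.KFlatLib.Scheme.Tilde
import Groth.Agent.KFlatLib.Scheme.PullTensorCx
import Groth.Agent.QCoh.Tilde
import Groth.Agent.QCoh.Pullback

/-!
# Tensor products of quasi-coherent modules are quasi-coherent
-/

set_option linter.style.haveILetI false

universe u

open CategoryTheory CategoryTheory.Limits AlgebraicGeometry

namespace Groth.Agent.KFlatLib

variable {X : Scheme.{u}}

/-- `M ⊗ 𝒪 ≅ M`. -/
noncomputable def tensorUnitIso (M : X.Modules) :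
    (DCoh.tensorBi.obj M).obj (Coh.structureModule X) ≅ M :=
  (tensorStructureIso X).app M

lemma isQCoh_tensor_free {M : X.Modules} (hM : Coh.IsQCoh M) (ι : Type u) :
    Coh.IsQCoh ((DCoh.tensorBi.obj M).obj (∐ fun _ : ι => Coh.structureModule X)) :=
  (QCoh.isQCoh_iff_iso (PreservesCoproduct.iso (DCoh.tensorBi.obj M) _ ≪≫
    Sigma.mapIso fun _ => tensorUnitIso M)).2 (QCoh.isQCoh_colimit _ fun _ => hM)

lemma isQCoh_tensor_spec {R : CommRingCat.{u}} {M N : (Spec R).Modules} (hM : Coh.IsQCoh M)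
    (hN : Coh.IsQCoh N) : Coh.IsQCoh ((DCoh.tensorBi.obj M).obj N) := by
  obtain ⟨N₀, ⟨eN⟩⟩ := QCoh.isQCoh_spec_iff.1 hN
  let p : ModuleCat.of R ((N₀ : Type u) →₀ R) ⟶ N₀ :=
    ModuleCat.ofHom (Finsupp.linearCombination R id)
  have hp : Epi p := (ModuleCat.epi_iff_surjective p).2 fun m =>
    ⟨Finsupp.single m 1, by simp [p]⟩
  let K := kernel p
  let q : ModuleCat.of R ((K : Type u) →₀ R) ⟶ ModuleCat.of R ((N₀ : Type u) →₀ R) :=
    ModuleCat.ofHom (Finsupp.linearCombination R id) ≫ kernel.ι p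
  have hz : q ≫ p = 0 := by simp [q, Category.assoc]
  let S := ShortComplex.mk q p hz
  have hS : S.Exact := by
    let S' := ShortComplex.mk (kernel.ι p) p (kernel.condition p)
    let r : ModuleCat.of R ((K : Type u) →₀ R) ⟶ K :=
      ModuleCat.ofHom (Finsupp.linearCombination R id)
    let φ : S ⟶ S' := { τ₁ := r, τ₂ := 𝟙 _, τ₃ := 𝟙 _,
                        comm₁₂ := by simp [S, S', q, r], comm₂₃ := by simp [S, S'] }
    haveI : Epi φ.τ₁ := (ModuleCat.epi_iff_surjective r).2 fun m =>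
      ⟨Finsupp.single m 1, by simp [r]⟩
    haveI : IsIso φ.τ₂ := inferInstanceAs (IsIso (𝟙 _))
    haveI : Mono φ.τ₃ := inferInstanceAs (Mono (𝟙 _))
    exact (ShortComplex.exact_iff_of_epi_of_isIso_of_mono φ).2
      (ShortComplex.exact_of_f_is_kernel _ (kernelIsKernel p))
  let F := tilde.functor R ⋙ DCoh.tensorBi.obj M
  haveI : PreservesColimitsOfShape WalkingParallelPair F := inferInstance
  haveI : F.Additive := inferInstance
  have h : IsColimit (CokernelCofork.ofπ (F.map p)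
      (show F.map q ≫ F.map p = 0 by rw [← F.map_comp, hz, F.map_zero])) :=
    CokernelCofork.mapIsColimit _ (hS.gIsCokernel) F
  have e : ∀ ι : Type u, Coh.IsQCoh (F.obj (ModuleCat.of R (ι →₀ R))) := fun ι =>
    (QCoh.isQCoh_iff_iso ((DCoh.tensorBi.obj M).mapIso (tildeFinsupp ι))).2
      (isQCoh_tensor_free hM ι)
  exact (QCoh.isQCoh_iff_iso ((DCoh.tensorBi.obj M).mapIso eN.symm ≪≫
    h.coconePointUniqueUpToIso (cokernelIsCokernel (F.map q)))).2
      (QCoh.isQCoh_cokernel (e _) (e _) _)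

lemma isQCoh_tensor {M N : X.Modules} (hM : Coh.IsQCoh M) (hN : Coh.IsQCoh N) :
    Coh.IsQCoh ((DCoh.tensorBi.obj M).obj N) := by
  refine QCoh.isQCoh_of_charts fun R j _ => ?_
  let e := Scheme.Modules.restrictFunctorIsoPullback j
  refine (QCoh.isQCoh_iff_iso (e.app _ ≪≫ ((pullTensorBiIso j).app M).app N)).2 ?_
  exact isQCoh_tensor_spec ((QCoh.isQCoh_iff_iso (e.app M)).1 (QCoh.isQCoh_restrict j hM))
    ((QCoh.isQCoh_iff_iso (e.app N)).1 (QCoh.isQCoh_restrict j hN))

end Groth.Agent.KFlatLib
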