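import Groth.Prelude.Def_DerSch
import Mathlib.Topology.Sheaves.Abelian
import Mathlib.Algebra.Category.ModuleCat.AB
import Mathlib.Algebra.Category.ModuleCat.Sheaf.Limits
import Mathlib.Algebra.Category.ModuleCat.Sheaf.Colimits
import Mathlib.Algebra.Category.ModuleCat.Presheaf.Colimits
import Mathlib.CategoryTheory.Abelian.GrothendieckAxioms.Sheaf
import Mathlib.Algebra.Homology.ShortComplex.ExactFunctor
import Mathlib.CategoryTheory.Adjunction.Limits

/-!
# Exactness properties of `X.Modules` and of the stalk functors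

The forgetful functor to abelian sheaves preserves colimits; `X.Modules` satisfies AB5; the stalk
functors are exact, preserve colimits and detect exactness and isomorphisms.
-/

set_option linter.style.haveILetI false

universe w w' u

open CategoryTheory CategoryTheory.Limits AlgebraicGeometry TopologicalSpace Opposite

namespace Groth.Agent.KFlatLib

instance hasExactColimitsOfShape_nat_ab : HasExactColimitsOfShape ℕ AddCommGrpCat.{u} := by
  haveI := AB5OfSize_shrink.{0, 0, u, u} AddCommGrpCat.{u}
  exact AB5OfSize.ofShape ℕ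

instance hasExactColimitsOfShape_discrete_ab (S : Type) :
    HasExactColimitsOfShape (Discrete S) AddCommGrpCat.{u} := by
  haveI := AB4OfSize_shrink.{0, u} AddCommGrpCat.{u}
  infer_instance

instance hasExactColimitsOfShape_nat_moduleCat (R : Type u) [Ring R] :
    HasExactColimitsOfShape ℕ (ModuleCat.{u} R) :=
  HasExactColimitsOfShape.domain_of_functor ℕ (forget₂ (ModuleCat.{u} R) AddCommGrpCat.{u})

variable (X : Scheme.{u})

/-- The forgetful functor to abelian sheaves. -/
noncomputable def toAb : X.Modules ⥤ TopCat.Sheaf AddCommGrpCat.{u} X :=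
  SheafOfModules.toSheaf X.ringCatSheaf

instance : (toAb X).Additive :=
  inferInstanceAs (SheafOfModules.toSheaf X.ringCatSheaf).Additive

instance : (toAb X).Faithful :=
  inferInstanceAs (SheafOfModules.toSheaf X.ringCatSheaf).Faithful

instance : (toAb X).ReflectsIsomorphisms where
  reflects {M N} φ h := by
    haveI : IsIso ((Scheme.Modules.toPresheaf X).map φ) :=
      inferInstanceAs (IsIso ((TopCat.Sheaf.forget AddCommGrpCat.{u} X).map ((toAb X).map φ)))
    exact isIso_of_reflects_iso φ (Scheme.Modules.toPresheaf X)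

instance : PreservesFiniteLimits (toAb X) :=
  inferInstanceAs (PreservesFiniteLimits (SheafOfModules.toSheaf X.ringCatSheaf))

instance preservesColimitsOfShape_toAb (K : Type w) [Category.{w'} K]
    [HasColimitsOfShape K AddCommGrpCat.{u}] : PreservesColimitsOfShape K (toAb X) where
  preservesColimit {F} := by
    let R := X.ringCatSheaf
    let adj := PresheafOfModules.sheafificationAdjunction (𝟙 R.obj)
    haveI := adj.leftAdjoint_preservesColimits
    let G := F ⋙ SheafOfModules.forget R
    let e : F ≅ G ⋙ PresheafOfModules.sheafification (𝟙 R.obj) :=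
      Functor.isoWhiskerLeft F (asIso adj.counit).symm
    haveI : PreservesColimitsOfShape K (presheafToSheaf (Opens.grothendieckTopology X) AddCommGrpCat.{u}) :=
      (CategoryTheory.sheafificationAdjunction _ _).leftAdjoint_preservesColimits.preservesColimitsOfShape
    haveI h₁ : PreservesColimitsOfShape K (PresheafOfModules.sheafification (𝟙 R.obj) ⋙
        SheafOfModules.toSheaf R) :=
      preservesColimitsOfShape_of_natIso
        (PresheafOfModules.sheafificationCompToSheaf (𝟙 R.obj)).symm
    haveI : PreservesColimitsOfShape K (PresheafOfModules.sheafification (𝟙 R.obj)) :=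
      adj.leftAdjoint_preservesColimits.preservesColimitsOfShape
    refine @preservesColimit_of_iso_diagram _ _ _ _ _ _ _ _ (toAb X) e.symm ?_
    refine preservesColimit_of_preserves_colimit_cocone
      (isColimitOfPreserves (PresheafOfModules.sheafification (𝟙 R.obj)) (colimit.isColimit G)) ?_
    exact (isColimitOfPreserves (PresheafOfModules.sheafification (𝟙 R.obj) ⋙
        SheafOfModules.toSheaf R) (colimit.isColimit G) :)

instance : PreservesFiniteColimits (toAb X) where
  preservesFiniteColimits _ _ _ := inferInstance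

instance hasExactColimitsOfShape (K : Type w) [Category.{w'} K]
    [HasColimitsOfShape K AddCommGrpCat.{u}] [HasExactColimitsOfShape K AddCommGrpCat.{u}]
    [HasColimitsOfShape K X.Modules] : HasExactColimitsOfShape K X.Modules :=
  haveI : HasColimitsOfShape K (TopCat.Sheaf AddCommGrpCat.{u} X) :=
    inferInstanceAs (HasColimitsOfShape K
      (CategoryTheory.Sheaf (Opens.grothendieckTopology X) AddCommGrpCat.{u}))
  haveI : HasExactColimitsOfShape K (TopCat.Sheaf AddCommGrpCat.{u} X) :=
    inferInstanceAs (HasExactColimitsOfShape K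
      (CategoryTheory.Sheaf (Opens.grothendieckTopology X) AddCommGrpCat.{u}))
  HasExactColimitsOfShape.domain_of_functor K (toAb X)

variable {X} (x : X)

/-- The stalk of the underlying abelian sheaf. -/
noncomputable abbrev stalkAb : X.Modules ⥤ AddCommGrpCat.{u} :=
  toAb X ⋙ TopCat.Sheaf.forget AddCommGrpCat.{u} X ⋙ TopCat.Presheaf.stalkFunctor AddCommGrpCat.{u} x

/-- `stalkFunctor` lifts the stalk of the underlying abelian sheaf. -/
noncomputable def stalkForgetIso :
    DerSch.stalkFunctor X x ⋙ forget₂ (ModuleCat (X.presheaf.stalk x)) AddCommGrpCat ≅ stalkAb x :=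
  Iso.refl _

instance : PreservesFiniteLimits (stalkAb x) :=
  inferInstanceAs (PreservesFiniteLimits (toAb X ⋙ (TopCat.Sheaf.forget AddCommGrpCat.{u} X ⋙
    TopCat.Presheaf.stalkFunctor AddCommGrpCat.{u} x)))

instance preservesColimitsOfShape_stalkAb (K : Type w) [Category.{w'} K]
    [HasColimitsOfShape K AddCommGrpCat.{u}]
    [PreservesColimitsOfShape K (TopCat.Sheaf.forget AddCommGrpCat.{u} X ⋙
      TopCat.Presheaf.stalkFunctor AddCommGrpCat.{u} x)] :
    PreservesColimitsOfShape K (stalkAb x) :=
  inferInstanceAs (PreservesColimitsOfShape K (toAb X ⋙ (TopCat.Sheaf.forget AddCommGrpCat.{u} X ⋙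
    TopCat.Presheaf.stalkFunctor AddCommGrpCat.{u} x)))

instance preservesColimitsOfShape_stalkAb_small (K : Type u) [Category.{u} K] :
    PreservesColimitsOfShape K (stalkAb x) :=
  haveI : PreservesColimitsOfSize.{u, u} (TopCat.Sheaf.forget AddCommGrpCat.{u} X ⋙
      TopCat.Presheaf.stalkFunctor AddCommGrpCat.{u} x) := inferInstance
  preservesColimitsOfShape_stalkAb x K

instance preservesColimitsOfShape_stalkAb_small₀ (K : Type) [Category.{0} K] :
    PreservesColimitsOfShape K (stalkAb x) :=
  haveI : PreservesColimitsOfSize.{u, u} (TopCat.Sheaf.forget AddCommGrpCat.{u} X ⋙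
      TopCat.Presheaf.stalkFunctor AddCommGrpCat.{u} x) := inferInstance
  haveI : PreservesColimitsOfSize.{0, 0} (TopCat.Sheaf.forget AddCommGrpCat.{u} X ⋙
      TopCat.Presheaf.stalkFunctor AddCommGrpCat.{u} x) := preservesColimitsOfSize_shrink.{0, u, 0, u} _
  preservesColimitsOfShape_stalkAb x K

instance : PreservesFiniteColimits (stalkAb x) where
  preservesFiniteColimits _ _ _ := inferInstance

instance preservesColimitsOfShape_stalkFunctor (K : Type w) [Category.{w'} K]
    [PreservesColimitsOfShape K (stalkAb x)]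
    [ReflectsColimitsOfShape K (forget₂ (ModuleCat.{u} (X.presheaf.stalk x)) AddCommGrpCat.{u})] :
    PreservesColimitsOfShape K (DerSch.stalkFunctor X x) :=
  haveI : PreservesColimitsOfShape K
      (DerSch.stalkFunctor X x ⋙ forget₂ (ModuleCat (X.presheaf.stalk x)) AddCommGrpCat) :=
    preservesColimitsOfShape_of_natIso (stalkForgetIso x).symm
  preservesColimitsOfShape_of_reflects_of_preserves (DerSch.stalkFunctor X x)
    (forget₂ (ModuleCat (X.presheaf.stalk x)) AddCommGrpCat)

instance : PreservesFiniteLimits (DerSch.stalkFunctor X x) :=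
  haveI : PreservesFiniteLimits
      (DerSch.stalkFunctor X x ⋙ forget₂ (ModuleCat (X.presheaf.stalk x)) AddCommGrpCat) :=
    preservesFiniteLimits_of_natIso (stalkForgetIso x).symm
  preservesFiniteLimits_of_reflects_of_preserves (DerSch.stalkFunctor X x)
    (forget₂ (ModuleCat (X.presheaf.stalk x)) AddCommGrpCat)

instance : PreservesFiniteColimits (DerSch.stalkFunctor X x) where
  preservesFiniteColimits _ _ _ := inferInstance

/-- Isomorphisms are detected on stalks. -/
lemma isIso_of_stalk {M N : X.Modules} (φ : M ⟶ N)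
    (h : ∀ x, IsIso ((DerSch.stalkFunctor X x).map φ)) : IsIso φ := by
  refine @isIso_of_reflects_iso _ _ _ _ _ _ φ (toAb X) ?_ _
  rw [TopCat.Presheaf.isIso_iff_stalkFunctor_map_iso]
  intro y
  haveI := h y
  exact (Functor.map_isIso (forget₂ (ModuleCat (X.presheaf.stalk y)) AddCommGrpCat)
    ((DerSch.stalkFunctor X y).map φ) : IsIso ((DerSch.stalkFunctor X y ⋙
    forget₂ (ModuleCat (X.presheaf.stalk y)) AddCommGrpCat).map φ))

/-- Exactness is detected on stalks. -/
lemma exact_iff_stalk (S : ShortComplex X.Modules) :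
    S.Exact ↔ ∀ x, (S.map (DerSch.stalkFunctor X x)).Exact := by
  rw [← ShortComplex.exact_map_iff_of_faithful S (toAb X),
    TopCat.Sheaf.exact_iff_stalkFunctor_map_exact]
  exact forall_congr' fun y => (ShortComplex.exact_map_iff_of_faithful
    (S.map (DerSch.stalkFunctor X y)) (forget₂ (ModuleCat (X.presheaf.stalk y)) AddCommGrpCat))

/-- Short exactness is detected on stalks. -/
lemma shortExact_iff_stalk (S : ShortComplex X.Modules) :
    S.ShortExact ↔ ∀ x, (S.map (DerSch.stalkFunctor X x)).ShortExact := by
  refine ⟨fun h x => h.map_of_exact _, fun h => ?_⟩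
  refine ShortComplex.ShortExact.mk' ((exact_iff_stalk S).2 fun x => (h x).exact) ?_ ?_
  · refine (ShortComplex.exact_iff_mono (ShortComplex.mk (0 : S.X₁ ⟶ S.X₁) S.f zero_comp) rfl).1 ?_
    exact (exact_iff_stalk _).2 fun x => ((ShortComplex.mk (0 : S.X₁ ⟶ S.X₁) S.f zero_comp).map
      (DerSch.stalkFunctor X x)).exact_iff_mono ((DerSch.stalkFunctor X x).map_zero _ _) |>.2 (h x).mono_f
  · refine (ShortComplex.exact_iff_epi (ShortComplex.mk S.g (0 : S.X₃ ⟶ S.X₃) comp_zero) rfl).1 ?_
    exact (exact_iff_stalk _).2 fun x => ((ShortComplex.mk S.g (0 : S.X₃ ⟶ S.X₃) comp_zero).map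
      (DerSch.stalkFunctor X x)).exact_iff_epi ((DerSch.stalkFunctor X x).map_zero _ _) |>.2 (h x).epi_g

/-- Zero objects are detected on stalks. -/
lemma isZero_of_stalk (M : X.Modules) (h : ∀ x, IsZero ((DerSch.stalkFunctor X x).obj M)) :
    IsZero M :=
  (ShortComplex.exact_iff_isZero_homology
    (ShortComplex.mk (0 : M ⟶ M) (0 : M ⟶ M) comp_zero)).1
      ((exact_iff_stalk _).2 fun x => ShortComplex.exact_of_isZero_X₂ _ (h x)) |>.of_iso
    (ShortComplex.HomologyData.ofZeros (ShortComplex.mk (0 : M ⟶ M) (0 : M ⟶ M) comp_zero)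
      rfl rfl).left.homologyIso.symm

end Groth.Agent.KFlatLib
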