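import Groth.Agent.KFlatLib.Scheme.PreStalk
import Groth.Agent.KFlatLib.Scheme.Exact
import Groth.Prelude.Def_DCoh4
import Mathlib.Topology.Sheaves.Sheafify

/-!
# Stalks of the tensor product of sheaves of modules
-/

set_option linter.style.haveILetI false

universe u

open CategoryTheory CategoryTheory.Limits AlgebraicGeometry TopologicalSpace Opposite MonoidalCategory
open scoped TensorProduct

namespace Groth.Agent.KFlatLib

variable {X : Scheme.{u}} {x : X} {P Q : CohB1.PMod X}

/-- The map on stalks of a map of presheaves of modules, as an additive map. -/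
noncomputable def stalkModMapAdd (f : P ⟶ Q) : stalkMod x P →+ stalkMod x Q :=
  descP (fun U hU => (germP Q U hU).comp (f.app (op U)).hom.toAddMonoidHom) (fun U V i hV s => by
    change germP Q V hV (f.app (op V) (res P i s)) = germP Q U (i.le hV) (f.app (op U) s)
    rw [← germP_res i hV]
    exact congrArg _ (PresheafOfModules.naturality_apply f i.op s))

lemma stalkModMapAdd_germ (f : P ⟶ Q) (U : X.Opens) (hU : x ∈ U) (s : P.obj (op U)) :
    stalkModMapAdd f (germP P U hU s) = germP Q U hU (f.app (op U) s) :=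
  descP_germP _ _ U hU s

lemma app_sm (f : P ⟶ Q) {U : (X.Opens)ᵒᵖ} (r : X.presheaf.obj U) (s : P.obj U) :
    f.app U (sm r s) = sm r (f.app U s) :=
  map_smul (f.app U).hom (show (X.sheaf.obj ⋙ forget₂ CommRingCat RingCat).obj U from r) s

lemma stalkModMapAdd_smul (f : P ⟶ Q) (r : X.presheaf.stalk x) (m : stalkMod x P) :
    stalkModMapAdd f (r • m) = r • stalkModMapAdd f m := by
  obtain ⟨U, hU, a, rfl⟩ := X.presheaf.exists_germ_eq (x := x) r
  obtain ⟨W, i, hW, s, rfl⟩ := exists_germP_common hU m
  rw [← X.presheaf.germ_res_apply i x hW a, ← germP_smul, stalkModMapAdd_germ, stalkModMapAdd_germ,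
    app_sm, germP_smul]

/-- The map on stalks of a map of presheaves of modules. -/
noncomputable def stalkModMap (f : P ⟶ Q) : stalkMod x P ⟶ stalkMod x Q :=
  ConcreteCategory.ofHom (C := ModuleCat (X.presheaf.stalk x))
    ({ toFun := stalkModMapAdd f
       map_add' := map_add _
       map_smul' := stalkModMapAdd_smul f } :
      (stalkMod x P : Type u) →ₗ[X.presheaf.stalk x] (stalkMod x Q : Type u))

lemma stalkModMap_germ (f : P ⟶ Q) (U : X.Opens) (hU : x ∈ U) (s : P.obj (op U)) :
    stalkModMap f (germP P U hU s) = germP Q U hU (f.app (op U) s) :=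
  stalkModMapAdd_germ f U hU s

lemma stalkMod_ext {A : ModuleCat.{u} (X.presheaf.stalk x)} {f g : stalkMod x P ⟶ A}
    (h : ∀ (U : X.Opens) (hU : x ∈ U) (s : P.obj (op U)), f (germP P U hU s) = g (germP P U hU s)) :
    f = g := by
  ext m
  obtain ⟨U, hU, s, rfl⟩ := exists_germP m
  exact h U hU s

variable (x) in
/-- The stalk functor on presheaves of modules. -/
noncomputable def stalkP : CohB1.PMod X ⥤ ModuleCat.{u} (X.presheaf.stalk x) where
  obj := stalkMod x
  map := stalkModMap
  map_id P := stalkMod_ext fun U hU s => stalkModMap_germ (𝟙 P) U hU s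
  map_comp f g := stalkMod_ext fun U hU s => by
    rw [stalkModMap_germ]
    exact ((congrArg _ (stalkModMap_germ f U hU s)).trans (stalkModMap_germ g U hU _)).symm

/-- The unit of sheafification. -/
noncomputable def unitShP (P : CohB1.PMod X) : P ⟶ DCoh.toP.obj (DCoh.shP.obj P) :=
  (PresheafOfModules.sheafificationAdjunction (𝟙 X.ringCatSheaf.obj)).unit.app P

lemma unitShP_naturality (f : P ⟶ Q) :
    f ≫ unitShP Q = unitShP P ≫ DCoh.toP.map (DCoh.shP.map f) :=
  (PresheafOfModules.sheafificationAdjunction (𝟙 X.ringCatSheaf.obj)).unit.naturality f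

instance isIso_stalk_unitShP (P : CohB1.PMod X) : IsIso ((stalkP x).map (unitShP P)) := by
  haveI h : IsIso ((TopCat.Presheaf.stalkFunctor AddCommGrpCat.{u} x).map
      (CategoryTheory.toSheafify (Opens.grothendieckTopology X) P.presheaf)) :=
    TopCat.Presheaf.stalkFunctor_map_unit_toSheafify_isIso x AddCommGrpCat.{u} P.presheaf
  rw [ConcreteCategory.isIso_iff_bijective]
  have key : ∀ m, (stalkP x).map (unitShP P) m =
      ((TopCat.Presheaf.stalkFunctor AddCommGrpCat.{u} x).map
        (CategoryTheory.toSheafify (Opens.grothendieckTopology X) P.presheaf)).hom m := by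
    intro m
    obtain ⟨U, hU, s, rfl⟩ := exists_germP (P := P) m
    refine (stalkModMap_germ (unitShP P) U hU s).trans ?_
    exact (TopCat.Presheaf.stalkFunctor_map_germ_apply U x hU
      (CategoryTheory.toSheafify (Opens.grothendieckTopology X) P.presheaf) s).symm
  have hb := ConcreteCategory.bijective_of_isIso ((TopCat.Presheaf.stalkFunctor AddCommGrpCat.{u} x).map
        (CategoryTheory.toSheafify (Opens.grothendieckTopology X) P.presheaf))
  exact (funext key) ▸ hb

variable (x) in
/-- Stalks of sheaves of modules and of their underlying presheaves of modules. -/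
noncomputable def stalkToPIso : DerSch.stalkFunctor X x ≅ DCoh.toP ⋙ stalkP x :=
  NatIso.ofComponents (fun M => Iso.refl _) fun {M N} f => by
    simp only [Iso.refl_hom]
    refine (Category.comp_id _).trans (Eq.trans ?_ (Category.id_comp _).symm)
    refine stalkMod_ext (P := DCoh.toP.obj M) fun U hU s => ?_
    refine Eq.trans ?_ (stalkModMap_germ (DCoh.toP.map f) U hU s).symm
    exact DerSch.stalkFunctor_map_germ x f U hU s

variable (x) in
/-- Sheafification does not change stalks. -/
noncomputable def stalkShPIso : stalkP x ≅ DCoh.shP ⋙ DerSch.stalkFunctor X x :=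
  NatIso.ofComponents
    (fun P => asIso ((stalkP x).map (unitShP P)) ≪≫ ((stalkToPIso x).app (DCoh.shP.obj P)).symm)
    fun {P Q} f => by
      dsimp
      rw [← Category.assoc, ← (stalkP x).map_comp, unitShP_naturality, (stalkP x).map_comp,
        Category.assoc, Category.assoc]
      exact congrArg _ ((stalkToPIso x).inv.naturality (DCoh.shP.map f))

variable (P Q) in
/-- `(P ⊗ Q)_x ≅ P_x ⊗ Q_x`, for presheaves. -/
noncomputable def tensorStalkIso : stalkMod x P ⊗ stalkMod x Q ≅ stalkMod x (P ⊗ Q) :=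
  (tensorStalkEquiv P Q).toModuleIso

lemma tensorStalkIso_naturality {P' Q' : CohB1.PMod X} (f : P ⟶ P') (g : Q ⟶ Q') :
    ((stalkP x).map f ⊗ₘ (stalkP x).map g) ≫ (tensorStalkIso P' Q').hom =
      (tensorStalkIso P Q).hom ≫ (stalkP x).map (f ⊗ₘ g) := by
  refine ModuleCat.MonoidalCategory.tensor_ext fun m n => ?_
  obtain ⟨W, hW, s, t, rfl, rfl⟩ := exists_germP_pair m n
  change ofTensor P' Q' (stalkModMap f (germP P W hW s) ⊗ₜ[X.presheaf.stalk x]
      stalkModMap g (germP Q W hW t)) =
    stalkModMap (f ⊗ₘ g) (ofTensor P Q (germP P W hW s ⊗ₜ[X.presheaf.stalk x] germP Q W hW t))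
  rw [stalkModMap_germ, stalkModMap_germ, ofTensor_germ, ofTensor_germ, stalkModMap_germ]
  rfl

variable (x) in
/-- Stalk of a tensor product of sheaves of modules. -/
noncomputable def stalkTensorIso (M N : X.Modules) :
    (DerSch.stalkFunctor X x).obj M ⊗ (DerSch.stalkFunctor X x).obj N ≅
      (DerSch.stalkFunctor X x).obj ((DCoh.tensorBi.obj M).obj N) :=
  tensorIso ((stalkToPIso x).app M) ((stalkToPIso x).app N) ≪≫
    tensorStalkIso (DCoh.toP.obj M) (DCoh.toP.obj N) ≪≫
    (stalkShPIso x).app (DCoh.toP.obj M ⊗ DCoh.toP.obj N)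

lemma stalkTensorIso_naturality {M M' N N' : X.Modules} (f : M ⟶ M') (g : N ⟶ N') :
    ((DerSch.stalkFunctor X x).map f ⊗ₘ (DerSch.stalkFunctor X x).map g) ≫
        (stalkTensorIso x M' N').hom =
      (stalkTensorIso x M N).hom ≫
        (DerSch.stalkFunctor X x).map ((DCoh.tensorBi.map f).app N ≫ (DCoh.tensorBi.obj M').map g) := by
  have e : (DCoh.tensorBi.map f).app N ≫ (DCoh.tensorBi.obj M').map g =
      DCoh.shP.map (DCoh.toP.map f ⊗ₘ DCoh.toP.map g) := by
    rw [MonoidalCategory.tensorHom_def, DCoh.shP.map_comp]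
    rfl
  simp only [stalkTensorIso, Iso.trans_hom, tensorIso_hom, Category.assoc]
  rw [← Category.assoc, MonoidalCategory.tensorHom_comp_tensorHom, e]
  have h₁ := (stalkToPIso x).hom.naturality f
  have h₂ := (stalkToPIso x).hom.naturality g
  simp only [Iso.app_hom] at *
  rw [h₁, h₂, ← MonoidalCategory.tensorHom_comp_tensorHom, Category.assoc]
  congr 1
  refine (Category.assoc _ _ _).symm.trans ((congrArg
    (· ≫ (stalkShPIso x).hom.app (DCoh.toP.obj M' ⊗ DCoh.toP.obj N'))
    (tensorStalkIso_naturality (x := x) (DCoh.toP.map f) (DCoh.toP.map g))).trans ?_)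
  exact (Category.assoc _ _ _).trans
    (congrArg ((tensorStalkIso (DCoh.toP.obj M) (DCoh.toP.obj N)).hom ≫ ·)
      ((stalkShPIso x).hom.naturality _))

/-- `(M ⊗ -)_x ≅ M_x ⊗ (-)_x`. -/
noncomputable def stalkTensorLeftIso (M : X.Modules) (x : X) :
    DCoh.tensorBi.obj M ⋙ DerSch.stalkFunctor X x ≅
      DerSch.stalkFunctor X x ⋙ tensorLeft ((DerSch.stalkFunctor X x).obj M) :=
  (NatIso.ofComponents (fun N => stalkTensorIso x M N) fun {N N'} g => by
    have := stalkTensorIso_naturality (x := x) (𝟙 M) g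
    simpa using this).symm

/-- `(- ⊗ N)_x ≅ (-)_x ⊗ N_x`. -/
noncomputable def stalkTensorRightIso (N : X.Modules) (x : X) :
    DCoh.tensorBi.flip.obj N ⋙ DerSch.stalkFunctor X x ≅
      DerSch.stalkFunctor X x ⋙ tensorRight ((DerSch.stalkFunctor X x).obj N) :=
  (NatIso.ofComponents (fun M => stalkTensorIso x M N) fun {M M'} f => by
    have := stalkTensorIso_naturality (x := x) f (𝟙 N)
    simpa using this).symm

end Groth.Agent.KFlatLib
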