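import Groth.Agent.KFlatLib.Scheme.LpullComp
import Mathlib.Algebra.Category.ModuleCat.Monoidal.Adjunction

/-!
# Pullback commutes with tensor products
-/

set_option linter.style.haveILetI false
set_option maxHeartbeats 400000

universe u

open CategoryTheory CategoryTheory.Limits AlgebraicGeometry TopologicalSpace Opposite MonoidalCategory
open scoped TensorProduct

namespace Groth.Agent.KFlatLib

variable {X Y : Scheme.{u}} (f : X ⟶ Y)

/-- The germ of a section of a sheaf of modules. -/
noncomputable def gm (G : X.Modules) {x : X} (U : X.Opens) (hx : x ∈ U)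
    (s : (DCoh.toP.obj G).obj (op U)) : (DerSch.stalkFunctor X x).obj G :=
  germP (DCoh.toP.obj G) U hx s

lemma stalk_map_gm {G G' : X.Modules} (φ : G ⟶ G') {x : X} (U : X.Opens) (hx : x ∈ U)
    (s : (DCoh.toP.obj G).obj (op U)) :
    (DerSch.stalkFunctor X x).map φ (gm G U hx s) = gm G' U hx ((DCoh.toP.map φ).app (op U) s) :=
  DerSch.stalkFunctor_map_germ x φ U hx s

lemma app_res {P Q : CohB1.PMod X} (φ : P ⟶ Q) {U V : X.Opens} (i : V ⟶ U) (s : P.obj (op U)) :
    φ.app (op V) (res P i s) = res Q i (φ.app (op U) s) :=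
  PresheafOfModules.naturality_apply φ i.op s

/-- `1 ⊗ a`. -/
noncomputable abbrev u1 {R S : Type u} [CommRing R] [CommRing S] (φ : R →+* S)
    (A : ModuleCat.{u} R) (a : A) : (ModuleCat.extendScalars φ).obj A :=
  (ModuleCat.extendRestrictScalarsAdj φ).unit.app A a

lemma extend_map_unit {R S : Type u} [CommRing R] [CommRing S] (φ : R →+* S)
    {A B : ModuleCat.{u} R} (g : A ⟶ B) (a : A) :
    (ModuleCat.extendScalars φ).map g (u1 φ A a) = u1 φ B (g a) :=
  rfl

lemma extend_δ_unit {R S : Type u} [CommRing R] [CommRing S] (φ : R →+* S)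
    (A B : ModuleCat.{u} R) (a : A) (b : B) :
    (Functor.Monoidal.μIso (ModuleCat.extendScalars φ) A B).inv
        (u1 φ (A ⊗ B) (a ⊗ₜ[R] b)) = u1 φ A a ⊗ₜ[S] u1 φ B b :=
  ModuleCat.extendScalars_δ_tmul φ A B a b

/-- A simple tensor of sections of sheaves. -/
noncomputable def tmSh (M N : X.Modules) {U : X.Opens} (s : (DCoh.toP.obj M).obj (op U))
    (t : (DCoh.toP.obj N).obj (op U)) : (DCoh.toP.obj ((DCoh.tensorBi.obj M).obj N)).obj (op U) :=
  (unitShP (DCoh.toP.obj M ⊗ DCoh.toP.obj N)).app (op U) (tm s t)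

lemma stalkTensorIso_gm (M N : X.Modules) {x : X} (U : X.Opens) (hx : x ∈ U)
    (s : (DCoh.toP.obj M).obj (op U)) (t : (DCoh.toP.obj N).obj (op U)) :
    (stalkTensorIso x M N).hom (gm M U hx s ⊗ₜ[X.presheaf.stalk x] gm N U hx t) =
      gm ((DCoh.tensorBi.obj M).obj N) U hx (tmSh M N s t) := by
  change stalkModMap (unitShP (DCoh.toP.obj M ⊗ DCoh.toP.obj N))
    (ofTensor (DCoh.toP.obj M) (DCoh.toP.obj N)
      (germP (DCoh.toP.obj M) U hx s ⊗ₜ[X.presheaf.stalk x] germP (DCoh.toP.obj N) U hx t)) = _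
  rw [ofTensor_germ, stalkModMap_germ]
  rfl

/-- The pullback of a section. -/
noncomputable def pb {M : Y.Modules} {U : Y.Opens} (s : (DCoh.toP.obj M).obj (op U)) :
    (DCoh.toP.obj ((Scheme.Modules.pullback f).obj M)).obj (op (f ⁻¹ᵁ U)) :=
  (DCoh.toP.map ((Scheme.Modules.pullbackPushforwardAdjunction f).unit.app M)).app (op U) s

lemma pb_add {M : Y.Modules} {U : Y.Opens} (s s' : (DCoh.toP.obj M).obj (op U)) :
    pb f (s + s') = pb f s + pb f s' :=
  map_add ((DCoh.toP.map ((Scheme.Modules.pullbackPushforwardAdjunction f).unit.app M)).app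
    (op U)).hom s s'

lemma pb_sm {M : Y.Modules} {U : Y.Opens} (r : Y.presheaf.obj (op U))
    (s : (DCoh.toP.obj M).obj (op U)) :
    pb f (sm r s) = sm (f.app U r) (pb f s) :=
  app_sm (DCoh.toP.map ((Scheme.Modules.pullbackPushforwardAdjunction f).unit.app M)) r s

lemma pb_res {M : Y.Modules} {U V : Y.Opens} (i : V ⟶ U) (s : (DCoh.toP.obj M).obj (op U)) :
    pb f (res (DCoh.toP.obj M) i s) =
      res (DCoh.toP.obj ((Scheme.Modules.pullback f).obj M)) ((Opens.map f.base).map i) (pb f s) :=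
  PresheafOfModules.naturality_apply
    (DCoh.toP.map ((Scheme.Modules.pullbackPushforwardAdjunction f).unit.app M)) i.op s

lemma pb_naturality {M M' : Y.Modules} (φ : M ⟶ M') {U : Y.Opens}
    (s : (DCoh.toP.obj M).obj (op U)) :
    pb f ((DCoh.toP.map φ).app (op U) s) =
      (DCoh.toP.map ((Scheme.Modules.pullback f).map φ)).app (op (f ⁻¹ᵁ U)) (pb f s) :=
  congrArg (fun g => (DCoh.toP.map g).app (op U) s)
    ((Scheme.Modules.pullbackPushforwardAdjunction f).unit.naturality φ)

lemma stalkPullbackIso_gm (x : X) (M : Y.Modules) (U : Y.Opens) (hx : f.base x ∈ U)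
    (s : (DCoh.toP.obj M).obj (op U)) :
    (stalkPullbackIso f x).hom.app M (gm _ (f ⁻¹ᵁ U) hx (pb f s)) =
      ((ModuleCat.extendRestrictScalarsAdj (f.stalkMap x).hom).unit.app
        ((DerSch.stalkFunctor Y (f.base x)).obj M)) (gm M U hx s) := by
  let adj₁ := (Scheme.Modules.pullbackPushforwardAdjunction f).comp (skyAdj x)
  let adj₂ := ((skyAdj (f.base x)).comp
    (ModuleCat.extendRestrictScalarsAdj (f.stalkMap x).hom)).ofNatIsoRight
      (skyPushforwardIso f x).symm
  have h := Adjunction.homEquiv_leftAdjointUniq_hom_app adj₁ adj₂ M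
  exact congrArg (fun g : M ⟶ (Scheme.Modules.pushforward f).obj ((sky x).obj
      ((ModuleCat.extendScalars (f.stalkMap x).hom).obj
        ((DerSch.stalkFunctor Y (f.base x)).obj M))) =>
    (show ∀ h : PLift (x ∈ f ⁻¹ᵁ U), skyFiber x ((ModuleCat.extendScalars (f.stalkMap x).hom).obj
        ((DerSch.stalkFunctor Y (f.base x)).obj M)) (f ⁻¹ᵁ U) h.down from
      (DCoh.toP.map g).app (op U) s) ⟨hx⟩) h

/-- Maps out of a stalk of a pullback of a tensor product are determined on simple tensors. -/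
lemma stalk_pullback_tensor_ext (x : X) {M N : Y.Modules}
    {Z : ModuleCat.{u} (X.presheaf.stalk x)}
    {a b : (DerSch.stalkFunctor X x).obj
      ((Scheme.Modules.pullback f).obj ((DCoh.tensorBi.obj M).obj N)) ⟶ Z}
    (h : ∀ (W : Y.Opens) (hW : x ∈ f ⁻¹ᵁ W) (s : (DCoh.toP.obj M).obj (op W))
      (t : (DCoh.toP.obj N).obj (op W)),
      a (gm _ (f ⁻¹ᵁ W) hW (pb f (tmSh M N s t))) = b (gm _ (f ⁻¹ᵁ W) hW (pb f (tmSh M N s t)))) :
    a = b := by
  rw [← cancel_epi ((stalkPullbackIso f x).inv.app ((DCoh.tensorBi.obj M).obj N))]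
  apply ((ModuleCat.extendRestrictScalarsAdj (f.stalkMap x).hom).homEquiv _ _).injective
  rw [← cancel_epi (stalkTensorIso (f.base x) M N).hom, Adjunction.homEquiv_unit,
    Adjunction.homEquiv_unit]
  refine ModuleCat.MonoidalCategory.tensor_ext fun m n => ?_
  obtain ⟨W, hW, s, t, rfl, rfl⟩ :=
    exists_germP_pair (P := DCoh.toP.obj M) (Q := DCoh.toP.obj N) m n
  have hW' : x ∈ f ⁻¹ᵁ W := hW
  have e : (stalkPullbackIso f x).inv.app ((DCoh.tensorBi.obj M).obj N)
      ((ModuleCat.extendRestrictScalarsAdj (f.stalkMap x).hom).unit.app _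
        ((stalkTensorIso (f.base x) M N).hom
          (gm M W hW s ⊗ₜ[Y.presheaf.stalk (f.base x)] gm N W hW t))) =
        gm _ (f ⁻¹ᵁ W) hW' (pb f (tmSh M N s t)) :=
    ((congrArg (fun z => (stalkPullbackIso f x).inv.app ((DCoh.tensorBi.obj M).obj N)
        ((ModuleCat.extendRestrictScalarsAdj (f.stalkMap x).hom).unit.app _ z))
      (stalkTensorIso_gm M N W hW s t)).trans
    (congrArg _ (stalkPullbackIso_gm f x _ W hW (tmSh M N s t)).symm)).trans
      (Iso.hom_inv_id_apply ((stalkPullbackIso f x).app ((DCoh.tensorBi.obj M).obj N)) _)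
  exact (congrArg a e).trans ((h W hW' s t).trans (congrArg b e).symm)

variable (M N : Y.Modules)

/-- The presheaf level comparison. -/
noncomputable def pullTensorPre : DCoh.toP.obj M ⊗ DCoh.toP.obj N ⟶
    DCoh.toP.obj ((Scheme.Modules.pushforward f).obj
      ((DCoh.tensorBi.obj ((Scheme.Modules.pullback f).obj M)).obj
        ((Scheme.Modules.pullback f).obj N))) where
  app U := ModuleCat.MonoidalCategory.tensorLift
    (fun s t => tmSh _ _ (pb f (U := U.unop) s) (pb f (U := U.unop) t))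
    (fun s s' t => by
      simp only [tmSh]
      rw [pb_add, tm_add_left]
      exact map_add _ _ _)
    (fun r s t => by
      simp only [tmSh]
      change (unitShP _).app _ (tm (pb f (sm r s)) (pb f t)) =
        sm (f.app U.unop r) ((unitShP _).app _ (tm (pb f s) (pb f t)))
      rw [pb_sm, tm_smul_left, app_sm])
    (fun s t t' => by
      simp only [tmSh]
      rw [pb_add, tm_add_right]
      exact map_add _ _ _)
    (fun r s t => by
      simp only [tmSh]
      change (unitShP _).app _ (tm (pb f s) (pb f (sm r t))) =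
        sm (f.app U.unop r) ((unitShP _).app _ (tm (pb f s) (pb f t)))
      rw [pb_sm, ← tm_smul, tm_smul_left, app_sm])
  naturality {U V} i := by
    refine ModuleCat.MonoidalCategory.tensor_ext fun s t => ?_
    change tmSh _ _ (pb f (res _ i.unop s)) (pb f (res _ i.unop t)) =
      res _ ((Opens.map f.base).map i.unop) (tmSh _ _ (pb f s) (pb f t))
    rw [pb_res, pb_res]
    unfold tmSh
    rw [← res_tm]
    exact app_res _ _ _

/-- The comparison, as a map into the pushforward. -/
noncomputable def pullTensorPush : (DCoh.tensorBi.obj M).obj N ⟶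
    (Scheme.Modules.pushforward f).obj ((DCoh.tensorBi.obj ((Scheme.Modules.pullback f).obj M)).obj
      ((Scheme.Modules.pullback f).obj N)) :=
  ((PresheafOfModules.sheafificationAdjunction (𝟙 Y.ringCatSheaf.obj)).homEquiv _ _).symm
    (pullTensorPre f M N)

lemma pullTensorPush_tmSh {U : Y.Opens} (s : (DCoh.toP.obj M).obj (op U))
    (t : (DCoh.toP.obj N).obj (op U)) :
    (DCoh.toP.map (pullTensorPush f M N)).app (op U) (tmSh M N s t) =
      tmSh _ _ (pb f s) (pb f t) := by
  have h := ((PresheafOfModules.sheafificationAdjunction (𝟙 Y.ringCatSheaf.obj)).homEquiv _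
    _).apply_symm_apply (pullTensorPre f M N)
  exact congrArg (fun g : DCoh.toP.obj M ⊗ DCoh.toP.obj N ⟶ _ => g.app (op U) (tm s t)) h

/-- The comparison `f^* (M ⊗ N) ⟶ f^* M ⊗ f^* N`. -/
noncomputable def pullTensorHom :
    (Scheme.Modules.pullback f).obj ((DCoh.tensorBi.obj M).obj N) ⟶
      (DCoh.tensorBi.obj ((Scheme.Modules.pullback f).obj M)).obj
        ((Scheme.Modules.pullback f).obj N) :=
  ((Scheme.Modules.pullbackPushforwardAdjunction f).homEquiv _ _).symm (pullTensorPush f M N)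

lemma pullTensorHom_pb {U : Y.Opens} (s : (DCoh.toP.obj M).obj (op U))
    (t : (DCoh.toP.obj N).obj (op U)) :
    (DCoh.toP.map (pullTensorHom f M N)).app (op (f ⁻¹ᵁ U)) (pb f (tmSh M N s t)) =
      tmSh _ _ (pb f s) (pb f t) := by
  refine Eq.trans ?_ (pullTensorPush_tmSh f M N s t)
  have h := ((Scheme.Modules.pullbackPushforwardAdjunction f).homEquiv _ _).apply_symm_apply
    (pullTensorPush f M N)
  exact congrArg (fun g : (DCoh.tensorBi.obj M).obj N ⟶ _ =>
    (DCoh.toP.map g).app (op U) (tmSh M N s t)) h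

/-- The expected isomorphism on stalks. -/
noncomputable def stalkPullTensorIso (x : X) :
    (DerSch.stalkFunctor X x).obj ((Scheme.Modules.pullback f).obj ((DCoh.tensorBi.obj M).obj N)) ≅
      (DerSch.stalkFunctor X x).obj ((DCoh.tensorBi.obj ((Scheme.Modules.pullback f).obj M)).obj
        ((Scheme.Modules.pullback f).obj N)) :=
  (stalkPullbackIso f x).app _ ≪≫
    (ModuleCat.extendScalars (f.stalkMap x).hom).mapIso (stalkTensorIso (f.base x) M N).symm ≪≫
    (Functor.Monoidal.μIso (ModuleCat.extendScalars (f.stalkMap x).hom) _ _).symm ≪≫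
    tensorIso ((stalkPullbackIso f x).app M).symm ((stalkPullbackIso f x).app N).symm ≪≫
    stalkTensorIso x _ _

lemma stalkPullTensorIso_gm (x : X) (W : Y.Opens) (hW : x ∈ f ⁻¹ᵁ W)
    (s : (DCoh.toP.obj M).obj (op W)) (t : (DCoh.toP.obj N).obj (op W)) :
    (stalkPullTensorIso f M N x).hom (gm _ (f ⁻¹ᵁ W) hW (pb f (tmSh M N s t))) =
      gm _ (f ⁻¹ᵁ W) hW (tmSh _ _ (pb f s) (pb f t)) := by
  let E := ModuleCat.extendScalars (f.stalkMap x).hom
  change (stalkTensorIso x _ _).hom
    ((((stalkPullbackIso f x).app M).inv ⊗ₘ ((stalkPullbackIso f x).app N).inv)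
      ((Functor.Monoidal.μIso E _ _).inv (E.map (stalkTensorIso (f.base x) M N).inv
        ((stalkPullbackIso f x).hom.app _ (gm _ (f ⁻¹ᵁ W) hW (pb f (tmSh M N s t))))))) = _
  refine Eq.trans ?_ (stalkTensorIso_gm _ _ (f ⁻¹ᵁ W) hW (pb f s) (pb f t))
  refine congrArg (stalkTensorIso x _ _).hom ?_
  have h1 : E.map (stalkTensorIso (f.base x) M N).inv
      ((stalkPullbackIso f x).hom.app _ (gm _ (f ⁻¹ᵁ W) hW (pb f (tmSh M N s t)))) =
      u1 _ ((DerSch.stalkFunctor Y (f.base x)).obj M ⊗ (DerSch.stalkFunctor Y (f.base x)).obj N)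
        (gm M W hW s ⊗ₜ[Y.presheaf.stalk (f.base x)] gm N W hW t) :=
    ((congrArg _ (stalkPullbackIso_gm f x _ W hW (tmSh M N s t))).trans
      (extend_map_unit _ _ _)).trans (congrArg _ (((congrArg _
        (stalkTensorIso_gm M N W hW s t).symm)).trans (Iso.hom_inv_id_apply _ _)))
  refine (congrArg (fun z => (((stalkPullbackIso f x).app M).inv ⊗ₘ
    ((stalkPullbackIso f x).app N).inv) ((Functor.Monoidal.μIso E _ _).inv z)) h1).trans ?_
  refine (congrArg (((stalkPullbackIso f x).app M).inv ⊗ₘ ((stalkPullbackIso f x).app N).inv)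
    (extend_δ_unit _ _ _ _ _)).trans ?_
  exact congrArg₂ (fun a b => a ⊗ₜ[X.presheaf.stalk x] b)
    ((congrArg ((stalkPullbackIso f x).app M).inv (stalkPullbackIso_gm f x M W hW s).symm).trans
      (Iso.hom_inv_id_apply _ _))
    ((congrArg ((stalkPullbackIso f x).app N).inv (stalkPullbackIso_gm f x N W hW t).symm).trans
      (Iso.hom_inv_id_apply _ _))

instance isIso_pullTensorHom : IsIso (pullTensorHom f M N) := isIso_of_stalk _ fun x => by
  suffices h : (DerSch.stalkFunctor X x).map (pullTensorHom f M N) =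
      (stalkPullTensorIso f M N x).hom by
    rw [h]; infer_instance
  refine stalk_pullback_tensor_ext f x fun W hW s t => ?_
  exact ((stalk_map_gm _ _ hW _).trans (congrArg _ (pullTensorHom_pb f M N s t))).trans
    (stalkPullTensorIso_gm f M N x W hW s t).symm

end Groth.Agent.KFlatLib
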