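import Groth.Agent.KFlatLib.Scheme.TensorStalk
import Mathlib.Topology.Sheaves.SheafCondition.UniqueGluing
import Mathlib.Algebra.Category.ModuleCat.ChangeOfRings
import Mathlib.Algebra.Homology.ShortComplex.ModuleCat

/-!
# Skyscraper sheaves of modules
-/

set_option linter.style.haveILetI false

universe u

open CategoryTheory CategoryTheory.Limits AlgebraicGeometry TopologicalSpace Opposite

namespace Groth.Agent.KFlatLib

variable {X : Scheme.{u}} (y : X) (N : ModuleCat.{u} (X.presheaf.stalk y))

/-- `N` as a module over the sections on `U ∋ y`. -/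
noncomputable abbrev skyFiber (U : X.Opens) (hU : y ∈ U) :
    ModuleCat.{u} ((X.sheaf.obj ⋙ forget₂ CommRingCat RingCat.{u}).obj (op U)) :=
  (ModuleCat.restrictScalars (X.presheaf.germ U y hU).hom).obj N

/-- The sections of the skyscraper presheaf. -/
noncomputable abbrev skyObj (U : (X.Opens)ᵒᵖ) :
    ModuleCat.{u} ((X.sheaf.obj ⋙ forget₂ CommRingCat RingCat.{u}).obj U) :=
  ModuleCat.of _ (∀ h : PLift (y ∈ U.unop), skyFiber y N U.unop h.down)

/-- The skyscraper presheaf of modules. -/
noncomputable def skyP : CohB1.PMod X where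
  obj := skyObj y N
  map {U V} i := ModuleCat.ofHom
    (Y := (ModuleCat.restrictScalars
      ((X.sheaf.obj ⋙ forget₂ CommRingCat RingCat.{u}).map i).hom).obj (skyObj y N V))
    { toFun := fun s h => s ⟨i.unop.le h.down⟩
      map_add' := fun _ _ => rfl
      map_smul' := fun r s => by
        funext h
        change X.presheaf.germ U.unop y (i.unop.le h.down) r • (s ⟨i.unop.le h.down⟩ : N) =
          X.presheaf.germ V.unop y h.down (X.presheaf.map i r) • (s ⟨i.unop.le h.down⟩ : N)
        exact congrArg (fun t => t • (s ⟨i.unop.le h.down⟩ : N))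
          (TopCat.Presheaf.germ_res_apply X.presheaf i.unop y h.down r).symm }
  map_id U := by
    apply ModuleCat.hom_ext
    exact LinearMap.ext fun s => rfl
  map_comp i j := by
    apply ModuleCat.hom_ext
    exact LinearMap.ext fun s => rfl

lemma isSheaf_skyP : Presheaf.IsSheaf (Opens.grothendieckTopology X) (skyP y N).presheaf := by
  refine (TopCat.Presheaf.isSheaf_iff_isSheafUniqueGluing (C := AddCommGrpCat.{u})
    (skyP y N).presheaf).2 ?_
  intro ι U sf hsf
  classical
  refine ⟨fun h => (sf (Opens.mem_iSup.1 h.down).choose ⟨(Opens.mem_iSup.1 h.down).choose_spec⟩ : N),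
    fun i => ?_, fun s hs => ?_⟩
  · funext h
    have h' := congrArg (fun t : (skyP y N).obj _ =>
        (t (⟨(Opens.mem_iSup.1 (Opens.mem_iSup.2 ⟨i, h.down⟩ : y ∈ iSup U)).choose_spec, h.down⟩ :
          PLift (y ∈ U (Opens.mem_iSup.1 (Opens.mem_iSup.2 ⟨i, h.down⟩ : y ∈ iSup U)).choose ⊓ U i))
            : N))
      (hsf (Opens.mem_iSup.1 (Opens.mem_iSup.2 ⟨i, h.down⟩ : y ∈ iSup U)).choose i)
    exact h'
  · funext h
    exact congrArg (fun t : (skyP y N).obj _ =>
        (t ⟨(Opens.mem_iSup.1 h.down).choose_spec⟩ : N)) (hs (Opens.mem_iSup.1 h.down).choose)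

/-- The skyscraper sheaf of modules. -/
noncomputable def skyObjM : X.Modules where
  val := skyP y N
  isSheaf := isSheaf_skyP y N

variable {N}

/-- The map of skyscrapers induced by a linear map. -/
noncomputable def skyPMap {N' : ModuleCat.{u} (X.presheaf.stalk y)} (f : N ⟶ N') :
    skyP y N ⟶ skyP y N' where
  app U := ModuleCat.ofHom (X := skyObj y N U) (Y := skyObj y N' U)
    { toFun := fun s h => f.hom (s h)
      map_add' := fun s t => funext fun h => map_add f.hom (s h) (t h)
      map_smul' := fun r s => funext fun h =>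
        map_smul f.hom (X.presheaf.germ U.unop y h.down r) (s h) }
  naturality {U V} i := rfl

/-- The skyscraper functor. -/
noncomputable def sky : ModuleCat.{u} (X.presheaf.stalk y) ⥤ X.Modules where
  obj N := skyObjM y N
  map f := ⟨skyPMap y f⟩
  map_id N := rfl
  map_comp f g := rfl

instance : (sky y).Additive where

/-- The evaluation of a germ of a skyscraper. -/
noncomputable def skyEval (N : ModuleCat.{u} (X.presheaf.stalk y)) : stalkMod y (skyP y N) →+ N :=
  descP (fun U hU =>
    { toFun := fun s => (s ⟨hU⟩ : N)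
      map_zero' := rfl
      map_add' := fun _ _ => rfl }) (fun _ _ _ _ _ => rfl)

lemma skyEval_germ (N : ModuleCat.{u} (X.presheaf.stalk y)) (U : X.Opens) (hU : y ∈ U)
    (s : (skyP y N).obj (op U)) : skyEval y N (germP (skyP y N) U hU s) = (s ⟨hU⟩ : N) :=
  descP_germP _ _ U hU s

lemma skyEval_smul (N : ModuleCat.{u} (X.presheaf.stalk y)) (r : X.presheaf.stalk y)
    (m : stalkMod y (skyP y N)) : skyEval y N (r • m) = r • skyEval y N m := by
  obtain ⟨U, hU, a, rfl⟩ := X.presheaf.exists_germ_eq (x := y) r
  obtain ⟨W, i, hW, s, rfl⟩ := exists_germP_common hU m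
  rw [← X.presheaf.germ_res_apply i y hW a, ← germP_smul, skyEval_germ, skyEval_germ]
  rfl

/-- The stalk of the skyscraper at its point. -/
noncomputable def skyStalkEquiv (N : ModuleCat.{u} (X.presheaf.stalk y)) :
    (stalkMod y (skyP y N) : Type u) ≃ₗ[X.presheaf.stalk y] (N : Type u) :=
  { toFun := skyEval y N
    map_add' := map_add _
    map_smul' := skyEval_smul y N
    invFun := fun n => germP (skyP y N) ⊤ (Set.mem_univ y) (fun _ => n)
    left_inv := fun m => by
      obtain ⟨U, hU, s, rfl⟩ := exists_germP m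
      change germP (skyP y N) ⊤ (Set.mem_univ y) (fun _ => (skyEval y N (germP _ U hU s) : N)) = _
      rw [skyEval_germ, ← germP_res (P := skyP y N) (homOfLE (le_top : U ≤ ⊤)) hU]
      exact congrArg _ (funext fun h => rfl)
    right_inv := fun n => skyEval_germ y N ⊤ (Set.mem_univ y) _ }

/-- The stalk at `y` of a skyscraper at `y`. -/
noncomputable def skyStalkIso : sky y ⋙ DerSch.stalkFunctor X y ≅ 𝟭 _ :=
  NatIso.ofComponents
    (fun N => (stalkToPIso y).app ((sky y).obj N) ≪≫ (skyStalkEquiv y N).toModuleIso)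
    fun {N N'} f => by
      simp only [Iso.trans_hom, Functor.comp_map, Functor.id_map]
      rw [← Category.assoc, Iso.app_hom, Iso.app_hom, (stalkToPIso y).hom.naturality,
        Category.assoc, Category.assoc]
      congr 1
      refine stalkMod_ext fun U hU s => ?_
      change skyEval y N' (stalkModMap (skyPMap y f) (germP _ U hU s)) =
        f (skyEval y N (germP _ U hU s))
      rw [stalkModMap_germ, skyEval_germ, skyEval_germ]
      rfl

/-- Skyscrapers preserve exactness. -/
lemma exact_map_sky (S : ShortComplex (ModuleCat.{u} (X.presheaf.stalk y))) (hS : S.Exact) :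
    (S.map (sky y)).Exact := by
  rw [exact_iff_stalk]
  intro x
  rw [ShortComplex.moduleCat_exact_iff]
  intro m hm
  obtain ⟨U, hU, s, hs⟩ := exists_germP (x := x) (P := skyP y S.X₂)
    ((stalkToPIso x).hom.app ((sky y).obj S.X₂) m)
  have hm' : germP (skyP y S.X₃) U hU ((skyPMap y S.g).app (op U) s) = 0 := by
    rw [← stalkModMap_germ, hs]
    exact hm
  obtain ⟨W, hW, i, _, hi⟩ := TopCat.Presheaf.germ_eq (C := AddCommGrpCat.{u})
    (skyP y S.X₃).presheaf x hU hU _ 0 (hm'.trans (map_zero _).symm)
  have hex := (ShortComplex.moduleCat_exact_iff S).1 hS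
  choose t ht using fun h : PLift (y ∈ W) => hex (s ⟨i.le h.down⟩) (by
    have h1 := congrArg (fun t : (skyP y S.X₃).obj (op W) => (t h : S.X₃)) hi
    refine Eq.trans h1 ?_
    exact congrArg (fun t : (skyP y S.X₃).obj (op W) => (t h : S.X₃))
      (map_zero ((skyP y S.X₃).presheaf.map _).hom))
  refine ⟨germP (skyP y S.X₁) W hW t, ?_⟩
  refine (stalkModMap_germ (skyPMap y S.f) W hW t).trans ?_
  refine Eq.trans ?_ hs
  refine Eq.trans ?_ (germP_res i hW s)
  exact congrArg _ (funext fun h => ht h)

end Groth.Agent.KFlatLib
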