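import Groth.Agent.KFlatLib.Scheme.Amplitude
import Groth.Agent.KFlatLib.Scheme.Sky
import Groth.Agent.KFlatLib.Bounded
import Mathlib.CategoryTheory.Abelian.Refinements
import Mathlib.CategoryTheory.Abelian.Exact
import Mathlib.RingTheory.Flat.Basic

/-!
# Tor amplitude and flatness
-/

set_option linter.style.haveILetI false

universe v u

open CategoryTheory CategoryTheory.Limits AlgebraicGeometry MonoidalCategory
open scoped TensorProduct

attribute [local instance] HasDerivedCategory.standard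

namespace Groth.Agent.KFlatLib

/-- The comparison map of cokernels is a monomorphism when the third column is exact. -/
lemma mono_coker_of_exact {C : Type*} [Category C] [Abelian C]
    {S₁ S₂ S₃ : ShortComplex C} (α : S₁ ⟶ S₂) (β : S₂ ⟶ S₃)
    (w₂ : α.τ₂ ≫ β.τ₂ = 0) (h₂ : (ShortComplex.mk α.τ₂ β.τ₂ w₂).Exact)
    [Mono α.τ₃] (w₃ : α.τ₃ ≫ β.τ₃ = 0) [Epi β.τ₁] (hex : S₃.Exact)
    {Q₁ Q₂ : C} {π₁ : S₁.X₃ ⟶ Q₁} (hπ₁e : Epi π₁) (hπ₁ : S₁.g ≫ π₁ = 0)
    {π₂ : S₂.X₃ ⟶ Q₂} (hπ₂ : S₂.g ≫ π₂ = 0) (hπ₂' : (ShortComplex.mk _ _ hπ₂).Exact)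
    (μ : Q₁ ⟶ Q₂) (hμ : π₁ ≫ μ = α.τ₃ ≫ π₂) : Mono μ := by
  refine Preadditive.mono_of_cancel_zero _ fun {T} t ht => ?_
  obtain ⟨T₁, p₁, _, x, hx⟩ := surjective_up_to_refinements_of_epi π₁ t
  have hxπ : (x ≫ α.τ₃) ≫ π₂ = 0 := by
    rw [Category.assoc, ← hμ, ← reassoc_of% hx, ht, comp_zero]
  obtain ⟨T₂, p₂, _, b, hb⟩ := hπ₂'.exact_up_to_refinements (x ≫ α.τ₃) hxπ
  dsimp at b hb
  have hbg : (b ≫ β.τ₂) ≫ S₃.g = 0 := by
    rw [Category.assoc, β.comm₂₃, ← Category.assoc, ← hb]
    simp [w₃]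
  obtain ⟨T₃, p₃, _, c, hc⟩ := hex.exact_up_to_refinements (b ≫ β.τ₂) hbg
  obtain ⟨T₄, p₄, _, b₁, hb₁⟩ := surjective_up_to_refinements_of_epi β.τ₁ c
  let b' := p₄ ≫ p₃ ≫ b - b₁ ≫ S₂.f
  have hb' : b' ≫ β.τ₂ = 0 := by
    simp only [b', Preadditive.sub_comp, Category.assoc, sub_eq_zero]
    rw [hc, ← β.comm₁₂, reassoc_of% hb₁]
  obtain ⟨T₅, p₅, _, a, ha⟩ := h₂.exact_up_to_refinements b' hb'
  dsimp at a ha
  have key : (p₅ ≫ p₄ ≫ p₃ ≫ p₂ ≫ x) ≫ α.τ₃ = (a ≫ S₁.g) ≫ α.τ₃ := by
    simp only [Category.assoc, ← α.comm₂₃]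
    rw [← reassoc_of% ha, hb]
    simp [b', Preadditive.sub_comp]
  rw [cancel_mono] at key
  have h0 : (p₅ ≫ p₄ ≫ p₃ ≫ p₂ ≫ p₁) ≫ t = 0 := by
    simp only [Category.assoc, hx]
    have := key =≫ π₁
    simp only [Category.assoc, hπ₁, comp_zero] at this
    exact this
  exact zero_of_epi_comp _ h0

variable {X : Scheme.{u}}

/-- Short exact sequences of stalk modules give short exact sequences of skyscrapers. -/
lemma shortExact_map_sky (y : X) {S : ShortComplex (ModuleCat.{u} (X.presheaf.stalk y))}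
    (hS : S.ShortExact) : (S.map (sky y)).ShortExact := by
  haveI : (sky y).PreservesHomology :=
    Functor.preservesHomology_of_map_exact _ (exact_map_sky y)
  haveI := hS.mono_f
  haveI := hS.epi_g
  exact hS.map (sky y)

/-- A module is flat if tensoring with it preserves monomorphisms in short exact sequences. -/
lemma isFlat_of_mono_tensor {P : X.Modules}
    (h : ∀ S : ShortComplex X.Modules, S.ShortExact →
      Mono ((DCoh.tensorBi.flip.obj P).map S.f)) : FlatMod.IsFlat P := by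
  intro x
  change Module.Flat (X.presheaf.stalk x) ((DerSch.stalkFunctor X x).obj P : Type u)
  rw [Module.Flat.iff_rTensor_preserves_injective_linearMap]
  intro N N' _ _ _ _ f hf
  let f' : ModuleCat.of (X.presheaf.stalk x) N ⟶ ModuleCat.of (X.presheaf.stalk x) N' :=
    ModuleCat.ofHom f
  haveI : Mono f' := (ModuleCat.mono_iff_injective _).2 hf
  let S := ShortComplex.mk f' (cokernel.π f') (cokernel.condition f')
  have hS : S.ShortExact :=
    ShortComplex.ShortExact.mk' (ShortComplex.exact_of_g_is_cokernel S (cokernelIsCokernel f'))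
      (inferInstanceAs (Mono f')) (inferInstanceAs (Epi (cokernel.π f')))
  haveI h₁ := h _ (shortExact_map_sky x hS)
  haveI : Mono ((DerSch.stalkFunctor X x).map
      ((DCoh.tensorBi.flip.obj P).map ((sky x).map f'))) := by
    haveI : Mono ((DCoh.tensorBi.flip.obj P).map ((sky x).map f')) := h₁
    infer_instance
  let e : sky x ⋙ DCoh.tensorBi.flip.obj P ⋙ DerSch.stalkFunctor X x ≅
      tensorRight ((DerSch.stalkFunctor X x).obj P) :=
    Functor.isoWhiskerLeft (sky x) (stalkTensorRightIso P x) ≪≫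
      (Functor.associator _ _ _).symm ≪≫
      Functor.isoWhiskerRight (skyStalkIso x) _ ≪≫ Functor.leftUnitor _
  haveI : Mono ((tensorRight ((DerSch.stalkFunctor X x).obj P)).map f') := by
    rw [← NatIso.naturality_1 e f']
    haveI : Mono ((sky x ⋙ DCoh.tensorBi.flip.obj P ⋙ DerSch.stalkFunctor X x).map f') := ‹_›
    exact mono_comp _ _
  exact (ModuleCat.mono_iff_injective
    ((tensorRight ((DerSch.stalkFunctor X x).obj P)).map f')).1 this

/-- A cokernel in a complex of flat modules is flat if the tensor products are exact before it. -/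
lemma isFlat_cokernel_of_exact (P : CochainComplex X.Modules ℤ) (i j k : ℤ) (hij : i + 1 = j)
    (hjk : j + 1 = k) (hflat : ∀ n, FlatMod.IsFlat (P.X n))
    (hP : ∀ G : X.Modules, ((P.sc' i j k).map (DCoh.tensorBi.flip.obj G)).Exact) :
    FlatMod.IsFlat (cokernel (P.d j k)) := by
  refine isFlat_of_mono_tensor fun S hS => ?_
  let F := fun G : X.Modules => DCoh.tensorBi.flip.obj G
  let α : (P.sc' i j k).map (F S.X₁) ⟶ (P.sc' i j k).map (F S.X₂) :=
    (P.sc' i j k).mapNatTrans (DCoh.tensorBi.flip.map S.f)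
  let β : (P.sc' i j k).map (F S.X₂) ⟶ (P.sc' i j k).map (F S.X₃) :=
    (P.sc' i j k).mapNatTrans (DCoh.tensorBi.flip.map S.g)
  have hrow : ∀ n, (S.map (DCoh.tensorBi.obj (P.X n))).ShortExact := fun n =>
    ShortComplex.shortExact_of_iso (S.mapNatIso ((tensorBiFlipIso X).app (P.X n)))
      (flatObj_of_isFlat (hflat n) S hS)
  haveI : Mono α.τ₃ := (hrow k).mono_f
  haveI : Epi β.τ₁ := (hrow i).epi_g
  let c := cokernel.π (P.d j k)
  have hcok : ∀ G : X.Modules, (((ShortComplex.mk (P.d j k) c (cokernel.condition _))).map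
      (F G)).Exact ∧ Epi ((F G).map c) := fun G =>
    (ShortComplex.exact_and_epi_g_iff_g_is_cokernel _).2
      ⟨CokernelCofork.mapIsColimit _ (cokernelIsCokernel (P.d j k)) (F G)⟩
  haveI hμ : Mono ((DCoh.tensorBi.flip.map S.f).app (cokernel (P.d j k))) :=
    mono_coker_of_exact α β ((S.map (DCoh.tensorBi.obj (P.X j))).zero) (hrow j).exact (by
        exact ((S.map (DCoh.tensorBi.obj (P.X k))).zero))
      (hP S.X₃) (π₁ := (F S.X₁).map c) (hcok S.X₁).2 (by
        change (F S.X₁).map (P.d j k) ≫ (F S.X₁).map c = 0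
        rw [← Functor.map_comp, cokernel.condition, Functor.map_zero])
      (π₂ := (F S.X₂).map c) (by
        change (F S.X₂).map (P.d j k) ≫ (F S.X₂).map c = 0
        rw [← Functor.map_comp, cokernel.condition, Functor.map_zero])
      (hcok S.X₂).1 _ ((DCoh.tensorBi.flip.map S.f).naturality c)
  haveI : Mono ((DCoh.tensorBi.obj (cokernel (P.d j k))).map S.f) := hμ
  rw [← NatIso.naturality_2 ((tensorBiFlipIso X).app (cokernel (P.d j k))) S.f]
  infer_instance

/-- A cokernel in a K-flat complex of flat modules is flat, if the derived tensor vanishes. -/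
lemma isFlat_cokernel_of_isZero (hL : ∀ G : X.Modules, DCoh.HasLTensorMod G)
    {P : CochainComplex X.Modules ℤ} (hPK : DCoh.IsKFlat P) (hflat : ∀ n, FlatMod.IsFlat (P.X n))
    (a : ℤ) (hP : ∀ (G : X.Modules) [DCoh.HasLTensorMod G],
      IsZero (DCoh.HD ((DCoh.LTensorMod G).obj (DCoh.toD X P)) (a - 1))) :
    FlatMod.IsFlat (cokernel (P.d (a - 1) a)) := by
  refine isFlat_cokernel_of_exact P (a - 2) (a - 1) a (by omega) (by omega) hflat fun G => ?_
  haveI := hL G
  have h := (hP G).of_iso (hdLTensorModIso G hPK (a - 1)).symm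
  rw [← HomologicalComplex.exactAt_iff_isZero_homology,
    HomologicalComplex.exactAt_iff' _ (a - 2) (a - 1) a (by simp; omega) (by simp)] at h
  exact h

/-- Tensoring with the structure sheaf. -/
noncomputable def tensorStructureIso (X : Scheme.{u}) :
    DCoh.tensorRightMod (Coh.structureModule X) ≅ 𝟭 X.Modules :=
  Functor.isoWhiskerLeft DCoh.toP
      (Functor.isoWhiskerRight (rightUnitorNatIso (CohB1.PMod X)) DCoh.shP ≪≫
        Functor.leftUnitor _) ≪≫
    @asIso _ _ _ _ (counitShP X) (NatIso.isIso_of_isIso_app _)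

/-- The derived tensor product with the structure sheaf does not change cohomology. -/
noncomputable def hdLTensorStructureIso [DCoh.HasLTensorMod (Coh.structureModule X)]
    (K : CochainComplex X.Modules ℤ) (i : ℤ) :
    DCoh.HD ((DCoh.LTensorMod (Coh.structureModule X)).obj (DCoh.toD X K)) i ≅ K.homology i :=
  (DerivedCategory.homologyFunctor X.Modules i).mapIso
      ((DCoh.LTensorMod _).mapIso ((resQIso X).app K).symm) ≪≫
    hdLTensorModIso _ (isKFlat_kRes K) i ≪≫
    (HomologicalComplex.homologyFunctor _ _ i).mapIso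
      ((NatIso.mapHomologicalComplex (tensorStructureIso X) (ComplexShape.up ℤ)).app _) ≪≫
    ((DerivedCategory.homologyFunctorFactors X.Modules i).app _).symm ≪≫
    (DerivedCategory.homologyFunctor X.Modules i).mapIso ((resQIso X).app K) ≪≫
    (DerivedCategory.homologyFunctorFactors X.Modules i).app K

/-- A module has vanishing first Tor exactly when it is flat. -/
lemma isFlat_of_isZero_tor (F : X.Modules) (hL : ∀ G : X.Modules, DCoh.HasLTensorMod G)
    (h : ∀ (G : X.Modules) [DCoh.HasLTensorMod G],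
      IsZero (DCoh.HD ((DCoh.LTensorMod G).obj (DCoh.inD X F)) (-1))) : FlatMod.IsFlat F := by
  let K := (HomologicalComplex.single X.Modules (ComplexShape.up ℤ) 0).obj F
  obtain ⟨P, ψ, hψ, hflat, hz⟩ := (flatCover X).exists_bounded_resolution K 0 (fun m hm =>
    ShortComplex.isZero_homology_of_isZero_X₂ _
      (HomologicalComplex.isZero_single_obj_X (ComplexShape.up ℤ) 0 F m (by omega)))
  haveI : CochainComplex.IsStrictlyLE P 0 :=
    (CochainComplex.isStrictlyLE_iff P 0).2 fun i hi => hz i hi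
  haveI := hψ
  let e : DCoh.toD X P ≅ DCoh.inD X F :=
    @asIso _ _ _ _ (DerivedCategory.Q.map ψ) (isIso_Q_map ψ hψ) ≪≫
      ((DerivedCategory.singleFunctorIsoCompQ X.Modules 0).app F).symm
  have hc := isFlat_cokernel_of_isZero hL (isKFlat_of_isStrictlyLE P 0 hflat) hflat 0
    @fun G _ => (h G).of_iso ((DerivedCategory.homologyFunctor X.Modules _).mapIso
      ((DCoh.LTensorMod G).mapIso e))
  haveI : IsIso (P.homologyι 0) :=
    P.isIso_homologyι 0 1 (by simp) ((hz 1 (by omega)).eq_of_tgt _ _)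
  exact IsFlat.of_iso (IsColimit.coconePointUniqueUpToIso (cokernelIsCokernel _)
      (P.opcyclesIsCokernel (0 - 1) 0 (by simp)) ≪≫ (asIso (P.homologyι 0)).symm ≪≫
    asIso (HomologicalComplex.homologyMap ψ 0) ≪≫
    HomologicalComplex.singleObjHomologySelfIso _ 0 F) hc

/-- Tor amplitude in `[a, b]` gives a flat representative in `[a, b]`. -/
lemma flatAmplitude_of_torAmplitude (hL : ∀ G : X.Modules, DCoh.HasLTensorMod G) {a b : ℤ}
    (hab : a ≤ b) {E : DCoh.D X} (h : DCoh.HasTorAmplitudeIn a b E) :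
    DCoh.HasFlatAmplitudeIn a b E := by
  let K := DerivedCategory.Q.objPreimage E
  let eK : DCoh.toD X K ≅ E := DerivedCategory.Q.objObjPreimageIso E
  haveI := hL (Coh.structureModule X)
  have hK : ∀ i, (i < a ∨ b < i) → IsZero (K.homology i) := fun i hi =>
    (h (Coh.structureModule X) i hi).of_iso ((hdLTensorStructureIso K i).symm ≪≫
      (DerivedCategory.homologyFunctor X.Modules i).mapIso ((DCoh.LTensorMod _).mapIso eK))
  obtain ⟨P, ψ, hψ, hflat, hz⟩ :=
    (flatCover X).exists_bounded_resolution K b (fun m hm => hK m (Or.inr hm))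
  haveI : CochainComplex.IsStrictlyLE P b :=
    (CochainComplex.isStrictlyLE_iff P b).2 fun i hi => hz i hi
  haveI := hψ
  let e : DCoh.toD X P ≅ E := @asIso _ _ _ _ (DerivedCategory.Q.map ψ) (isIso_Q_map ψ hψ) ≪≫ eK
  have hc := isFlat_cokernel_of_isZero hL (isKFlat_of_isStrictlyLE P b hflat) hflat a
    @fun G _ => (h G (a - 1) (Or.inl (by omega))).of_iso
      ((DerivedCategory.homologyFunctor X.Modules _).mapIso ((DCoh.LTensorMod G).mapIso e))
  haveI : CochainComplex.IsGE P a := (CochainComplex.isGE_iff P a).2 fun i hi =>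
    (HomologicalComplex.exactAt_iff_isZero_homology _ _).2
      ((hK i (Or.inl hi)).of_iso (asIso (HomologicalComplex.homologyMap ψ i)))
  haveI : QuasiIso (P.πTruncGE a) := inferInstance
  refine ⟨P.truncGE a, ?_, ?_, ⟨(@asIso _ _ _ _ (DerivedCategory.Q.map (P.πTruncGE a))
    (isIso_Q_map _ inferInstance)).symm ≪≫ e⟩⟩
  · rintro i (hi | hi)
    · exact (P.truncGE a).isZero_of_isStrictlyGE a i hi
    · exact (hz i hi).of_iso (P.truncGEXIso a i (by omega))
  · intro i
    rcases lt_trichotomy i a with hi | hi | hi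
    · exact IsFlat.of_isZero ((P.truncGE a).isZero_of_isStrictlyGE a i hi)
    · subst hi
      exact IsFlat.of_iso (IsColimit.coconePointUniqueUpToIso (cokernelIsCokernel _)
        (P.opcyclesIsCokernel (i - 1) i (by simp)) ≪≫ (P.truncGEXIsoOpcycles i).symm) hc
    · exact IsFlat.of_iso (P.truncGEXIso a i hi).symm (hflat i)

end Groth.Agent.KFlatLib
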