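import Groth.Agent.KFlatLib.Scheme.LpullComp
import Groth.Prelude.Def_DTor2
import Mathlib.RingTheory.Flat.Stability
import Mathlib.Algebra.Homology.HomologySequence
import Mathlib.CategoryTheory.Triangulated.Pretriangulated

/-!
# Tor amplitude and flat amplitude
-/

set_option linter.style.haveILetI false

universe u

open CategoryTheory CategoryTheory.Limits AlgebraicGeometry CategoryTheory.Pretriangulated

attribute [local instance] HasDerivedCategory.standard

namespace Groth.Agent.KFlatLib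

variable {X Y : Scheme.{u}}

/-- `- ⊗ F` on complexes. -/
noncomputable abbrev tensorModCx (F : X.Modules) :
    CochainComplex X.Modules ℤ ⥤ CochainComplex X.Modules ℤ :=
  (DCoh.tensorRightMod F).mapHomologicalComplex (ComplexShape.up ℤ)

/-- The comparison `(Q K) ⊗^L F ⟶ Q (K ⊗ F)`. -/
noncomputable def ltensorModComparison (F : X.Modules) [DCoh.HasLTensorMod F] :
    DerivedCategory.Q ⋙ DCoh.LTensorMod F ⟶ tensorModCx F ⋙ DerivedCategory.Q :=
  Functor.whiskerRight (DerivedCategory.quotientCompQhIso X.Modules).inv _ ≫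
    (Functor.associator _ _ _).hom ≫
    Functor.whiskerLeft _ ((DCoh.tensorModKh F).totalLeftDerivedCounit DerivedCategory.Qh
      (HomotopyCategory.quasiIso X.Modules (ComplexShape.up ℤ))) ≫
    (quotientMapIso (DCoh.tensorRightMod F)).hom

lemma isIso_ltensorModComparison (F : X.Modules) [DCoh.HasLTensorMod F]
    {K : CochainComplex X.Modules ℤ} (hK : DCoh.IsKFlat K) :
    IsIso ((ltensorModComparison F).app K) := by
  haveI : IsIso ((Functor.whiskerLeft (HomotopyCategory.quotient X.Modules (ComplexShape.up ℤ))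
      ((DCoh.tensorModKh F).totalLeftDerivedCounit DerivedCategory.Qh
        (HomotopyCategory.quasiIso X.Modules (ComplexShape.up ℤ)))).app K) :=
    isIso_LTensorMod_counit F hK
  simp only [ltensorModComparison, NatTrans.comp_app]
  infer_instance

/-- The cohomology of a derived tensor product, computed by a K-flat complex. -/
noncomputable def hdLTensorModIso (F : X.Modules) [DCoh.HasLTensorMod F]
    {K : CochainComplex X.Modules ℤ} (hK : DCoh.IsKFlat K) (i : ℤ) :
    DCoh.HD ((DCoh.LTensorMod F).obj (DCoh.toD X K)) i ≅ ((tensorModCx F).obj K).homology i :=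
  haveI := isIso_ltensorModComparison F hK
  (DerivedCategory.homologyFunctor X.Modules i).mapIso (asIso ((ltensorModComparison F).app K)) ≪≫
    (DerivedCategory.homologyFunctorFactors X.Modules i).app _

lemma isKFlat_of_vanishesOutside {E : CochainComplex X.Modules ℤ} {a b : ℤ}
    (h : DCoh.VanishesOutside E a b) (hflat : ∀ i, FlatMod.IsFlat (E.X i)) : DCoh.IsKFlat E := by
  haveI : CochainComplex.IsStrictlyLE E b :=
    (CochainComplex.isStrictlyLE_iff E b).2 fun i hi => h i (Or.inr hi)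
  exact isKFlat_of_isStrictlyLE E b hflat

/-- A flat representative in `[a, b]` gives tor amplitude in `[a, b]`. -/
lemma torAmplitude_of_flatAmplitude {a b : ℤ} {K : DCoh.D X}
    (h : DCoh.HasFlatAmplitudeIn a b K) : DCoh.HasTorAmplitudeIn a b K := by
  obtain ⟨E, hv, hflat, ⟨e⟩⟩ := h
  intro F _ i hi
  refine IsZero.of_iso ?_ ((DerivedCategory.homologyFunctor X.Modules i).mapIso
    ((DCoh.LTensorMod F).mapIso e.symm) ≪≫
      hdLTensorModIso F (isKFlat_of_vanishesOutside hv hflat) i)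
  exact ShortComplex.isZero_homology_of_isZero_X₂ _ ((DCoh.tensorRightMod F).map_isZero (hv i hi))

lemma isFlat_pullback (f : X ⟶ Y) {M : Y.Modules} (h : FlatMod.IsFlat M) :
    FlatMod.IsFlat ((Scheme.Modules.pullback f).obj M) := fun x => by
  letI := (f.stalkMap x).hom.toAlgebra
  haveI : Module.Flat (Y.presheaf.stalk (f.base x))
      ((DerSch.stalkFunctor Y (f.base x)).obj M : Type u) := h (f.base x)
  exact (Module.Flat.equiv_iff ((stalkPullbackIso f x).app M).toLinearEquiv).2
    (Module.Flat.baseChange (Y.presheaf.stalk (f.base x)) (X.presheaf.stalk x)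
      ((DerSch.stalkFunctor Y (f.base x)).obj M : Type u))

/-- `Lf^*` preserves flat amplitude. -/
lemma flatAmplitude_lpull (f : X ⟶ Y) [DCoh.HasLpull f] {a b : ℤ} {E : DCoh.D Y}
    (h : DCoh.HasFlatAmplitudeIn a b E) : DCoh.HasFlatAmplitudeIn a b ((DCoh.Lpull f).obj E) := by
  obtain ⟨K, hv, hflat, ⟨e⟩⟩ := h
  haveI := isIso_lpullComparison f (isKFlat_of_vanishesOutside hv hflat)
  exact ⟨(pullCx f).obj K, fun i hi => (Scheme.Modules.pullback f).map_isZero (hv i hi),
    fun i => isFlat_pullback f (hflat i),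
    ⟨(asIso ((lpullComparison f).app K)).symm ≪≫ (DCoh.Lpull f).mapIso e⟩⟩

lemma isZero_of_retract {C : Type*} [Category C] [HasZeroMorphisms C] {A B : C} (i : A ⟶ B)
    (r : B ⟶ A) (h : i ≫ r = 𝟙 A) (hB : IsZero B) : IsZero A := by
  rw [IsZero.iff_id_eq_zero, ← h, hB.eq_of_tgt i 0, zero_comp]

/-- Tor amplitude passes to retracts. -/
lemma torAmplitude_of_retract {a b : ℤ} {K L : DCoh.D X} (i : K ⟶ L) (r : L ⟶ K) (h : i ≫ r = 𝟙 K)
    (hL : DCoh.HasTorAmplitudeIn a b L) : DCoh.HasTorAmplitudeIn a b K := fun F _ n hn =>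
  isZero_of_retract
    ((DCoh.LTensorMod F ⋙ DerivedCategory.homologyFunctor X.Modules n).map i)
    ((DCoh.LTensorMod F ⋙ DerivedCategory.homologyFunctor X.Modules n).map r)
    (by rw [← Functor.map_comp, h]; exact CategoryTheory.Functor.map_id _ _) (hL F n hn)

/-- The long exact cohomology sequence of a distinguished triangle after derived tensoring. -/
lemma isZero_hd_ltensorMod_triangle (T : Triangle (DCoh.D X)) (hT : T ∈ distinguishedTriangles)
    (F : X.Modules) [DCoh.HasLTensorMod F] (i : ℤ) :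
    (IsZero (DCoh.HD ((DCoh.LTensorMod F).obj T.obj₂) i) →
      IsZero (DCoh.HD ((DCoh.LTensorMod F).obj T.obj₁) (i + 1)) →
        IsZero (DCoh.HD ((DCoh.LTensorMod F).obj T.obj₃) i)) ∧
    (IsZero (DCoh.HD ((DCoh.LTensorMod F).obj T.obj₁) i) →
      IsZero (DCoh.HD ((DCoh.LTensorMod F).obj T.obj₃) i) →
        IsZero (DCoh.HD ((DCoh.LTensorMod F).obj T.obj₂) i)) ∧
    (IsZero (DCoh.HD ((DCoh.LTensorMod F).obj T.obj₃) i) →
      IsZero (DCoh.HD ((DCoh.LTensorMod F).obj T.obj₂) (i + 1)) →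
        IsZero (DCoh.HD ((DCoh.LTensorMod F).obj T.obj₁) (i + 1))) := by
  obtain ⟨K, L, φ, ⟨e⟩⟩ := (DerivedCategory.mem_distTriang_iff T).1 hT
  let φ' := (kRes X).map φ
  let T' := DerivedCategory.Q.mapTriangle.obj (CochainComplex.mappingCone.triangle φ')
  have hT' : T' ∈ distinguishedTriangles :=
    (DerivedCategory.mem_distTriang_iff _).2 ⟨_, _, φ', ⟨Iso.refl _⟩⟩
  have hT₀ : DerivedCategory.Q.mapTriangle.obj (CochainComplex.mappingCone.triangle φ) ∈
      distinguishedTriangles (C := DCoh.D X) :=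
    (DerivedCategory.mem_distTriang_iff _).2 ⟨_, _, φ, ⟨Iso.refl _⟩⟩
  let e' : T' ≅ T := isoTriangleOfIso₁₂ T'
    (DerivedCategory.Q.mapTriangle.obj (CochainComplex.mappingCone.triangle φ)) hT' hT₀
    ((resQIso X).app K) ((resQIso X).app L) ((resQIso X).hom.naturality φ) ≪≫ e.symm
  have hK : DCoh.IsKFlat ((kRes X).obj K) := isKFlat_kRes K
  have hL : DCoh.IsKFlat ((kRes X).obj L) := isKFlat_kRes L
  have hC : DCoh.IsKFlat (CochainComplex.mappingCone φ') := kFlat_cone (T := DCoh.tensorBi) φ' hK hL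
  let S := (coneSeq φ').map (tensorModCx F)
  have hS : S.ShortExact := HomologicalComplex.shortExact_of_degreewise_shortExact _ fun n =>
    ((coneSeqSplitting φ' n).map (DCoh.tensorRightMod F)).shortExact
  let e₁ : ∀ n m : ℤ, n + 1 = m → (DCoh.HD ((DCoh.LTensorMod F).obj T.obj₁) m ≅ S.X₃.homology n) :=
    fun n m hnm =>
      (DerivedCategory.homologyFunctor X.Modules m).mapIso
          ((DCoh.LTensorMod F).mapIso (Triangle.π₁.mapIso e'.symm)) ≪≫
        hdLTensorModIso F hK m ≪≫
        ((CochainComplex.ShiftSequence.shiftIso X.Modules 1 n m (by omega)).app _).symm ≪≫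
        (HomologicalComplex.homologyFunctor X.Modules (ComplexShape.up ℤ) n).mapIso
          ((((DCoh.tensorRightMod F).mapHomologicalComplex (ComplexShape.up ℤ)).commShiftIso
            (1 : ℤ)).app ((kRes X).obj K)).symm
  let e₂ : ∀ n, DCoh.HD ((DCoh.LTensorMod F).obj T.obj₂) n ≅ S.X₁.homology n := fun n =>
    (DerivedCategory.homologyFunctor X.Modules n).mapIso
        ((DCoh.LTensorMod F).mapIso (Triangle.π₂.mapIso e'.symm)) ≪≫ hdLTensorModIso F hL n
  let e₃ : ∀ n, DCoh.HD ((DCoh.LTensorMod F).obj T.obj₃) n ≅ S.X₂.homology n := fun n =>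
    (DerivedCategory.homologyFunctor X.Modules n).mapIso
        ((DCoh.LTensorMod F).mapIso (Triangle.π₃.mapIso e'.symm)) ≪≫ hdLTensorModIso F hC n
  refine ⟨fun h₂ h₁ => ?_, fun h₁ h₃ => ?_, fun h₃ h₂ => ?_⟩
  · exact IsZero.of_iso ((hS.homology_exact₂ i).isZero_X₂
      ((h₂.of_iso (e₂ i).symm).eq_of_src _ _) ((h₁.of_iso (e₁ i _ rfl).symm).eq_of_tgt _ _)) (e₃ i)
  · exact IsZero.of_iso ((hS.homology_exact₁ (i - 1) i (by simp)).isZero_X₂
      ((h₁.of_iso (e₁ (i - 1) i (by omega)).symm).eq_of_src _ _)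
      ((h₃.of_iso (e₃ i).symm).eq_of_tgt _ _)) (e₂ i)
  · exact IsZero.of_iso ((hS.homology_exact₃ i (i + 1) rfl).isZero_X₂
      ((h₃.of_iso (e₃ i).symm).eq_of_src _ _)
      ((h₂.of_iso (e₂ (i + 1)).symm).eq_of_tgt _ _)) (e₁ i _ rfl)

end Groth.Agent.KFlatLib
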