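import Groth.Agent.KFlatLib.Scheme.TensorStalk
import Groth.Agent.KFlatLib.KFlat
import Mathlib.RingTheory.Flat.CategoryTheory
import Mathlib.RingTheory.Flat.Equalizer
import Mathlib.Algebra.Category.ModuleCat.Monoidal.Symmetric
import Mathlib.Algebra.Category.ModuleCat.Monoidal.Closed

/-!
# Properties of the tensor product of sheaves of modules, read off the stalks
-/

set_option linter.style.haveILetI false

universe w w' u

open CategoryTheory CategoryTheory.Limits AlgebraicGeometry MonoidalCategory
open scoped TensorProduct

namespace Groth.Agent.KFlatLib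

variable {X : Scheme.{u}}

/-- A functor into `X.Modules` preserves a colimit if it does so on all stalks. -/
lemma preservesColimit_of_stalk {C : Type*} [Category C] {K : Type w} [Category.{w'} K]
    [HasColimitsOfShape K C] [HasColimitsOfShape K X.Modules]
    [∀ x : X, HasColimitsOfShape K (ModuleCat.{u} (X.presheaf.stalk x))]
    [∀ x : X, PreservesColimitsOfShape K (DerSch.stalkFunctor X x)] (G : C ⥤ X.Modules)
    (h : ∀ x, PreservesColimitsOfShape K (G ⋙ DerSch.stalkFunctor X x)) :
    PreservesColimitsOfShape K G where
  preservesColimit {F} := by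
    haveI : IsIso (colimit.post F G) := isIso_of_stalk _ fun x => by
      haveI := h x
      have e := colimit.post_post F G (DerSch.stalkFunctor X x)
      haveI : IsIso (colimit.post (F ⋙ G) (DerSch.stalkFunctor X x) ≫
          (DerSch.stalkFunctor X x).map (colimit.post F G)) := by
        rw [e]
        exact (inferInstance : IsIso (colimit.post F (G ⋙ DerSch.stalkFunctor X x)))
      exact IsIso.of_isIso_comp_left (colimit.post (F ⋙ G) (DerSch.stalkFunctor X x)) _
    exact preservesColimit_of_isIso_post G F

instance preservesColimitsOfShape_tensorBi_obj (M : X.Modules) (K : Type w) [Category.{w'} K]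
    [HasColimitsOfShape K X.Modules]
    [∀ x : X, HasColimitsOfShape K (ModuleCat.{u} (X.presheaf.stalk x))]
    [∀ x : X, PreservesColimitsOfShape K (DerSch.stalkFunctor X x)]
    [∀ x : X, PreservesColimitsOfShape K (tensorLeft ((DerSch.stalkFunctor X x).obj M))] :
    PreservesColimitsOfShape K (DCoh.tensorBi.obj M) :=
  preservesColimit_of_stalk _ fun x =>
    preservesColimitsOfShape_of_natIso (stalkTensorLeftIso M x).symm

instance preservesColimitsOfShape_tensorRight {R : Type u} [CommRing R] (M : ModuleCat.{u} R)
    (K : Type w) [Category.{w'} K] [PreservesColimitsOfShape K (tensorLeft M)] :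
    PreservesColimitsOfShape K (tensorRight M) :=
  preservesColimitsOfShape_of_natIso (BraidedCategory.tensorLeftIsoTensorRight M)

instance preservesColimitsOfShape_tensorBi_flip_obj (M : X.Modules) (K : Type w) [Category.{w'} K]
    [HasColimitsOfShape K X.Modules]
    [∀ x : X, HasColimitsOfShape K (ModuleCat.{u} (X.presheaf.stalk x))]
    [∀ x : X, PreservesColimitsOfShape K (DerSch.stalkFunctor X x)]
    [∀ x : X, PreservesColimitsOfShape K (tensorLeft ((DerSch.stalkFunctor X x).obj M))] :
    PreservesColimitsOfShape K (DCoh.tensorBi.flip.obj M) :=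
  preservesColimit_of_stalk _ fun x =>
    preservesColimitsOfShape_of_natIso (stalkTensorRightIso M x).symm

instance preservesFiniteColimits_tensorRight {R : Type u} [CommRing R] (M : ModuleCat.{u} R) :
    PreservesFiniteColimits (tensorRight M) :=
  preservesFiniteColimits_of_natIso (BraidedCategory.tensorLeftIsoTensorRight M)

/-- A flat sheaf of modules is flat for the tensor bifunctor. -/
lemma flatObj_of_isFlat {P : X.Modules} (hP : FlatMod.IsFlat P) : FlatObj DCoh.tensorBi P := by
  intro S hS
  rw [shortExact_iff_stalk]
  intro x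
  haveI : Module.Flat (X.presheaf.stalk x) ((DerSch.stalkFunctor X x).obj P : Type u) := hP x
  have h : ((S.map (DerSch.stalkFunctor X x)).map
      (tensorRight ((DerSch.stalkFunctor X x).obj P))).ShortExact :=
    ((shortExact_iff_stalk S).1 hS x).map_of_exact _
  exact ShortComplex.shortExact_of_iso (S.mapNatIso (stalkTensorRightIso P x)).symm h

/-- Conversely, an object flat for the tensor bifunctor with exact stalks is flat at all stalks of
short exact sequences. -/
lemma shortExact_tensor_stalk_of_flatObj {P : X.Modules} (hP : FlatObj DCoh.tensorBi P)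
    (S : ShortComplex X.Modules) (hS : S.ShortExact) (x : X) :
    ((S.map (DerSch.stalkFunctor X x)).map
      (tensorRight ((DerSch.stalkFunctor X x).obj P))).ShortExact :=
  ShortComplex.shortExact_of_iso (S.mapNatIso (stalkTensorRightIso P x))
    ((shortExact_iff_stalk _).1 (hP S hS) x)

/-- Tensoring preserves short exact sequences whose third term is a flat sheaf of modules. -/
lemma shortExact_tensor_of_isFlat (M : X.Modules) {S : ShortComplex X.Modules} (hS : S.ShortExact)
    (h₃ : FlatMod.IsFlat S.X₃) : (S.map (DCoh.tensorBi.obj M)).ShortExact := by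
  rw [shortExact_iff_stalk]
  intro x
  haveI : Module.Flat (X.presheaf.stalk x) ((S.map (DerSch.stalkFunctor X x)).X₃ : Type u) := h₃ x
  have hs := (shortExact_iff_stalk S).1 hS x
  refine ShortComplex.shortExact_of_iso (S.mapNatIso (stalkTensorLeftIso M x)).symm ?_
  change ((S.map (DerSch.stalkFunctor X x)).map
    (tensorLeft ((DerSch.stalkFunctor X x).obj M))).ShortExact
  have hsurj := (ModuleCat.epi_iff_surjective _).1 hs.epi_g
  have hinj := (ModuleCat.mono_iff_injective _).1 hs.mono_f
  have hex := (ShortComplex.ShortExact.moduleCat_exact_iff_function_exact _).1 hs.exact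
  refine ShortComplex.ShortExact.mk' ?_ ?_ ?_
  · rw [ShortComplex.ShortExact.moduleCat_exact_iff_function_exact]
    exact lTensor_exact _ hex hsurj
  · rw [ModuleCat.mono_iff_injective]
    exact LinearMap.lTensor_injective_of_exact_of_flat _ hsurj _ hinj hex _
  · rw [ModuleCat.epi_iff_surjective]
    exact LinearMap.lTensor_surjective _ hsurj

/-- The braiding of presheaves of modules, sheafified. -/
noncomputable def tensorBiFlipIso (X : Scheme.{u}) :
    (DCoh.tensorBi (X := X)).flip ≅ DCoh.tensorBi :=
  NatIso.ofComponents
    (fun N => NatIso.ofComponents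
      (fun M => DCoh.shP.mapIso (BraidedCategory.braiding (DCoh.toP.obj M) (DCoh.toP.obj N)))
      fun {M M'} f => by
        change DCoh.shP.map ((DCoh.toP.map f) ▷ DCoh.toP.obj N) ≫ DCoh.shP.map (β_ _ _).hom =
          DCoh.shP.map (β_ _ _).hom ≫ DCoh.shP.map (DCoh.toP.obj N ◁ DCoh.toP.map f)
        rw [← Functor.map_comp, ← Functor.map_comp, BraidedCategory.braiding_naturality_left])
    fun {N N'} g => by
      ext M : 2
      change DCoh.shP.map (DCoh.toP.obj M ◁ DCoh.toP.map g) ≫ DCoh.shP.map (β_ _ _).hom =
        DCoh.shP.map (β_ _ _).hom ≫ DCoh.shP.map ((DCoh.toP.map g) ▷ DCoh.toP.obj M)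
      rw [← Functor.map_comp, ← Functor.map_comp, BraidedCategory.braiding_naturality_right]

end Groth.Agent.KFlatLib
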