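import Groth.Agent.KFlatLib.Scheme.Sky
import Mathlib.Algebra.Category.ModuleCat.ChangeOfRings
import Mathlib.CategoryTheory.Adjunction.Unique

/-!
# Stalks of pullbacks
-/

set_option linter.style.haveILetI false

universe u

open CategoryTheory CategoryTheory.Limits AlgebraicGeometry TopologicalSpace Opposite

namespace Groth.Agent.KFlatLib

variable {X : Scheme.{u}} (y : X)

/-- The map of presheaves into a skyscraper from a map on the stalk. -/
noncomputable def toSkyP {P : CohB1.PMod X} {N : ModuleCat.{u} (X.presheaf.stalk y)}
    (φ : stalkMod y P ⟶ N) : P ⟶ skyP y N where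
  app U := ModuleCat.ofHom (Y := skyObj y N U)
    { toFun := fun s h => φ (germP P U.unop h.down s)
      map_add' := fun s t => funext fun h => by
        change φ (germP P U.unop h.down (s + t)) = φ (germP P U.unop h.down s) + φ (germP P U.unop h.down t)
        rw [map_add, map_add]
      map_smul' := fun r s => funext fun h => by
        change φ (germP P U.unop h.down (sm r s)) =
          X.presheaf.germ U.unop y h.down r • φ (germP P U.unop h.down s)
        rw [germP_smul]
        exact map_smul φ.hom (X.presheaf.germ U.unop y h.down r) (germP P U.unop h.down s) }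
  naturality {U V} i := by
    apply ModuleCat.hom_ext
    exact LinearMap.ext fun s => funext fun h =>
      congrArg φ (germP_res (P := P) i.unop h.down s)

/-- The map on the stalk from a map into a skyscraper. -/
noncomputable def ofSkyP {P : CohB1.PMod X} {N : ModuleCat.{u} (X.presheaf.stalk y)}
    (ψ : P ⟶ skyP y N) : stalkMod y P ⟶ N :=
  stalkModMap ψ ≫ (skyStalkEquiv y N).toModuleIso.hom

lemma ofSkyP_germ {P : CohB1.PMod X} {N : ModuleCat.{u} (X.presheaf.stalk y)}
    (ψ : P ⟶ skyP y N) (U : X.Opens) (hU : y ∈ U) (s : P.obj (op U)) :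
    ofSkyP y ψ (germP P U hU s) = (ψ.app (op U) s ⟨hU⟩ : N) := by
  change skyEval y N (stalkModMap ψ (germP P U hU s)) = _
  rw [stalkModMap_germ, skyEval_germ]

/-- The stalk functor is left adjoint to the skyscraper functor. -/
noncomputable def skyAdj : DerSch.stalkFunctor X y ⊣ sky y :=
  Adjunction.mkOfHomEquiv
    { homEquiv := fun M N =>
        { toFun := fun φ => ⟨toSkyP y ((stalkToPIso y).inv.app M ≫ φ)⟩
          invFun := fun ψ => (stalkToPIso y).hom.app M ≫ ofSkyP y ψ.val
          left_inv := fun φ => stalkMod_ext (P := DCoh.toP.obj M) fun U hU s => by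
            change ofSkyP y (toSkyP y ((stalkToPIso y).inv.app M ≫ φ)) (germP _ U hU s) = φ _
            rw [ofSkyP_germ]
            rfl
          right_inv := fun ψ => by
            refine SheafOfModules.hom_ext ?_
            refine PresheafOfModules.Hom.ext (funext fun U => ?_)
            apply ModuleCat.hom_ext
            refine LinearMap.ext fun s => funext fun h => ?_
            exact ofSkyP_germ y ψ.val U.unop h.down s }
      homEquiv_naturality_left_symm := fun {M' M N} g ψ =>
        stalkMod_ext (P := DCoh.toP.obj M') fun U hU s => by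
          change ofSkyP y (g.val ≫ ψ.val) (germP _ U hU s) =
            ofSkyP y ψ.val ((DerSch.stalkFunctor X y).map g (M'.presheaf.germ U y hU s))
          rw [DerSch.stalkFunctor_map_germ]
          exact (ofSkyP_germ y (g.val ≫ ψ.val) U hU s).trans
            (ofSkyP_germ y ψ.val U hU (g.val.app (op U) s)).symm
      homEquiv_naturality_right := fun {M N N'} φ g => rfl }

instance : (DerSch.stalkFunctor X y).IsLeftAdjoint := (skyAdj y).isLeftAdjoint

variable {Y : Scheme.{u}} (f : X ⟶ Y) (x : X)

/-- The pushforward of a skyscraper is a skyscraper. -/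
noncomputable def skyPushforwardIso :
    sky x ⋙ Scheme.Modules.pushforward f ≅
      ModuleCat.restrictScalars (f.stalkMap x).hom ⋙ sky (f.base x) :=
  NatIso.ofComponents
    (fun N => (SheafOfModules.fullyFaithfulForget _).preimageIso
      (PresheafOfModules.isoMk
        (fun U => LinearEquiv.toModuleIso
          ({ toFun := fun s => fun (h : PLift (f.base x ∈ U.unop)) => (s ⟨h.down⟩ : N)
             invFun := fun s => fun (h : PLift (x ∈ f ⁻¹ᵁ U.unop)) => (s ⟨h.down⟩ : N)
             map_add' := fun _ _ => rfl
             map_smul' := fun r s => funext fun h => by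
               change X.presheaf.germ (f ⁻¹ᵁ U.unop) x h.down (f.app U.unop r) • (s ⟨h.down⟩ : N) =
                 f.stalkMap x (Y.presheaf.germ U.unop (f.base x) h.down r) • (s ⟨h.down⟩ : N)
               exact congrArg (fun t => t • (s ⟨h.down⟩ : N))
                 (Scheme.Hom.germ_stalkMap_apply f U.unop x h.down r).symm
             left_inv := fun _ => rfl
             right_inv := fun _ => rfl } :
            ((((sky x ⋙ Scheme.Modules.pushforward f).obj N).val.obj U : Type u)) ≃ₗ[_]
              (skyObj (f.base x) ((ModuleCat.restrictScalars (f.stalkMap x).hom).obj N) U : Type u)))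
        (fun U V i => by apply ModuleCat.hom_ext; exact LinearMap.ext fun s => rfl)))
    (fun {N N'} g => rfl)

/-- `(f^* M)_x ≅ O_{X,x} ⊗ M_{f x}`. -/
noncomputable def stalkPullbackIso :
    Scheme.Modules.pullback f ⋙ DerSch.stalkFunctor X x ≅
      DerSch.stalkFunctor Y (f.base x) ⋙ ModuleCat.extendScalars (f.stalkMap x).hom :=
  ((Scheme.Modules.pullbackPushforwardAdjunction f).comp (skyAdj x)).leftAdjointUniq
    (((skyAdj (f.base x)).comp (ModuleCat.extendRestrictScalarsAdj (f.stalkMap x).hom)).ofNatIsoRight
      (skyPushforwardIso f x).symm)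

end Groth.Agent.KFlatLib
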