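import Groth.Agent.KFlatLib.Scheme.TensorStalk
import Groth.Agent.KFlatLib.Resolution
import Mathlib.Algebra.Category.ModuleCat.Presheaf.Free
import Mathlib.Algebra.Category.ModuleCat.Biproducts
import Mathlib.RingTheory.Flat.CategoryTheory

/-!
# The functorial flat cover of a sheaf of modules

Every sheaf of modules is naturally the quotient of the sheafified free module on its sections,
whose stalks are free.
-/

set_option linter.style.haveILetI false

universe u

open CategoryTheory CategoryTheory.Limits AlgebraicGeometry TopologicalSpace Opposite MonoidalCategory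

namespace Groth.Agent.KFlatLib

variable {X : Scheme.{u}} {x : X}

/-- The free presheaf of modules on a presheaf of sets. -/
noncomputable def freeP (F : (X.Opens)ᵒᵖ ⥤ Type u) : CohB1.PMod X :=
  (PresheafOfModules.free (X.sheaf.obj ⋙ forget₂ CommRingCat RingCat.{u})).obj F

/-- A basis element of sections of the free presheaf of modules, times a scalar. -/
noncomputable def fsingle {F : (X.Opens)ᵒᵖ ⥤ Type u} {U : (X.Opens)ᵒᵖ} (a : F.obj U)
    (r : X.presheaf.obj U) : (freeP F).obj U :=
  Finsupp.single a (show (X.sheaf.obj ⋙ forget₂ CommRingCat RingCat).obj U from r)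

variable (F : (X.Opens)ᵒᵖ ⥤ Type u)

/-- The stalk of a presheaf of sets. -/
noncomputable abbrev stalkSet (x : X) : Type u := TopCat.Presheaf.stalk (C := Type u) F x

/-- The germ of a section of a presheaf of sets. -/
noncomputable def germF (U : X.Opens) (hx : x ∈ U) (a : F.obj (op U)) : stalkSet F x :=
  TopCat.Presheaf.germ (C := Type u) F U x hx a

lemma germF_res {U V : X.Opens} (i : V ⟶ U) (hx : x ∈ V) (a : F.obj (op U)) :
    germF F V hx (F.map i.op a) = germF F U (i.le hx) a :=
  TopCat.Presheaf.germ_res_apply F i x hx a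

lemma exists_germF (m : stalkSet F x) :
    ∃ (U : X.Opens) (hx : x ∈ U) (a : F.obj (op U)), germF F U hx a = m := by
  obtain ⟨U, hx, a, h⟩ := TopCat.Presheaf.exists_germ_eq (C := Type u) F (x := x) m
  exact ⟨U, hx, a, h⟩

lemma fsingle_induction {U : (X.Opens)ᵒᵖ} {C : (freeP F).obj U → Prop} (z : (freeP F).obj U)
    (h0 : C 0) (hs : ∀ a r, C (fsingle a r)) (hadd : ∀ a b, C a → C b → C (a + b)) : C z :=
  Finsupp.induction_linear (motive := fun z => C z) z h0 hadd hs

lemma res_fsingle {U V : X.Opens} (i : V ⟶ U) (a : F.obj (op U)) (r : X.presheaf.obj (op U)) :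
    res (freeP F) i (fsingle a r) = fsingle (F.map i.op a) (X.presheaf.map i.op r) := by
  have h1 : fsingle (F := F) a r = sm r (fsingle a 1) :=
    ((Finsupp.smul_single _ _ _).trans (congrArg (Finsupp.single a) (mul_one _))).symm
  have h2 : fsingle (F := F) (F.map i.op a) (X.presheaf.map i.op r) =
      sm (X.presheaf.map i.op r) (fsingle (F.map i.op a) 1) :=
    ((Finsupp.smul_single _ _ _).trans (congrArg (Finsupp.single _) (mul_one _))).symm
  rw [h1, h2]
  refine ((freeP F).map_smul i.op _ _).trans ?_
  refine congrArg (sm (X.presheaf.map i.op r)) ?_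
  exact ModuleCat.freeDesc_apply _ a

/-- Germs of free sections. -/
noncomputable def toFinsupp₀ (U : X.Opens) (hx : x ∈ U) :
    (freeP F).obj (op U) →+ (stalkSet F x →₀ X.presheaf.stalk x) :=
  Finsupp.liftAddHom (α := F.obj (op U)) (M := X.presheaf.obj (op U)) fun a =>
    (Finsupp.singleAddHom (germF F U hx a)).comp (X.presheaf.germ U x hx).hom.toAddMonoidHom

lemma toFinsupp₀_fsingle (U : X.Opens) (hx : x ∈ U) (a : F.obj (op U))
    (r : X.presheaf.obj (op U)) :
    toFinsupp₀ F U hx (fsingle a r) =
      Finsupp.single (germF F U hx a) (X.presheaf.germ U x hx r) :=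
  Finsupp.liftAddHom_apply_single _ a r

/-- The map from the stalk of a free presheaf of modules to the free module on the stalk. -/
noncomputable def toFinsupp : stalkMod x (freeP F) →+ (stalkSet F x →₀ X.presheaf.stalk x) :=
  descP (toFinsupp₀ F) (fun U V i hx z => by
    induction z using fsingle_induction with
    | h0 => simp
    | hs a r =>
      rw [res_fsingle, toFinsupp₀_fsingle, toFinsupp₀_fsingle, germF_res,
        TopCat.Presheaf.germ_res_apply]
    | hadd a b ha hb => rw [map_add, map_add, map_add, ha, hb])

/-- The basis of the stalk of a free presheaf of modules. -/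
noncomputable def stalkBasisFun : stalkSet F x → stalkMod x (freeP F) :=
  (colimit.desc ((OpenNhds.inclusion x).op ⋙ F)
    { pt := (stalkMod x (freeP F) : Type u)
      ι :=
        { app := fun U => ↾fun a => germP (freeP F) U.unop.1 U.unop.2 (fsingle a 1)
          naturality := fun U V i => by
            ext a
            change germP (freeP F) V.unop.1 V.unop.2
                (fsingle (F.map ((OpenNhds.inclusion x).map i.unop).op a) 1) =
              germP (freeP F) U.unop.1 U.unop.2 (fsingle a 1)
            refine Eq.trans ?_ (germP_res ((OpenNhds.inclusion x).map i.unop) V.unop.2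
              (fsingle (F := F) a 1))
            exact congrArg _ ((congrArg (fsingle _) (map_one _).symm).trans
              (res_fsingle F ((OpenNhds.inclusion x).map i.unop) a 1).symm) } } :)

lemma stalkBasisFun_germ (U : X.Opens) (hx : x ∈ U) (a : F.obj (op U)) :
    stalkBasisFun F (germF F U hx a) = germP (freeP F) U hx (fsingle a 1) :=
  ConcreteCategory.congr_hom
    (colimit.ι_desc (F := (OpenNhds.inclusion x).op ⋙ F) _ (op ⟨U, hx⟩)) a

/-- The stalk of a free presheaf of modules is free on the stalk of the presheaf of sets. -/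
noncomputable def stalkFreeEquiv :
    (stalkSet F x →₀ X.presheaf.stalk x) ≃ₗ[X.presheaf.stalk x] stalkMod x (freeP F) :=
  { Finsupp.linearCombination (X.presheaf.stalk x) (stalkBasisFun F) with
    invFun := toFinsupp F
    left_inv := fun z => by
      change toFinsupp F (Finsupp.linearCombination (X.presheaf.stalk x) (stalkBasisFun F) z) = z
      induction z using Finsupp.induction_linear with
      | zero => simp
      | add a b ha hb => rw [map_add, map_add, ha, hb]
      | single m r =>
        obtain ⟨U, hU, a, rfl⟩ := exists_germF F m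
        obtain ⟨W, hW, b, rfl⟩ := X.presheaf.exists_germ_eq (x := x) r
        have hV : x ∈ U ⊓ W := ⟨hU, hW⟩
        rw [Finsupp.linearCombination_single,
          ← germF_res F (homOfLE inf_le_left : U ⊓ W ⟶ U) hV a, stalkBasisFun_germ,
          ← X.presheaf.germ_res_apply (homOfLE inf_le_right : U ⊓ W ⟶ W) x hV b, ← germP_smul,
          toFinsupp, descP_germP]
        refine (congrArg (toFinsupp₀ F _ hV) ?_).trans (toFinsupp₀_fsingle F _ hV _ _)
        exact (Finsupp.smul_single _ _ _).trans (congrArg (Finsupp.single _) (mul_one _))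
    right_inv := fun z => by
      change Finsupp.linearCombination (X.presheaf.stalk x) (stalkBasisFun F) (toFinsupp F z) = z
      obtain ⟨U, hU, w, rfl⟩ := exists_germP z
      induction w using fsingle_induction with
      | h0 => simp
      | hs a r =>
        rw [toFinsupp, descP_germP, toFinsupp₀_fsingle, Finsupp.linearCombination_single,
          stalkBasisFun_germ, ← germP_smul]
        exact congrArg _ ((Finsupp.smul_single _ _ _).trans (congrArg (Finsupp.single _) (mul_one _)))
      | hadd a b ha hb => rw [map_add, map_add, map_add, ha, hb] }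

/-- Sheafified free modules are flat. -/
lemma isFlat_shP_freeP : FlatMod.IsFlat (DCoh.shP.obj (freeP F)) := fun x =>
  (Module.Flat.equiv_iff ((stalkShPIso x).app (freeP F)).toLinearEquiv).1
    (Module.Flat.of_linearEquiv (stalkFreeEquiv (x := x) F).symm)

variable (X) in
/-- The underlying presheaf of sets of a sheaf of modules. -/
noncomputable def setPre : CohB1.PMod X ⥤ ((X.Opens)ᵒᵖ ⥤ Type u) :=
  PresheafOfModules.toPresheaf (X.sheaf.obj ⋙ forget₂ CommRingCat RingCat.{u}) ⋙
    (Functor.whiskeringRight _ _ _).obj (forget Ab)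

variable (X) in
/-- The free cover of presheaves of modules. -/
noncomputable def counitFree :
    setPre X ⋙ PresheafOfModules.free (X.sheaf.obj ⋙ forget₂ CommRingCat RingCat.{u}) ⟶
      𝟭 (CohB1.PMod X) :=
  (PresheafOfModules.freeAdjunction (X.sheaf.obj ⋙ forget₂ CommRingCat RingCat.{u})).counit

variable (X) in
/-- The covering functor. -/
noncomputable def coverG : X.Modules ⥤ X.Modules :=
  DCoh.toP ⋙ (setPre X ⋙
    PresheafOfModules.free (X.sheaf.obj ⋙ forget₂ CommRingCat RingCat.{u})) ⋙ DCoh.shP

variable (X) in
/-- The sheafification of a sheaf of modules is itself. -/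
noncomputable def counitShP : DCoh.toP ⋙ DCoh.shP ⟶ 𝟭 X.Modules :=
  (PresheafOfModules.sheafificationAdjunction (𝟙 X.ringCatSheaf.obj)).counit

instance (M : X.Modules) : IsIso ((counitShP X).app M) :=
  inferInstanceAs (IsIso ((PresheafOfModules.sheafificationAdjunction
    (𝟙 X.ringCatSheaf.obj)).counit.app M))

variable (X) in
/-- The covering maps. -/
noncomputable def coverπ : coverG X ⟶ 𝟭 X.Modules :=
  Functor.whiskerLeft DCoh.toP (Functor.whiskerRight (counitFree X) DCoh.shP) ≫ counitShP X

lemma counitFree_app_fsingle (P : CohB1.PMod X) (U : (X.Opens)ᵒᵖ)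
    (s : ((setPre X).obj P).obj U) :
    ((counitFree X).app P).app U (fsingle (F := (setPre X).obj P) s 1) = s := by
  have h : (counitFree X).app P = PresheafOfModules.freeObjDesc (𝟙 _) := by
    simp only [counitFree, PresheafOfModules.freeAdjunction]
    rfl
  rw [h]
  exact ModuleCat.freeDesc_apply _ s

lemma epi_stalk_counitFree (P : CohB1.PMod X) (x : X) :
    Epi ((stalkP x).map ((counitFree X).app P)) := by
  rw [ModuleCat.epi_iff_surjective]
  intro m
  obtain ⟨U, hU, s, rfl⟩ := exists_germP (P := P) m
  refine ⟨germP (freeP ((setPre X).obj P)) U hU (fsingle (F := (setPre X).obj P) s 1), ?_⟩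
  refine (stalkModMap_germ _ U hU _).trans ?_
  exact congrArg _ (counitFree_app_fsingle P (op U) s)

instance epi_coverπ (M : X.Modules) : Epi ((coverπ X).app M) := by
  haveI : Epi (DCoh.shP.map ((counitFree X).app (DCoh.toP.obj M))) := by
    refine (ShortComplex.exact_iff_epi
      (ShortComplex.mk (DCoh.shP.map ((counitFree X).app (DCoh.toP.obj M)))
        (0 : _ ⟶ DCoh.shP.obj (DCoh.toP.obj M)) comp_zero) rfl).1 ?_
    refine (exact_iff_stalk _).2 fun x => (ShortComplex.exact_iff_epi _
      ((DerSch.stalkFunctor X x).map_zero _ _)).2 ?_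
    have h := (stalkShPIso x).hom.naturality ((counitFree X).app (DCoh.toP.obj M))
    haveI := epi_stalk_counitFree (DCoh.toP.obj M) x
    haveI : Epi ((stalkShPIso x).hom.app _ ≫ (DCoh.shP ⋙ DerSch.stalkFunctor X x).map
        ((counitFree X).app (DCoh.toP.obj M))) :=
      h ▸ @epi_comp _ _ _ _ _ _ (epi_stalk_counitFree (DCoh.toP.obj M) x) _ inferInstance
    exact epi_of_epi ((stalkShPIso x).hom.app _)
      ((DCoh.shP ⋙ DerSch.stalkFunctor X x).map ((counitFree X).app (DCoh.toP.obj M)))
  exact epi_comp (DCoh.shP.map ((counitFree X).app (DCoh.toP.obj M))) ((counitShP X).app M)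

/-- A colimit of flat modules, of a shape with exact colimits, is flat. -/
lemma flat_of_isColimit {R : Type u} [CommRing R] {J : Type} [Category.{0} J]
    [HasColimitsOfShape J (ModuleCat.{u} R)] [HasExactColimitsOfShape J (ModuleCat.{u} R)]
    {G : J ⥤ ModuleCat.{u} R} {c : Cocone G} (hc : IsColimit c)
    [∀ Y : ModuleCat.{u} R, PreservesColimitsOfShape J (tensorLeft Y)]
    (h : ∀ j, Module.Flat R (G.obj j)) : Module.Flat R c.pt := by
  rw [Module.Flat.iff_rTensor_preserves_shortComplex_exact]
  intro S hS
  let S' : ShortComplex (J ⥤ ModuleCat.{u} R) := ShortComplex.mk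
    (Functor.whiskerLeft G ((curriedTensor (ModuleCat.{u} R)).map S.f))
    (Functor.whiskerLeft G ((curriedTensor (ModuleCat.{u} R)).map S.g))
    (by
      ext j : 2
      change S.f ▷ G.obj j ≫ S.g ▷ G.obj j = 0
      rw [← comp_whiskerRight, S.zero]
      exact (tensorRight (G.obj j)).map_zero _ _)
  have hS' : S'.Exact := by
    rw [ShortComplex.exact_iff_isZero_homology]
    refine Functor.isZero _ (fun j => ?_)
    haveI := h j
    refine IsZero.of_iso ((ShortComplex.exact_iff_isZero_homology _).1 ?_)
      (S'.mapHomologyIso ((evaluation _ _).obj j)).symm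
    exact Module.Flat.rTensor_shortComplex_exact _ S hS
  exact colim.exact_mapShortComplex hS'
    (isColimitOfPreserves (tensorLeft S.X₁) hc) (isColimitOfPreserves (tensorLeft S.X₂) hc)
    (isColimitOfPreserves (tensorLeft S.X₃) hc)
    (S.f ▷ c.pt) (S.g ▷ c.pt)
    (fun j => whisker_exchange S.f (c.ι.app j)) (fun j => whisker_exchange S.g (c.ι.app j))

lemma IsFlat.of_iso {M N : X.Modules} (e : M ≅ N) (h : FlatMod.IsFlat M) : FlatMod.IsFlat N :=
  fun x => by
    haveI : Module.Flat (X.presheaf.stalk x) ((DerSch.stalkFunctor X x).obj M : Type u) := h x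
    exact Module.Flat.of_linearEquiv
      ((DerSch.stalkFunctor X x).mapIso e).symm.toLinearEquiv

lemma flat_prod {R : Type u} [CommRing R] {M N : Type u} [AddCommGroup M] [Module R M]
    [AddCommGroup N] [Module R N] (hM : Module.Flat R M) (hN : Module.Flat R N) :
    Module.Flat R (M × N) := by
  rw [Module.Flat.iff_lTensor_preserves_injective_linearMap]
  intro P Q _ _ _ _ f hf a b hab
  have key : ∀ (z : TensorProduct R (M × N) P),
      (LinearMap.fst R M N).rTensor Q (f.lTensor (M × N) z) =
        f.lTensor M ((LinearMap.fst R M N).rTensor P z) ∧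
      (LinearMap.snd R M N).rTensor Q (f.lTensor (M × N) z) =
        f.lTensor N ((LinearMap.snd R M N).rTensor P z) := fun z => by
    induction z using TensorProduct.induction_on with
    | zero => simp
    | tmul => simp
    | add u v hu hv => simp [hu.1, hu.2, hv.1, hv.2]
  have rec' : ∀ z : TensorProduct R (M × N) P,
      z = (LinearMap.inl R M N).rTensor P ((LinearMap.fst R M N).rTensor P z) +
        (LinearMap.inr R M N).rTensor P ((LinearMap.snd R M N).rTensor P z) := fun z => by
    induction z using TensorProduct.induction_on with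
    | zero => simp
    | tmul m p => obtain ⟨m, n⟩ := m; simp [← TensorProduct.add_tmul]
    | add u v hu hv => rw [map_add, map_add, map_add, map_add, add_add_add_comm, ← hu, ← hv]
  have h₁ : (LinearMap.fst R M N).rTensor P a = (LinearMap.fst R M N).rTensor P b :=
    Module.Flat.lTensor_preserves_injective_linearMap f hf
      ((key a).1.symm.trans ((congrArg _ hab).trans (key b).1))
  have h₂ : (LinearMap.snd R M N).rTensor P a = (LinearMap.snd R M N).rTensor P b :=
    Module.Flat.lTensor_preserves_injective_linearMap f hf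
      ((key a).2.symm.trans ((congrArg _ hab).trans (key b).2))
  rw [rec' a, rec' b, h₁, h₂]

lemma IsFlat.biprod {M N : X.Modules} (hM : FlatMod.IsFlat M) (hN : FlatMod.IsFlat N) :
    FlatMod.IsFlat (M ⊞ N) := fun x => by
  haveI : Module.Flat (X.presheaf.stalk x) ((DerSch.stalkFunctor X x).obj M : Type u) := hM x
  haveI : Module.Flat (X.presheaf.stalk x) ((DerSch.stalkFunctor X x).obj N : Type u) := hN x
  haveI := preservesBinaryBiproducts_of_preservesBinaryProducts (DerSch.stalkFunctor X x)
  exact (Module.Flat.equiv_iff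
    ((DerSch.stalkFunctor X x).mapBiprod M N ≪≫ ModuleCat.biprodIsoProd _ _).toLinearEquiv).2
      (flat_prod (hM x) (hN x))

lemma IsFlat.of_isZero {M : X.Modules} (h : IsZero M) : FlatMod.IsFlat M := fun x => by
  haveI : Subsingleton ((DerSch.stalkFunctor X x).obj M : Type u) :=
    ModuleCat.subsingleton_of_isZero ((DerSch.stalkFunctor X x).map_isZero h)
  exact (inferInstance : Module.Flat (X.presheaf.stalk x) ((DerSch.stalkFunctor X x).obj M : Type u))

lemma IsFlat.of_isColimit {G : ℕ ⥤ X.Modules} (c : Cocone G) (hc : IsColimit c)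
    (h : ∀ k, FlatMod.IsFlat (G.obj k)) : FlatMod.IsFlat c.pt := fun x =>
  flat_of_isColimit (isColimitOfPreserves (DerSch.stalkFunctor X x) hc) (fun k => h k x)

variable (X) in
/-- The flat cover of sheaves of modules. -/
noncomputable def flatCover : FlatCover X.Modules where
  Flat := FlatMod.IsFlat
  G := coverG X
  π := coverπ X
  epi M := epi_coverπ M
  flat M := isFlat_shP_freeP ((setPre X).obj (DCoh.toP.obj M))
  of_iso _ _ e h := IsFlat.of_iso e h
  biprod _ _ h h' := IsFlat.biprod h h'
  zero _ h := IsFlat.of_isZero h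
  colim _ c hc h := IsFlat.of_isColimit c hc h

end Groth.Agent.KFlatLib
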