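import Groth.Agent.KFlatLib.Scheme.Tensor
import Groth.Agent.KFlatLib.Scheme.Cover
import Groth.Agent.KFlatLib.Setup
import Groth.Agent.KFlatLib.Derived

/-!
# K-flat complexes of sheaves of modules
-/

set_option linter.style.haveILetI false

universe u

open CategoryTheory CategoryTheory.Limits AlgebraicGeometry

namespace Groth.Agent.KFlatLib

variable {X : Scheme.{u}}

instance hasExactColimitsOfShape_discrete (S : Type) :
    HasExactColimitsOfShape (Discrete S) X.Modules :=
  hasExactColimitsOfShape X (Discrete S)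

instance hasExactColimitsOfShape_nat : HasExactColimitsOfShape ℕ X.Modules :=
  hasExactColimitsOfShape X ℕ

lemma kFlat_iff_isKFlat {K : CochainComplex X.Modules ℤ} :
    KFlat DCoh.tensorBi K ↔ DCoh.IsKFlat K :=
  Iff.rfl

lemma flatObj_flatCover (M : X.Modules) (h : (flatCover X).Flat M) : FlatObj DCoh.tensorBi M :=
  flatObj_of_isFlat h

/-- A sequence with flat third term stays short exact after tensoring. -/
lemma shortExact_tensorCx {S : ShortComplex (CochainComplex X.Modules ℤ)} (hS : S.ShortExact)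
    (h₃ : ∀ n, FlatMod.IsFlat (S.X₃.X n)) (L : CochainComplex X.Modules ℤ) :
    (S.map (DCoh.tensorBi.map₂CochainComplex.obj L)).ShortExact :=
  shortExact₂ DCoh.tensorBi L S fun p q => shortExact_tensor_of_isFlat _
    ((HomologicalComplex.shortExact_iff_degreewise_shortExact S).1 hS q) (h₃ q)

variable (X) in
/-- The functorial K-flat resolution. -/
noncomputable abbrev kRes : CochainComplex X.Modules ℤ ⥤ CochainComplex X.Modules ℤ :=
  (flatCover X).P

lemma isKFlat_kRes (K : CochainComplex X.Modules ℤ) : DCoh.IsKFlat ((kRes X).obj K) :=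
  (flatCover X).kFlat_P flatObj_flatCover K

lemma isFlat_kRes (K : CochainComplex X.Modules ℤ) (n : ℤ) :
    FlatMod.IsFlat (((kRes X).obj K).X n) :=
  (flatCover X).flat_P K n

lemma isKFlat_of_isStrictlyLE (K : CochainComplex X.Modules ℤ) (b : ℤ) [K.IsStrictlyLE b]
    (h : ∀ n, FlatMod.IsFlat (K.X n)) : DCoh.IsKFlat K :=
  kFlat_of_isStrictlyLE b fun n => flatObj_of_isFlat (h n)

lemma quasiIso_tensorCx_of_isKFlat {P Q : CochainComplex X.Modules ℤ} (α : P ⟶ Q) [QuasiIso α]
    (hP : DCoh.IsKFlat P) (hQ : DCoh.IsKFlat Q) (F : CochainComplex X.Modules ℤ) :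
    QuasiIso ((DCoh.tensorCx.obj F).map α) :=
  quasiIso_tensor (flatCover X) flatObj_flatCover (tensorBiFlipIso X) α hP hQ F

lemma quasiIso_tensorCx_flip_of_isKFlat {P Q : CochainComplex X.Modules ℤ} (α : P ⟶ Q) [QuasiIso α]
    (hP : DCoh.IsKFlat P) (hQ : DCoh.IsKFlat Q) (E : CochainComplex X.Modules ℤ) :
    QuasiIso ((DCoh.tensorCx.flip.obj E).map α) := by
  haveI := quasiIso_tensorCx_of_isKFlat α hP hQ E
  exact (quasiIso_iff_of_arrow_mk_iso ((DCoh.tensorCx.flip.obj E).map α)
    ((DCoh.tensorCx.obj E).map α)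
    (((Functor.mapArrowFunctor _ _).mapIso (symmIso (tensorBiFlipIso X) E)).app (Arrow.mk α))).2
      inferInstance

end Groth.Agent.KFlatLib
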