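import Groth.Agent.KFlatLib.Scheme.Coproducts
import Groth.Agent.S0949
import Groth.Agent.KFlatLib.AssocNat
import Mathlib.Algebra.Homology.BifunctorAssociator

/-!
# Associativity of tensor products of sheaves of modules and of their complexes
-/

set_option linter.style.haveILetI false
set_option backward.isDefEq.respectTransparency false

universe u

open CategoryTheory CategoryTheory.Limits AlgebraicGeometry MonoidalCategory

attribute [local instance] HasDerivedCategory.standard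

namespace Groth.Agent.KFlatLib

variable {X : Scheme.{u}}

lemma isIso_shP_map_of_stalk {P Q : CohB1.PMod X} (f : P ⟶ Q) (h : ∀ x, IsIso ((stalkP x).map f)) :
    IsIso (DCoh.shP.map f) := by
  refine isIso_of_stalk _ fun x => ?_
  haveI := h x
  exact (NatIso.isIso_map_iff (stalkShPIso x) f).1 inferInstance

lemma isIso_stalkP_map_tensorHom {P Q P' Q' : CohB1.PMod X} (f : P ⟶ P') (g : Q ⟶ Q') (x : X)
    [IsIso ((stalkP x).map f)] [IsIso ((stalkP x).map g)] : IsIso ((stalkP x).map (f ⊗ₘ g)) := by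
  haveI : IsIso ((tensorStalkIso P Q).hom ≫ (stalkP x).map (f ⊗ₘ g)) := by
    rw [← tensorStalkIso_naturality]
    infer_instance
  exact IsIso.of_isIso_comp_left (tensorStalkIso P Q).hom _

lemma isIso_shP_map_unit_whiskerRight (P M : CohB1.PMod X) :
    IsIso (DCoh.shP.map (unitShP P ▷ M)) := isIso_shP_map_of_stalk _ fun x => by
  rw [← tensorHom_id]
  exact isIso_stalkP_map_tensorHom _ _ x

lemma isIso_shP_map_whiskerLeft_unit (M P : CohB1.PMod X) :
    IsIso (DCoh.shP.map (M ◁ unitShP P)) := isIso_shP_map_of_stalk _ fun x => by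
  rw [← id_tensorHom]
  exact isIso_stalkP_map_tensorHom _ _ x

/-- The associator, for presheaves. -/
noncomputable def assocShP (P Q N : CohB1.PMod X) :
    DCoh.shP.obj (DCoh.toP.obj (DCoh.shP.obj (P ⊗ Q)) ⊗ N) ≅
      DCoh.shP.obj (P ⊗ DCoh.toP.obj (DCoh.shP.obj (Q ⊗ N))) :=
  (@asIso _ _ _ _ (DCoh.shP.map (unitShP (P ⊗ Q) ▷ N))
      (isIso_shP_map_unit_whiskerRight _ _)).symm ≪≫
    DCoh.shP.mapIso (α_ P Q N) ≪≫
    @asIso _ _ _ _ (DCoh.shP.map (P ◁ unitShP (Q ⊗ N))) (isIso_shP_map_whiskerLeft_unit _ _)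

lemma assocShP_naturality {P Q N P' Q' N' : CohB1.PMod X} (f : P ⟶ P') (g : Q ⟶ Q') (h : N ⟶ N') :
    DCoh.shP.map (DCoh.toP.map (DCoh.shP.map (f ⊗ₘ g)) ⊗ₘ h) ≫ (assocShP P' Q' N').hom =
      (assocShP P Q N).hom ≫ DCoh.shP.map (f ⊗ₘ DCoh.toP.map (DCoh.shP.map (g ⊗ₘ h))) := by
  have h1 : unitShP (P ⊗ Q) ▷ N ≫ (DCoh.toP.map (DCoh.shP.map (f ⊗ₘ g)) ⊗ₘ h) =
      ((f ⊗ₘ g) ⊗ₘ h) ≫ unitShP (P' ⊗ Q') ▷ N' := by
    rw [← tensorHom_id, ← tensorHom_id, tensorHom_comp_tensorHom, tensorHom_comp_tensorHom,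
      Category.id_comp, Category.comp_id]
    exact congrArg (fun t => t ⊗ₘ h) (unitShP_naturality (f ⊗ₘ g)).symm
  have h2 : P ◁ unitShP (Q ⊗ N) ≫ (f ⊗ₘ DCoh.toP.map (DCoh.shP.map (g ⊗ₘ h))) =
      (f ⊗ₘ (g ⊗ₘ h)) ≫ P' ◁ unitShP (Q' ⊗ N') := by
    rw [← id_tensorHom, ← id_tensorHom, tensorHom_comp_tensorHom, tensorHom_comp_tensorHom,
      Category.id_comp, Category.comp_id]
    exact congrArg (fun t => f ⊗ₘ t) (unitShP_naturality (g ⊗ₘ h)).symm
  haveI := isIso_shP_map_unit_whiskerRight (P ⊗ Q) N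
  haveI := isIso_shP_map_unit_whiskerRight (P' ⊗ Q') N'
  refine (cancel_epi (DCoh.shP.map (unitShP (P ⊗ Q) ▷ N))).1 ?_
  simp only [assocShP, Iso.trans_hom, Iso.symm_hom, asIso_hom, asIso_inv, Functor.mapIso_hom,
    IsIso.hom_inv_id_assoc, Category.assoc]
  rw [← Functor.map_comp_assoc, h1, Functor.map_comp_assoc, IsIso.hom_inv_id_assoc,
    ← Functor.map_comp, ← Functor.map_comp, ← Functor.map_comp, ← Functor.map_comp, h2,
    associator_naturality_assoc]

variable (X) in
/-- The associator of the tensor product of sheaves of modules. -/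
noncomputable def tensorAssocSch :
    bifunctorComp₁₂ (DCoh.tensorBi (X := X)) (DCoh.tensorBi (X := X)) ≅
      bifunctorComp₂₃ (DCoh.tensorBi (X := X)) (DCoh.tensorBi (X := X)) :=
  NatIso.ofComponents (fun M => NatIso.ofComponents (fun N => NatIso.ofComponents
    (fun L => assocShP (DCoh.toP.obj M) (DCoh.toP.obj N) (DCoh.toP.obj L))
    (fun {L L'} h => by
      have e := assocShP_naturality (𝟙 (DCoh.toP.obj M)) (𝟙 (DCoh.toP.obj N)) (DCoh.toP.map h)
      rw [id_tensorHom_id, CategoryTheory.Functor.map_id, CategoryTheory.Functor.map_id, id_tensorHom,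
        id_tensorHom, id_tensorHom] at e
      exact e))
    (fun {N N'} g => by
      ext L : 2
      have e := assocShP_naturality (𝟙 (DCoh.toP.obj M)) (DCoh.toP.map g) (𝟙 (DCoh.toP.obj L))
      rw [id_tensorHom, tensorHom_id, tensorHom_id, id_tensorHom] at e
      exact e))
    (fun {M M'} f => by
      ext N L : 4
      have e := assocShP_naturality (DCoh.toP.map f) (𝟙 (DCoh.toP.obj N)) (𝟙 (DCoh.toP.obj L))
      rw [tensorHom_id, tensorHom_id, id_tensorHom_id, CategoryTheory.Functor.map_id,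
        CategoryTheory.Functor.map_id, tensorHom_id] at e
      exact e)

variable (N K L : CochainComplex X.Modules ℤ)

/-- The associator of complexes of sheaves of modules. -/
noncomputable def tensorCxAssocIso :
    (DCoh.tensorCx.obj ((DCoh.tensorCx.obj N).obj K)).obj L ≅
      (DCoh.tensorCx.obj N).obj ((DCoh.tensorCx.obj K).obj L) :=
  haveI : ∀ M : X.Modules, PreservesColimitsOfShape (Discrete ℤ) (DCoh.tensorBi.obj M) :=
    fun M => inferInstance
  haveI : HomologicalComplex.HasGoodTrifunctor₁₂Obj (DCoh.tensorBi (X := X)) DCoh.tensorBi N K L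
      (ComplexShape.up ℤ) (ComplexShape.up ℤ) := fun _ _ => inferInstance
  haveI : HomologicalComplex.HasGoodTrifunctor₂₃Obj (DCoh.tensorBi (X := X)) DCoh.tensorBi N K L
      (ComplexShape.up ℤ) (ComplexShape.up ℤ) (ComplexShape.up ℤ) := fun _ _ => inferInstance
  HomologicalComplex.mapBifunctorAssociator (tensorAssocSch X) N K L (ComplexShape.up ℤ)
    (ComplexShape.up ℤ) (ComplexShape.up ℤ)

/-- `(- ⊗ K) ⊗ L ≅ - ⊗ (K ⊗ L)`. -/
noncomputable def tensorCxFlipCompIso :
    DCoh.tensorCx.flip.obj K ⋙ DCoh.tensorCx.flip.obj L ≅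
      DCoh.tensorCx.flip.obj ((DCoh.tensorCx.obj K).obj L) :=
  NatIso.ofComponents (fun N => tensorCxAssocIso N K L) fun {N N'} f => by
    haveI : ∀ M : X.Modules, PreservesColimitsOfShape (Discrete ℤ) (DCoh.tensorBi.obj M) :=
      fun M => inferInstance
    haveI : ∀ N : CochainComplex X.Modules ℤ,
        HomologicalComplex.HasGoodTrifunctor₁₂Obj (DCoh.tensorBi (X := X)) DCoh.tensorBi N K L
        (ComplexShape.up ℤ) (ComplexShape.up ℤ) := fun _ _ _ => inferInstance
    haveI : ∀ N : CochainComplex X.Modules ℤ,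
        HomologicalComplex.HasGoodTrifunctor₂₃Obj (DCoh.tensorBi (X := X)) DCoh.tensorBi N K L
        (ComplexShape.up ℤ) (ComplexShape.up ℤ) (ComplexShape.up ℤ) := fun _ _ _ => inferInstance
    have h := mapBifunctorAssociator_naturality (DCoh.tensorBi (X := X)) (tensorAssocSch X) f (𝟙 K) (𝟙 L)
    refine h.trans ?_
    refine congrArg ((tensorCxAssocIso N K L).hom ≫ ·) ?_
    exact congrArg (fun t => HomologicalComplex.mapBifunctorMap f t DCoh.tensorBi (ComplexShape.up ℤ))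
      ((DCoh.tensorCx.obj K).map_id L)

variable {N K L}

/-- `- ⊗^L E` is computed by anything when `E` is K-flat. -/
lemma isIso_LTensorCx_counit_of_isKFlat_right (E : CochainComplex X.Modules ℤ) [DCoh.HasLTensorCx E]
    (hE : DCoh.IsKFlat E) (N : CochainComplex X.Modules ℤ) :
    IsIso (((DCoh.tensorCxQ E).totalLeftDerivedCounit DerivedCategory.Q (qisX X)).app N) := by
  let c := (DCoh.tensorCxQ E).totalLeftDerivedCounit DerivedCategory.Q (qisX X)
  haveI := (flatCover X).quasiIso_ψ N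
  haveI : QuasiIso ((DCoh.tensorCx.map ((flatCover X).ψ.app N)).app E) :=
    S0949.result E hE _
  haveI h₁ : IsIso ((DCoh.tensorCxQ E).map ((flatCover X).ψ.app N)) :=
    isIso_Q_map _ (by assumption)
  haveI h₂ : IsIso (DerivedCategory.Q.map ((flatCover X).ψ.app N)) :=
    isIso_Q_map _ ((flatCover X).quasiIso_ψ N)
  haveI h₃ := isIso_LTensorCx_counit E (isKFlat_kRes N)
  have w := c.naturality ((flatCover X).ψ.app N)
  haveI : IsIso ((DCoh.LTensorCx E).map (DerivedCategory.Q.map ((flatCover X).ψ.app N)) ≫ c.app N) := by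
    refine (congrArg (fun t => IsIso t) w).mpr ?_
    exact inferInstanceAs (IsIso (c.app _ ≫ (DCoh.tensorCxQ E).map _))
  exact IsIso.of_isIso_comp_left ((DCoh.LTensorCx E).map
    (DerivedCategory.Q.map ((flatCover X).ψ.app N))) _

/-- `(- ⊗^L K) ⊗^L L ≅ - ⊗^L (K ⊗ L)` for K-flat `L`. -/
theorem nonempty_LTensorCx_comp (K L : CochainComplex X.Modules ℤ) [DCoh.HasLTensorCx K]
    [DCoh.HasLTensorCx L] [DCoh.HasLTensorCx ((DCoh.tensorCx.obj K).obj L)] (hL : DCoh.IsKFlat L) :
    Nonempty (DCoh.LTensorCx K ⋙ DCoh.LTensorCx L ≅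
      DCoh.LTensorCx ((DCoh.tensorCx.obj K).obj L)) := by
  let KL := (DCoh.tensorCx.obj K).obj L
  let cK := (DCoh.tensorCxQ K).totalLeftDerivedCounit DerivedCategory.Q (qisX X)
  let cL := (DCoh.tensorCxQ L).totalLeftDerivedCounit DerivedCategory.Q (qisX X)
  let cKL := (DCoh.tensorCxQ KL).totalLeftDerivedCounit DerivedCategory.Q (qisX X)
  let Φ : DerivedCategory.Q ⋙ DCoh.LTensorCx K ⋙ DCoh.LTensorCx L ⟶ DCoh.tensorCxQ KL :=
    (Functor.associator _ _ _).inv ≫ Functor.whiskerRight cK (DCoh.LTensorCx L) ≫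
      (Functor.associator _ _ _).hom ≫ Functor.whiskerLeft (DCoh.tensorCx.flip.obj K) cL ≫
      (Functor.associator _ _ _).inv ≫ Functor.whiskerRight (tensorCxFlipCompIso K L).hom _
  let γ := Functor.leftDerivedLift (DCoh.LTensorCx KL) cKL (qisX X)
    (DCoh.LTensorCx K ⋙ DCoh.LTensorCx L) Φ
  have hγ : ∀ N, DCoh.IsKFlat N → IsIso (γ.app (DerivedCategory.Q.obj N)) := fun N hN => by
    haveI : IsIso (Φ.app N) := by
      haveI : IsIso (cK.app N) := isIso_LTensorCx_counit K hN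
      haveI : IsIso (cL.app ((DCoh.tensorCx.flip.obj K).obj N)) :=
        isIso_LTensorCx_counit_of_isKFlat_right L hL _
      simp only [Φ, NatTrans.comp_app, Functor.associator_inv_app, Functor.associator_hom_app,
        Functor.whiskerRight_app, Functor.whiskerLeft_app]
      infer_instance
    haveI : IsIso (cKL.app N) := isIso_LTensorCx_counit KL hN
    haveI : IsIso (γ.app (DerivedCategory.Q.obj N) ≫ cKL.app N) := by
      rw [Functor.leftDerived_fac_app]
      infer_instance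
    exact IsIso.of_isIso_comp_right _ (cKL.app N)
  haveI : ∀ C, IsIso (γ.app C) := fun C => by
    obtain ⟨N, hN, ⟨e⟩⟩ := exists_kFlat_rep C
    haveI := hγ N hN
    exact (NatTrans.isIso_app_iff_of_iso γ e).1 inferInstance
  haveI := NatIso.isIso_of_isIso_app γ
  exact ⟨asIso γ⟩

/-- `RHom(K ⊗ L, -) ≅ RHom(K, RHom(L, -))` for K-flat `L`. -/
theorem nonempty_RSheafHom_comp (K L : CochainComplex X.Modules ℤ) (hL : DCoh.IsKFlat L)
    [DCoh.HasLTensorCx K] [DCoh.HasRSheafHom K] [DCoh.HasLTensorCx L] [DCoh.HasRSheafHom L]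
    [DCoh.HasLTensorCx ((DCoh.tensorCx.obj K).obj L)]
    [DCoh.HasRSheafHom ((DCoh.tensorCx.obj K).obj L)] :
    Nonempty (DCoh.RSheafHom ((DCoh.tensorCx.obj K).obj L) ≅
      DCoh.RSheafHom L ⋙ DCoh.RSheafHom K) := by
  obtain ⟨e⟩ := nonempty_LTensorCx_comp K L hL
  exact ⟨(DCoh.RSheafHomAdj _).rightAdjointUniq
    (((DCoh.RSheafHomAdj K).comp (DCoh.RSheafHomAdj L)).ofNatIsoLeft e)⟩

end Groth.Agent.KFlatLib
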