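import Groth.Agent.KFlatLib.Scheme.Exact
import Groth.Agent.TriCat.GrothInst
import Groth.Agent.TriCat.KInjRes

/-!
# The category of modules on a scheme is Grothendieck abelian
-/

universe u

open CategoryTheory CategoryTheory.Limits AlgebraicGeometry

namespace Groth.Agent.KFlatLib

/-- A left adjoint of a faithful functor maps a separator to a separator. -/
lemma hasSeparator_of_adjunction {C D : Type*} [Category C] [Category D] [HasSeparator C]
    {F : C ⥤ D} {G : D ⥤ C} (adj : F ⊣ G) [G.Faithful] : HasSeparator D := by
  refine ⟨⟨F.obj (separator C), (isSeparator_def _).2 fun X Y f g hfg => G.map_injective ?_⟩⟩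
  refine (isSeparator_def _).1 (isSeparator_separator C) _ _ fun h => ?_
  apply (adj.homEquiv _ _).symm.injective
  rw [adj.homEquiv_naturality_right_symm, adj.homEquiv_naturality_right_symm]
  exact hfg _

instance isGrothendieckAbelian_modules (X : Scheme.{u}) : IsGrothendieckAbelian.{u} X.Modules where
  ab5OfSize := ⟨fun J _ _ => hasExactColimitsOfShape X J⟩
  hasSeparator := by
    haveI : (PresheafOfModules.restrictScalars.{u} (𝟙 X.ringCatSheaf.obj)).Faithful := inferInstance
    haveI : (SheafOfModules.forget.{u} X.ringCatSheaf ⋙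
        PresheafOfModules.restrictScalars.{u} (𝟙 X.ringCatSheaf.obj)).Faithful := Functor.Faithful.comp _ _
    exact @hasSeparator_of_adjunction _ _ _ _ _ _ _
      (PresheafOfModules.sheafificationAdjunction (𝟙 X.ringCatSheaf.obj)) (by assumption)

lemma exists_kInjective_res {X : Scheme.{u}} (K : CochainComplex X.Modules ℤ) :
    ∃ (I : CochainComplex X.Modules ℤ) (f : K ⟶ I), I.IsKInjective ∧ QuasiIso f := by
  obtain ⟨I, f, hI, hf, -, -⟩ := Groth.Agent.TriCat.exists_kInjective_resolution'.{u} K
  exact ⟨I, f, hI, hf⟩

end Groth.Agent.KFlatLib
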