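import Groth.Agent.KFlatLib.InnerGen
import Groth.Agent.KFlatLib.Scheme.TensorAssoc
import Groth.Agent.KFlatLib.Scheme.Grothendieck

/-!
# An internal hom of complexes of sheaves of modules computing `RSheafHom`
-/

set_option linter.style.haveILetI false
set_option backward.isDefEq.respectTransparency false

universe u

open CategoryTheory CategoryTheory.Limits AlgebraicGeometry

attribute [local instance] HasDerivedCategory.standard

namespace Groth.Agent.KFlatLib

variable {X : Scheme.{u}}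

instance preservesColimitsOfSize_tensorBi_flip (M : X.Modules) :
    PreservesColimitsOfSize.{u, u} ((DCoh.tensorBi (X := X)).flip.obj M) := ⟨fun {_} _ => inferInstance⟩

/-- The internal hom of complexes of sheaves of modules. -/
scoped notation:max "iHom" => Groth.Agent.KFlatLib.Inner.innerHom DCoh.tensorBi

/-- `- ⊗ P ⊣ iHom P`. -/
scoped notation:max "iHomAdj" => Groth.Agent.KFlatLib.Inner.innerAdj DCoh.tensorBi

/-- Contravariance of `iHom`. -/
scoped notation:max "iHomMap" => Groth.Agent.KFlatLib.Inner.innerMap DCoh.tensorBi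

/-- `iHom(-, I)` inverts quasi-isomorphisms. -/
theorem quasiIso_iHomMap {P P' : CochainComplex X.Modules ℤ} (g : P ⟶ P') [QuasiIso g]
    (I : CochainComplex X.Modules ℤ) [∀ n, Injective (I.X n)] [I.IsKInjective] :
    QuasiIso ((iHomMap g).app I) :=
  Inner.quasiIso_innerMap (flatCover X) flatObj_flatCover (tensorBiFlipIso X) g I

/-- `iHom(P, I)` is K-injective for K-flat `P`. -/
theorem isKInjective_iHom {P : CochainComplex X.Modules ℤ} (hP : DCoh.IsKFlat P)
    (I : CochainComplex X.Modules ℤ) [I.IsKInjective] [∀ n, Injective (I.X n)] :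
    ((iHom P).obj I).IsKInjective :=
  Inner.isKInjective_innerHom (DCoh.tensorBi (X := X)) (kFlat_iff_isKFlat.2 hP) I

/-- `- ⊗^L E` only depends on `E` up to quasi-isomorphism. -/
theorem nonempty_LTensorCx_congr {P E : CochainComplex X.Modules ℤ} (α : P ⟶ E) [QuasiIso α]
    [DCoh.HasLTensorCx P] [DCoh.HasLTensorCx E] :
    Nonempty (DCoh.LTensorCx P ≅ DCoh.LTensorCx E) := by
  let cP := (DCoh.tensorCxQ P).totalLeftDerivedCounit DerivedCategory.Q (qisX X)
  let cE := (DCoh.tensorCxQ E).totalLeftDerivedCounit DerivedCategory.Q (qisX X)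
  let Φ : DerivedCategory.Q ⋙ DCoh.LTensorCx P ⟶ DCoh.tensorCxQ E :=
    cP ≫ Functor.whiskerRight (DCoh.tensorCx.flip.map α) DerivedCategory.Q
  let γ := Functor.leftDerivedLift (DCoh.LTensorCx E) cE (qisX X) (DCoh.LTensorCx P) Φ
  have hγ : ∀ N, DCoh.IsKFlat N → IsIso (γ.app (DerivedCategory.Q.obj N)) := fun N hN => by
    haveI : IsIso (Φ.app N) := by
      haveI : IsIso (cP.app N) := isIso_LTensorCx_counit P hN
      haveI : QuasiIso ((DCoh.tensorCx.obj N).map α) :=
        (kFlat_iff_isKFlat.2 hN).quasiIso_map' (tensorBiFlipIso X) α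
      haveI : IsIso ((Functor.whiskerRight (DCoh.tensorCx.flip.map α) DerivedCategory.Q).app N) :=
        isIso_Q_map _ (by assumption)
      simp only [Φ, NatTrans.comp_app]
      exact IsIso.comp_isIso' ‹_› ‹_›
    haveI : IsIso (cE.app N) := isIso_LTensorCx_counit E hN
    haveI : IsIso (γ.app (DerivedCategory.Q.obj N) ≫ cE.app N) := by
      rw [Functor.leftDerived_fac_app]
      infer_instance
    exact IsIso.of_isIso_comp_right _ (cE.app N)
  haveI : ∀ C, IsIso (γ.app C) := fun C => by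
    obtain ⟨N, hN, ⟨e⟩⟩ := exists_kFlat_rep C
    haveI := hγ N hN
    exact (NatTrans.isIso_app_iff_of_iso γ e).1 inferInstance
  haveI := NatIso.isIso_of_isIso_app γ
  exact ⟨asIso γ⟩

/-- `RHom(P, Q I) = Q iHom(P, I)` for K-flat `P`. -/
theorem nonempty_RSheafHom_iso_of_isKFlat (P : CochainComplex X.Modules ℤ) (hP : DCoh.IsKFlat P)
    [DCoh.HasLTensorCx P] [DCoh.HasRSheafHom P]
    (I : CochainComplex X.Modules ℤ) [I.IsKInjective] [∀ n, Injective (I.X n)] :
    Nonempty ((DCoh.RSheafHom P).obj (DerivedCategory.Q.obj I) ≅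
      DerivedCategory.Q.obj ((iHom P).obj I)) := by
  let A := (iHom P).obj I
  let c := (DCoh.tensorCxQ P).totalLeftDerivedCounit DerivedCategory.Q (qisX X)
  haveI := fun N => isIso_LTensorCx_counit_of_isKFlat_right P hP N
  haveI := isKInjective_iHom hP I
  let adj := DCoh.RSheafHomAdj P
  let cmp : DerivedCategory.Q.obj A ⟶ (DCoh.RSheafHom P).obj (DerivedCategory.Q.obj I) :=
    adj.homEquiv _ _ (c.app A ≫ DerivedCategory.Q.map ((iHomAdj P).counit.app I))
  have key : ∀ (N : CochainComplex X.Modules ℤ) (g : N ⟶ A),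
      (adj.homEquiv _ _).symm (DerivedCategory.Q.map g ≫ cmp) =
        c.app N ≫ DerivedCategory.Q.map (((iHomAdj P).homEquiv N I).symm g) := fun N g => by
    refine (Equiv.symm_apply_eq _).2 ?_
    refine (adj.homEquiv_naturality_left _ _).symm.trans (congrArg _ ?_)
    refine Eq.trans ?_ (congrArg (fun z => c.app N ≫ DerivedCategory.Q.map z)
      ((iHomAdj P).homEquiv_counit N I g).symm)
    refine Eq.trans ?_ (congrArg (c.app N ≫ ·) (DerivedCategory.Q.map_comp _ _).symm)
    exact ((Category.assoc _ _ _).symm.trans (congrArg (· ≫ _) (c.naturality g))).trans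
      (Category.assoc _ _ _)
  haveI : IsIso cmp := by
    refine isIso_of_yoneda_map_bijective _ fun Z => ?_
    obtain ⟨N, hN, ⟨e⟩⟩ := exists_kFlat_rep Z
    suffices h : Function.Bijective (fun a : DerivedCategory.Q.obj N ⟶ DerivedCategory.Q.obj A => a ≫ cmp) by
      refine ⟨fun z z' hz => (cancel_epi e.hom).1 (h.1 ?_), fun y => ?_⟩
      · simp only [Category.assoc] at hz ⊢
        exact congrArg (e.hom ≫ ·) hz
      · obtain ⟨z, hz⟩ := h.2 (e.hom ≫ y)
        refine ⟨e.inv ≫ z, ?_⟩
        change (e.inv ≫ z) ≫ _ = y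
        simp only [Category.assoc] at hz ⊢
        exact (congrArg (e.inv ≫ ·) hz).trans (Iso.inv_hom_id_assoc e y)
    refine ⟨fun a a' h => ?_, fun y => ?_⟩
    · obtain ⟨g, rfl⟩ := exists_Q_map a
      obtain ⟨g', rfl⟩ := exists_Q_map a'
      have h' := congrArg (adj.homEquiv (DerivedCategory.Q.obj N) _).symm h
      simp only [key] at h'
      obtain ⟨H⟩ := (Inner.nonempty_homotopy_iff (DCoh.tensorBi (X := X)) g g').2
        (homotopy_of_Q_map_eq _ _ ((cancel_epi (c.app N)).1 h'))
      exact DerivedCategory.Q_map_eq_of_homotopy _ H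
    · obtain ⟨b, hb⟩ := exists_Q_map (inv (c.app N) ≫ (adj.homEquiv _ _).symm y)
      refine ⟨DerivedCategory.Q.map ((iHomAdj P).homEquiv N I b), (adj.homEquiv _ _).symm.injective ?_⟩
      rw [key, Equiv.symm_apply_apply, hb]
      exact IsIso.hom_inv_id_assoc (c.app N) _
  exact ⟨(asIso cmp).symm⟩

/-- `RHom(E, Q I) = Q iHom(E, I)`. -/
theorem nonempty_RSheafHom_iso (E : CochainComplex X.Modules ℤ) [DCoh.HasLTensorCx E]
    [DCoh.HasRSheafHom E] (I : CochainComplex X.Modules ℤ) [I.IsKInjective] [∀ n, Injective (I.X n)] :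
    Nonempty ((DCoh.RSheafHom E).obj (DerivedCategory.Q.obj I) ≅
      DerivedCategory.Q.obj ((iHom E).obj I)) := by
  let P := (kRes X).obj E
  haveI := (flatCover X).quasiIso_ψ E
  haveI := hasLTensorCx P
  obtain ⟨e⟩ := nonempty_LTensorCx_congr (P := P) (E := E) ((flatCover X).ψ.app E)
  haveI : DCoh.HasRSheafHom P := ((DCoh.RSheafHomAdj E).ofNatIsoLeft e.symm).isLeftAdjoint
  let eR : DCoh.RSheafHom E ≅ DCoh.RSheafHom P :=
    ((DCoh.RSheafHomAdj E).ofNatIsoLeft e.symm).rightAdjointUniq (DCoh.RSheafHomAdj P)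
  obtain ⟨e'⟩ := nonempty_RSheafHom_iso_of_isKFlat P (isKFlat_kRes E) I
  haveI := quasiIso_iHomMap ((flatCover X).ψ.app E) I
  haveI := isIso_Q_map ((iHomMap ((flatCover X).ψ.app E)).app I) inferInstance
  exact ⟨eR.app _ ≪≫ e' ≪≫ (asIso (DerivedCategory.Q.map ((iHomMap ((flatCover X).ψ.app E)).app I))).symm⟩

/-- Every object of `D(X)` has a K-injective representative with injective terms. -/
theorem exists_kInjective_rep (L : DCoh.D X) :
    ∃ (I : CochainComplex X.Modules ℤ), I.IsKInjective ∧ (∀ n, Injective (I.X n)) ∧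
      Nonempty (L ≅ DerivedCategory.Q.obj I) := by
  obtain ⟨I, f, hI, hf, -, hinj⟩ :=
    Groth.Agent.TriCat.exists_kInjective_resolution'.{u} (DerivedCategory.Q.objPreimage L)
  haveI := isIso_Q_map f hf
  exact ⟨I, hI, hinj, ⟨(DerivedCategory.Q.objObjPreimageIso L).symm ≪≫ asIso (DerivedCategory.Q.map f)⟩⟩

end Groth.Agent.KFlatLib
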