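import Groth.Agent.KFlatLib.Scheme.ExtZero
import Groth.Agent.KFlatLib.Scheme.InnerHom
import Groth.Agent.KFlatLib.Perfect.DLocal
import Groth.Agent.KFlatLib.InnerProj

/-!
# The internal hom commutes with restriction to opens
-/

set_option linter.style.haveILetI false
set_option backward.isDefEq.respectTransparency false

universe u

open CategoryTheory CategoryTheory.Limits AlgebraicGeometry

attribute [local instance] HasDerivedCategory.standard

namespace Groth.Agent.KFlatLib

variable {U X : Scheme.{u}} (j : U ⟶ X) [IsOpenImmersion j]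

/-- Extension by zero of complexes. -/
noncomputable abbrev lshCx : CochainComplex U.Modules ℤ ⥤ CochainComplex X.Modules ℤ :=
  mapCx (lsh j)

/-- Extension by zero of complexes is left adjoint to restriction. -/
noncomputable abbrev lshCxAdj : lshCx j ⊣ rCx j := adjCx (lshAdj j) (ComplexShape.up ℤ)

/-- `iHom` commutes with restriction. -/
theorem nonempty_iHomRestrictIso (P : CochainComplex X.Modules ℤ) :
    Nonempty (iHom P ⋙ rCx j ≅ rCx j ⋙ iHom ((rCx j).obj P)) :=
  ⟨Inner.innerHomProjIso (Ψ := lsh j) (R := Scheme.Modules.restrictFunctor j) (T := DCoh.tensorBi (X := U))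
    (S := DCoh.tensorBi (X := X)) (projIso j) (lshCx j) rfl (rCx j) rfl (lshCxAdj j) P⟩

/-- Restriction preserves injective terms. -/
lemma injective_rCx (I : CochainComplex X.Modules ℤ) [∀ n, Injective (I.X n)] (n : ℤ) :
    Injective (((rCx j).obj I).X n) :=
  Injective.injective_of_adjoint (lshAdj j) (I.X n)

/-- Restriction preserves K-injectivity. -/
lemma isKInjective_rCx (I : CochainComplex X.Modules ℤ) [I.IsKInjective] :
    ((rCx j).obj I).IsKInjective where
  nonempty_homotopy_zero {K} g hK := by
    have hK' : ((lshCx j).obj K).Acyclic := fun i => (hK i).map (lsh j)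
    obtain ⟨h⟩ := CochainComplex.IsKInjective.nonempty_homotopy_zero
      (((lshCxAdj j).homEquiv K I).symm g) hK'
    refine ⟨(Homotopy.ofEq ?_).trans ((((Scheme.Modules.restrictFunctor j).mapHomotopy h).compLeft
      ((lshCxAdj j).unit.app K)).trans (Homotopy.ofEq (by rw [Functor.map_zero, comp_zero])))⟩
    exact ((lshCxAdj j).homEquiv_unit _ _ _).symm.trans ((lshCxAdj j).homEquiv K I |>.apply_symm_apply g) |>.symm

end Groth.Agent.KFlatLib
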