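import Groth.Agent.KFlatLib.Scheme.RpushQCoh
import Groth.Agent.KFlatLib.Scheme.RestrictHom
import Groth.Agent.H23.PullPush

/-!
# `Rf_*` commutes with restriction to an open
-/

set_option linter.style.haveILetI false
set_option backward.isDefEq.respectTransparency false

universe u

open CategoryTheory CategoryTheory.Limits AlgebraicGeometry

attribute [local instance] HasDerivedCategory.standard

namespace Groth.Agent.KFlatLib

variable {X Y : Scheme.{u}} (f : X ⟶ Y) (V : Y.Opens)
    [PreservesFiniteLimits (Scheme.Modules.restrictFunctor V.ι)]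
    [PreservesFiniteLimits (Scheme.Modules.restrictFunctor (f ⁻¹ᵁ V).ι)]

/-- `f_*` commutes with restriction, on modules. -/
noncomputable def pushRestrictIso :
    Scheme.Modules.pushforward f ⋙ Scheme.Modules.restrictFunctor V.ι ≅
      Scheme.Modules.restrictFunctor (f ⁻¹ᵁ V).ι ⋙ Scheme.Modules.pushforward (f ∣_ V) :=
  haveI := NatIso.isIso_of_isIso_app (H23.PullPush.pushRestrict f V)
  asIso (H23.PullPush.pushRestrict f V)

/-- `f_*` on the homotopy category, followed by restriction. -/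
noncomputable def pushKhRestrictIso :
    DCoh.pushKh f ⋙ DCoh.restrictD V.ι ≅
      (Scheme.Modules.restrictFunctor (f ⁻¹ᵁ V).ι).mapHomotopyCategory (ComplexShape.up ℤ) ⋙
        DCoh.pushKh (f ∣_ V) :=
  let c := ComplexShape.up ℤ
  Functor.associator _ _ _ ≪≫
    Functor.isoWhiskerLeft _ (Scheme.Modules.restrictFunctor V.ι).mapDerivedCategoryFactorsh ≪≫
    (Functor.associator _ _ _).symm ≪≫
    Functor.isoWhiskerRight (Functor.mapHomotopyCategoryCompIso (pushRestrictIso f V) c ≪≫
      (Functor.mapHomotopyCategoryCompIso (Iso.refl (Scheme.Modules.restrictFunctor (f ⁻¹ᵁ V).ι ⋙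
        Scheme.Modules.pushforward (f ∣_ V))) c).symm) DerivedCategory.Qh ≪≫
    Functor.associator _ _ _

/-- `Rf_*` commutes with restriction to an open. -/
theorem nonempty_rpush_restrictD_iso [DCoh.HasRpush f] [DCoh.HasRpush (f ∣_ V)] :
    Nonempty (DCoh.Rpush f ⋙ DCoh.restrictD V.ι ≅ DCoh.restrictD (f ⁻¹ᵁ V).ι ⋙ DCoh.Rpush (f ∣_ V)) := by
  haveI := TriCat.qh_isLeftAdjoint_of_exists_resolution (A := X.Modules) exists_kInjective_res
  let adjQ := Adjunction.ofIsLeftAdjoint (DerivedCategory.Qh (C := X.Modules))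
  let ρ := (DerivedCategory.Qh (C := X.Modules)).rightAdjoint
  let W := HomotopyCategory.quasiIso X.Modules (ComplexShape.up ℤ)
  haveI : (ρ ⋙ DCoh.pushKh f).IsRightDerivedFunctor
      (Functor.whiskerRight adjQ.unit (DCoh.pushKh f)) W :=
    TriCat.isRightDerivedFunctor_of_adjunction adjQ W (DCoh.pushKh f)
  let e : ρ ⋙ DCoh.pushKh f ≅ DCoh.Rpush f :=
    Functor.rightDerivedUnique _ _ (Functor.whiskerRight adjQ.unit (DCoh.pushKh f))
      ((DCoh.pushKh f).totalRightDerivedUnit DerivedCategory.Qh W) W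
  let R := Scheme.Modules.restrictFunctor (f ⁻¹ᵁ V).ι
  let K := R.mapHomotopyCategory (ComplexShape.up ℤ)
  let β := (DCoh.pushKh (f ∣_ V)).totalRightDerivedUnit DerivedCategory.Qh
    (HomotopyCategory.quasiIso (↑(f ⁻¹ᵁ V) : Scheme.{u}).Modules (ComplexShape.up ℤ))
  let γ : (ρ ⋙ K) ⋙ DerivedCategory.Qh ⟶ DCoh.restrictD (f ⁻¹ᵁ V).ι :=
    (Functor.associator _ _ _).hom ≫ Functor.whiskerLeft ρ R.mapDerivedCategoryFactorsh.inv ≫
      (Functor.associator _ _ _).inv ≫ Functor.whiskerRight adjQ.counit R.mapDerivedCategory ≫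
      (Functor.leftUnitor _).hom
  let δ : ρ ⋙ K ⋙ DCoh.pushKh (f ∣_ V) ⟶ DCoh.restrictD (f ⁻¹ᵁ V).ι ⋙ DCoh.Rpush (f ∣_ V) :=
    (Functor.associator _ _ _).inv ≫ Functor.whiskerLeft (ρ ⋙ K) β ≫ (Functor.associator _ _ _).inv ≫
      Functor.whiskerRight γ (DCoh.Rpush (f ∣_ V))
  haveI : ∀ E, IsIso (δ.app E) := fun E => by
    obtain ⟨I, s, hI, hs⟩ := exists_kInjective_res (DerivedCategory.Q.objPreimage E)
    haveI := hs
    let qI := (HomotopyCategory.quotient X.Modules (ComplexShape.up ℤ)).obj I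
    let i : DerivedCategory.Qh.obj qI ≅ E :=
      (DerivedCategory.quotientCompQhIso X.Modules).app I ≪≫
        (asIso (DerivedCategory.Q.map s)).symm ≪≫ DerivedCategory.Q.objObjPreimageIso E
    refine (NatTrans.isIso_app_iff_of_iso δ i).1 ?_
    haveI : IsIso (adjQ.unit.app qI) := by
      refine isIso_iff_yoneda_map_bijective _ |>.2 fun A => ?_
      have hb := ((adjQ.homEquiv A (DerivedCategory.Qh.obj qI)).bijective).comp
        (CochainComplex.IsKInjective.Qh_map_bijective A I)
      have h : (fun φ : A ⟶ qI => φ ≫ adjQ.unit.app qI) =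
          (adjQ.homEquiv A (DerivedCategory.Qh.obj qI)) ∘ DerivedCategory.Qh.map :=
        funext fun φ => (adjQ.unit.naturality φ).trans (adjQ.homEquiv_unit ..).symm
      exact h ▸ hb
    haveI : IsIso (adjQ.counit.app (DerivedCategory.Qh.obj qI)) :=
      IsIso.of_isIso_fac_left (adjQ.left_triangle_components qI)
    haveI := isKInjective_rCx (f ⁻¹ᵁ V).ι I
    have h1 := isIso_unit_of_kInjective (f ∣_ V) ((rCx (f ⁻¹ᵁ V).ι).obj I)
    haveI : IsIso (β.app (K.obj (ρ.obj (DerivedCategory.Qh.obj qI)))) :=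
      (NatTrans.isIso_app_iff_of_iso β
        (((R.mapHomotopyCategoryFactors (ComplexShape.up ℤ)).app I).symm ≪≫
          K.mapIso (asIso (adjQ.unit.app qI)))).1 h1
    haveI : IsIso (γ.app (DerivedCategory.Qh.obj qI)) := by
      simp only [γ, NatTrans.comp_app, Functor.whiskerLeft_app, Functor.whiskerRight_app,
        Functor.associator_hom_app, Functor.associator_inv_app, Functor.leftUnitor_hom_app]
      refine IsIso.comp_isIso' (Iso.refl _).isIso_hom (IsIso.comp_isIso' ?_
        (IsIso.comp_isIso' (Iso.refl _).isIso_hom (IsIso.comp_isIso' ?_ (Iso.refl _).isIso_hom)))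
      · exact (R.mapDerivedCategoryFactorsh.symm.app (ρ.obj (DerivedCategory.Qh.obj qI))).isIso_hom
      · exact Functor.map_isIso R.mapDerivedCategory _
    simp only [δ, NatTrans.comp_app, Functor.whiskerLeft_app, Functor.whiskerRight_app,
      Functor.associator_inv_app, Functor.comp_obj]
    infer_instance
  haveI := NatIso.isIso_of_isIso_app δ
  exact ⟨Functor.isoWhiskerRight e.symm (DCoh.restrictD V.ι) ≪≫ Functor.associator _ _ _ ≪≫
    Functor.isoWhiskerLeft ρ (pushKhRestrictIso f V) ≪≫ asIso δ⟩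

end Groth.Agent.KFlatLib
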