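import Groth.Agent.KFlatLib.Scheme.RHomLocal

/-!
# Devissage of properties of complexes that are local at an open, at perfect complexes

A property `Φ` of complexes on `X` which is invariant under maps becoming quasi-isomorphisms on an
open `U`, holds of zero, is stable under termwise split extensions and holds of the shifts of the
structure module, holds of every complex which is perfect on a small enough `U`.
-/

set_option linter.style.haveILetI false
set_option backward.isDefEq.respectTransparency false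

universe u

open CategoryTheory CategoryTheory.Limits AlgebraicGeometry TopologicalSpace

attribute [local instance] HasDerivedCategory.standard

namespace Groth.Agent.KFlatLib

variable {X : Scheme.{u}}

/-- The structure module restricts to the structure module. -/
noncomputable def restrictStructureIso {U : Scheme.{u}} (j : U ⟶ X) [IsOpenImmersion j] :
    (Scheme.Modules.restrictFunctor j).obj (Coh.structureModule X) ≅ Coh.structureModule U :=
  let φ := j.toRingCatSheafHom
  let e : (Scheme.Modules.pullback j).obj (Coh.structureModule X) ⟶ Coh.structureModule U :=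
    SheafOfModules.pullbackObjUnitToUnit φ
  haveI : IsIso e := inferInstanceAs (IsIso (SheafOfModules.pullbackObjUnitToUnit φ))
  (Scheme.Modules.restrictFunctorIsoPullback j).app _ ≪≫ asIso e

/-- A flat module placed in one degree has flat terms. -/
lemma isFlat_single (n : ℤ) {M : X.Modules} (hM : FlatMod.IsFlat M) (i : ℤ) :
    FlatMod.IsFlat (((HomologicalComplex.single X.Modules (ComplexShape.up ℤ) n).obj M).X i) := by
  by_cases h : i = n
  · exact IsFlat.of_iso (HomologicalComplex.singleObjXIsoOfEq (ComplexShape.up ℤ) n M i h).symm hM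
  · exact IsFlat.of_iso (isZero_freeMod_zero.iso (HomologicalComplex.isZero_single_obj_X _ _ _ _ h))
      (isFlat_freeMod 0)

/-- Extension by zero preserves flatness. -/
theorem isFlat_lsh {U : Scheme.{u}} (j : U ⟶ X) [IsOpenImmersion j] {M : U.Modules}
    (hM : FlatMod.IsFlat M) : FlatMod.IsFlat ((lsh j).obj M) := fun x => by
  by_cases hx : x ∈ Set.range j.base
  · obtain ⟨y, rfl⟩ := hx
    have h : FlatMod.IsFlat ((Scheme.Modules.pullback j).obj ((lsh j).obj M)) :=
      IsFlat.of_iso ((asIso (lshAdj j).unit).app M ≪≫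
        (Scheme.Modules.restrictFunctorIsoPullback j).app _) hM
    letI := (j.stalkMap y).hom.toAlgebra
    haveI : Module.Flat (U.presheaf.stalk y) (TensorProduct (X.presheaf.stalk (j.base y))
        (U.presheaf.stalk y) ((DerSch.stalkFunctor X (j.base y)).obj ((lsh j).obj M) : Type u)) :=
      (Module.Flat.equiv_iff ((stalkPullbackIso j y).app ((lsh j).obj M)).toLinearEquiv).1 (h y)
    exact flat_of_extendScalars (R := X.presheaf.stalk (j.base y))
      (S := U.presheaf.stalk y) (ConcreteCategory.bijective_of_isIso (j.stalkMap y))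
      ((DerSch.stalkFunctor X (j.base y)).obj ((lsh j).obj M) : Type u)
  · haveI := ModuleCat.subsingleton_of_isZero (isZero_stalk_lsh j x hx M)
    change Module.Flat (X.presheaf.stalk x) ((DerSch.stalkFunctor X x).obj ((lsh j).obj M) : Type u)
    infer_instance

/-- Devissage along bounded complexes of free modules, in the category of complexes. -/
theorem cx_devissage (Ψ : ObjectProperty (CochainComplex X.Modules ℤ)) [Ψ.IsClosedUnderIsomorphisms]
    (h0 : ∀ P, IsZero P → Ψ P)
    (h2 : ∀ S : ShortComplex (CochainComplex X.Modules ℤ),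
      (∀ n, Nonempty (S.map (HomologicalComplex.eval _ _ n)).Splitting) →
        (∀ i, FlatMod.IsFlat (S.X₃.X i)) → Ψ S.X₁ → Ψ S.X₃ → Ψ S.X₂)
    (h1 : ∀ j : ℤ, Ψ ((HomologicalComplex.single X.Modules (ComplexShape.up ℤ) j).obj
      (Coh.structureModule X))) (a : ℤ) :
    ∀ (m : ℕ) (P : CochainComplex X.Modules ℤ), (∀ i : ℤ, (i < a ∨ a + m ≤ i) → IsZero (P.X i)) →
      (∀ i, ∃ n, Nonempty (P.X i ≅ FlatMod.freeMod X n)) → Ψ P
  | 0, P, hz, _ => h0 P ((IsZero.iff_id_eq_zero _).2 (HomologicalComplex.hom_ext _ _ fun i =>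
        (hz i (by omega)).eq_of_src _ _))
  | m + 1, P, hz, hf => by
    have hle := isStrictlyLE_sigmaSES_X₃ P (a + m)
    rw [CochainComplex.isStrictlyLE_iff] at hle
    have hse := fun n => (sigmaSES_shortExact P (a + m)).map_of_exact
      (HomologicalComplex.eval X.Modules (ComplexShape.up ℤ) n)
    have hX₁ : ∀ i, i < a + m → IsZero ((sigmaSES P (a + m)).X₁.X i) := fun i hi =>
      isZero_stupidTrunc_of_lt P (a + m) i hi
    have hsplit : ∀ n, Nonempty ((sigmaSES P (a + m)).map (HomologicalComplex.eval _ _ n)).Splitting := by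
      intro n
      by_cases h : n < a + m
      · exact ⟨splittingOfIsZero₁ (hX₁ n h) ((hse n).isIso_g_iff.2 (hX₁ n h))⟩
      · exact ⟨splittingOfIsZero₃ (hle n (by omega)) ((hse n).isIso_f_iff.2 (hle n (by omega)))⟩
    have hsingle : ∀ n : ℕ, Ψ ((HomologicalComplex.single X.Modules (ComplexShape.up ℤ) (a + m)).obj
        (FlatMod.freeMod X n)) := by
      intro n
      induction n with
      | zero => exact h0 _ (Functor.map_isZero _ isZero_freeMod_zero)
      | succ n ih =>
        let F := HomologicalComplex.single X.Modules (ComplexShape.up ℤ) (a + m)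
        haveI := preservesBinaryBiproducts_of_preservesBinaryCoproducts F
        refine Ψ.prop_of_iso (F.mapIso (biprodFreeIso n 1)) ?_
        let S : ShortComplex X.Modules :=
          ShortComplex.mk (biprod.inl : FlatMod.freeMod X n ⟶ FlatMod.freeMod X n ⊞ FlatMod.freeMod X 1)
            biprod.snd biprod.inl_snd
        let σ : S.Splitting := ShortComplex.Splitting.ofHasBinaryBiproduct _ _
        exact h2 (S.map F) (fun k => ⟨(σ.map F).map (HomologicalComplex.eval _ _ k)⟩)
          (fun i => isFlat_single (a + m) (isFlat_freeMod 1) i) ih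
          (Ψ.prop_of_iso (F.mapIso (coproductUniqueIso (fun _ : Fin 1 => Coh.structureModule X)).symm)
            (h1 _))
    have hflat : ∀ i, FlatMod.IsFlat ((sigmaSES P (a + m)).X₃.X i) := fun i => by
      by_cases h : i < a + m
      · obtain ⟨e⟩ := nonempty_sigmaSES_X₃_iso P (a + m) i h
        obtain ⟨n, ⟨e'⟩⟩ := hf i
        exact IsFlat.of_iso (e.symm ≪≫ e').symm (isFlat_freeMod n)
      · exact IsFlat.of_iso (isZero_freeMod_zero.iso (hle i (by omega))) (isFlat_freeMod 0)
    refine h2 (sigmaSES P (a + m)) hsplit hflat ?_ ?_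
    · have hX₁' : ∀ i, i ≠ a + m → IsZero ((sigmaSES P (a + m)).X₁.X i) := fun i hi => by
        by_cases h : i < a + m
        · exact hX₁ i h
        · haveI := (hse i).mono_f
          exact IsZero.of_mono ((sigmaSES P (a + m)).map (HomologicalComplex.eval _ _ i)).f
            (hz i (by omega))
      obtain ⟨n, ⟨e⟩⟩ := hf (a + m)
      haveI : IsIso ((sigmaSES P (a + m)).f.f (a + m)) :=
        (hse (a + m)).isIso_f_iff.2 (hle (a + m) (by omega))
      refine Ψ.prop_of_iso ?_ (hsingle n)
      refine (HomologicalComplex.single X.Modules (ComplexShape.up ℤ) (a + m)).mapIso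
        (e.symm ≪≫ (asIso ((sigmaSES P (a + m)).f.f (a + m))).symm) ≪≫ ?_
      exact HomologicalComplex.Hom.isoOfComponents
        (fun i => if h : i = a + m then
            HomologicalComplex.singleObjXIsoOfEq (ComplexShape.up ℤ) (a + m) _ i h ≪≫
              ((sigmaSES P (a + m)).X₁.XIsoOfEq h).symm
          else (HomologicalComplex.isZero_single_obj_X _ _ _ _ h).iso (hX₁' i h))
        (fun i k hik => by
          by_cases h : i = a + m
          · exact (hX₁' k (by change i + 1 = k at hik; omega)).eq_of_tgt _ _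
          · exact (HomologicalComplex.isZero_single_obj_X _ _ _ _ h).eq_of_src _ _)
    · refine cx_devissage Ψ h0 h2 h1 a m _ (fun i hi => ?_) (fun i => ?_)
      · rcases hi with hi | hi
        · haveI := (hse i).epi_g
          exact IsZero.of_epi ((sigmaSES P (a + m)).map (HomologicalComplex.eval _ _ i)).g (hz i (Or.inl hi))
        · exact hle i (by omega)
      · by_cases h : i < a + m
        · obtain ⟨e⟩ := nonempty_sigmaSES_X₃_iso P (a + m) i h
          obtain ⟨n, ⟨e'⟩⟩ := hf i
          exact ⟨n, ⟨e.symm ≪≫ e'⟩⟩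
        · exact ⟨0, ⟨(hle i (by omega)).iso isZero_freeMod_zero⟩⟩

/-- The counit of extension by zero becomes invertible on the open. -/
lemma isIso_rCx_map_lshCx_counit {U : Scheme.{u}} (j : U ⟶ X) [IsOpenImmersion j]
    (K : CochainComplex X.Modules ℤ) : IsIso ((rCx j).map ((lshCxAdj j).counit.app K)) := by
  haveI : IsIso ((lshCxAdj j).unit.app ((rCx j).obj K)) :=
    haveI : ∀ i, IsIso (((lshCxAdj j).unit.app ((rCx j).obj K)).f i) := fun i =>
      inferInstanceAs (IsIso ((lshAdj j).unit.app _))
    HomologicalComplex.Hom.isIso_of_components _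
  haveI : IsIso ((lshCxAdj j).unit.app ((rCx j).obj K) ≫ (rCx j).map ((lshCxAdj j).counit.app K)) := by
    rw [(lshCxAdj j).right_triangle_components]
    exact IsIso.id _
  exact IsIso.of_isIso_comp_left ((lshCxAdj j).unit.app ((rCx j).obj K)) _

/-- Extension by zero of a quasi-isomorphism is one on the open. -/
lemma quasiIso_rCx_map_lshCx {U : Scheme.{u}} (j : U ⟶ X) [IsOpenImmersion j]
    {A B : CochainComplex U.Modules ℤ} (g : A ⟶ B) [QuasiIso g] :
    QuasiIso ((rCx j).map ((lshCx j).map g)) := by
  haveI : ∀ C, IsIso ((lshCxAdj j).unit.app C) := fun C =>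
    haveI : ∀ i, IsIso (((lshCxAdj j).unit.app C).f i) := fun i =>
      inferInstanceAs (IsIso ((lshAdj j).unit.app _))
    HomologicalComplex.Hom.isIso_of_components _
  exact (quasiIso_iff_of_arrow_mk_iso g ((rCx j).map ((lshCx j).map g))
    (Arrow.isoMk (asIso ((lshCxAdj j).unit.app A)) (asIso ((lshCxAdj j).unit.app B))
      ((lshCxAdj j).unit.naturality g).symm)).1 inferInstance

/-- Local devissage at a perfect complex. -/
theorem exists_devissage_of_isPerfect (K : CochainComplex X.Modules ℤ)
    (hK : DCoh.IsPerfect (DCoh.toD X K)) (x : X) :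
    ∃ (U : Scheme.{u}) (j : U ⟶ X) (_ : IsOpenImmersion j), x ∈ Set.range j.base ∧
      ∀ (Φ : ObjectProperty (CochainComplex X.Modules ℤ)),
        (∀ ⦃A B : CochainComplex X.Modules ℤ⦄ (g : A ⟶ B),
          QuasiIso ((rCx j).map g) → (Φ A ↔ Φ B)) →
        (∀ P, IsZero P → Φ P) →
        (∀ S : ShortComplex (CochainComplex X.Modules ℤ),
          (∀ n, Nonempty (S.map (HomologicalComplex.eval _ _ n)).Splitting) →
            (∀ i, FlatMod.IsFlat (S.X₃.X i)) → Φ S.X₁ → Φ S.X₃ → Φ S.X₂) →
        (∀ n : ℤ, Φ ((HomologicalComplex.single X.Modules (ComplexShape.up ℤ) n).obj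
          (Coh.structureModule X))) → Φ K := by
  obtain ⟨V, hxV, hV⟩ := hK x
  obtain ⟨E, hE, ⟨eE⟩⟩ := hV K ⟨Iso.refl _⟩
  obtain ⟨W, hxW, hW⟩ := exists_free_nhd_sp hE ⟨x, hxV⟩
  refine ⟨W, W.ι ≫ V.ι, inferInstance, ⟨⟨⟨x, hxV⟩, hxW⟩, rfl⟩, fun Φ hq h0 h2 h1 => ?_⟩
  let j := W.ι ≫ V.ι
  let P := (rCx W.ι).obj E
  haveI hΦ : Φ.IsClosedUnderIsomorphisms := ⟨fun {A B} e h =>
    (hq e.hom (haveI : IsIso ((rCx j).map e.hom) := inferInstance; inferInstance)).1 h⟩
  let eK : DerivedCategory.Q.obj ((rCx j).obj K) ≅ DerivedCategory.Q.obj P :=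
    ((rhoQ j).app K).symm ≪≫ (rhoComp W.ι V.ι j rfl _).symm ≪≫
      (rho W.ι).mapIso ((rhoQ V.ι).app K ≪≫ eE) ≪≫ (rhoQ W.ι).app E
  obtain ⟨B, s, hB, hs⟩ := exists_kInjective_res ((rCx j).obj K)
  haveI := hs
  haveI := isIso_Q_map s hs
  obtain ⟨a, ha⟩ := exists_Q_map (eK.inv ≫ DerivedCategory.Q.map s)
  haveI : QuasiIso a := by
    rw [← DerivedCategory.isIso_Q_map_iff_quasiIso (C := (W : Scheme.{u}).Modules), ha]
    infer_instance
  haveI := isIso_rCx_map_lshCx_counit j K
  refine (hq ((lshCxAdj j).counit.app K) inferInstance).1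
    ((hq ((lshCx j).map s) (quasiIso_rCx_map_lshCx j s)).2
      ((hq ((lshCx j).map a) (quasiIso_rCx_map_lshCx j a)).1 ?_))
  let Ψ : ObjectProperty (CochainComplex (W : Scheme.{u}).Modules ℤ) := fun C => Φ ((lshCx j).obj C)
  haveI : Ψ.IsClosedUnderIsomorphisms := ⟨fun e h => Φ.prop_of_iso ((lshCx j).mapIso e) h⟩
  obtain ⟨lo, hi, hab⟩ := hE.1
  refine cx_devissage Ψ (fun C hC => h0 _ (Functor.map_isZero _ hC))
    (fun S hS hF h₁ h₃ => h2 (S.map (lshCx j)) (fun n => ⟨((hS n).some.map (lsh j))⟩)
      (fun i => isFlat_lsh j (hF i)) h₁ h₃)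
    (fun n => ?_) lo ((hi + 1 - lo).toNat) P
    (fun k hk => Functor.map_isZero (Scheme.Modules.restrictFunctor W.ι) (hab k (by omega))) (fun k => hW k)
  let e₁ : (rCx j).obj ((HomologicalComplex.single X.Modules (ComplexShape.up ℤ) n).obj
      (Coh.structureModule X)) ≅
      (HomologicalComplex.single (W : Scheme.{u}).Modules (ComplexShape.up ℤ) n).obj
        (Coh.structureModule (W : Scheme.{u})) :=
    (HomologicalComplex.singleMapHomologicalComplex (Scheme.Modules.restrictFunctor j) _ n).app _ ≪≫
      (HomologicalComplex.single _ _ n).mapIso (restrictStructureIso j)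
  exact Φ.prop_of_iso ((lshCx j).mapIso e₁)
    ((hq ((lshCxAdj j).counit.app _)
      (haveI := isIso_rCx_map_lshCx_counit j ((HomologicalComplex.single X.Modules (ComplexShape.up ℤ) n).obj
        (Coh.structureModule X)); inferInstance)).2 (h1 n))

end Groth.Agent.KFlatLib
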