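import Groth.Agent.KFlatLib.Scheme.ExtZero
import Groth.Agent.QCoh.Devissage

/-!
# Modules are generated by extensions by zero of structure sheaves of opens
-/

set_option linter.style.haveILetI false
set_option backward.isDefEq.respectTransparency false
set_option backward.isDefEq.respectTransparency.types false

universe v w u

open CategoryTheory CategoryTheory.Limits AlgebraicGeometry TopologicalSpace Opposite

namespace Groth.Agent.KFlatLib

variable {X : Scheme.{u}}

/-- The index set of the generators of a module. -/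
def LshGenIdx (N : X.Modules) : Type u := Σ V : X.Opens, Γ(N.restrict V.ι, ⊤)

/-- The sum of the generators of a module. -/
noncomputable def lshGenSum (N : X.Modules) : X.Modules :=
  ∐ fun i : LshGenIdx N => (lsh i.1.ι).obj (Coh.structureModule (i.1 : Scheme.{u}))

/-- The map from the sum of the generators. -/
noncomputable def lshGenMap (N : X.Modules) : lshGenSum N ⟶ N :=
  Sigma.desc fun i => ((lshAdj i.1.ι).homEquiv _ _).symm (QCoh.homOfTop i.2)

lemma lshGenMap_zero {N Z : X.Modules} (g : N ⟶ Z) (h : lshGenMap N ≫ g = 0) : g = 0 := by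
  refine Scheme.Modules.hom_ext _ _ fun W => ?_
  ext s
  have hW : W.ι ''ᵁ ⊤ = W := by simp
  let t : Γ(N.restrict W.ι, ⊤) := N.presheaf.map (homOfLE hW.le).op s
  have h₁ := congrArg (fun z => Sigma.ι (fun i : LshGenIdx N =>
    (lsh i.1.ι).obj (Coh.structureModule (i.1 : Scheme.{u}))) ⟨W, t⟩ ≫ z) h
  simp only [lshGenMap, Sigma.ι_desc_assoc, comp_zero] at h₁
  have h₂ := congrArg ((lshAdj W.ι).homEquiv _ _) h₁
  erw [(lshAdj W.ι).homEquiv_naturality_right, Equiv.apply_symm_apply] at h₂
  have h₃ : QCoh.homOfTop t ≫ (Scheme.Modules.restrictFunctor W.ι).map g = 0 := by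
    refine h₂.trans ?_
    rw [Adjunction.homEquiv_unit, Functor.map_zero, comp_zero]
  have h₄ := congrArg (fun z => z.app ⊤ (1 : Γ((W : Scheme.{u}), ⊤))) h₃
  simp only at h₄
  change ((Scheme.Modules.restrictFunctor W.ι).map g).app ⊤
    ((QCoh.homOfTop t).app ⊤ (1 : Γ((W : Scheme.{u}), ⊤))) = _ at h₄
  rw [QCoh.homOfTop_app] at h₄
  erw [one_smul] at h₄
  have h₅ : (N.restrict W.ι).presheaf.map (homOfLE le_top : (⊤ : (W : Scheme.{u}).Opens) ⟶ ⊤).op t = t := by
    rw [show (homOfLE le_top : (⊤ : (W : Scheme.{u}).Opens) ⟶ ⊤).op = 𝟙 _ from rfl,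
      CategoryTheory.Functor.map_id]
    rfl
  erw [h₅] at h₄
  change g.app (W.ι ''ᵁ ⊤) (N.presheaf.map (homOfLE hW.le).op s) = 0 at h₄
  have h₆ := congrArg (Z.presheaf.map (homOfLE hW.ge).op) h₄
  rw [map_zero, ← QCoh.map_app_comm] at h₆
  erw [QCoh.map_map, QCoh.map_id'] at h₆
  exact h₆

instance epi_lshGenMap (N : X.Modules) : Epi (lshGenMap N) :=
  Preadditive.epi_of_cancel_zero _ fun g h => lshGenMap_zero g h

variable {C : Type w} [Category.{v} C] [Preadditive C]

/-- A natural transformation of functors preserving colimits is invertible if it is so at the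
extensions by zero of structure sheaves. -/
theorem isIso_app_of_generators {A B : X.Modules ⥤ C} [A.PreservesZeroMorphisms]
    [B.PreservesZeroMorphisms] [PreservesColimitsOfSize.{u, u} A] [PreservesColimitsOfSize.{u, u} B]
    [PreservesColimitsOfShape WalkingParallelPair A] [PreservesColimitsOfShape WalkingParallelPair B]
    (η : A ⟶ B)
    (h : ∀ V : X.Opens, IsIso (η.app ((lsh V.ι).obj (Coh.structureModule (V : Scheme.{u})))))
    (N : X.Modules) : IsIso (η.app N) := by
  have hsum : ∀ M : X.Modules, IsIso (η.app (lshGenSum M)) := fun M => by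
    let F : Discrete (LshGenIdx M) ⥤ X.Modules := Discrete.functor fun i : LshGenIdx M =>
      (lsh i.1.ι).obj (Coh.structureModule (i.1 : Scheme.{u}))
    haveI : ∀ i, IsIso ((Functor.whiskerLeft F η).app i) := fun i => h i.as.1
    haveI := NatIso.isIso_of_isIso_app (Functor.whiskerLeft F η)
    let cA := isColimitOfPreserves A (colimit.isColimit F)
    let cB := isColimitOfPreserves B (colimit.isColimit F)
    have : η.app (colimit F) =
        (IsColimit.coconePointsIsoOfNatIso cA cB (asIso (Functor.whiskerLeft F η))).hom :=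
      cA.hom_ext fun i => by
        rw [IsColimit.comp_coconePointsIsoOfNatIso_hom]
        exact η.naturality _
    change IsIso (η.app (colimit F))
    rw [this]
    infer_instance
  let S := ShortComplex.mk (kernel.ι (lshGenMap N)) (lshGenMap N) (kernel.condition _)
  have hS : S.Exact := ShortComplex.exact_of_f_is_kernel _ (kernelIsKernel _)
  let p := lshGenMap (kernel (lshGenMap N)) ≫ kernel.ι (lshGenMap N)
  have hp : p ≫ lshGenMap N = 0 := by simp [p]
  let hc : IsColimit (CokernelCofork.ofπ (lshGenMap N) hp) :=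
    isCokernelEpiComp hS.gIsCokernel (lshGenMap (kernel (lshGenMap N))) rfl
  let cA := CokernelCofork.mapIsColimit _ hc A
  let cB := CokernelCofork.mapIsColimit _ hc B
  haveI := hsum N
  haveI := hsum (kernel (lshGenMap N))
  let en : parallelPair (A.map p) 0 ≅ parallelPair (B.map p) 0 :=
    (parallelPair.ext (asIso (η.app (lshGenSum (kernel (lshGenMap N))))) (asIso (η.app (lshGenSum N)))
      (η.naturality p) (by simp))
  let e := IsColimit.coconePointsIsoOfNatIso cA cB en
  have : η.app N = e.hom := Cofork.IsColimit.hom_ext cA (by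
    change A.map (lshGenMap N) ≫ η.app N = A.map (lshGenMap N) ≫ e.hom
    rw [η.naturality (lshGenMap N)]
    exact (IsColimit.comp_coconePointsIsoOfNatIso_hom cA cB en WalkingParallelPair.one).symm)
  rw [this]
  infer_instance

end Groth.Agent.KFlatLib
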