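import Groth.Agent.KFlatLib.Scheme.ClosedPush
import Groth.Agent.KFlatLib.Scheme.SheafGen
import Groth.Agent.KFlatLib.Scheme.InnerHom
import Groth.Agent.KFlatLib.Scheme.LocalDevissage
import Groth.Agent.KFlatLib.Mate

/-!
# The projection map for modules, and the projection formula along a closed immersion
-/

set_option linter.style.haveILetI false
set_option backward.isDefEq.respectTransparency false

universe u

open CategoryTheory CategoryTheory.Limits AlgebraicGeometry TopologicalSpace

namespace Groth.Agent.KFlatLib

variable {X Y : Scheme.{u}} (f : X ⟶ Y)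

/-- `(f^* N₀ ⊗ f^* N) ⟶ M ⊗ f^* N` before transposing. -/
noncomputable def projPre (M : X.Modules) (N : Y.Modules) :
    (Scheme.Modules.pullback f).obj
        ((DCoh.tensorBi.obj ((Scheme.Modules.pushforward f).obj M)).obj N) ⟶
      (DCoh.tensorBi.obj M).obj ((Scheme.Modules.pullback f).obj N) :=
  ((pullTensorBiIso f).hom.app ((Scheme.Modules.pushforward f).obj M)).app N ≫
    (DCoh.tensorBi.map ((Scheme.Modules.pullbackPushforwardAdjunction f).counit.app M)).app _

/-- The projection map `f_* M ⊗ N ⟶ f_* (M ⊗ f^* N)`. -/
noncomputable def projMod (M : X.Modules) (N : Y.Modules) :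
    (DCoh.tensorBi.obj ((Scheme.Modules.pushforward f).obj M)).obj N ⟶
      (Scheme.Modules.pushforward f).obj ((DCoh.tensorBi.obj M).obj ((Scheme.Modules.pullback f).obj N)) :=
  (Scheme.Modules.pullbackPushforwardAdjunction f).homEquiv _ _ (projPre f M N)

lemma projMod_naturality_right (M : X.Modules) {N N' : Y.Modules} (g : N ⟶ N') :
    (DCoh.tensorBi.obj ((Scheme.Modules.pushforward f).obj M)).map g ≫ projMod f M N' =
      projMod f M N ≫ (Scheme.Modules.pushforward f).map
        ((DCoh.tensorBi.obj M).map ((Scheme.Modules.pullback f).map g)) := by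
  refine ((Scheme.Modules.pullbackPushforwardAdjunction f).homEquiv_naturality_left _ _).symm.trans ?_
  refine Eq.trans (congrArg _ ?_)
    ((Scheme.Modules.pullbackPushforwardAdjunction f).homEquiv_naturality_right _ _)
  rw [projPre, projPre]
  refine ((Category.assoc _ _ _).symm.trans (congrArg (· ≫ _)
    (((pullTensorBiIso f).hom.app _).naturality g))).trans ?_
  refine (Category.assoc _ _ _).trans (Eq.trans ?_ (Category.assoc _ _ _).symm)
  exact congrArg (_ ≫ ·) ((DCoh.tensorBi.map _).naturality _)

lemma projMod_naturality_left {M M' : X.Modules} (g : M ⟶ M') (N : Y.Modules) :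
    (DCoh.tensorBi.map ((Scheme.Modules.pushforward f).map g)).app N ≫ projMod f M' N =
      projMod f M N ≫ (Scheme.Modules.pushforward f).map
        ((DCoh.tensorBi.map g).app ((Scheme.Modules.pullback f).obj N)) := by
  refine ((Scheme.Modules.pullbackPushforwardAdjunction f).homEquiv_naturality_left _ _).symm.trans ?_
  refine Eq.trans (congrArg _ ?_)
    ((Scheme.Modules.pullbackPushforwardAdjunction f).homEquiv_naturality_right _ _)
  rw [projPre, projPre]
  refine ((Category.assoc _ _ _).symm.trans (congrArg (· ≫ _)
    (NatTrans.congr_app ((pullTensorBiIso f).hom.naturality _) N))).trans ?_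
  refine (Category.assoc _ _ _).trans (Eq.trans ?_ (Category.assoc _ _ _).symm)
  refine congrArg (_ ≫ ·) ?_
  have h := congrArg DCoh.tensorBi.map ((Scheme.Modules.pullbackPushforwardAdjunction f).counit.naturality g)
  rw [Functor.map_comp, Functor.map_comp] at h
  exact NatTrans.congr_app h _

/-- The projection map is invertible at the structure module. -/
theorem isIso_projMod_structure (M : X.Modules) : IsIso (projMod f M (Coh.structureModule Y)) := by
  let F₁ := DCoh.tensorBi.flip.obj (Coh.structureModule Y)
  let F₂ := DCoh.tensorBi.flip.obj ((Scheme.Modules.pullback f).obj (Coh.structureModule Y))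
  haveI : F₁.IsEquivalence := Functor.isEquivalence_of_iso (tensorStructureIso Y).symm
  haveI : IsIso (SheafOfModules.pullbackObjUnitToUnit f.toRingCatSheafHom) := inferInstance
  let e : (Scheme.Modules.pullback f).obj (Coh.structureModule Y) ≅ Coh.structureModule X :=
    asIso (SheafOfModules.pullbackObjUnitToUnit f.toRingCatSheafHom)
  haveI : F₂.IsEquivalence :=
    Functor.isEquivalence_of_iso (DCoh.tensorBi.flip.mapIso e ≪≫ tensorStructureIso X).symm
  let α : F₁ ⋙ Scheme.Modules.pullback f ≅ Scheme.Modules.pullback f ⋙ F₂ :=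
    NatIso.ofComponents (fun L => ((pullTensorBiIso f).app L).app (Coh.structureModule Y))
      (fun φ => NatTrans.congr_app ((pullTensorBiIso f).hom.naturality φ) _)
  exact isIso_mate (Scheme.Modules.pullbackPushforwardAdjunction f) α M

lemma isZero_stalkAb_of_isZero {X : Scheme.{u}} (x : X) {M : X.Modules}
    (h : IsZero ((DerSch.stalkFunctor X x).obj M)) : IsZero ((stalkAb (X := X) x).obj M) :=
  IsZero.of_iso (Functor.map_isZero (forget₂ (ModuleCat (X.presheaf.stalk x)) AddCommGrpCat) h)
    ((stalkForgetIso x).app M).symm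

lemma isZero_stalk_tensor_right {X : Scheme.{u}} (x : X) (M N : X.Modules)
    (h : IsZero ((DerSch.stalkFunctor X x).obj N)) :
    IsZero ((DerSch.stalkFunctor X x).obj ((DCoh.tensorBi.obj M).obj N)) :=
  IsZero.of_iso ((MonoidalCategory.tensorLeft _).map_isZero h) (stalkTensorIso x M N).symm

lemma isZero_stalk_pullback (x : X) {N : Y.Modules}
    (h : IsZero ((DerSch.stalkFunctor Y (f.base x)).obj N)) :
    IsZero ((DerSch.stalkFunctor X x).obj ((Scheme.Modules.pullback f).obj N)) :=
  IsZero.of_iso (Functor.map_isZero (ModuleCat.extendScalars (f.stalkMap x).hom) h) ((stalkPullbackIso f x).app N)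

/-- The projection map along a closed immersion is invertible. -/
theorem isIso_projMod_of_isClosedImmersion [IsClosedImmersion f] (M : X.Modules) (N : Y.Modules) :
    IsIso (projMod f M N) := by
  haveI : PreservesColimitsOfSize.{u, u} (Scheme.Modules.pushforward f) :=
    ⟨fun {K} _ => preservesColimitsOfShape_push f K⟩
  haveI : PreservesColimitsOfShape WalkingParallelPair (Scheme.Modules.pushforward f) :=
    preservesColimitsOfShape_push f _
  let A := DCoh.tensorBi.obj ((Scheme.Modules.pushforward f).obj M)
  let B := Scheme.Modules.pullback f ⋙ DCoh.tensorBi.obj M ⋙ Scheme.Modules.pushforward f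
  let η : A ⟶ B := { app := projMod f M, naturality := fun _ _ g => projMod_naturality_right f M g }
  haveI : PreservesColimitsOfSize.{u, u} A := ⟨fun {K} _ => inferInstance⟩
  haveI : PreservesColimitsOfSize.{u, u} (DCoh.tensorBi.obj M) := ⟨fun {K} _ => inferInstance⟩
  refine isIso_app_of_generators η (fun V => ?_) N
  let L := (lsh V.ι).obj (Coh.structureModule (V : Scheme.{u}))
  let c : L ⟶ Coh.structureModule Y := (lsh V.ι).map (restrictStructureIso V.ι).inv ≫
    (lshAdj V.ι).counit.app (Coh.structureModule Y)
  refine isIso_of_stalk _ fun y => ?_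
  by_cases hy : y ∈ V
  · have hc : IsIso ((DerSch.stalkFunctor Y y).map c) := by
      have hr : IsIso ((Scheme.Modules.restrictFunctor V.ι).map c) := by
        haveI : IsIso ((Scheme.Modules.restrictFunctor V.ι).map
            ((lshAdj V.ι).counit.app (Coh.structureModule Y))) :=
          IsIso.of_isIso_fac_left ((lshAdj V.ι).right_triangle_components (Coh.structureModule Y))
        rw [Functor.map_comp]
        infer_instance
      have hb := ConcreteCategory.bijective_of_isIso
        ((DerSch.stalkFunctor (V : Scheme.{u}) ⟨y, hy⟩).map ((Scheme.Modules.restrictFunctor V.ι).map c))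
      exact (ConcreteCategory.isIso_iff_bijective _).2 ⟨injective_stalk_of_restrict V.ι _ ⟨y, hy⟩ hb.1,
        surjective_stalk_of_restrict V.ι _ ⟨y, hy⟩ hb.2⟩
    haveI hA : IsIso ((DerSch.stalkFunctor Y y).map (A.map c)) :=
      (NatIso.isIso_map_iff (stalkTensorLeftIso ((Scheme.Modules.pushforward f).obj M) y) c).2
        (Functor.map_isIso (MonoidalCategory.tensorLeft _) _)
    haveI hB : IsIso ((DerSch.stalkFunctor Y y).map (B.map c)) := by
      suffices h : IsIso ((Scheme.Modules.pushforward f ⋙ stalkAb (X := Y) y).map
          ((DCoh.tensorBi.obj M).map ((Scheme.Modules.pullback f).map c))) from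
        @isIso_of_reflects_iso _ _ _ _ _ _ _ (forget₂ (ModuleCat (Y.presheaf.stalk y)) AddCommGrpCat) h _
      by_cases hy' : y ∈ Set.range f.base
      · obtain ⟨x, rfl⟩ := hy'
        have h₁ : IsIso ((DerSch.stalkFunctor X x).map ((Scheme.Modules.pullback f).map c)) :=
          (NatIso.isIso_map_iff (stalkPullbackIso f x) c).2
            (Functor.map_isIso (ModuleCat.extendScalars (f.stalkMap x).hom) ((DerSch.stalkFunctor Y (f.base x)).map c))
        have h₂ : IsIso ((DerSch.stalkFunctor X x).map
            ((DCoh.tensorBi.obj M).map ((Scheme.Modules.pullback f).map c))) :=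
          (NatIso.isIso_map_iff (stalkTensorLeftIso M x) ((Scheme.Modules.pullback f).map c)).2
            (Functor.map_isIso (MonoidalCategory.tensorLeft _) _)
        exact (NatIso.isIso_map_iff (stalkPushIso f x) _).2
          (Functor.map_isIso (forget₂ (ModuleCat (X.presheaf.stalk x)) AddCommGrpCat)
            ((DerSch.stalkFunctor X x).map
              ((DCoh.tensorBi.obj M).map ((Scheme.Modules.pullback f).map c))))
      · exact ⟨0, (isZero_stalk_push f y hy' _).eq_of_src _ _, (isZero_stalk_push f y hy' _).eq_of_src _ _⟩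
    haveI hO : IsIso (η.app (Coh.structureModule Y)) := isIso_projMod_structure f M
    haveI : IsIso ((DerSch.stalkFunctor Y y).map (η.app L) ≫ (DerSch.stalkFunctor Y y).map (B.map c)) := by
      rw [← Functor.map_comp, ← η.naturality c, Functor.map_comp]
      infer_instance
    exact IsIso.of_isIso_comp_right _ ((DerSch.stalkFunctor Y y).map (B.map c))
  · have hL : IsZero ((DerSch.stalkFunctor Y y).obj L) :=
      isZero_stalk_lsh V.ι y (fun ⟨v, hv⟩ => hy (hv ▸ v.2)) _
    have h₁ := isZero_stalk_tensor_right y ((Scheme.Modules.pushforward f).obj M) L hL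
    have h₂ : IsZero ((DerSch.stalkFunctor Y y).obj (B.obj L)) := by
      suffices h : IsZero ((Scheme.Modules.pushforward f ⋙ stalkAb (X := Y) y).obj
          ((DCoh.tensorBi.obj M).obj ((Scheme.Modules.pullback f).obj L))) from
        ModuleCat.isZero_of_iff_subsingleton.2 (AddCommGrpCat.subsingleton_of_isZero h)
      by_cases hy' : y ∈ Set.range f.base
      · obtain ⟨x, rfl⟩ := hy'
        exact IsZero.of_iso (isZero_stalkAb_of_isZero x
          (isZero_stalk_tensor_right x M _ (isZero_stalk_pullback f x hL))) ((stalkPushIso f x).app _)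
      · exact isZero_stalk_push f y hy' _
    exact ⟨0, h₁.eq_of_src _ _, h₂.eq_of_src _ _⟩

end Groth.Agent.KFlatLib
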