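import Groth.Agent.KFlatLib.Scheme.ProjAffineFlat
import Groth.Agent.KFlatLib.Scheme.TensorAssoc
import Groth.Agent.SheafHomX.Extra
import Groth.Agent.SheafHomX.Main
import Groth.Agent.AmpleVan.AdicBase
import Groth.Agent.S9716
import Groth.Agent.H23.Frame
import Groth.Agent.QCoh.Qcqs
import Groth.Agent.LimModLib.FP
import Groth.Prelude.Def_Mor2

/-!
# The resolution property descends along finite locally free morphisms
-/

set_option linter.style.haveILetI false
set_option backward.isDefEq.respectTransparency false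

universe u

open CategoryTheory CategoryTheory.Limits AlgebraicGeometry

namespace Groth.Agent.KFlatLib

variable {X Y : Scheme.{u}} (f : X ⟶ Y)

/-- Direct images of finite locally free modules. -/
theorem isFinLocFree_push_of_finLocFree [IsFinite f] [Flat f] [LocallyOfFinitePresentation f] {E : X.Modules}
    (hE : FlatMod.IsFinLocFree E) : FlatMod.IsFinLocFree ((Scheme.Modules.pushforward f).obj E) := by
  obtain ⟨hf, hp⟩ := QCoh.isFlat_and_isFP_iff.2 hE
  have hq := QCoh.isQCoh_of_isFP hp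
  have hM := QCoh.isQCoh_pushforward f hq
  rw [← QCoh.isFlat_and_isFP_iff, QCoh.isFlat_iff hM, QCoh.isFP_iff hM, ← forall_and]
  intro U
  let V : X.affineOpens := ⟨f ⁻¹ᵁ U.1, U.2.preimage f⟩
  letI := (f.app U.1).hom.toAlgebra
  have h1 : Module.FinitePresentation Γ(Y, U.1) Γ(X, f ⁻¹ᵁ U.1) := by
    have h1 := f.finitePresentation_appLE U.2 (U.2.preimage f) le_rfl
    rw [← Scheme.Hom.app_eq_appLE] at h1
    haveI : Algebra.FinitePresentation Γ(Y, U.1) Γ(X, f ⁻¹ᵁ U.1) := h1
    haveI : Module.Finite Γ(Y, U.1) Γ(X, f ⁻¹ᵁ U.1) := IsFinite.finite_app f U.1 U.2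
    exact Module.FinitePresentation.of_finite_of_finitePresentation _ _
  have h2 : Module.Flat Γ(Y, U.1) Γ(X, f ⁻¹ᵁ U.1) := by
    have h2 := f.flat_appLE U.2 (U.2.preimage f) le_rfl
    rw [← Scheme.Hom.app_eq_appLE] at h2
    exact h2
  haveI : Module.FinitePresentation Γ(X, f ⁻¹ᵁ U.1) Γ(E, f ⁻¹ᵁ U.1) := (QCoh.isFP_iff hq).1 hp V
  haveI : Module.Flat Γ(X, f ⁻¹ᵁ U.1) Γ(E, f ⁻¹ᵁ U.1) := (QCoh.isFlat_iff hq).1 hf V
  letI : Module Γ(Y, U.1) Γ(E, f ⁻¹ᵁ U.1) := Module.compHom _ (f.app U.1).hom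
  haveI : IsScalarTower Γ(Y, U.1) Γ(X, f ⁻¹ᵁ U.1) Γ(E, f ⁻¹ᵁ U.1) :=
    IsScalarTower.of_algebraMap_smul fun _ _ => rfl
  let e : Γ(E, f ⁻¹ᵁ U.1) ≃ₗ[Γ(Y, U.1)] Γ((Scheme.Modules.pushforward f).obj E, U.1) :=
    { toFun := fun x => x
      invFun := fun x => x
      left_inv := fun _ => rfl
      right_inv := fun _ => rfl
      map_add' := fun _ _ => rfl
      map_smul' := fun r x => (QCoh.pushforward_smul f U.1 r x).symm }
  haveI := h1
  haveI := h2
  haveI := Module.FinitePresentation.trans (R := Γ(Y, U.1)) (M := Γ(E, f ⁻¹ᵁ U.1)) Γ(X, f ⁻¹ᵁ U.1)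
  haveI := Module.Flat.trans Γ(Y, U.1) Γ(X, f ⁻¹ᵁ U.1) Γ(E, f ⁻¹ᵁ U.1)
  exact ⟨Module.Flat.of_linearEquiv e.symm, Module.FinitePresentation.of_equiv e⟩

/-- The evaluation map of a faithful finite locally free module is surjective. -/
theorem epi_counit {A : Y.Modules}
    (hA : ∀ y : Y, ∃ (U : Y.Opens) (i : Coh.structureModule (U : Scheme.{u}) ⟶ A.restrict U.ι)
      (r : A.restrict U.ι ⟶ Coh.structureModule (U : Scheme.{u})), y ∈ U ∧ i ≫ r = 𝟙 _) :
    Epi ((SheafHomX.adj A).counit.app (Coh.structureModule Y)) := by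
  refine Preadditive.epi_of_cancel_zero _ fun {G} g hg => ?_
  have h0 : (SheafHomX.hom A).map g = 0 := SheafHomX.hom_ext (by
    rw [Adjunction.homEquiv_counit, Adjunction.homEquiv_counit, Functor.map_zero, zero_comp]
    exact ((SheafHomX.adj A).counit.naturality g).trans hg)
  choose U i r hU hir using hA
  refine SheafHomX.eq_zero_of_restrict (fun y => (U y).ι) (fun y => ⟨y, ⟨⟨y, hU y⟩, rfl⟩⟩) g fun y => ?_
  let res := Scheme.Modules.restrictFunctor (U y).ι
  have h1 : (SheafHomX.hom (res.obj A)).map (res.map g) = 0 := by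
    rw [← cancel_epi ((SheafHomX.restrictIso (U y).ι A).hom.app (Coh.structureModule Y)), comp_zero]
    exact (SheafHomX.restrict_map (U y).ι A g).symm.trans (by rw [h0, Functor.map_zero, zero_comp])
  let O := Coh.structureModule (U y : Scheme.{u})
  have h2 : (SheafHomX.hom O).map (res.map g) = 0 := by
    have n1 := (SheafHomX.homMap (r y)).naturality (res.map g)
    have h3 : (SheafHomX.homMap (r y)).app (res.obj G) ≫ (SheafHomX.homMap (i y)).app (res.obj G) = 𝟙 _ := by
      rw [← SheafHomX.homMap_comp, hir, SheafHomX.homMap_id]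
    haveI := mono_of_mono_fac h3
    rw [← cancel_mono ((SheafHomX.homMap (r y)).app (res.obj G)), zero_comp]
    exact n1.trans (by rw [h1, comp_zero])
  have h4 := (SheafHomX.unitIso (U y : Scheme.{u})).hom.naturality (res.map g)
  rw [h2, zero_comp] at h4
  exact (cancel_epi _).1 (h4.symm.trans comp_zero.symm)

attribute [local instance] HasDerivedCategory.standard

/-- Near each point of the base the direct image of the structure module has a free summand. -/
lemma exists_split_push (hA : FlatMod.IsFinLocFree ((Scheme.Modules.pushforward f).obj (Coh.structureModule X)))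
    [Surjective f] (y : Y) :
    ∃ (U : Y.Opens) (i : Coh.structureModule (U : Scheme.{u}) ⟶
        ((Scheme.Modules.pushforward f).obj (Coh.structureModule X)).restrict U.ι)
      (r : ((Scheme.Modules.pushforward f).obj (Coh.structureModule X)).restrict U.ι ⟶
        Coh.structureModule (U : Scheme.{u})), y ∈ U ∧ i ≫ r = 𝟙 _ := by
  obtain ⟨U, n, hyU, ⟨e⟩⟩ := hA y
  rcases n with _ | n
  · exfalso
    obtain ⟨x, rfl⟩ := f.surjective y
    have hz := (isZero_freeMod_zero (X := (U : Scheme.{u}))).of_iso e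
    have h1 : ((1 : Γ(X, f ⁻¹ᵁ (U.ι ''ᵁ ⊤)))) = 0 := by
      haveI : Subsingleton Γ(((Scheme.Modules.pushforward f).obj (Coh.structureModule X)).restrict U.ι, ⊤) :=
        ⟨fun a b => by
          have h2 := congrArg (fun φ => φ.app ⊤ a) (hz.eq_of_src (𝟙 _) 0)
          have h3 := congrArg (fun φ => φ.app ⊤ b) (hz.eq_of_src (𝟙 _) 0)
          exact h2.trans h3.symm⟩
      exact Subsingleton.elim
        (α := Γ(((Scheme.Modules.pushforward f).obj (Coh.structureModule X)).restrict U.ι, ⊤))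
        (1 : Γ(X, f ⁻¹ᵁ (U.ι ''ᵁ ⊤))) (0 : Γ(X, f ⁻¹ᵁ (U.ι ''ᵁ ⊤)))
    have hx : x ∈ f ⁻¹ᵁ (U.ι ''ᵁ ⊤) := by rw [Scheme.Opens.ι_image_top]; exact hyU
    have h4 := congrArg (X.presheaf.germ _ x hx) h1
    rw [map_one, map_zero] at h4
    exact one_ne_zero h4
  · exact ⟨U, H23.Frame.incl _ _ 0 ≫ e.inv, e.hom ≫ H23.Frame.proj _ _ 0, hyU, by
      rw [Category.assoc, e.inv_hom_id_assoc, H23.Frame.incl_proj, if_pos rfl]⟩

/-- The resolution property descends along finite locally free surjections. -/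
theorem exists_epi_of_finLocFree (hf : Mor2.IsFinLocFree f) [Surjective f] {M : Y.Modules} (hM : Coh.IsQCoh M)
    {E : X.Modules} (π : E ⟶ (Scheme.Modules.pullback f).obj M) [Epi π] (hE : FlatMod.IsFinLocFree E) :
    ∃ (E' : Y.Modules) (θ : E' ⟶ M), FlatMod.IsFinLocFree E' ∧ Epi θ := by
  obtain ⟨hfin, hflat, hlfp⟩ := id hf
  let A := (Scheme.Modules.pushforward f).obj (Coh.structureModule X)
  have hA : FlatMod.IsFinLocFree A := ((Groth.Agent.S9716.result f).2 hf).2
  have hO : FlatMod.IsFinLocFree (Coh.structureModule Y) :=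
    H23.PullPush.isFinLocFree_of_iso (coproductUniqueIso (fun _ : Fin 1 => Coh.structureModule Y))
      (isFinLocFree_freeMod 1)
  let W := (SheafHomX.hom A).obj (Coh.structureModule Y)
  let P := (Scheme.Modules.pushforward f).obj E
  obtain ⟨e⟩ := nonempty_push_pull_iso f (QCoh.isFlat_and_isFP_iff.2 hA).1 hM
  haveI : Epi ((Scheme.Modules.pushforward f).map π) :=
    AmpleVan.epi_push f (QCoh.isQCoh_of_isFP (QCoh.isFlat_and_isFP_iff.2 hE).2)
      (QCoh.isQCoh_pullback f hM) π
  let T := DCoh.tensorBi (X := Y)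
  haveI hε : Epi ((SheafHomX.adj A).counit.app (Coh.structureModule Y)) :=
    epi_counit fun y => exists_split_push f hA y
  let θ : (T.obj W).obj P ⟶ M :=
    (T.obj W).map ((Scheme.Modules.pushforward f).map π ≫ e.inv) ≫
      (((tensorAssocSch Y).app W).app A).inv.app M ≫
      (T.map ((SheafHomX.adj A).counit.app (Coh.structureModule Y))).app M ≫
      (SheafHomX.tenUnitIso M).hom
  refine ⟨_, θ, isFinLocFree_tensor (SheafHomX.isFinLocFree_hom hA hO) (isFinLocFree_push_of_finLocFree f hE), ?_⟩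
  haveI : Epi ((T.obj W).map ((Scheme.Modules.pushforward f).map π ≫ e.inv)) := by
    haveI : PreservesColimitsOfShape WalkingSpan (T.obj W) :=
      preservesColimitsOfShape_of_natIso ((tensorBiFlipIso Y).app W)
    infer_instance
  haveI : Epi ((T.map ((SheafHomX.adj A).counit.app (Coh.structureModule Y))).app M) := by
    haveI : PreservesColimitsOfShape WalkingSpan (T.flip.obj M) := inferInstance
    exact inferInstanceAs (Epi ((T.flip.obj M).map ((SheafHomX.adj A).counit.app (Coh.structureModule Y))))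
  infer_instance

end Groth.Agent.KFlatLib
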