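import Groth.Agent.KFlatLib.Scheme.Derived

/-!
# `Lf^*` on complexes, and its compatibility with composition
-/

set_option linter.style.haveILetI false

universe u

open CategoryTheory CategoryTheory.Limits AlgebraicGeometry

attribute [local instance] HasDerivedCategory.standard

namespace Groth.Agent.KFlatLib

variable {X Y Z : Scheme.{u}}

/-- The comparison `Lf^* (Q K) ⟶ Q (f^* K)`. -/
noncomputable def lpullComparison (f : X ⟶ Y) [DCoh.HasLpull f] :
    DerivedCategory.Q ⋙ DCoh.Lpull f ⟶ pullCx f ⋙ DerivedCategory.Q :=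
  Functor.whiskerRight (DerivedCategory.quotientCompQhIso Y.Modules).inv _ ≫
    (Functor.associator _ _ _).hom ≫
    Functor.whiskerLeft _ ((DCoh.pullKh f).totalLeftDerivedCounit DerivedCategory.Qh
      (HomotopyCategory.quasiIso Y.Modules (ComplexShape.up ℤ))) ≫
    (quotientMapIso (Scheme.Modules.pullback f)).hom

lemma isIso_lpullComparison (f : X ⟶ Y) [DCoh.HasLpull f] {K : CochainComplex Y.Modules ℤ}
    (hK : DCoh.IsKFlat K) : IsIso ((lpullComparison f).app K) := by
  haveI : IsIso ((Functor.whiskerLeft (HomotopyCategory.quotient Y.Modules (ComplexShape.up ℤ))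
      ((DCoh.pullKh f).totalLeftDerivedCounit DerivedCategory.Qh
        (HomotopyCategory.quasiIso Y.Modules (ComplexShape.up ℤ)))).app K) :=
    isIso_Lpull_counit f hK
  simp only [lpullComparison, NatTrans.comp_app]
  infer_instance

variable (X) in
/-- The resolution is an isomorphism in the derived category. -/
noncomputable def resQIso :
    kRes X ⋙ DerivedCategory.Q ≅ (DerivedCategory.Q : _ ⥤ DCoh.D X) :=
  haveI : ∀ K, IsIso ((Functor.whiskerRight (flatCover X).ψ
      (DerivedCategory.Q : _ ⥤ DCoh.D X)).app K) :=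
    fun K => isIso_Q_map _ ((flatCover X).quasiIso_ψ K)
  haveI := NatIso.isIso_of_isIso_app (Functor.whiskerRight (flatCover X).ψ
    (DerivedCategory.Q : _ ⥤ DCoh.D X))
  asIso (Functor.whiskerRight (flatCover X).ψ DerivedCategory.Q) ≪≫ Functor.leftUnitor _

/-- `Lf^*` on a resolution. -/
noncomputable def lpullResIso (f : X ⟶ Y) [DCoh.HasLpull f] :
    DerivedCategory.Q ⋙ DCoh.Lpull f ≅ kRes Y ⋙ pullCx f ⋙ DerivedCategory.Q :=
  haveI : ∀ K, IsIso ((Functor.whiskerLeft (kRes Y) (lpullComparison f)).app K) :=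
    fun K => isIso_lpullComparison f (isKFlat_kRes K)
  haveI := NatIso.isIso_of_isIso_app (Functor.whiskerLeft (kRes Y) (lpullComparison f))
  Functor.isoWhiskerRight (resQIso Y).symm _ ≪≫ Functor.associator _ _ _ ≪≫
    asIso (Functor.whiskerLeft (kRes Y) (lpullComparison f))

variable (f : X ⟶ Y) (g : Y ⟶ Z)

/-- Pullback of complexes along a composite. -/
noncomputable def pullCxCompIso : pullCx g ⋙ pullCx f ≅ pullCx (f ≫ g) :=
  NatIso.ofComponents (fun K => HomologicalComplex.Hom.isoOfComponents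
    (fun i => (Scheme.Modules.pullbackComp f g).app (K.X i))
    (fun i j _ => ((Scheme.Modules.pullbackComp f g).hom.naturality (K.d i j)).symm))
    (fun φ => HomologicalComplex.hom_ext _ _ fun i =>
      (Scheme.Modules.pullbackComp f g).hom.naturality (φ.f i))

/-- `Lf^* ∘ Lg^* = L(g ∘ f)^*`. -/
lemma nonempty_lpull_comp [DCoh.HasLpull f] [DCoh.HasLpull g] [DCoh.HasLpull (f ≫ g)] :
    Nonempty (DCoh.Lpull g ⋙ DCoh.Lpull f ≅ DCoh.Lpull (f ≫ g)) := by
  haveI : ∀ K, IsIso ((Functor.whiskerLeft (kRes Z ⋙ pullCx g) (lpullComparison f)).app K) :=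
    fun K => isIso_lpullComparison f (isKFlat_pullback g (isKFlat_kRes K))
  haveI := NatIso.isIso_of_isIso_app
    (Functor.whiskerLeft (kRes Z ⋙ pullCx g) (lpullComparison f))
  refine ⟨Localization.liftNatIso DerivedCategory.Q (qisX Z)
    (DerivedCategory.Q ⋙ DCoh.Lpull g ⋙ DCoh.Lpull f) (DerivedCategory.Q ⋙ DCoh.Lpull (f ≫ g))
    _ _ ?_⟩
  exact (Functor.associator _ _ _).symm ≪≫ Functor.isoWhiskerRight (lpullResIso g) _ ≪≫
    Functor.isoWhiskerRight (Functor.associator _ _ _).symm _ ≪≫ Functor.associator _ _ _ ≪≫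
    asIso (Functor.whiskerLeft (kRes Z ⋙ pullCx g) (lpullComparison f)) ≪≫
    Functor.associator _ _ _ ≪≫
    Functor.isoWhiskerLeft _ ((Functor.associator _ _ _).symm ≪≫
      Functor.isoWhiskerRight (pullCxCompIso f g) _) ≪≫
    (lpullResIso (f ≫ g)).symm

end Groth.Agent.KFlatLib
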