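import Groth.Agent.KFlatLib.Scheme.Grothendieck
import Groth.Agent.KFlatLib.Scheme.LpullComp
import Groth.Agent.TriCat.DerivedOfAdjunction
import Mathlib.CategoryTheory.Functor.Derived.Adjunction

/-!
# The adjunction `Lf^* ⊣ Rf_*`
-/

set_option linter.style.haveILetI false

universe w v v' v'' v''' u u' u'' u'''

open CategoryTheory CategoryTheory.Limits AlgebraicGeometry

attribute [local instance] HasDerivedCategory.standard

namespace Groth.Agent.KFlatLib

section Htpy

variable {V : Type u} [Category.{v} V] [Preadditive V] {V' : Type u'} [Category.{v'} V']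
  [Preadditive V'] {F : V ⥤ V'} {G : V' ⥤ V} [F.Additive] [G.Additive] {ι : Type*}
  (c : ComplexShape ι)

/-- An adjunction of additive functors passes to homotopy categories. -/
noncomputable def adjHtpy (adj : F ⊣ G) : F.mapHomotopyCategory c ⊣ G.mapHomotopyCategory c where
  unit :=
    { app := fun K => (HomotopyCategory.quotient V c).map
        { f := fun i => adj.unit.app (K.as.X i)
          comm' := fun i j _ => (adj.unit.naturality (K.as.d i j)).symm }
      naturality := fun K L a => by
        obtain ⟨a, rfl⟩ := (HomotopyCategory.quotient V c).map_surjective a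
        change (HomotopyCategory.quotient V c).map _ ≫ (HomotopyCategory.quotient V c).map _ =
          (HomotopyCategory.quotient V c).map _ ≫ (HomotopyCategory.quotient V c).map _
        rw [← Functor.map_comp, ← Functor.map_comp]
        exact congrArg _ (HomologicalComplex.hom_ext _ _ fun i => adj.unit.naturality (a.f i)) }
  counit :=
    { app := fun K => (HomotopyCategory.quotient V' c).map
        { f := fun i => adj.counit.app (K.as.X i)
          comm' := fun i j _ => (adj.counit.naturality (K.as.d i j)).symm }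
      naturality := fun K L a => by
        obtain ⟨a, rfl⟩ := (HomotopyCategory.quotient V' c).map_surjective a
        change (HomotopyCategory.quotient V' c).map _ ≫ (HomotopyCategory.quotient V' c).map _ =
          (HomotopyCategory.quotient V' c).map _ ≫ (HomotopyCategory.quotient V' c).map _
        rw [← Functor.map_comp, ← Functor.map_comp]
        exact congrArg _ (HomologicalComplex.hom_ext _ _ fun i => adj.counit.naturality (a.f i)) }
  left_triangle_components K := by
    change (HomotopyCategory.quotient V' c).map _ ≫ (HomotopyCategory.quotient V' c).map _ = _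
    rw [← Functor.map_comp]
    exact (congrArg _ (HomologicalComplex.hom_ext _ _ fun i =>
      adj.left_triangle_components (K.as.X i))).trans ((HomotopyCategory.quotient V' c).map_id _)
  right_triangle_components K := by
    change (HomotopyCategory.quotient V c).map _ ≫ (HomotopyCategory.quotient V c).map _ = _
    rw [← Functor.map_comp]
    exact (congrArg _ (HomologicalComplex.hom_ext _ _ fun i =>
      adj.right_triangle_components (K.as.X i))).trans ((HomotopyCategory.quotient V c).map_id _)

end Htpy

section Recognize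

variable {C : Type u} [Category.{v} C] {D : Type u'} [Category.{v'} D] {H : Type u''}
  [Category.{v''} H] {W : MorphismProperty C} [W.HasTwoOutOfThreeProperty]
  {K : Type u'''} [Category.{v'''} K] {W' : MorphismProperty K}

/-- A resolution for `F` is one for `F` followed by any functor. -/
noncomputable def Resolution.postcomp {F' : K ⥤ H} {q : C ⥤ K} (R : Resolution W (q ⋙ F'))
    {E : Type*} [Category E] (G : H ⥤ E) : Resolution W (q ⋙ F' ⋙ G) where
  Good := R.Good
  P := R.P
  ψ := R.ψ
  good := R.good
  weq := R.weq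
  inverts _ _ f hX hY hf := by
    haveI := R.inverts f hX hY hf
    exact inferInstanceAs (IsIso (G.map ((q ⋙ F').map f)))

lemma isLeftDerivedFunctor_of_isIso {L : C ⥤ D} [L.IsLocalization W] {L' : K ⥤ D}
    [L'.IsLocalization W'] {q : C ⥤ K} (Wq : MorphismProperty C) [q.IsLocalization Wq]
    (e : q ⋙ L' ≅ L) {F' : K ⥤ H} (R : Resolution W (q ⋙ F')) {G : D ⥤ H} (β : L' ⋙ G ⟶ F')
    (hβ : ∀ X, R.Good X → IsIso (β.app (q.obj X))) : G.IsLeftDerivedFunctor β W' := by
  haveI : (R.LF L).IsLeftDerivedFunctor (R.counit' L L' q Wq e F') W' :=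
    ⟨R.isRightKanExtension' L L' q Wq e F'⟩
  let γ := (R.LF L).leftDerivedLift (R.counit' L L' q Wq e F') W' G β
  haveI : ∀ Y, IsIso (γ.app Y) := fun Y => by
    haveI := Localization.essSurj L W
    let X := L.objPreimage Y
    haveI : IsIso (L.map (R.ψ.app X)) := Localization.inverts L W _ (R.weq X)
    let i : L'.obj (q.obj (R.P.obj X)) ≅ Y :=
      e.app _ ≪≫ asIso (L.map (R.ψ.app X)) ≪≫ L.objObjPreimageIso Y
    haveI := R.isIso_counit_app L (R.good X)
    haveI : IsIso ((R.counit' L L' q Wq e F').app (q.obj (R.P.obj X))) := by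
      rw [R.counit'_app L L' q Wq e F']; infer_instance
    haveI : IsIso (γ.app (L'.obj (q.obj (R.P.obj X)))) := by
      haveI := hβ _ (R.good X)
      haveI : IsIso (γ.app (L'.obj (q.obj (R.P.obj X))) ≫
          (R.counit' L L' q Wq e F').app (q.obj (R.P.obj X))) := by
        rw [Functor.leftDerived_fac_app]; infer_instance
      exact IsIso.of_isIso_comp_right _ ((R.counit' L L' q Wq e F').app (q.obj (R.P.obj X)))
    exact (NatTrans.isIso_app_iff_of_iso γ i).1 (by assumption)
  haveI := NatIso.isIso_of_isIso_app γ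
  refine (Functor.isLeftDerivedFunctor_iff_of_iso _ _ (R.counit' L L' q Wq e F') β W' (asIso γ).symm ?_).1
    (by assumption)
  ext X
  simp [γ]

end Recognize

variable {X Y Z : Scheme.{u}} (f : X ⟶ Y)

/-- The derived functors `Lf^*` and `Rf_*` are adjoint. -/
lemma nonempty_lpull_rpush_adj [DCoh.HasLpull f] [DCoh.HasRpush f] :
    Nonempty (DCoh.Lpull f ⊣ DCoh.Rpush f) := by
  let WX := HomotopyCategory.quasiIso X.Modules (ComplexShape.up ℤ)
  let WY := HomotopyCategory.quasiIso Y.Modules (ComplexShape.up ℤ)
  let α := (DCoh.pullKh f).totalLeftDerivedCounit DerivedCategory.Qh WY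
  let β := (DCoh.pushKh f).totalRightDerivedUnit DerivedCategory.Qh WX
  haveI := TriCat.qh_isLeftAdjoint_of_exists_resolution (A := X.Modules) exists_kInjective_res
  let adjQ := Adjunction.ofIsLeftAdjoint (DerivedCategory.Qh (C := X.Modules))
  haveI : (DerivedCategory.Qh.rightAdjoint ⋙ DCoh.pushKh f).IsRightDerivedFunctor
      (Functor.whiskerRight adjQ.unit (DCoh.pushKh f)) WX :=
    TriCat.isRightDerivedFunctor_of_adjunction adjQ WX (DCoh.pushKh f)
  let e₀ : DerivedCategory.Qh.rightAdjoint ⋙ DCoh.pushKh f ≅ DCoh.Rpush f :=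
    Functor.rightDerivedUnique _ _ (Functor.whiskerRight adjQ.unit (DCoh.pushKh f)) β WX
  haveI : (DCoh.Rpush f ⋙ DCoh.Lpull f).IsRightDerivedFunctor
      (Functor.whiskerRight β (DCoh.Lpull f) ≫ (Functor.associator _ _ _).hom) WX := by
    haveI h := TriCat.isRightDerivedFunctor_of_adjunction adjQ WX (DCoh.pushKh f ⋙ DCoh.Lpull f)
    refine (Functor.isRightDerivedFunctor_iff_of_iso _ _ WX
      ((Functor.associator _ _ _).symm ≪≫ Functor.isoWhiskerRight e₀ (DCoh.Lpull f)) ?_).1 h
    ext K
    simp only [NatTrans.comp_app, Functor.whiskerLeft_app, Functor.whiskerRight_app, Iso.trans_hom,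
      Iso.symm_hom, Functor.associator_inv_app, Functor.isoWhiskerRight_hom,
      Functor.associator_hom_app, Category.id_comp]
    erw [Category.comp_id]
    refine ((DCoh.Lpull f).map_comp _ _).symm.trans ?_
    congr 1
    exact (Functor.rightDerivedNatTrans_app (DerivedCategory.Qh.rightAdjoint ⋙ DCoh.pushKh f)
      (DCoh.Rpush f) (Functor.whiskerRight adjQ.unit (DCoh.pushKh f)) β WX (𝟙 _) K).trans
      (Category.id_comp _)
  let q := HomotopyCategory.quotient Y.Modules (ComplexShape.up ℤ)
  haveI : (DCoh.Lpull f ⋙ DCoh.Rpush f).IsLeftDerivedFunctor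
      ((Functor.associator _ _ _).inv ≫ Functor.whiskerRight α (DCoh.Rpush f)) WY := by
    refine isLeftDerivedFunctor_of_isIso (L := DerivedCategory.Q) (q := q)
      (HomologicalComplex.homotopyEquivalences Y.Modules (ComplexShape.up ℤ))
      (DerivedCategory.quotientCompQhIso Y.Modules)
      ((resOfFunctor (Scheme.Modules.pullback f)
        (fun _ _ a hP hQ ha => haveI := ha; quasiIso_pullback f a hP hQ)).postcomp (DCoh.Rpush f))
      _ fun K hK => ?_
    haveI : IsIso (α.app (q.obj K)) := isIso_Lpull_counit f hK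
    simp only [NatTrans.comp_app, Functor.associator_inv_app, Functor.whiskerRight_app]
    erw [Category.id_comp]
    infer_instance
  exact ⟨(adjHtpy (ComplexShape.up ℤ) (Scheme.Modules.pullbackPushforwardAdjunction f)).derived
    WY WX α β⟩

lemma nonempty_rpush_comp (g : Y ⟶ Z) [DCoh.HasRpush f] [DCoh.HasRpush g] [DCoh.HasRpush (f ≫ g)] :
    Nonempty (DCoh.Rpush f ⋙ DCoh.Rpush g ≅ DCoh.Rpush (f ≫ g)) := by
  haveI := hasLpull f
  haveI := hasLpull g
  haveI := hasLpull (f ≫ g)
  obtain ⟨af⟩ := nonempty_lpull_rpush_adj f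
  obtain ⟨ag⟩ := nonempty_lpull_rpush_adj g
  obtain ⟨afg⟩ := nonempty_lpull_rpush_adj (f ≫ g)
  obtain ⟨e⟩ := nonempty_lpull_comp f g
  exact ⟨((ag.comp af).ofNatIsoLeft e).rightAdjointUniq afg⟩

end Groth.Agent.KFlatLib
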