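import Groth.Agent.KFlatLib.Scheme.QCohDerived
import Groth.Agent.KFlatLib.Scheme.Adjoint
import Mathlib.Algebra.Homology.DerivedCategory.TStructure

/-!
# `Lf^*` is right t-exact, `Rf_*` is left t-exact
-/

set_option linter.style.haveILetI false

universe u

open CategoryTheory CategoryTheory.Limits AlgebraicGeometry

attribute [local instance] HasDerivedCategory.standard

namespace Groth.Agent.KFlatLib

variable {X Y : Scheme.{u}} (f : X ⟶ Y)

lemma isLE_lpull [DCoh.HasLpull f] (K : DCoh.D Y) (n : ℤ) [K.IsLE n] :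
    ((DCoh.Lpull f).obj K).IsLE n := by
  obtain ⟨K₀, hK₀, ⟨e⟩⟩ := DerivedCategory.exists_iso_Q_obj_of_isLE K n
  obtain ⟨R, ρ, hρ, hR, hR'⟩ := exists_flat_rep K₀ n
  haveI := hρ
  haveI := isIso_Lpull_counit f hR'
  let q := HomotopyCategory.quotient Y.Modules (ComplexShape.up ℤ)
  let e₁ : DerivedCategory.Qh.obj (q.obj R) ≅ K :=
    (DerivedCategory.quotientCompQhIso Y.Modules).app R ≪≫ asIso (DerivedCategory.Q.map ρ) ≪≫ e.symm
  have e₂ : (DCoh.Lpull f).obj K ≅ DerivedCategory.Q.obj
      (((Scheme.Modules.pullback f).mapHomologicalComplex (ComplexShape.up ℤ)).obj R) :=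
    (DCoh.Lpull f).mapIso e₁.symm ≪≫
      asIso (((DCoh.pullKh f).totalLeftDerivedCounit DerivedCategory.Qh
        (HomotopyCategory.quasiIso Y.Modules (ComplexShape.up ℤ))).app (q.obj R)) ≪≫
      (DerivedCategory.quotientCompQhIso X.Modules).app _
  exact DerivedCategory.TStructure.t.isLE_of_iso e₂.symm n

lemma isGE_rpush [DCoh.HasRpush f] (F : DCoh.D X) (n : ℤ) [F.IsGE n] :
    ((DCoh.Rpush f).obj F).IsGE n := by
  haveI := hasLpull f
  obtain ⟨adj⟩ := nonempty_lpull_rpush_adj f
  let t : Triangulated.TStructure (DCoh.D Y) := DerivedCategory.TStructure.t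
  let tX : Triangulated.TStructure (DCoh.D X) := DerivedCategory.TStructure.t
  refine (t.isGE_iff_orthogonal (n - 1) n (by omega) _).2 fun K a hK => ?_
  haveI : K.IsLE (n - 1) := hK
  haveI := isLE_lpull f K (n - 1)
  exact (adj.homEquiv _ _).symm.injective (by
    rw [tX.zero ((adj.homEquiv _ _).symm a) (n - 1) n (by omega)]
    exact (tX.zero ((adj.homEquiv _ _).symm 0) (n - 1) n (by omega)).symm)

end Groth.Agent.KFlatLib
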