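import Groth.Agent.KFlatLib.Scheme.Pullback
import Groth.Agent.KFlatLib.Scheme.Exact
import Mathlib.Algebra.Category.ModuleCat.Descent
import Mathlib.AlgebraicGeometry.Morphisms.Flat
import Mathlib.Algebra.Homology.HomotopyCategory.KInjective
import Mathlib.CategoryTheory.Adjunction.Additive
import Mathlib.Algebra.Homology.Additive

/-!
# Flat pullback is exact; pushforward preserves K-injective complexes
-/

set_option linter.style.haveILetI false

universe u

open CategoryTheory CategoryTheory.Limits AlgebraicGeometry

namespace Groth.Agent.KFlatLib

variable {X Y : Scheme.{u}} (f : X ⟶ Y)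

/-- Pullback along a flat map preserves exact sequences. -/
lemma exact_map_pullback [Flat f] {S : ShortComplex Y.Modules} (hS : S.Exact)
    [(Scheme.Modules.pullback f).PreservesZeroMorphisms] :
    (S.map (Scheme.Modules.pullback f)).Exact := by
  refine (exact_iff_stalk _).2 fun x => ?_
  haveI := ModuleCat.preservesFiniteLimits_extendScalars_of_flat (Flat.stalkMap f x)
  exact ShortComplex.exact_of_iso (S.mapNatIso (stalkPullbackIso f x)).symm
    (((exact_iff_stalk S).1 hS (f.base x)).map (ModuleCat.extendScalars (f.stalkMap x).hom))

/-- Pullback of complexes is left adjoint to pushforward of complexes. -/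
lemma isKInjective_pushforward [Flat f] (I : CochainComplex X.Modules ℤ) [hI : I.IsKInjective]
    [(Scheme.Modules.pullback f).Additive] [(Scheme.Modules.pushforward f).Additive] :
    CochainComplex.IsKInjective
      (((Scheme.Modules.pushforward f).mapHomologicalComplex (ComplexShape.up ℤ)).obj I) := by
  constructor
  intro K φ hK
  let adj := Scheme.Modules.pullbackPushforwardAdjunction f
  let K' := ((Scheme.Modules.pullback f).mapHomologicalComplex (ComplexShape.up ℤ)).obj K
  let ψ : K' ⟶ I :=
    { f := fun i => (adj.homEquiv _ _).symm (φ.f i)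
      comm' := fun i j _ => by
        change (adj.homEquiv _ _).symm (φ.f i) ≫ I.d i j =
          (Scheme.Modules.pullback f).map (K.d i j) ≫ (adj.homEquiv _ _).symm (φ.f j)
        rw [← adj.homEquiv_naturality_left_symm, ← adj.homEquiv_naturality_right_symm]
        exact congrArg _ (φ.comm i j) }
  have hK' : K'.Acyclic := fun n => by
    have h := hK n
    rw [HomologicalComplex.exactAt_iff] at h ⊢
    exact exact_map_pullback f h
  let G := (Scheme.Modules.pushforward f).mapHomologicalComplex (ComplexShape.up ℤ)
  let η : K ⟶ G.obj K' :=
    { f := fun i => adj.unit.app (K.X i)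
      comm' := fun i j _ => (adj.unit.naturality (K.d i j)).symm }
  have hφ : φ = η ≫ G.map ψ := by
    ext i : 1
    exact ((adj.homEquiv_unit ..).symm.trans ((adj.homEquiv _ _).apply_symm_apply (φ.f i))).symm
  exact ⟨(Homotopy.ofEq hφ).trans
    ((((Scheme.Modules.pushforward f).mapHomotopy
        (CochainComplex.IsKInjective.homotopyZero ψ hK')).compLeft η).trans
      (Homotopy.ofEq (by rw [Functor.map_zero, comp_zero])))⟩

end Groth.Agent.KFlatLib
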