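import Groth.Agent.QCoh.RpushGod
import Groth.Agent.QCoh.Bound
import Groth.Agent.QCoh.ClosedPush

/-!
# Bounds for module-valued higher direct images, locally on the target
-/

universe u

set_option backward.isDefEq.respectTransparency false
set_option backward.isDefEq.respectTransparency.types false
set_option linter.style.haveILetI false

open CategoryTheory CategoryTheory.Limits AlgebraicGeometry TopologicalSpace Opposite

namespace Groth.Agent.KFlatLib

open QCoh

variable {X Y : Scheme.{u}}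

/-- A module vanishing on the members of an open cover vanishes. -/
lemma isZero_of_isZero_restrict (A : Y.Modules)
    (h : ∀ y : Y, ∃ U : Y.Opens, y ∈ U ∧ IsZero ((Scheme.Modules.restrictFunctor U.ι).obj A)) :
    IsZero A := by
  rw [IsZero.iff_id_eq_zero]
  refine Scheme.Modules.hom_ext _ _ fun W => ?_
  ext x
  refine QCoh.eq_zero_of_locally W _ fun y hy => ?_
  obtain ⟨U, hyU, hU⟩ := h y
  refine ⟨U.ι ''ᵁ (U.ι ⁻¹ᵁ W), homOfLE (U.ι.image_preimage_le _), ⟨⟨y, hyU⟩, hy, rfl⟩, ?_⟩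
  exact congr($((IsZero.iff_id_eq_zero _).1 hU).app (U.ι ⁻¹ᵁ W) _)

variable (f : X ⟶ Y) [QuasiCompact f] [QuasiSeparated f] [HasInjectiveResolutions X.Modules]

/-- Near an affine open of the target the higher direct images are bounded. -/
theorem exists_Rpush_bound_near {V₀ : Y.Opens} (hV₀ : IsAffineOpen V₀) :
    ∃ d : ℕ, ∀ M : X.Modules, Coh.IsQCoh M → ∀ p : ℕ, d ≤ p →
      IsZero ((Scheme.Modules.restrictFunctor V₀.ι).obj ((Coh.Rpush f p).obj M)) := by
  obtain ⟨d, hd⟩ := exists_bound (f ⁻¹ᵁ V₀) (f.isCompact_preimage hV₀.isCompact)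
    (f.isQuasiSeparated_preimage hV₀.isQuasiSeparated)
  refine ⟨d + 1, fun M hM p hp => ?_⟩
  obtain ⟨q, rfl⟩ := Nat.exists_eq_add_of_le (show 1 ≤ p by omega)
  rw [Nat.add_comm]
  obtain ⟨e⟩ := nonempty_Rpush_iso f M q
  let R := Scheme.Modules.restrictFunctor V₀.ι
  let g := (Scheme.Modules.pushforward f).map (godπ M q)
  haveI : R.IsLeftAdjoint := (Scheme.Modules.restrictAdjunction V₀.ι).isLeftAdjoint
  haveI : Epi (R.map g) := by
    haveI : (toAbFunctor V₀.toScheme).Faithful :=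
      inferInstanceAs (SheafOfModules.toSheaf _).Faithful
    haveI : Epi ((toAbFunctor V₀.toScheme).map (R.map g)) := by
      refine (TopCat.Sheaf.isLocallySurjective_iff_epi _).1
        ((TopCat.Presheaf.isLocallySurjective_iff _).2 fun U t y hy => ?_)
      have hy' : y.1 ∈ V₀.ι ''ᵁ U := ⟨y, hy, rfl⟩
      obtain ⟨b, hb, hyb⟩ := hV₀.exists_basicOpen_le (V := V₀.ι ''ᵁ U) ⟨y.1, hy'⟩ y.2
      refine ⟨V₀.ι ⁻¹ᵁ Y.basicOpen b, fun z hz => ?_, ?_, hyb⟩
      · obtain ⟨z', hz', he⟩ := hb hz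
        exact Subtype.ext he ▸ hz'
      have hsub : Subsingleton (CohTop.HU (X := X.toPresheafedSpace.carrier) (abSheaf M) (q + 1)
          (f ⁻¹ᵁ (V₀.ι ''ᵁ (V₀.ι ⁻¹ᵁ Y.basicOpen b)))) := by
        rw [V₀.ι.image_preimage_eq_opensRange_inf, Scheme.Opens.opensRange_ι,
          inf_eq_right.2 (Y.basicOpen_le b), Scheme.preimage_basicOpen]
        exact hd (f.app V₀ b) M hM (q + 1) (by omega)
      exact godπ_app_surjective hsub _
    exact (toAbFunctor V₀.toScheme).epi_of_epi_map inferInstance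
  exact ((isZero_cokernel_of_epi (R.map g)).of_iso (PreservesCokernel.iso R g)).of_iso
    (R.mapIso e)

/-- Uniform bound for the higher direct images of quasi-coherent modules. -/
theorem exists_Rpush_bound [CompactSpace Y] : ∃ n : ℕ, ∀ M : X.Modules, Coh.IsQCoh M →
    ∀ p : ℕ, n ≤ p → IsZero ((Coh.Rpush f p).obj M) := by
  obtain ⟨s, hs, hsT⟩ := isCompact_iff_finite_and_eq_biUnion_affineOpens.mp
    (show IsCompact ((⊤ : Y.Opens) : Set Y) by simpa using isCompact_univ)
  have hb := fun W : Y.affineOpens => exists_Rpush_bound_near f W.2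
  choose d hd using hb
  refine ⟨hs.toFinset.sup d, fun M hM p hp => isZero_of_isZero_restrict _ fun y => ?_⟩
  have hy' : y ∈ (⊤ : Y.Opens) := trivial
  rw [hsT] at hy'
  obtain ⟨V, hVs, hyV⟩ : ∃ V ∈ s, y ∈ (V : Y.affineOpens).1 := by simpa using hy'
  exact ⟨V.1, hyV, hd V M hM p ((Finset.le_sup (hs.mem_toFinset.2 hVs)).trans hp)⟩

end Groth.Agent.KFlatLib
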