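import Groth.Agent.KFlatLib.Scheme.AffinePush
import Groth.Agent.KFlatLib.Scheme.LpullLE
import Groth.Agent.KFlatLib.Scheme.RpushBound
import Groth.Agent.KFlatLib.Scheme.PushKInj
import Groth.Agent.TriCat.MapExtend
import Mathlib.CategoryTheory.Abelian.Injective.Extend

/-!
# `Rf_*` on bounded complexes with quasi-coherent cohomology
-/

set_option linter.style.haveILetI false

universe u

open CategoryTheory CategoryTheory.Limits AlgebraicGeometry Pretriangulated

attribute [local instance] HasDerivedCategory.standard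

namespace Groth.Agent.KFlatLib

variable {X Y : Scheme.{u}} (f : X ⟶ Y) [DCoh.HasRpush f]

lemma hasInjectiveResolutions_modules : HasInjectiveResolutions X.Modules := inferInstance

lemma nonempty_rpush_iso_of_kInjective {I : CochainComplex X.Modules ℤ} [I.IsKInjective]
    {K : DCoh.D X} (e : DerivedCategory.Q.obj I ≅ K) :
    Nonempty ((DCoh.Rpush f).obj K ≅ DerivedCategory.Q.obj
      (((Scheme.Modules.pushforward f).mapHomologicalComplex (ComplexShape.up ℤ)).obj I)) := by
  let q := HomotopyCategory.quotient X.Modules (ComplexShape.up ℤ)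
  let q' := HomotopyCategory.quotient Y.Modules (ComplexShape.up ℤ)
  haveI := isIso_unit_of_kInjective f I
  let α := (DCoh.pushKh f).totalRightDerivedUnit DerivedCategory.Qh
    (HomotopyCategory.quasiIso X.Modules (ComplexShape.up ℤ))
  exact ⟨(DCoh.Rpush f).mapIso (e.symm ≪≫ ((DerivedCategory.quotientCompQhIso X.Modules).app I).symm)
    ≪≫ (asIso (α.app (q.obj I))).symm ≪≫
    DerivedCategory.Qh.mapIso (((Scheme.Modules.pushforward f).mapHomotopyCategoryFactors
      (ComplexShape.up ℤ)).app I) ≪≫ (DerivedCategory.quotientCompQhIso Y.Modules).app _⟩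

/-- The cohomology of `Rf_* M` is given by the derived functors of `f_*`. -/
lemma nonempty_hd_rpush_single [HasInjectiveResolutions X.Modules] (M : X.Modules) (n : ℕ) :
    Nonempty (DCoh.HD ((DCoh.Rpush f).obj (DCoh.inD X M)) (n : ℤ) ≅ (Coh.Rpush f n).obj M) := by
  obtain ⟨R⟩ := HasInjectiveResolution.out (Z := M)
  let P := (Scheme.Modules.pushforward f).mapHomologicalComplex (ComplexShape.up ℤ)
  haveI : R.cochainComplex.IsKInjective := CochainComplex.isKInjective_of_injective _ 0
  obtain ⟨e⟩ := nonempty_rpush_iso_of_kInjective f (I := R.cochainComplex) (K := DCoh.inD X M)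
    ((asIso (DerivedCategory.Q.map R.ι')).symm ≪≫
      (((SingleFunctors.evaluation _ _ 0).mapIso
        (DerivedCategory.singleFunctorsPostcompQIso X.Modules)).app M).symm)
  exact ⟨(DerivedCategory.homologyFunctor Y.Modules n).mapIso e ≪≫
    (DerivedCategory.homologyFunctorFactors Y.Modules n).app _ ≪≫
    (HomologicalComplex.homologyFunctor Y.Modules (ComplexShape.up ℤ) (n : ℤ)).mapIso
      (TriCat.mapExtendIso (Scheme.Modules.pushforward f) ComplexShape.embeddingUpNat R.cocomplex) ≪≫
    HomologicalComplex.extendHomologyIso _ ComplexShape.embeddingUpNat (j := n) (j' := (n : ℤ)) rfl ≪≫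
    (R.isoRightDerivedObj (Scheme.Modules.pushforward f) n).symm⟩

lemma nonempty_rpush_shift (K : DCoh.D X) (n : ℤ) :
    Nonempty ((DCoh.Rpush f).obj (K⟦n⟧) ≅ ((DCoh.Rpush f).obj K)⟦n⟧) := by
  haveI := TriCat.qh_isLeftAdjoint_of_exists_resolution (A := X.Modules) exists_kInjective_res
  let adjQ := Adjunction.ofIsLeftAdjoint (DerivedCategory.Qh (C := X.Modules))
  let ρ := (DerivedCategory.Qh (C := X.Modules)).rightAdjoint
  let W := HomotopyCategory.quasiIso X.Modules (ComplexShape.up ℤ)
  haveI : (ρ ⋙ DCoh.pushKh f).IsRightDerivedFunctor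
      (Functor.whiskerRight adjQ.unit (DCoh.pushKh f)) W :=
    TriCat.isRightDerivedFunctor_of_adjunction adjQ W (DCoh.pushKh f)
  let e : ρ ⋙ DCoh.pushKh f ≅ DCoh.Rpush f :=
    Functor.rightDerivedUnique _ _ (Functor.whiskerRight adjQ.unit (DCoh.pushKh f))
      ((DCoh.pushKh f).totalRightDerivedUnit DerivedCategory.Qh W) W
  letI := adjQ.rightAdjointCommShift ℤ
  exact ⟨(e.app _).symm ≪≫ ((ρ ⋙ DCoh.pushKh f).commShiftIso n).app K ≪≫
    (shiftFunctor (DCoh.D Y) n).mapIso (e.app K)⟩

lemma isZero_hd_rpush_of_lt (K : DCoh.D X) (a i : ℤ) [K.IsGE a] (hi : i < a) :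
    IsZero (DCoh.HD ((DCoh.Rpush f).obj K) i) := by
  haveI := isGE_rpush f K a
  exact DerivedCategory.isZero_of_isGE _ a i hi

omit [DCoh.HasRpush f] in
lemma isZero_restrict_of_exact {S : ShortComplex Y.Modules} (hS : S.Exact) (U : Y.Opens)
    (h₁ : IsZero ((Scheme.Modules.restrictFunctor U.ι).obj S.X₁))
    (h₃ : IsZero ((Scheme.Modules.restrictFunctor U.ι).obj S.X₃)) :
    IsZero ((Scheme.Modules.restrictFunctor U.ι).obj S.X₂) := by
  haveI : Flat U.ι := inferInstance
  exact (ShortComplex.exact_of_iso (S.mapNatIso (Scheme.Modules.restrictFunctorIsoPullback U.ι).symm) (exact_map_pullback U.ι hS)).isZero_X₂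
    (h₁.eq_of_src _ _) (h₃.eq_of_tgt _ _)

variable [QuasiCompact f] [QuasiSeparated f]

/-- The higher direct images of quasi-coherent modules vanish on `U` from `N` on. -/
def RpushVanish [HasInjectiveResolutions X.Modules] (U : Y.Opens) (N : ℕ) : Prop :=
  ∀ M : X.Modules, Coh.IsQCoh M → ∀ p : ℕ, N ≤ p →
    IsZero ((Scheme.Modules.restrictFunctor U.ι).obj ((Coh.Rpush f p).obj M))

variable [HasInjectiveResolutions X.Modules]

lemma rpush_bounded : ∀ (m : ℕ) (a : ℤ) (K : DCoh.D X), K.IsGE a → K.IsLE (a + m) →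
    DCoh.IsQCohD K → DCoh.IsQCohD ((DCoh.Rpush f).obj K) ∧
      ∀ (U : Y.Opens) (N : ℕ), RpushVanish f U N → ∀ i : ℤ, a + m + N ≤ i →
        IsZero ((Scheme.Modules.restrictFunctor U.ι).obj (DCoh.HD ((DCoh.Rpush f).obj K) i)) := by
  intro m
  induction m with
  | zero =>
    intro a K hge hle hq
    haveI := hge
    haveI : K.IsLE a := by simpa using hle
    obtain ⟨M, ⟨e⟩⟩ := DerivedCategory.exists_iso_singleFunctor_obj_of_isGE_of_isLE K a
    let es : K ≅ (DCoh.inD X M)⟦(-a : ℤ)⟧ :=
      e ≪≫ (((DerivedCategory.singleFunctors X.Modules).shiftIso (-a) a 0 (by omega)).app M).symm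
    obtain ⟨eS⟩ := nonempty_rpush_shift f (DCoh.inD X M) (-a)
    let eR : (DCoh.Rpush f).obj K ≅ ((DCoh.Rpush f).obj (DCoh.inD X M))⟦(-a : ℤ)⟧ :=
      (DCoh.Rpush f).mapIso es ≪≫ eS
    have hM : Coh.IsQCoh M := by
      refine isQCoh_of_iso ?_ (hq a)
      exact (DerivedCategory.homologyFunctor X.Modules a).mapIso e ≪≫
        (DerivedCategory.singleFunctorCompHomologyFunctorIso X.Modules a).app M
    let eH : ∀ i : ℤ, DCoh.HD ((DCoh.Rpush f).obj K) i ≅
        DCoh.HD ((DCoh.Rpush f).obj (DCoh.inD X M)) (i - a) := fun i =>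
      (DerivedCategory.homologyFunctor Y.Modules i).mapIso eR ≪≫
        ((DerivedCategory.homologyFunctor Y.Modules 0).shiftIso (-a) i (i - a) (by omega)).app _
    refine ⟨fun i => ?_, fun U N hN i hi => ?_⟩
    · refine isQCoh_of_iso (eH i).symm ?_
      rcases lt_or_ge (i - a) 0 with h | h
      · exact isQCoh_of_isZero (isZero_hd_rpush_of_lt f _ 0 _ h)
      · obtain ⟨n, hn⟩ := Int.eq_ofNat_of_zero_le h
        rw [hn]
        exact isQCoh_of_iso (nonempty_hd_rpush_single f M n).some.symm (QCoh.isQCoh_Rpush f hM n)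
    · obtain ⟨n, hn⟩ := Int.eq_ofNat_of_zero_le (show 0 ≤ i - a by omega)
      refine (hN M hM n (by omega)).of_iso ((Scheme.Modules.restrictFunctor U.ι).mapIso (eH i ≪≫ ?_))
      exact eqToIso (by rw [hn]) ≪≫ (nonempty_hd_rpush_single f M n).some
  | succ m ih =>
    intro a K hge hle hq
    haveI := hge
    haveI := hle
    let t : Triangulated.TStructure (DCoh.D X) := DerivedCategory.TStructure.t
    let T := (t.triangleLTGE (a + 1)).obj K
    have hT : T ∈ distTriang _ := t.triangleLTGE_distinguished _ K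
    haveI h₁le : T.obj₁.IsLE a := t.isLE_truncLT_obj K _ _ (by omega)
    haveI h₃ge : T.obj₃.IsGE (a + 1) := t.isGE_truncGE_obj K _ _ le_rfl
    haveI h₁ge : T.obj₁.IsGE a := by
      rw [DerivedCategory.isGE_iff]
      intro i hi
      exact (DerivedCategory.HomologySequence.exact₁ T hT (i - 1) i (by omega)).isZero_X₂
        ((DerivedCategory.isZero_of_isGE T.obj₃ (a + 1) (i - 1) (by omega)).eq_of_src _ _)
        ((DerivedCategory.isZero_of_isGE K a i hi).eq_of_tgt _ _)
    haveI h₃le : T.obj₃.IsLE (a + 1 + m) := by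
      rw [DerivedCategory.isLE_iff]
      intro i hi
      exact (DerivedCategory.HomologySequence.exact₃ T hT i (i + 1) rfl).isZero_X₂
        ((DerivedCategory.isZero_of_isLE K (a + (m + 1 : ℕ)) i (by omega)).eq_of_src _ _)
        ((DerivedCategory.isZero_of_isLE T.obj₁ a (i + 1) (by omega)).eq_of_tgt _ _)
    have hq₃ : DCoh.IsQCohD T.obj₃ := fun i => by
      by_cases hi : a + 1 ≤ i
      · haveI : Mono ((DerivedCategory.homologyFunctor X.Modules i).map T.mor₂) :=
          (DerivedCategory.HomologySequence.exact₂ T hT i).mono_g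
            ((DerivedCategory.isZero_of_isLE T.obj₁ a i (by omega)).eq_of_src _ _)
        haveI : Epi ((DerivedCategory.homologyFunctor X.Modules i).map T.mor₂) :=
          (DerivedCategory.HomologySequence.exact₃ T hT i (i + 1) rfl).epi_f
            ((DerivedCategory.isZero_of_isLE T.obj₁ a (i + 1) (by omega)).eq_of_tgt _ _)
        haveI := isIso_of_mono_of_epi ((DerivedCategory.homologyFunctor X.Modules i).map T.mor₂)
        exact isQCoh_of_iso (asIso ((DerivedCategory.homologyFunctor X.Modules i).map T.mor₂)) (hq i)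
      · exact isQCoh_of_isZero (DerivedCategory.isZero_of_isGE T.obj₃ (a + 1) i (by omega))
    have hq₁ : DCoh.IsQCohD T.obj₁ := isQCohD_obj₁ hT hq hq₃
    obtain ⟨r₁, v₁⟩ := ih a T.obj₁ h₁ge
      (DerivedCategory.TStructure.t.isLE_of_le _ a _ (by omega)) hq₁
    obtain ⟨r₃, v₃⟩ := ih (a + 1) T.obj₃ h₃ge h₃le hq₃
    obtain ⟨c, hc⟩ := exists_rpush_triangle f T hT
    refine ⟨isQCohD_obj₂ hc r₁ r₃, fun U N hN i hi => ?_⟩
    exact isZero_restrict_of_exact (DerivedCategory.HomologySequence.exact₂ _ hc i) U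
      (v₁ U N hN i (by push_cast at hi; omega)) (v₃ U N hN i (by push_cast at hi; omega))

/-- `Rf_*` preserves quasi-coherence of bounded below objects. -/
theorem isQCohD_rpush_of_isGE (K : DCoh.D X) (a : ℤ) [K.IsGE a] (hq : DCoh.IsQCohD K) :
    DCoh.IsQCohD ((DCoh.Rpush f).obj K) := fun i => by
  rcases lt_or_ge i a with h | h
  · exact isQCoh_of_isZero (isZero_hd_rpush_of_lt f K a i h)
  let t : Triangulated.TStructure (DCoh.D X) := DerivedCategory.TStructure.t
  let T := (t.triangleLTGE (i + 1)).obj K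
  have hT : T ∈ distTriang _ := t.triangleLTGE_distinguished _ K
  haveI h₁le : T.obj₁.IsLE i := t.isLE_truncLT_obj K _ _ (by omega)
  haveI h₃ge : T.obj₃.IsGE (i + 1) := t.isGE_truncGE_obj K _ _ le_rfl
  haveI h₁ge : T.obj₁.IsGE a := by
    rw [DerivedCategory.isGE_iff]
    intro j hj
    exact (DerivedCategory.HomologySequence.exact₁ T hT (j - 1) j (by omega)).isZero_X₂
      ((DerivedCategory.isZero_of_isGE T.obj₃ (i + 1) (j - 1) (by omega)).eq_of_src _ _)
      ((DerivedCategory.isZero_of_isGE K a j hj).eq_of_tgt _ _)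
  have hq₁ : DCoh.IsQCohD T.obj₁ := fun j => by
    by_cases hj : j ≤ i
    · haveI : Epi ((DerivedCategory.homologyFunctor X.Modules j).map T.mor₁) :=
        (DerivedCategory.HomologySequence.exact₂ T hT j).epi_f
          ((DerivedCategory.isZero_of_isGE T.obj₃ (i + 1) j (by omega)).eq_of_tgt _ _)
      haveI : Mono ((DerivedCategory.homologyFunctor X.Modules j).map T.mor₁) :=
        (DerivedCategory.HomologySequence.exact₁ T hT (j - 1) j (by omega)).mono_g
          ((DerivedCategory.isZero_of_isGE T.obj₃ (i + 1) (j - 1) (by omega)).eq_of_src _ _)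
      haveI := isIso_of_mono_of_epi ((DerivedCategory.homologyFunctor X.Modules j).map T.mor₁)
      exact isQCoh_of_iso (asIso ((DerivedCategory.homologyFunctor X.Modules j).map T.mor₁)).symm (hq j)
    · exact isQCoh_of_isZero (DerivedCategory.isZero_of_isLE T.obj₁ i j (by omega))
  obtain ⟨r₁, -⟩ := rpush_bounded f (i - a).toNat a T.obj₁ h₁ge
    (DerivedCategory.TStructure.t.isLE_of_le _ i _ (by omega)) hq₁
  obtain ⟨c, hc⟩ := exists_rpush_triangle f T hT
  let g := (DerivedCategory.homologyFunctor Y.Modules i).map ((DCoh.Rpush f).map T.mor₁)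
  haveI : Epi g := (DerivedCategory.HomologySequence.exact₂ _ hc i).epi_f
    ((isZero_hd_rpush_of_lt f T.obj₃ (i + 1) i (by omega)).eq_of_tgt _ _)
  haveI : Mono g := (DerivedCategory.HomologySequence.exact₁ _ hc (i - 1) i (by omega)).mono_g
    ((isZero_hd_rpush_of_lt f T.obj₃ (i + 1) (i - 1) (by omega)).eq_of_src _ _)
  have hg : IsIso g := isIso_of_mono_of_epi g
  exact isQCoh_of_iso (@asIso _ _ _ _ g hg) (r₁ i)

end Groth.Agent.KFlatLib
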