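import Groth.Agent.KFlatLib.Scheme.ProjPerfect

/-!
# The projection formula for higher direct images and finite locally free modules
-/

set_option linter.style.haveILetI false
set_option backward.isDefEq.respectTransparency false

universe u

open CategoryTheory CategoryTheory.Limits AlgebraicGeometry

attribute [local instance] HasDerivedCategory.standard

namespace Groth.Agent.KFlatLib

variable {X Y : Scheme.{u}} (f : X ⟶ Y)

/-- `Rf_*` exists. -/
theorem hasRpush_scheme : DCoh.HasRpush f := by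
  haveI := TriCat.qh_isLeftAdjoint_of_exists_resolution (A := X.Modules) exists_kInjective_res
  let adjQ := Adjunction.ofIsLeftAdjoint (DerivedCategory.Qh (C := X.Modules))
  let W := HomotopyCategory.quasiIso X.Modules (ComplexShape.up ℤ)
  have hd := TriCat.isRightDerivedFunctor_of_adjunction adjQ W (DCoh.pushKh f)
  exact Functor.HasRightDerivedFunctor.mk' (L := DerivedCategory.Qh)
    (DerivedCategory.Qh.rightAdjoint ⋙ DCoh.pushKh f) (Functor.whiskerRight adjQ.unit (DCoh.pushKh f)) (W := W)

/-- Homology commutes with tensoring by a flat module. -/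
theorem nonempty_homology_tensor_flat {E : Y.Modules} (hE : FlatMod.IsFlat E)
    (C : CochainComplex Y.Modules ℤ) (q : ℤ) :
    Nonempty (HomologicalComplex.homology ((DCoh.tensorCx.obj C).obj
      ((HomologicalComplex.single Y.Modules (ComplexShape.up ℤ) 0).obj E)) q ≅
        (DCoh.tensorBi.obj (C.homology q)).obj E) := by
  haveI : (DCoh.tensorBi.flip.obj E).PreservesHomology := by
    refine ((Functor.exact_tfae (DCoh.tensorBi.flip.obj E)).out 0 2).1 ?_
    exact fun S hS => flatObj_of_isFlat hE S hS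
  exact ⟨(HomologicalComplex.homologyFunctor _ _ q).mapIso ((singleIso DCoh.tensorBi E).app C) ≪≫
    (C.sc q).mapHomologyIso (DCoh.tensorBi.flip.obj E)⟩

/-- The projection formula for higher direct images. -/
theorem nonempty_rpush_tensor_finLocFree [HasInjectiveResolutions X.Modules] (F : X.Modules)
    (E : Y.Modules) (hE : FlatMod.IsFinLocFree E) (q : ℕ) :
    Nonempty (CohB1.tensorMod E ((Coh.Rpush f q).obj F) ≅
      (Coh.Rpush f q).obj (CohB1.tensorMod ((Scheme.Modules.pullback f).obj E) F)) := by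
  haveI := hasRpush_scheme f
  let P := (HomologicalComplex.single Y.Modules (ComplexShape.up ℤ) 0).obj E
  have hsp : DCoh.IsStrictlyPerfect P :=
    ⟨⟨0, 0, fun i hi => HomologicalComplex.isZero_single_obj_X (ComplexShape.up ℤ) 0 _ i (by omega)⟩,
      fun i => by
        by_cases h : i = 0
        · exact H23.PullPush.isFinLocFree_of_iso
            (HomologicalComplex.singleObjXIsoOfEq (ComplexShape.up ℤ) 0 E i h).symm hE
        · exact isFinLocFree_of_isZero (HomologicalComplex.isZero_single_obj_X _ _ _ _ h)⟩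
  have hperf : DCoh.IsPerfect (DerivedCategory.Q.obj P) :=
    isPerfect_of_rep (F₀ := P) (Iso.refl _) fun y =>
      ⟨⊤, trivial, _, isStrictlyPerfect_restrict _ hsp, ⟨Iso.refl _⟩⟩
  have hP : DCoh.IsKFlat P :=
    haveI : CochainComplex.IsStrictlyLE P 0 := (CochainComplex.isStrictlyLE_iff _ 0).2
      fun i hi => HomologicalComplex.isZero_single_obj_X (ComplexShape.up ℤ) 0 _ i (by omega)
    isKFlat_of_isStrictlyLE P 0 fun i => isFlat_of_isFinLocFree (hsp.2 i)
  haveI := hasLTensorCx P
  haveI := hasLTensorCx ((pullCx f).obj P)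
  obtain ⟨e⟩ := nonempty_projection_perfect f P hP hperf (DCoh.inD X F)
  obtain ⟨C, ⟨eC⟩⟩ : ∃ C, Nonempty (DerivedCategory.Q.obj C ≅ (DCoh.Rpush f).obj (DCoh.inD X F)) :=
    ⟨_, ⟨DerivedCategory.Q.objObjPreimageIso _⟩⟩
  haveI := isIso_LTensorCx_counit_of_isKFlat_right P hP C
  obtain ⟨e₁⟩ := nonempty_homology_tensor_flat (isFlat_of_isFinLocFree hE) C q
  obtain ⟨e₂⟩ := nonempty_hd_rpush_single f F q
  let G := (Scheme.Modules.pullback f).obj E
  let M := (DCoh.tensorBi.obj F).obj G
  obtain ⟨e₃⟩ := nonempty_hd_rpush_single f M q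
  let sX := HomologicalComplex.single X.Modules (ComplexShape.up ℤ) 0
  haveI := isIso_LTensorCx_counit_of_isKFlat_right ((pullCx f).obj P) (isKFlat_pullback f hP) (sX.obj F)
  let e₄ : (DCoh.LTensorCx ((pullCx f).obj P)).obj (DCoh.inD X F) ≅ DCoh.inD X M :=
    (DCoh.LTensorCx _).mapIso ((DerivedCategory.singleFunctorIsoCompQ X.Modules 0).app F) ≪≫
    asIso (((DCoh.tensorCxQ ((pullCx f).obj P)).totalLeftDerivedCounit DerivedCategory.Q
      (qisX X)).app (sX.obj F)) ≪≫
    DerivedCategory.Q.mapIso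
      ((DCoh.tensorCx.obj (sX.obj F)).mapIso
        ((HomologicalComplex.singleMapHomologicalComplex (Scheme.Modules.pullback f) _ 0).app E) ≪≫
      (singleIso DCoh.tensorBi G).app _ ≪≫
      (HomologicalComplex.singleMapHomologicalComplex (DCoh.tensorBi.flip.obj G) _ 0).app F) ≪≫
    ((DerivedCategory.singleFunctorIsoCompQ X.Modules 0).app M).symm
  refine ⟨(((tensorBiFlipIso Y).app E).app ((Coh.Rpush f q).obj F)).symm ≪≫
    (DCoh.tensorBi.mapIso (e₂.symm ≪≫ (DerivedCategory.homologyFunctor _ (q : ℤ)).mapIso eC.symm ≪≫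
      (DerivedCategory.homologyFunctorFactors _ (q : ℤ)).app C)).app E ≪≫ e₁.symm ≪≫
    ((DerivedCategory.homologyFunctorFactors _ (q : ℤ)).app _).symm ≪≫
    (DerivedCategory.homologyFunctor _ (q : ℤ)).mapIso
      ((asIso (((DCoh.tensorCxQ P).totalLeftDerivedCounit DerivedCategory.Q (qisX Y)).app C)).symm ≪≫
        (DCoh.LTensorCx P).mapIso eC ≪≫ e ≪≫ (DCoh.Rpush f).mapIso e₄) ≪≫
    e₃ ≪≫ (Coh.Rpush f q).mapIso (((tensorBiFlipIso X).app G).app F)⟩

end Groth.Agent.KFlatLib
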