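import Groth.Agent.KFlatLib.Scheme.RpushRestrict
import Groth.Agent.KFlatLib.Scheme.LocalDevissage
import Groth.Agent.KFlatLib.Scheme.Adjoint
import Groth.Agent.KFlatLib.Scheme.ProjLocFree
import Mathlib.Algebra.Homology.DerivedCategory.KInjective
import Mathlib.Algebra.Category.ModuleCat.Sheaf.Free

/-!
# `RΓ ∘ Rf_* = RΓ`
-/

set_option linter.style.haveILetI false
set_option backward.isDefEq.respectTransparency false

universe u w v

open CategoryTheory CategoryTheory.Limits AlgebraicGeometry Opposite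

attribute [local instance] HasDerivedCategory.standard

namespace Groth.Agent.KFlatLib

variable {X Y : Scheme.{u}} (f : X ⟶ Y)

/-- A derived functor is computed by K-injective complexes. -/
theorem isIso_rightDerivedUnit_of_kInjective {H : Type w} [Category.{v} H]
    (F : HomotopyCategory X.Modules (ComplexShape.up ℤ) ⥤ H)
    [F.HasRightDerivedFunctor (HomotopyCategory.quasiIso X.Modules (ComplexShape.up ℤ))]
    (I : CochainComplex X.Modules ℤ) [I.IsKInjective] :
    IsIso ((F.totalRightDerivedUnit DerivedCategory.Qh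
      (HomotopyCategory.quasiIso X.Modules (ComplexShape.up ℤ))).app
        ((HomotopyCategory.quotient X.Modules (ComplexShape.up ℤ)).obj I)) := by
  haveI := TriCat.qh_isLeftAdjoint_of_exists_resolution (A := X.Modules) exists_kInjective_res
  let adjQ := Adjunction.ofIsLeftAdjoint (DerivedCategory.Qh (C := X.Modules))
  let ρ := (DerivedCategory.Qh (C := X.Modules)).rightAdjoint
  let W := HomotopyCategory.quasiIso X.Modules (ComplexShape.up ℤ)
  haveI : (ρ ⋙ F).IsRightDerivedFunctor (Functor.whiskerRight adjQ.unit F) W :=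
    TriCat.isRightDerivedFunctor_of_adjunction adjQ W F
  let α := F.totalRightDerivedUnit DerivedCategory.Qh W
  let e : ρ ⋙ F ≅ F.totalRightDerived DerivedCategory.Qh W :=
    Functor.rightDerivedUnique _ _ (Functor.whiskerRight adjQ.unit F) α W
  let qI := (HomotopyCategory.quotient X.Modules (ComplexShape.up ℤ)).obj I
  haveI : IsIso (adjQ.unit.app qI) := by
    refine isIso_iff_yoneda_map_bijective _ |>.2 fun A => ?_
    have hb := ((adjQ.homEquiv A (DerivedCategory.Qh.obj qI)).bijective).comp
      (CochainComplex.IsKInjective.Qh_map_bijective A I)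
    have h : (fun φ : A ⟶ qI => φ ≫ adjQ.unit.app qI) =
        (adjQ.homEquiv A (DerivedCategory.Qh.obj qI)) ∘ DerivedCategory.Qh.map :=
      funext fun φ => (adjQ.unit.naturality φ).trans (adjQ.homEquiv_unit ..).symm
    exact h ▸ hb
  have h : α.app qI = F.map (adjQ.unit.app qI) ≫ e.hom.app (DerivedCategory.Qh.obj qI) :=
    ((Functor.rightDerivedNatTrans_app (ρ ⋙ F) (F.totalRightDerived DerivedCategory.Qh W)
      (Functor.whiskerRight adjQ.unit F) α W (𝟙 _) qI).trans (Category.id_comp _)).symm
  haveI := (e.app (DerivedCategory.Qh.obj qI)).isIso_hom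
  change IsIso (α.app qI)
  rw [h]
  exact IsIso.comp_isIso' inferInstance (e.app (DerivedCategory.Qh.obj qI)).isIso_hom

/-- A K-flat complex does not see the difference between `Hom` in `K` and in `D` into `f_* I`. -/
theorem Qh_map_bijective_push (P : CochainComplex Y.Modules ℤ) (hP : DCoh.IsKFlat P)
    (I : CochainComplex X.Modules ℤ) [I.IsKInjective] :
    Function.Bijective (DerivedCategory.Qh.map :
      ((HomotopyCategory.quotient Y.Modules (ComplexShape.up ℤ)).obj P ⟶
        ((Scheme.Modules.pushforward f).mapHomotopyCategory (ComplexShape.up ℤ)).obj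
          ((HomotopyCategory.quotient X.Modules (ComplexShape.up ℤ)).obj I)) → _) := by
  let c := ComplexShape.up ℤ
  let q := HomotopyCategory.quotient Y.Modules c
  let qI := (HomotopyCategory.quotient X.Modules c).obj I
  let L := (Scheme.Modules.pullback f).mapHomotopyCategory c
  let adj := adjHtpy c (Scheme.Modules.pullbackPushforwardAdjunction f)
  let W := HomotopyCategory.quasiIso Y.Modules c
  -- refine a quasi-isomorphism to `P` to one with K-flat source
  have refine_t : ∀ {Z : HomotopyCategory Y.Modules c} (t : Z ⟶ q.obj P), W t →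
      ∃ (P' : CochainComplex Y.Modules ℤ) (r : q.obj P' ⟶ Z),
        W r ∧ IsIso (DerivedCategory.Qh.map (L.map (r ≫ t))) := by
    rintro ⟨Z⟩ t ht
    let r₀ := (flatCover Y).ψ.app Z
    obtain ⟨t₀, rfl⟩ := q.map_surjective t
    haveI : QuasiIso r₀ := (flatCover Y).quasiIso_ψ Z
    haveI : QuasiIso t₀ := (HomotopyCategory.quotient_map_mem_quasiIso_iff t₀).1 ht
    refine ⟨(kRes Y).obj Z, q.map r₀,
      (HomotopyCategory.quotient_map_mem_quasiIso_iff r₀).2 ((flatCover Y).quasiIso_ψ Z), ?_⟩
    haveI := quasiIso_pullback f (r₀ ≫ t₀) (isKFlat_kRes Z) hP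
    haveI := isIso_Q_map ((pullCx f).map (r₀ ≫ t₀)) inferInstance
    have h := (NatIso.isIso_map_iff (quotientMapIso (Scheme.Modules.pullback f)) (r₀ ≫ t₀)).2
      (by assumption)
    rw [← Functor.map_comp]
    exact h
  constructor
  · intro φ φ' h
    obtain ⟨Z, t, ht, ht'⟩ := (MorphismProperty.map_eq_iff_precomp DerivedCategory.Qh W φ φ').1 h
    obtain ⟨P', r, -, hr⟩ := refine_t t ht
    haveI := hr
    have h1 : L.map (r ≫ t) ≫ (adj.homEquiv _ qI).symm φ = L.map (r ≫ t) ≫ (adj.homEquiv _ qI).symm φ' := by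
      rw [← adj.homEquiv_naturality_left_symm, ← adj.homEquiv_naturality_left_symm, Category.assoc,
        Category.assoc, ht']
    refine (adj.homEquiv _ qI).symm.injective ?_
    refine (CochainComplex.IsKInjective.Qh_map_bijective _ I).1 ?_
    have h2 := congrArg DerivedCategory.Qh.map h1
    rw [DerivedCategory.Qh.map_comp, DerivedCategory.Qh.map_comp, cancel_epi] at h2
    exact h2
  · intro θ
    obtain ⟨ψ, rfl⟩ := Localization.exists_rightFraction DerivedCategory.Qh W θ
    obtain ⟨P', r, hrW, hr⟩ := refine_t ψ.s ψ.hs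
    haveI := hr
    obtain ⟨χ, hχ⟩ := (CochainComplex.IsKInjective.Qh_map_bijective (L.obj (q.obj P)) I).2
      (inv (DerivedCategory.Qh.map (L.map (r ≫ ψ.s))) ≫
        DerivedCategory.Qh.map ((adj.homEquiv _ qI).symm (r ≫ ψ.f)))
    refine ⟨adj.homEquiv _ qI χ, ?_⟩
    have h1 : L.map (r ≫ ψ.s) ≫ χ = (adj.homEquiv _ qI).symm (r ≫ ψ.f) :=
      (CochainComplex.IsKInjective.Qh_map_bijective _ I).1
        ((Functor.map_comp _ _ _).trans ((congrArg (_ ≫ ·) hχ).trans (IsIso.hom_inv_id_assoc _ _)))
    have h2 : (r ≫ ψ.s) ≫ adj.homEquiv _ qI χ = r ≫ ψ.f := by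
      rw [← adj.homEquiv_naturality_left, h1]
      exact (adj.homEquiv _ qI).apply_symm_apply _
    haveI : IsIso (DerivedCategory.Qh.map r) := Localization.inverts DerivedCategory.Qh W r hrW
    haveI : IsIso (DerivedCategory.Qh.map ψ.s) := Localization.inverts DerivedCategory.Qh W _ ψ.hs
    rw [← cancel_epi (DerivedCategory.Qh.map ψ.s), MorphismProperty.RightFraction.map_s_comp_map,
      ← Functor.map_comp, ← cancel_epi (DerivedCategory.Qh.map r), ← Functor.map_comp, ← Functor.map_comp]
    exact congrArg DerivedCategory.Qh.map ((Category.assoc _ _ _).symm.trans h2)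

/-- The structure sheaf is flat. -/
theorem isFlat_structureModule : FlatMod.IsFlat (Coh.structureModule X) :=
  IsFlat.of_iso (coproductUniqueIso fun _ : Fin 1 => Coh.structureModule X) (isFlat_freeMod 1)

/-- Global sections are corepresented by the structure sheaf. -/
noncomputable def topEquiv (M : Y.Modules) :
    (Coh.structureModule Y ⟶ M) ≃ (DCoh.gammaAb Y).obj M :=
  (SheafOfModules.unitHomEquiv.{u} M).trans
    { toFun := fun s => (s.val (op ⊤) : Γ(M, ⊤))
      invFun := fun a => PresheafOfModules.sectionsMk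
        (fun W => (M.presheaf.map (homOfLE (le_top : W.unop ≤ ⊤)).op
          (show Γ(M, ⊤) from a) : Γ(M, W.unop)))
        (fun W W' i => by
          refine (ConcreteCategory.congr_hom (M.presheaf.map_comp _ i) _).symm.trans ?_
          rfl)
      left_inv := fun s => Subtype.ext (funext fun W =>
        PresheafOfModules.sections_property s (homOfLE (le_top : W.unop ≤ ⊤)).op)
      right_inv := fun a => ConcreteCategory.congr_hom (M.presheaf.map_id _) a }

lemma topEquiv_naturality {M N : Y.Modules} (φ : Coh.structureModule Y ⟶ M) (g : M ⟶ N) :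
    topEquiv N (φ ≫ g) = (DCoh.gammaAb Y).map g (topEquiv M φ) :=
  rfl

lemma topEquiv_zero (M : Y.Modules) : topEquiv M 0 = 0 := rfl

/-- A criterion for quasi-isomorphisms of complexes of abelian groups. -/
theorem quasiIsoAt_ab {K L : CochainComplex AddCommGrpCat.{u} ℤ} (s : K ⟶ L) (n : ℤ)
    (hsurj : ∀ z : L.X n, L.d n (n + 1) z = 0 →
      ∃ y : K.X n, K.d n (n + 1) y = 0 ∧ ∃ w : L.X (n - 1), s.f n y - z = L.d (n - 1) n w)
    (hinj : ∀ y : K.X n, K.d n (n + 1) y = 0 → (∃ w : L.X (n - 1), s.f n y = L.d (n - 1) n w) →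
      ∃ w : K.X (n - 1), y = K.d (n - 1) n w) :
    QuasiIsoAt s n := by
  rw [quasiIsoAt_iff' s (n - 1) n (n + 1) (by simp) (by simp), ShortComplex.quasiIso_iff]
  let φ := (HomologicalComplex.shortComplexFunctor' AddCommGrpCat.{u} (ComplexShape.up ℤ)
    (n - 1) n (n + 1)).map s
  rw [ConcreteCategory.isIso_iff_bijective]
  constructor
  · rw [injective_iff_map_eq_zero]
    intro a ha
    obtain ⟨c, rfl⟩ := (AddCommGrpCat.epi_iff_surjective (K.sc' (n - 1) n (n + 1)).homologyπ).1
      inferInstance a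
    have hc : (K.sc' (n - 1) n (n + 1)).iCycles c ∈ (K.d n (n + 1)).hom.ker :=
      ConcreteCategory.congr_hom (K.sc' (n - 1) n (n + 1)).iCycles_g c
    have ha' : (L.sc' (n - 1) n (n + 1)).homologyπ (ShortComplex.cyclesMap φ c) = 0 :=
      (ConcreteCategory.congr_hom (ShortComplex.homologyπ_naturality φ) c).symm.trans ha
    obtain ⟨w, hw⟩ := (ShortComplex.ab_exact_iff _).1 (ShortComplex.exact_of_g_is_cokernel
      (ShortComplex.mk _ _ (L.sc' (n - 1) n (n + 1)).toCycles_comp_homologyπ)
      (L.sc' (n - 1) n (n + 1)).homologyIsCokernel) _ ha'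
    have hs : s.f n ((K.sc' (n - 1) n (n + 1)).iCycles c) = L.d (n - 1) n w :=
      (ConcreteCategory.congr_hom (ShortComplex.cyclesMap_i φ) c).symm.trans
        ((congrArg (L.sc' (n - 1) n (n + 1)).iCycles hw.symm).trans
          (ConcreteCategory.congr_hom (L.sc' (n - 1) n (n + 1)).toCycles_i w))
    obtain ⟨w', hw'⟩ := hinj _ hc ⟨w, hs⟩
    have : c = (K.sc' (n - 1) n (n + 1)).toCycles w' :=
      (AddCommGrpCat.mono_iff_injective (K.sc' (n - 1) n (n + 1)).iCycles).1 inferInstance
        (hw'.trans (ConcreteCategory.congr_hom (K.sc' (n - 1) n (n + 1)).toCycles_i w').symm)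
    rw [this]
    exact ConcreteCategory.congr_hom (K.sc' (n - 1) n (n + 1)).toCycles_comp_homologyπ w'
  · intro a
    obtain ⟨c, rfl⟩ := (AddCommGrpCat.epi_iff_surjective (L.sc' (n - 1) n (n + 1)).homologyπ).1
      inferInstance a
    obtain ⟨y, hy, w, hw⟩ := hsurj ((L.sc' (n - 1) n (n + 1)).iCycles c)
      (ConcreteCategory.congr_hom (L.sc' (n - 1) n (n + 1)).iCycles_g c)
    let cy := (K.sc' (n - 1) n (n + 1)).abCyclesIso.inv ⟨y, hy⟩
    refine ⟨(K.sc' (n - 1) n (n + 1)).homologyπ cy, ?_⟩
    have h : ShortComplex.cyclesMap φ cy - c = (L.sc' (n - 1) n (n + 1)).toCycles w := by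
      refine (AddCommGrpCat.mono_iff_injective (L.sc' (n - 1) n (n + 1)).iCycles).1 inferInstance ?_
      rw [map_sub]
      have e1 : (L.sc' (n - 1) n (n + 1)).iCycles (ShortComplex.cyclesMap φ cy) = s.f n y :=
        (ConcreteCategory.congr_hom (ShortComplex.cyclesMap_i φ) cy).trans
          (congrArg (s.f n) ((K.sc' (n - 1) n (n + 1)).abCyclesIso_inv_apply_iCycles ⟨y, hy⟩))
      rw [e1]
      exact hw.trans (ConcreteCategory.congr_hom (L.sc' (n - 1) n (n + 1)).toCycles_i w).symm
    have h' := congrArg (L.sc' (n - 1) n (n + 1)).homologyπ h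
    rw [map_sub] at h'
    refine (ConcreteCategory.congr_hom (ShortComplex.homologyπ_naturality φ) cy).trans ?_
    exact sub_eq_zero.1 (h'.trans
      (ConcreteCategory.congr_hom (L.sc' (n - 1) n (n + 1)).toCycles_comp_homologyπ w))

/-- A quasi-isomorphism from `f_* I` to a K-injective complex stays one on global sections. -/
theorem quasiIso_gamma_map (I : CochainComplex X.Modules ℤ) [I.IsKInjective]
    {J : CochainComplex Y.Modules ℤ} [J.IsKInjective]
    (s : (mapCx (Scheme.Modules.pushforward f)).obj I ⟶ J) [QuasiIso s] :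
    QuasiIso ((mapCx (DCoh.gammaAb Y)).map s) := by
  refine ⟨fun n => ?_⟩
  let c := ComplexShape.up ℤ
  let q := HomotopyCategory.quotient Y.Modules c
  let O := Coh.structureModule Y
  let P := (HomologicalComplex.single Y.Modules c n).obj O
  haveI : CochainComplex.IsStrictlyLE P n := (CochainComplex.isStrictlyLE_iff _ n).2
    fun i hi => HomologicalComplex.isZero_single_obj_X c n _ i (by omega)
  have hP : DCoh.IsKFlat P := isKFlat_of_isStrictlyLE P n (isFlat_single n isFlat_structureModule)
  let C := (mapCx (Scheme.Modules.pushforward f)).obj I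
  have hs : IsIso (DerivedCategory.Qh.map (q.map s)) :=
    Localization.inverts DerivedCategory.Qh (HomotopyCategory.quasiIso Y.Modules c) _
      ((HomotopyCategory.quotient_map_mem_quasiIso_iff s).2 (by rw [HomologicalComplex.mem_quasiIso_iff]; infer_instance))
  have hb : Function.Bijective (fun φ : q.obj P ⟶ q.obj C => φ ≫ q.map s) := by
    have h1 := Qh_map_bijective_push f P hP I
    have h2 := CochainComplex.IsKInjective.Qh_map_bijective (q.obj P) J
    have h3 : DerivedCategory.Qh.map ∘ (fun φ : q.obj P ⟶ q.obj C => φ ≫ q.map s) =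
        (fun θ => θ ≫ DerivedCategory.Qh.map (q.map s)) ∘ DerivedCategory.Qh.map :=
      funext fun φ => Functor.map_comp _ _ _
    refine (Function.Bijective.of_comp_iff' h2 _).1 ?_
    rw [h3]
    exact (asIso (DerivedCategory.Qh.map (q.map s))).homToEquiv.bijective.comp h1
  refine quasiIsoAt_ab _ n (fun z hz => ?_) fun y hy hw => ?_
  · obtain ⟨σ, rfl⟩ := (topEquiv (J.X n)).surjective z
    have hσ : ∀ j, c.Rel n j → σ ≫ J.d n j = 0 := fun j (hj : n + 1 = j) => by
      subst hj
      exact (topEquiv _).injective ((topEquiv_naturality σ _).trans (hz.trans (topEquiv_zero _).symm))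
    obtain ⟨φ, hφ⟩ := hb.2 (q.map (HomologicalComplex.mkHomFromSingle σ hσ))
    obtain ⟨φ, rfl⟩ := q.map_surjective φ
    let h := HomotopyCategory.homotopyOfEq _ _ ((q.map_comp φ s).trans hφ)
    let τ := (HomologicalComplex.singleObjXSelf c n O).inv ≫ φ.f n
    refine ⟨topEquiv (C.X n) τ, ?_, ?_⟩
    · have : τ ≫ C.d n (n + 1) = 0 := by
        rw [Category.assoc, φ.comm, HomologicalComplex.single_obj_d, zero_comp, comp_zero]
      exact (topEquiv_naturality τ (C.d n (n + 1))).symm.trans
        ((congrArg (topEquiv _) this).trans (topEquiv_zero _))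
    · refine ⟨topEquiv _ ((HomologicalComplex.singleObjXSelf c n O).inv ≫ h.hom n (n - 1)), ?_⟩
      have e := h.comm n
      rw [dNext_eq _ (show c.Rel n (n + 1) from rfl), prevD_eq _ (show c.Rel (n - 1) n by simp [c]),
        HomologicalComplex.single_obj_d, zero_comp, zero_add, HomologicalComplex.comp_f,
        HomologicalComplex.mkHomFromSingle_f] at e
      have e' : τ ≫ s.f n = ((HomologicalComplex.singleObjXSelf c n O).inv ≫ h.hom n (n - 1)) ≫
          J.d (n - 1) n + σ := by
        rw [Category.assoc, e, Preadditive.comp_add, Category.assoc, Iso.inv_hom_id_assoc]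
      have e'' := congrArg (topEquiv (J.X n)) e'
      rw [topEquiv_naturality] at e''
      refine sub_eq_iff_eq_add.2 (e''.trans ?_)
      rfl
  · obtain ⟨τ, rfl⟩ := (topEquiv (C.X n)).surjective y
    obtain ⟨w, hw⟩ := hw
    obtain ⟨η, rfl⟩ := (topEquiv (J.X (n - 1))).surjective w
    have hτ : ∀ j, c.Rel n j → τ ≫ C.d n j = 0 := fun j (hj : n + 1 = j) => by
      subst hj
      exact (topEquiv _).injective ((topEquiv_naturality τ _).trans (hy.trans (topEquiv_zero _).symm))
    have hτη : τ ≫ s.f n = η ≫ J.d (n - 1) n := (topEquiv _).injective hw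
    let g : ∀ i j, c.Rel j i → (P.X i ⟶ J.X j) := fun i j _ =>
      if h : i = n ∧ j = n - 1 then (HomologicalComplex.singleObjXIsoOfEq c n O i h.1).hom ≫ η ≫
        (J.XIsoOfEq h.2.symm).hom else 0
    have h0 : q.map (HomologicalComplex.mkHomFromSingle τ hτ) ≫ q.map s = 0 := by
      rw [← Functor.map_comp, ← Functor.map_zero q P J]
      refine HomotopyCategory.eq_of_homotopy _ _ (Homotopy.trans (Homotopy.ofEq ?_)
        (Homotopy.nullHomotopy' g))
      apply HomologicalComplex.from_single_hom_ext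
      rw [Homotopy.nullHomotopicMap'_f (show c.Rel (n - 1) n by simp [c]) (show c.Rel n (n + 1) from rfl),
        HomologicalComplex.single_obj_d, zero_comp, zero_add, HomologicalComplex.comp_f,
        HomologicalComplex.mkHomFromSingle_f, Category.assoc, hτη]
      simp [g, HomologicalComplex.XIsoOfEq_rfl]
      rfl
    have h1 : q.map (HomologicalComplex.mkHomFromSingle τ hτ) = 0 :=
      hb.1 (h0.trans (zero_comp).symm)
    let h := HomotopyCategory.homotopyOfEq _ _ (h1.trans (q.map_zero _ _).symm)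
    refine ⟨topEquiv _ ((HomologicalComplex.singleObjXSelf c n O).inv ≫ h.hom n (n - 1)), ?_⟩
    have e := h.comm n
    rw [dNext_eq _ (show c.Rel n (n + 1) from rfl), prevD_eq _ (show c.Rel (n - 1) n by simp [c]),
      HomologicalComplex.single_obj_d, zero_comp, zero_add, HomologicalComplex.zero_f, add_zero,
      HomologicalComplex.mkHomFromSingle_f] at e
    have e' : τ = ((HomologicalComplex.singleObjXSelf c n O).inv ≫ h.hom n (n - 1)) ≫ C.d (n - 1) n := by
      rw [Category.assoc, ← e, Iso.inv_hom_id_assoc]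
    exact congrArg (topEquiv (C.X n)) e'

variable [DCoh.HasRpush f] [DCoh.HasRΓ X] [DCoh.HasRΓ Y]

/-- The comparison `Γ(Y, f_* -) ⟶ RΓ(Y, Q f_* -)`. -/
noncomputable def gammaPushNat :
    DCoh.gammaKh X ⟶ DCoh.pushKh f ⋙ DCoh.RΓ Y :=
  (Functor.isoWhiskerRight (Functor.mapHomotopyCategoryCompIso (F := Scheme.Modules.pushforward f)
    (G := DCoh.gammaAb Y) (H := DCoh.gammaAb X) (Iso.refl _) (ComplexShape.up ℤ)).symm
    DerivedCategory.Qh).hom ≫
  Functor.whiskerLeft ((Scheme.Modules.pushforward f).mapHomotopyCategory (ComplexShape.up ℤ))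
    ((DCoh.gammaKh Y).totalRightDerivedUnit DerivedCategory.Qh
      (HomotopyCategory.quasiIso Y.Modules (ComplexShape.up ℤ)))

lemma isIso_gammaPushNat (I : CochainComplex X.Modules ℤ) [I.IsKInjective] :
    IsIso ((gammaPushNat f).app ((HomotopyCategory.quotient X.Modules (ComplexShape.up ℤ)).obj I)) := by
  let c := ComplexShape.up ℤ
  let q := HomotopyCategory.quotient Y.Modules c
  obtain ⟨J, s, hJ, hs⟩ := exists_kInjective_res ((mapCx (Scheme.Modules.pushforward f)).obj I)
  haveI := hJ
  haveI := hs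
  haveI := quasiIso_gamma_map f I s
  let β := (DCoh.gammaKh Y).totalRightDerivedUnit DerivedCategory.Qh
    (HomotopyCategory.quasiIso Y.Modules c)
  have w := β.naturality (q.map s)
  haveI := isIso_rightDerivedUnit_of_kInjective (DCoh.gammaKh Y) J
  have h1 : IsIso ((DCoh.gammaKh Y).map (q.map s)) :=
    Localization.inverts DerivedCategory.Qh (HomotopyCategory.quasiIso AddCommGrpCat.{u} c)
      ((HomotopyCategory.quotient AddCommGrpCat.{u} c).map ((mapCx (DCoh.gammaAb Y)).map s))
      ((HomotopyCategory.quotient_map_mem_quasiIso_iff _).2 (by rw [HomologicalComplex.mem_quasiIso_iff]; infer_instance))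
  haveI : IsIso (DerivedCategory.Qh.map (q.map s)) :=
    Localization.inverts DerivedCategory.Qh (HomotopyCategory.quasiIso Y.Modules c) _
      ((HomotopyCategory.quotient_map_mem_quasiIso_iff s).2 (by rw [HomologicalComplex.mem_quasiIso_iff]; infer_instance))
  have h2 : IsIso (β.app (q.obj ((mapCx (Scheme.Modules.pushforward f)).obj I)) ≫
      (DCoh.RΓ Y).map (DerivedCategory.Qh.map (q.map s))) :=
    w ▸ IsIso.comp_isIso' h1 inferInstance
  have h3 := IsIso.of_isIso_comp_right (β.app (q.obj ((mapCx (Scheme.Modules.pushforward f)).obj I)))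
    ((DCoh.RΓ Y).map (DerivedCategory.Qh.map (q.map s)))
  rw [gammaPushNat, NatTrans.comp_app]
  exact IsIso.comp_isIso' (NatIso.hom_app_isIso _ _) h3

/-- `RΓ ∘ Rf_* = RΓ`. -/
theorem nonempty_rpush_RΓ_iso : Nonempty (DCoh.Rpush f ⋙ DCoh.RΓ Y ≅ DCoh.RΓ X) := by
  haveI := TriCat.qh_isLeftAdjoint_of_exists_resolution (A := X.Modules) exists_kInjective_res
  let adjQ := Adjunction.ofIsLeftAdjoint (DerivedCategory.Qh (C := X.Modules))
  let ρ := (DerivedCategory.Qh (C := X.Modules)).rightAdjoint
  let W := HomotopyCategory.quasiIso X.Modules (ComplexShape.up ℤ)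
  haveI : (ρ ⋙ DCoh.pushKh f).IsRightDerivedFunctor
      (Functor.whiskerRight adjQ.unit (DCoh.pushKh f)) W :=
    TriCat.isRightDerivedFunctor_of_adjunction adjQ W (DCoh.pushKh f)
  haveI : (ρ ⋙ DCoh.gammaKh X).IsRightDerivedFunctor
      (Functor.whiskerRight adjQ.unit (DCoh.gammaKh X)) W :=
    TriCat.isRightDerivedFunctor_of_adjunction adjQ W (DCoh.gammaKh X)
  let e : ρ ⋙ DCoh.pushKh f ≅ DCoh.Rpush f :=
    Functor.rightDerivedUnique _ _ (Functor.whiskerRight adjQ.unit (DCoh.pushKh f))
      ((DCoh.pushKh f).totalRightDerivedUnit DerivedCategory.Qh W) W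
  let e' : ρ ⋙ DCoh.gammaKh X ≅ DCoh.RΓ X :=
    Functor.rightDerivedUnique _ _ (Functor.whiskerRight adjQ.unit (DCoh.gammaKh X))
      ((DCoh.gammaKh X).totalRightDerivedUnit DerivedCategory.Qh W) W
  let δ := Functor.whiskerLeft ρ (gammaPushNat f)
  haveI : ∀ E, IsIso (δ.app E) := fun E => by
    obtain ⟨I, s, hI, hs⟩ := exists_kInjective_res (DerivedCategory.Q.objPreimage E)
    haveI := hs
    let qI := (HomotopyCategory.quotient X.Modules (ComplexShape.up ℤ)).obj I
    let i : DerivedCategory.Qh.obj qI ≅ E :=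
      (DerivedCategory.quotientCompQhIso X.Modules).app I ≪≫
        (asIso (DerivedCategory.Q.map s)).symm ≪≫ DerivedCategory.Q.objObjPreimageIso E
    refine (NatTrans.isIso_app_iff_of_iso δ i).1 ?_
    haveI : IsIso (adjQ.unit.app qI) := by
      refine isIso_iff_yoneda_map_bijective _ |>.2 fun A => ?_
      have hb := ((adjQ.homEquiv A (DerivedCategory.Qh.obj qI)).bijective).comp
        (CochainComplex.IsKInjective.Qh_map_bijective A I)
      have h : (fun φ : A ⟶ qI => φ ≫ adjQ.unit.app qI) =
          (adjQ.homEquiv A (DerivedCategory.Qh.obj qI)) ∘ DerivedCategory.Qh.map :=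
        funext fun φ => (adjQ.unit.naturality φ).trans (adjQ.homEquiv_unit ..).symm
      exact h ▸ hb
    exact (NatTrans.isIso_app_iff_of_iso (gammaPushNat f) (asIso (adjQ.unit.app qI))).1
      (isIso_gammaPushNat f I)
  haveI := NatIso.isIso_of_isIso_app δ
  exact ⟨Functor.isoWhiskerRight e.symm (DCoh.RΓ Y) ≪≫ Functor.associator _ _ _ ≪≫
    (asIso δ).symm ≪≫ e'⟩

end Groth.Agent.KFlatLib
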