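import Groth.Agent.KFlatLib.Scheme.Adjoint
import Mathlib.CategoryTheory.Triangulated.Adjunction

/-!
# `Rf_*` is exact and commutes with derived limits
-/

set_option linter.style.haveILetI false

universe u

open CategoryTheory CategoryTheory.Limits AlgebraicGeometry Pretriangulated

attribute [local instance] HasDerivedCategory.standard

namespace Groth.Agent.KFlatLib

variable {X Y : Scheme.{u}} (f : X ⟶ Y) [DCoh.HasRpush f]

lemma exists_rpush_triangle (T : Triangle (DCoh.D X)) (hT : T ∈ distTriang (DCoh.D X)) :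
    ∃ c : (DCoh.Rpush f).obj T.obj₃ ⟶ ((DCoh.Rpush f).obj T.obj₁)⟦(1 : ℤ)⟧,
      Triangle.mk ((DCoh.Rpush f).map T.mor₁) ((DCoh.Rpush f).map T.mor₂) c ∈
        distTriang (DCoh.D Y) := by
  haveI := TriCat.qh_isLeftAdjoint_of_exists_resolution (A := X.Modules) exists_kInjective_res
  let adjQ := Adjunction.ofIsLeftAdjoint (DerivedCategory.Qh (C := X.Modules))
  let ρ := (DerivedCategory.Qh (C := X.Modules)).rightAdjoint
  let W := HomotopyCategory.quasiIso X.Modules (ComplexShape.up ℤ)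
  haveI : (ρ ⋙ DCoh.pushKh f).IsRightDerivedFunctor
      (Functor.whiskerRight adjQ.unit (DCoh.pushKh f)) W :=
    TriCat.isRightDerivedFunctor_of_adjunction adjQ W (DCoh.pushKh f)
  let e : ρ ⋙ DCoh.pushKh f ≅ DCoh.Rpush f :=
    Functor.rightDerivedUnique _ _ (Functor.whiskerRight adjQ.unit (DCoh.pushKh f))
      ((DCoh.pushKh f).totalRightDerivedUnit DerivedCategory.Qh W) W
  letI := adjQ.rightAdjointCommShift ℤ
  haveI := adjQ.commShift_of_leftAdjoint ℤ
  haveI : ρ.IsTriangulated := adjQ.isTriangulated_rightAdjoint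
  have h := (ρ ⋙ DCoh.pushKh f).map_distinguished T hT
  refine ⟨e.inv.app T.obj₃ ≫ ((ρ ⋙ DCoh.pushKh f).mapTriangle.obj T).mor₃ ≫
    (e.hom.app T.obj₁)⟦(1 : ℤ)⟧', isomorphic_distinguished _ h _ ?_⟩
  refine Triangle.isoMk _ _ (e.symm.app _) (e.symm.app _) (e.symm.app _) ?_ ?_ ?_
  · exact e.inv.naturality T.mor₁
  · exact e.inv.naturality T.mor₂
  · change (e.inv.app T.obj₃ ≫ ((ρ ⋙ DCoh.pushKh f).mapTriangle.obj T).mor₃ ≫
        (e.hom.app T.obj₁)⟦(1 : ℤ)⟧') ≫ (e.inv.app T.obj₁)⟦(1 : ℤ)⟧' = e.inv.app T.obj₃ ≫ _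
    rw [Category.assoc]
    refine congrArg (e.inv.app T.obj₃ ≫ ·) ((Category.assoc _ _ _).trans ?_)
    erw [← Functor.map_comp, Iso.hom_inv_id_app, CategoryTheory.Functor.map_id, Category.comp_id]

lemma isRlim_rpush (K : ℕ → DCoh.D X) (t : ∀ n, K (n + 1) ⟶ K n) [HasProduct K]
    [HasProduct fun n => (DCoh.Rpush f).obj (K n)] (L : DCoh.D X) (hL : DCoh.IsRlim K t L) :
    DCoh.IsRlim (fun n => (DCoh.Rpush f).obj (K n)) (fun n => (DCoh.Rpush f).map (t n))
      ((DCoh.Rpush f).obj L) := by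
  obtain ⟨a, c, h⟩ := hL
  haveI := hasLpull f
  obtain ⟨adj⟩ := nonempty_lpull_rpush_adj f
  haveI := adj.rightAdjoint_preservesLimits
  haveI : IsIso (piComparison (DCoh.Rpush f) K) := inferInstance
  obtain ⟨c', h'⟩ := exists_rpush_triangle f _ h
  let φ := PreservesProduct.iso (DCoh.Rpush f) K
  refine ⟨(DCoh.Rpush f).map a ≫ φ.hom, φ.inv ≫ c', isomorphic_distinguished _ h' _ ?_⟩
  have key : (DCoh.Rpush f).map (Pi.lift fun n => Pi.π K n - Pi.π K (n + 1) ≫ t n) ≫ φ.hom =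
      φ.hom ≫ Pi.lift fun n => Pi.π (fun n => (DCoh.Rpush f).obj (K n)) n -
        Pi.π (fun n => (DCoh.Rpush f).obj (K n)) (n + 1) ≫ (DCoh.Rpush f).map (t n) := by
    refine Pi.hom_ext _ _ fun n => ?_
    haveI : (DCoh.Rpush f).Additive := by
      haveI : HasBinaryBiproducts (DCoh.D X) := HasBinaryBiproducts.of_hasBinaryProducts
      haveI := preservesBinaryBiproducts_of_preservesBinaryProducts (DCoh.Rpush f)
      exact Functor.additive_of_preservesBinaryBiproducts _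
    simp only [φ, PreservesProduct.iso_hom, Category.assoc, piComparison_comp_π, Pi.lift_π,
      Preadditive.comp_sub, ← Functor.map_comp, Functor.map_sub]
    rw [Functor.map_comp]
    exact congrArg₂ (· - ·) rfl (((congrArg (· ≫ (DCoh.Rpush f).map (t n))
      (piComparison_comp_π (DCoh.Rpush f) K (n + 1))).symm).trans (Category.assoc _ _ _))
  refine Triangle.isoMk _ _ (Iso.refl _) φ.symm φ.symm ?_ ?_ ?_
  · change ((DCoh.Rpush f).map a ≫ φ.hom) ≫ φ.inv = 𝟙 _ ≫ (DCoh.Rpush f).map a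
    rw [Category.assoc, Iso.hom_inv_id, Category.comp_id, Category.id_comp]
  · change _ ≫ φ.inv = φ.inv ≫ (DCoh.Rpush f).map _
    rw [Iso.eq_inv_comp, ← Category.assoc, Iso.comp_inv_eq]
    exact key.symm
  · change (φ.inv ≫ c') ≫ (𝟙 ((DCoh.Rpush f).obj L))⟦(1 : ℤ)⟧' = φ.inv ≫ c'
    exact (congrArg ((φ.inv ≫ c') ≫ ·) ((shiftFunctor (DCoh.D Y) (1 : ℤ)).map_id _)).trans
      (Category.comp_id _)

end Groth.Agent.KFlatLib
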