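import Groth.Agent.KFlatLib.Scheme.MayerVietoris
import Groth.Agent.KFlatLib.Scheme.RGammaPush
import Groth.Agent.KFlatLib.Scheme.RpushTriangle

/-!
# Mayer-Vietoris triangles of derived pushforwards
-/

set_option linter.style.haveILetI false
set_option backward.isDefEq.respectTransparency false

universe u

open CategoryTheory CategoryTheory.Limits AlgebraicGeometry TopologicalSpace Pretriangulated Opposite

attribute [local instance] HasDerivedCategory.standard

namespace Groth.Agent.KFlatLib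

/-- A Mayer-Vietoris sequence of restrictions becomes split under a functor inverting one side. -/
theorem shortExact_map_mv' {C D : Type*} [Category C] [Abelian C] [Category D] [Abelian D]
    (Φ : C ⥤ D) [Φ.Additive] {W A B M : C} (ca : M ⟶ A) (cb : M ⟶ B) (ra : A ⟶ W) (rb : B ⟶ W)
    (h : ca ≫ ra = cb ≫ rb) (ha : IsIso (Φ.map ca)) (hb : IsIso (Φ.map rb)) :
    ((ShortComplex.mk (biprod.lift ca cb) (biprod.desc ra (-rb)) (by simp [h])).map Φ).ShortExact := by
  refine ShortComplex.Splitting.shortExact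
    { r := Φ.map (biprod.fst : A ⊞ B ⟶ A) ≫ inv (Φ.map ca)
      s := -(inv (Φ.map rb) ≫ Φ.map (biprod.inr : B ⟶ A ⊞ B))
      f_r := ?_
      s_g := ?_
      id := ?_ }
  · change Φ.map (biprod.lift ca cb) ≫ (Φ.map biprod.fst ≫ inv (Φ.map ca)) = 𝟙 _
    rw [← Category.assoc, ← Functor.map_comp, biprod.lift_fst, IsIso.hom_inv_id]
  · change (-(inv (Φ.map rb) ≫ Φ.map biprod.inr)) ≫ Φ.map (biprod.desc ra (-rb)) = 𝟙 _
    rw [Preadditive.neg_comp, Category.assoc, ← Functor.map_comp, biprod.inr_desc, Functor.map_neg,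
      Preadditive.comp_neg, neg_neg, IsIso.inv_hom_id]
  · have main : (Φ.map (biprod.fst : A ⊞ B ⟶ A) ≫ inv (Φ.map ca)) ≫ Φ.map (biprod.lift ca cb) +
        Φ.map (biprod.desc ra (-rb)) ≫ (-(inv (Φ.map rb) ≫ Φ.map biprod.inr)) = 𝟙 (Φ.obj (A ⊞ B)) := by
      have e1 : inv (Φ.map ca) ≫ Φ.map cb = Φ.map ra ≫ inv (Φ.map rb) := by
        rw [IsIso.inv_comp_eq, ← Category.assoc, IsIso.eq_comp_inv, ← Φ.map_comp, ← Φ.map_comp, h]
      have e2 : (biprod.lift ca cb : M ⟶ A ⊞ B) = ca ≫ biprod.inl + cb ≫ biprod.inr := by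
        apply biprod.hom_ext <;> simp
      have e3 : (biprod.desc ra (-rb) : A ⊞ B ⟶ W) = biprod.fst ≫ ra - biprod.snd ≫ rb := by
        apply biprod.hom_ext' <;> simp
      rw [e2, e3, Φ.map_sub, Φ.map_add, Φ.map_comp, Φ.map_comp, Φ.map_comp, Φ.map_comp]
      simp only [Preadditive.comp_neg, Preadditive.sub_comp, Preadditive.comp_add, Category.assoc,
        IsIso.inv_hom_id_assoc, IsIso.hom_inv_id_assoc, reassoc_of% e1]
      rw [← Φ.map_id, ← biprod.total, Φ.map_add, Φ.map_comp, Φ.map_comp]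
      abel
    exact main

variable {X : Scheme.{u}}

/-- `j_* j^*`. -/
noncomputable abbrev resPush (U : X.Opens) : X.Modules ⥤ X.Modules :=
  Scheme.Modules.restrictFunctor U.ι ⋙ Scheme.Modules.pushforward U.ι

/-- The unit `1 ⟶ j_* j^*`. -/
noncomputable abbrev pushUnit (U : X.Opens) : 𝟭 X.Modules ⟶ resPush U :=
  (Scheme.Modules.restrictAdjunction U.ι).unit

lemma isIso_presheaf_map {T : TopCat.{u}} (F : TopCat.Presheaf Ab.{u} T) {A B : (Opens T)ᵒᵖ}
    (g : A ⟶ B) (h : A.unop = B.unop) : IsIso (F.map g) := by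
  obtain rfl : A = B := congrArg op h
  rw [Subsingleton.elim g (𝟙 A), F.map_id]
  infer_instance

lemma image_preimage_ι (U O : X.Opens) : U.ι ''ᵁ (U.ι ⁻¹ᵁ O) = U ⊓ O := by
  rw [Scheme.Hom.image_preimage_eq_opensRange_inf, Scheme.Opens.opensRange_ι]

/-- The unit is invertible on sections below the open. -/
lemma isIso_pushUnit_app (U : X.Opens) (M : X.Modules) (O : X.Opens) (h : O ≤ U) :
    IsIso (((pushUnit U).app M).app O) := by
  rw [Scheme.Modules.restrictAdjunction_unit_app_app]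
  exact isIso_presheaf_map M.presheaf _
    (show O = U.ι ''ᵁ (U.ι ⁻¹ᵁ O) by rw [image_preimage_ι, inf_eq_right.2 h])

lemma isIso_pushUnit_resPush (W U : X.Opens) (h : W ≤ U) (M : X.Modules) :
    IsIso ((pushUnit U).app ((resPush W).obj M)) := by
  refine Scheme.Modules.Hom.isIso_iff_isIso_app.2 fun O => ?_
  rw [Scheme.Modules.restrictAdjunction_unit_app_app]
  change IsIso (M.presheaf.map _)
  exact isIso_presheaf_map M.presheaf _
    (show W.ι ''ᵁ (W.ι ⁻¹ᵁ O) = W.ι ''ᵁ (W.ι ⁻¹ᵁ (U.ι ''ᵁ (U.ι ⁻¹ᵁ O))) by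
      rw [image_preimage_ι, image_preimage_ι, image_preimage_ι, ← inf_assoc, inf_eq_left.2 h])

/-- The transition `j_{U*} j_U^* ⟶ j_{W*} j_W^*`. -/
noncomputable def pushTrans (W U : X.Opens) (h : W ≤ U) : resPush U ⟶ resPush W :=
  haveI : ∀ M, IsIso ((Functor.whiskerLeft (resPush W) (pushUnit U)).app M) :=
    fun M => isIso_pushUnit_resPush W U h M
  haveI := NatIso.isIso_of_isIso_app (Functor.whiskerLeft (resPush W) (pushUnit U))
  (Functor.leftUnitor _).inv ≫ Functor.whiskerRight (pushUnit W) (resPush U) ≫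
    inv (Functor.whiskerLeft (resPush W) (pushUnit U)) ≫ (Functor.rightUnitor _).hom

lemma pushTrans_app (W U : X.Opens) (h : W ≤ U) (M : X.Modules) :
    haveI := isIso_pushUnit_resPush W U h M
    (pushTrans W U h).app M = (resPush U).map ((pushUnit W).app M) ≫
      inv ((pushUnit U).app ((resPush W).obj M)) := by
  haveI := isIso_pushUnit_resPush W U h M
  simp [pushTrans]

lemma pushUnit_trans (W U : X.Opens) (h : W ≤ U) (M : X.Modules) :
    (pushUnit U).app M ≫ (pushTrans W U h).app M = (pushUnit W).app M := by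
  haveI := isIso_pushUnit_resPush W U h M
  rw [pushTrans_app, ← Category.assoc, IsIso.comp_inv_eq]
  exact ((pushUnit U).naturality ((pushUnit W).app M)).symm

/-- The transition is invertible where the two opens agree. -/
lemma isIso_pushTrans_app (W U : X.Opens) (h : W ≤ U) (M : X.Modules) (O : X.Opens)
    (hO : U ⊓ O ≤ W) : IsIso (((pushTrans W U h).app M).app O) := by
  haveI := isIso_pushUnit_resPush W U h M
  rw [pushTrans_app, Scheme.Modules.Hom.comp_app]
  refine IsIso.comp_isIso' ?_ (Scheme.Modules.Hom.isIso_iff_isIso_app.1 inferInstance O)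
  exact isIso_pushUnit_app W M _ ((image_preimage_ι U O).trans_le hO)

lemma isIso_stalk_of_app {M N : X.Modules} (φ : M ⟶ N) (U : X.Opens) (x : X) (hx : x ∈ U)
    (h : ∀ O ≤ U, IsIso (φ.app O)) : IsIso ((DerSch.stalkFunctor X x).map φ) := by
  haveI : IsIso ((Scheme.Modules.restrictFunctor U.ι).map φ) :=
    Scheme.Modules.Hom.isIso_iff_isIso_app.2 fun O =>
      h _ ((Scheme.Hom.image_le_opensRange U.ι O).trans_eq U.opensRange_ι)
  have hb := ConcreteCategory.bijective_of_isIso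
    ((DerSch.stalkFunctor (U : Scheme.{u}) ⟨x, hx⟩).map ((Scheme.Modules.restrictFunctor U.ι).map φ))
  exact (ConcreteCategory.isIso_iff_bijective _).2
    ⟨injective_stalk_of_restrict U.ι _ ⟨x, hx⟩ hb.1, surjective_stalk_of_restrict U.ι _ ⟨x, hx⟩ hb.2⟩

/-- The Mayer-Vietoris triangle of pushforwards of restrictions. -/
theorem exists_mvPush_triangle (U V : X.Opens) (hUV : U ⊔ V = ⊤) (C : CochainComplex X.Modules ℤ) :
    ∃ (a : DerivedCategory.Q.obj C ⟶
        DerivedCategory.Q.obj ((mapCx (resPush U)).obj C) ⊞ DerivedCategory.Q.obj ((mapCx (resPush V)).obj C))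
      (b : DerivedCategory.Q.obj ((mapCx (resPush U)).obj C) ⊞ DerivedCategory.Q.obj ((mapCx (resPush V)).obj C) ⟶
        DerivedCategory.Q.obj ((mapCx (resPush (U ⊓ V))).obj C))
      (c : DerivedCategory.Q.obj ((mapCx (resPush (U ⊓ V))).obj C) ⟶ (DerivedCategory.Q.obj C)⟦(1 : ℤ)⟧),
      Triangle.mk a b c ∈ distTriang (DCoh.D X) := by
  let ra := (NatTrans.mapHomologicalComplex (pushTrans (U ⊓ V) U inf_le_left) (ComplexShape.up ℤ)).app C
  let rb := (NatTrans.mapHomologicalComplex (pushTrans (U ⊓ V) V inf_le_right) (ComplexShape.up ℤ)).app C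
  let ca : C ⟶ (mapCx (resPush U)).obj C :=
    { f := fun n => (pushUnit U).app (C.X n)
      comm' := fun i k _ => ((pushUnit U).naturality (C.d i k)).symm }
  let cb : C ⟶ (mapCx (resPush V)).obj C :=
    { f := fun n => (pushUnit V).app (C.X n)
      comm' := fun i k _ => ((pushUnit V).naturality (C.d i k)).symm }
  have h : ca ≫ ra = cb ≫ rb := HomologicalComplex.hom_ext _ _ fun n =>
    (pushUnit_trans (U ⊓ V) U inf_le_left (C.X n)).trans
      (pushUnit_trans (U ⊓ V) V inf_le_right (C.X n)).symm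
  let S := ShortComplex.mk (biprod.lift ca cb) (biprod.desc ra (-rb)) (by simp [h])
  have hS : S.ShortExact := HomologicalComplex.shortExact_of_degreewise_shortExact S fun n => by
    rw [shortExact_iff_stalk]
    intro x
    let Φ := HomologicalComplex.eval X.Modules (ComplexShape.up ℤ) n ⋙ DerSch.stalkFunctor X x
    by_cases hx : x ∈ U
    · exact shortExact_map_mv' Φ ca cb ra rb h
        (isIso_stalk_of_app _ U x hx fun O hO => isIso_pushUnit_app U _ O hO)
        (isIso_stalk_of_app _ U x hx fun O hO => isIso_pushTrans_app (U ⊓ V) V inf_le_right _ O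
          (le_inf (inf_le_right.trans hO) inf_le_left))
    · have hv : x ∈ V := ((Opens.mem_sup).1 (hUV ▸ Opens.mem_top x)).resolve_left hx
      have h1 := shortExact_map_mv' Φ cb ca rb ra h.symm
        (isIso_stalk_of_app _ V x hv fun O hO => isIso_pushUnit_app V _ O hO)
        (isIso_stalk_of_app _ V x hv fun O hO => isIso_pushTrans_app (U ⊓ V) U inf_le_left _ O
          (le_inf inf_le_left (inf_le_right.trans hO)))
      refine ShortComplex.shortExact_of_iso ?_ h1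
      refine ShortComplex.isoMk (Iso.refl _) (Φ.mapIso (biprod.braiding _ _)) (-(Iso.refl _)) ?_ ?_
      · change 𝟙 _ ≫ Φ.map (biprod.lift ca cb) = Φ.map (biprod.lift cb ca) ≫ Φ.map _
        rw [← Φ.map_comp, Category.id_comp]
        refine congrArg Φ.map ?_
        apply biprod.hom_ext <;> simp
      · change Φ.map _ ≫ Φ.map (biprod.desc ra (-rb)) = Φ.map (biprod.desc rb (-ra)) ≫ (-(𝟙 _))
        refine (Φ.map_comp _ _).symm.trans (Eq.trans ?_
          ((Φ.map_neg).trans ((congrArg Neg.neg (Category.comp_id _)).symm.trans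
            (Preadditive.comp_neg _ _).symm)))
        refine congrArg Φ.map ?_
        apply biprod.hom_ext' <;> simp
  haveI := preservesBinaryBiproducts_of_preservesBinaryCoproducts (DerivedCategory.Q (C := X.Modules))
  let e := DerivedCategory.Q.mapBiprod ((mapCx (resPush U)).obj C) ((mapCx (resPush V)).obj C)
  refine ⟨DerivedCategory.Q.map S.f ≫ e.hom, e.inv ≫ DerivedCategory.Q.map S.g,
    DerivedCategory.triangleOfSESδ hS, ?_⟩
  refine isomorphic_distinguished _ (DerivedCategory.triangleOfSES_distinguished hS) _ ?_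
  exact Triangle.isoMk _ _ (Iso.refl _) e.symm (Iso.refl _) (by simp) (by simp) (by simp)

/-- The Mayer-Vietoris triangle in `D(X)`. -/
theorem exists_mvRpush_triangle (U V : X.Opens) (hUV : U ⊔ V = ⊤)
    [DCoh.HasRpush U.ι] [DCoh.HasRpush V.ι] [DCoh.HasRpush (U ⊓ V).ι]
    [PreservesFiniteLimits (Scheme.Modules.restrictFunctor U.ι)]
    [PreservesFiniteLimits (Scheme.Modules.restrictFunctor V.ι)]
    [PreservesFiniteLimits (Scheme.Modules.restrictFunctor (U ⊓ V).ι)] (E : DCoh.D X) :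
    ∃ (a : E ⟶ ((DCoh.Rpush U.ι).obj ((DCoh.restrictD U.ι).obj E) ⊞
        (DCoh.Rpush V.ι).obj ((DCoh.restrictD V.ι).obj E)))
      (b : ((DCoh.Rpush U.ι).obj ((DCoh.restrictD U.ι).obj E) ⊞
        (DCoh.Rpush V.ι).obj ((DCoh.restrictD V.ι).obj E)) ⟶
          (DCoh.Rpush (U ⊓ V).ι).obj ((DCoh.restrictD (U ⊓ V).ι).obj E))
      (c : (DCoh.Rpush (U ⊓ V).ι).obj ((DCoh.restrictD (U ⊓ V).ι).obj E) ⟶ E⟦(1 : ℤ)⟧),
      Triangle.mk a b c ∈ distTriang (DCoh.D X) := by
  obtain ⟨I, s, hI, hs⟩ := exists_kInjective_res (DerivedCategory.Q.objPreimage E)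
  haveI := hs
  let eE : DerivedCategory.Q.obj I ≅ E :=
    (asIso (DerivedCategory.Q.map s)).symm ≪≫ DerivedCategory.Q.objObjPreimageIso E
  have key : ∀ (W : X.Opens) [DCoh.HasRpush W.ι]
      [PreservesFiniteLimits (Scheme.Modules.restrictFunctor W.ι)],
      Nonempty (DerivedCategory.Q.obj ((mapCx (resPush W)).obj I) ≅
        (DCoh.Rpush W.ι).obj ((DCoh.restrictD W.ι).obj E)) := fun W _ _ => by
    haveI := isKInjective_rCx W.ι I
    obtain ⟨e⟩ := nonempty_rpush_iso_of_kInjective W.ι (I := (rCx W.ι).obj I)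
      (((Scheme.Modules.restrictFunctor W.ι).mapDerivedCategoryFactors.app I).symm ≪≫
        (DCoh.restrictD W.ι).mapIso eE)
    exact ⟨e.symm⟩
  obtain ⟨a, b, c, h⟩ := exists_mvPush_triangle U V hUV I
  obtain ⟨eU⟩ := key U
  obtain ⟨eV⟩ := key V
  obtain ⟨eW⟩ := key (U ⊓ V)
  let e2 := biprod.mapIso eU eV
  refine ⟨eE.inv ≫ a ≫ e2.hom, e2.inv ≫ b ≫ eW.hom, eW.inv ≫ c ≫ eE.hom⟦(1 : ℤ)⟧',
    isomorphic_distinguished _ h _ ?_⟩
  refine Triangle.isoMk _ _ eE.symm e2.symm eW.symm ?_ ?_ ?_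
  · show (eE.inv ≫ a ≫ e2.hom) ≫ e2.inv = eE.inv ≫ a
    simp
  · show (e2.inv ≫ b ≫ eW.hom) ≫ eW.inv = e2.inv ≫ b
    simp
  · show (eW.inv ≫ c ≫ eE.hom⟦(1 : ℤ)⟧') ≫ eE.inv⟦(1 : ℤ)⟧' = eW.inv ≫ c
    rw [Category.assoc, Category.assoc, ← CategoryTheory.Functor.map_comp, Iso.hom_inv_id,
      CategoryTheory.Functor.map_id]
    erw [Category.comp_id]

/-- Derived functors of additive functors are exact. -/
lemma exists_rightDerived_triangle {A : Type (u + 1)} [Category.{u} A] [Abelian A]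
    [HasDerivedCategory.{u + 1} A] (G : X.Modules ⥤ A) [G.Additive]
    [(G.mapHomotopyCategory (ComplexShape.up ℤ) ⋙ DerivedCategory.Qh).HasRightDerivedFunctor
      (HomotopyCategory.quasiIso X.Modules (ComplexShape.up ℤ))]
    (T : Triangle (DCoh.D X)) (hT : T ∈ distTriang (DCoh.D X)) :
    let R := (G.mapHomotopyCategory (ComplexShape.up ℤ) ⋙ DerivedCategory.Qh).totalRightDerived
      DerivedCategory.Qh (HomotopyCategory.quasiIso X.Modules (ComplexShape.up ℤ))
    R.Additive ∧ ∃ c : R.obj T.obj₃ ⟶ (R.obj T.obj₁)⟦(1 : ℤ)⟧,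
      Triangle.mk (R.map T.mor₁) (R.map T.mor₂) c ∈ distTriang (DerivedCategory A) := by
  intro R
  let F := G.mapHomotopyCategory (ComplexShape.up ℤ) ⋙ DerivedCategory.Qh
  haveI := TriCat.qh_isLeftAdjoint_of_exists_resolution (A := X.Modules) exists_kInjective_res
  let adjQ := Adjunction.ofIsLeftAdjoint (DerivedCategory.Qh (C := X.Modules))
  let ρ := (DerivedCategory.Qh (C := X.Modules)).rightAdjoint
  let W := HomotopyCategory.quasiIso X.Modules (ComplexShape.up ℤ)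
  haveI : (ρ ⋙ F).IsRightDerivedFunctor (Functor.whiskerRight adjQ.unit F) W :=
    TriCat.isRightDerivedFunctor_of_adjunction adjQ W F
  let e : ρ ⋙ F ≅ R :=
    Functor.rightDerivedUnique _ _ (Functor.whiskerRight adjQ.unit F)
      (F.totalRightDerivedUnit DerivedCategory.Qh W) W
  letI := adjQ.rightAdjointCommShift ℤ
  haveI := adjQ.commShift_of_leftAdjoint ℤ
  haveI : ρ.IsTriangulated := adjQ.isTriangulated_rightAdjoint
  have h := (ρ ⋙ F).map_distinguished T hT
  refine ⟨Functor.additive_of_iso e, e.inv.app T.obj₃ ≫ ((ρ ⋙ F).mapTriangle.obj T).mor₃ ≫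
    (e.hom.app T.obj₁)⟦(1 : ℤ)⟧', isomorphic_distinguished _ h _ ?_⟩
  refine Triangle.isoMk _ _ (e.symm.app _) (e.symm.app _) (e.symm.app _) ?_ ?_ ?_
  · exact e.inv.naturality T.mor₁
  · exact e.inv.naturality T.mor₂
  · change (e.inv.app T.obj₃ ≫ ((ρ ⋙ F).mapTriangle.obj T).mor₃ ≫
        (e.hom.app T.obj₁)⟦(1 : ℤ)⟧') ≫ (e.inv.app T.obj₁)⟦(1 : ℤ)⟧' = e.inv.app T.obj₃ ≫ _
    rw [Category.assoc]
    refine congrArg (e.inv.app T.obj₃ ≫ ·) ((Category.assoc _ _ _).trans ?_)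
    erw [← Functor.map_comp, Iso.hom_inv_id_app, CategoryTheory.Functor.map_id, Category.comp_id]

/-- Transport of a triangle with a biproduct in the middle along an exact functor. -/
theorem exists_map_mv_triangle {𝒟 : Type*} [Category 𝒟] [Preadditive 𝒟] [HasShift 𝒟 ℤ]
    [∀ n : ℤ, (shiftFunctor 𝒟 n).Additive] [HasZeroObject 𝒟] [Pretriangulated 𝒟]
    [HasBinaryBiproducts 𝒟] (R : DCoh.D X ⥤ 𝒟) [R.Additive]
    (hR : ∀ T : Triangle (DCoh.D X), T ∈ distTriang (DCoh.D X) →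
      ∃ c : R.obj T.obj₃ ⟶ (R.obj T.obj₁)⟦(1 : ℤ)⟧,
        Triangle.mk (R.map T.mor₁) (R.map T.mor₂) c ∈ distTriang 𝒟)
    {E A B W : DCoh.D X} (a : E ⟶ A ⊞ B) (b : A ⊞ B ⟶ W) (c : W ⟶ E⟦(1 : ℤ)⟧)
    (h : Triangle.mk a b c ∈ distTriang (DCoh.D X)) {E' A' B' W' : 𝒟} (eE : R.obj E ≅ E')
    (eA : R.obj A ≅ A') (eB : R.obj B ≅ B') (eW : R.obj W ≅ W') :
    ∃ (a' : E' ⟶ A' ⊞ B') (b' : A' ⊞ B' ⟶ W') (c' : W' ⟶ E'⟦(1 : ℤ)⟧),
      Triangle.mk a' b' c' ∈ distTriang 𝒟 := by
  obtain ⟨c₀, h₀⟩ := hR _ h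
  haveI : PreservesBinaryBiproducts R := preservesBinaryBiproducts_of_preservesBiproducts R
  let e2 := R.mapBiprod A B ≪≫ biprod.mapIso eA eB
  refine ⟨eE.inv ≫ R.map a ≫ e2.hom, e2.inv ≫ R.map b ≫ eW.hom, eW.inv ≫ c₀ ≫ eE.hom⟦(1 : ℤ)⟧',
    isomorphic_distinguished _ h₀ _ ?_⟩
  refine Triangle.isoMk _ _ eE.symm e2.symm eW.symm ?_ ?_ ?_
  · show (eE.inv ≫ R.map a ≫ e2.hom) ≫ e2.inv = eE.inv ≫ R.map a
    simp
  · show (e2.inv ≫ R.map b ≫ eW.hom) ≫ eW.inv = e2.inv ≫ R.map b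
    simp
  · show (eW.inv ≫ c₀ ≫ eE.hom⟦(1 : ℤ)⟧') ≫ eE.inv⟦(1 : ℤ)⟧' = eW.inv ≫ c₀
    rw [Category.assoc, Category.assoc, ← CategoryTheory.Functor.map_comp, Iso.hom_inv_id,
      CategoryTheory.Functor.map_id]
    erw [Category.comp_id]

end Groth.Agent.KFlatLib
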