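import Groth.Agent.KFlatLib.Scheme.StalkCx
import Groth.Agent.KFlatLib.Scheme.Flatness
import Groth.Agent.KFlatLib.Perfect.Amplitude
import Groth.Agent.QCoh.Qcqs
import Mathlib.AlgebraicGeometry.Modules.Tilde
import Mathlib.AlgebraicGeometry.Stalk

/-!
# Tor amplitude is detected by quasi-coherent modules
-/

set_option linter.style.haveILetI false
set_option backward.isDefEq.respectTransparency false
set_option backward.isDefEq.respectTransparency.types false

universe u

open CategoryTheory CategoryTheory.Limits AlgebraicGeometry TopologicalSpace Opposite MonoidalCategory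

attribute [local instance] HasDerivedCategory.standard

namespace Groth.Agent.KFlatLib

variable {X : Scheme.{u}} (x : X)

lemma fromSpecStalk_preimage_eq_top {U : X.Opens} (hx : x ∈ U) :
    (X.fromSpecStalk x) ⁻¹ᵁ U = ⊤ := by
  refine top_le_iff.1 fun p _ => ?_
  have h : (X.fromSpecStalk x).base p ∈ Set.range (X.fromSpecStalk x).base := ⟨p, rfl⟩
  have h' : (X.fromSpecStalk x).base p ⤳ x := by
    rw [show Set.range (X.fromSpecStalk x).base = _ from Scheme.range_fromSpecStalk] at h
    exact h
  exact h'.mem_open U.2 hx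

variable (M : ModuleCat.{u} (X.presheaf.stalk x))

/-- The quasi-coherent module with prescribed stalk at `x`. -/
noncomputable abbrev qcSky : X.Modules :=
  (Scheme.Modules.pushforward (X.fromSpecStalk x)).obj (tilde M)

lemma isQCoh_qcSky [QuasiSeparatedSpace X] : Coh.IsQCoh (qcSky x M) :=
  QCoh.isQCoh_pushforward _ (QCoh.isQCoh_spec_iff.2 ((tilde.functor _).obj_mem_essImage M))

/-- Sections near `x` as elements of the module. -/
noncomputable def qcSkyVal (U : X.Opens) (hx : x ∈ U) :
    (DCoh.toP.obj (qcSky x M)).obj (op U) →+ M where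
  toFun s := (tilde.isoTop M).inv ((tilde M).presheaf.map
    (homOfLE (fromSpecStalk_preimage_eq_top x hx).ge).op
      (show Γ(tilde M, (X.fromSpecStalk x) ⁻¹ᵁ U) from s))
  map_zero' := (congrArg _ (map_zero _)).trans (map_zero _)
  map_add' _ _ := (congrArg _ (map_add _ _ _)).trans (map_add _ _ _)

/-- Evaluation of the stalk at `x`. -/
noncomputable def qcSkyEval : stalkMod x (DCoh.toP.obj (qcSky x M)) →+ M :=
  descP (qcSkyVal x M) fun U V i hx s => by
    refine congrArg (tilde.isoTop M).inv ?_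
    refine (ConcreteCategory.congr_hom ((tilde M).presheaf.map_comp
      (homOfLE (fun p hp => i.le hp : (X.fromSpecStalk x) ⁻¹ᵁ V ≤ (X.fromSpecStalk x) ⁻¹ᵁ U)).op
      (homOfLE (fromSpecStalk_preimage_eq_top x hx).ge).op)
        (show Γ(tilde M, (X.fromSpecStalk x) ⁻¹ᵁ U) from s)).symm

lemma qcSkyEval_germ (U : X.Opens) (hx : x ∈ U) (s : (DCoh.toP.obj (qcSky x M)).obj (op U)) :
    qcSkyEval x M (germP _ U hx s) = qcSkyVal x M U hx s :=
  descP_germP _ _ U hx s

lemma qcSkyVal_smul (U : X.Opens) (hx : x ∈ U) (r : Γ(X, U))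
    (s : (DCoh.toP.obj (qcSky x M)).obj (op U)) :
    qcSkyVal x M U hx (sm r s) = X.presheaf.germ U x hx r • qcSkyVal x M U hx s := by
  refine Eq.trans ?_ ((tilde.isoTop M).inv.hom.map_smul _ _)
  refine congrArg (tilde.isoTop M).inv ?_
  let i := X.fromSpecStalk x
  let s' : Γ(tilde M, i ⁻¹ᵁ U) := s
  change (tilde M).presheaf.map _ (i.app U r • s') = _ • (tilde M).presheaf.map _ s'
  rw [Scheme.Modules.map_smul, Scheme.Modules.smul_Spec_def]
  refine congrArg (· • _) ?_
  rw [Scheme.fromSpecStalk_app hx]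
  exact (ConcreteCategory.congr_hom ((Spec (X.presheaf.stalk x)).presheaf.map_comp
    (homOfLE le_top).op (homOfLE (fromSpecStalk_preimage_eq_top x hx).ge).op) _).symm

/-- The stalk at `x` of `qcSky`. -/
noncomputable def qcSkyStalkEquiv :
    (stalkMod x (DCoh.toP.obj (qcSky x M)) : Type u) ≃ₗ[X.presheaf.stalk x] (M : Type u) where
  toFun := qcSkyEval x M
  map_add' := map_add _
  map_smul' r m := by
    obtain ⟨U, hU, a, rfl⟩ := X.presheaf.exists_germ_eq (x := x) r
    obtain ⟨W, i, hW, s, rfl⟩ := exists_germP_common hU m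
    rw [← X.presheaf.germ_res_apply i x hW a, ← germP_smul, qcSkyEval_germ, qcSkyEval_germ,
      qcSkyVal_smul]
    rfl
  invFun n := germP (DCoh.toP.obj (qcSky x M)) ⊤ trivial
    (show Γ(tilde M, (X.fromSpecStalk x) ⁻¹ᵁ ⊤) from (tilde.isoTop M).hom n)
  left_inv m := by
    obtain ⟨U, hU, s, rfl⟩ := exists_germP m
    change germP (DCoh.toP.obj (qcSky x M)) ⊤ trivial
      (show Γ(tilde M, (X.fromSpecStalk x) ⁻¹ᵁ ⊤) from
        (tilde.isoTop M).hom (qcSkyEval x M (germP _ U hU s))) = _
    rw [qcSkyEval_germ, ← germP_res (P := DCoh.toP.obj (qcSky x M)) (homOfLE (le_top : U ≤ ⊤)) hU]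
    refine congrArg _ ?_
    change (tilde M).presheaf.map _ ((tilde.isoTop M).hom ((tilde.isoTop M).inv _)) = _
    rw [Iso.inv_hom_id_apply]
    refine (ConcreteCategory.congr_hom ((tilde M).presheaf.map_comp
      (homOfLE (fromSpecStalk_preimage_eq_top x hU).ge).op
      ((Opens.map (X.fromSpecStalk x).base).op.map (homOfLE (le_top : U ≤ ⊤)).op)) _).symm.trans ?_
    exact ConcreteCategory.congr_hom ((tilde M).presheaf.map_id _) _
  right_inv n := by
    refine (qcSkyEval_germ x M ⊤ trivial _).trans ?_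
    refine Eq.trans (congrArg (tilde.isoTop M).inv ?_) (Iso.hom_inv_id_apply (tilde.isoTop M) n)
    exact ConcreteCategory.congr_hom ((tilde M).presheaf.map_id _) _

/-- The stalk at `x` of `qcSky`. -/
noncomputable def qcSkyStalkIso : (DerSch.stalkFunctor X x).obj (qcSky x M) ≅ M :=
  (stalkToPIso x).app (qcSky x M) ≪≫ (qcSkyStalkEquiv x M).toModuleIso

/-- Tor amplitude may be tested on quasi-coherent modules. -/
theorem torAmplitude_of_qcoh [QuasiSeparatedSpace X] (E : DCoh.D X) (a b : ℤ)
    (h : ∀ (F : X.Modules), Coh.IsQCoh F → ∀ [DCoh.HasLTensorMod F] (i : ℤ), (i < a ∨ b < i) →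
      IsZero (DCoh.HD ((DCoh.LTensorMod F).obj E) i)) : DCoh.HasTorAmplitudeIn a b E := fun G _ i hi => by
  let R := repK E
  have hR : DCoh.IsKFlat R := isKFlat_repK E
  let e : ∀ (N : X.Modules) [DCoh.HasLTensorMod N],
      DCoh.HD ((DCoh.LTensorMod N).obj E) i ≅ ((tensorModCx N).obj R).homology i := fun N _ =>
    (DerivedCategory.homologyFunctor X.Modules i).mapIso
      ((DCoh.LTensorMod N).mapIso (repKIso E).symm) ≪≫ hdLTensorModIso N hR i
  refine IsZero.of_iso ?_ (e G)
  refine isZero_of_stalk _ fun x => ?_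
  let F := qcSky x ((DerSch.stalkFunctor X x).obj G)
  haveI := hasLTensorMod F
  have hF := (DerSch.stalkFunctor X x).map_isZero ((h F (isQCoh_qcSky x _) i hi).of_iso (e F).symm)
  let c : ∀ N : X.Modules, (DerSch.stalkFunctor X x).obj (((tensorModCx N).obj R).homology i) ≅
      (((tensorRight ((DerSch.stalkFunctor X x).obj N)).mapHomologicalComplex (ComplexShape.up ℤ)).obj
        ((stalkCx x).obj R)).homology i := fun N =>
    ((((tensorModCx N).obj R).sc i).mapHomologyIso (DerSch.stalkFunctor X x)).symm ≪≫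
      (HomologicalComplex.homologyFunctor (ModuleCat.{u} (X.presheaf.stalk x)) (ComplexShape.up ℤ) i).mapIso
        (HomologicalComplex.Hom.isoOfComponents
          (C₁ := (stalkCx x).obj ((tensorModCx N).obj R))
          (C₂ := ((tensorRight ((DerSch.stalkFunctor X x).obj N)).mapHomologicalComplex (ComplexShape.up ℤ)).obj
            ((stalkCx x).obj R))
          (fun k => (stalkTensorRightIso N x).app (R.X k))
          fun k l _ => ((stalkTensorRightIso N x).hom.naturality (R.d k l)).symm)
  exact hF.of_iso (c G ≪≫ (HomologicalComplex.homologyFunctor _ _ i).mapIso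
    ((NatIso.mapHomologicalComplex ((tensoringRight (ModuleCat.{u} (X.presheaf.stalk x))).mapIso
      (qcSkyStalkIso x ((DerSch.stalkFunctor X x).obj G)).symm) _).app ((stalkCx x).obj R)) ≪≫
    (c F).symm)

end Groth.Agent.KFlatLib
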