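import Groth.Agent.KFlatLib.Scheme.ProjAffineFlat
import Groth.Agent.KFlatLib.Scheme.TorQCoh
import Groth.Agent.KFlatLib.Scheme.RpushTriangle
import Groth.Agent.KFlatLib.Scheme.MVPush

/-!
# Tor amplitude of derived direct images
-/

set_option linter.style.haveILetI false
set_option backward.isDefEq.respectTransparency false

universe u

open CategoryTheory CategoryTheory.Limits AlgebraicGeometry CategoryTheory.Pretriangulated

attribute [local instance] HasDerivedCategory.standard

namespace Groth.Agent.KFlatLib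

variable {X Y : Scheme.{u}}

/-- Tensoring by a module, as tensoring by a complex in degree zero. -/
lemma nonempty_ltensorMod_ltensorCx (F : X.Modules) (E : DCoh.D X) [DCoh.HasLTensorMod F]
    [DCoh.HasLTensorCx ((HomologicalComplex.single X.Modules (ComplexShape.up ℤ) 0).obj F)] :
    Nonempty ((DCoh.LTensorMod F).obj E ≅
      (DCoh.LTensorCx ((HomologicalComplex.single X.Modules (ComplexShape.up ℤ) 0).obj F)).obj E) := by
  let R := repK E
  have hR : DCoh.IsKFlat R := isKFlat_repK E
  haveI := isIso_ltensorModComparison F hR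
  exact ⟨(DCoh.LTensorMod F).mapIso (repKIso E).symm ≪≫ asIso ((ltensorModComparison F).app R) ≪≫
    DerivedCategory.Q.mapIso (((singleIso (DCoh.tensorBi (X := X)) F).app R).symm) ≪≫
    (ltensorCxIso _ hR).symm ≪≫ (DCoh.LTensorCx _).mapIso (repKIso E)⟩

/-- Perfect objects on a quasi-compact scheme have finite tor amplitude. -/
theorem exists_torAmplitude_of_locSP [CompactSpace X] {E : DCoh.D X} (h : LocSP E) :
    ∃ a b : ℤ, DCoh.HasTorAmplitudeIn a b E := by
  choose U j hj hx P hP e using h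
  choose a b hb using fun x => (hP x).1
  obtain ⟨t, ht⟩ := isCompact_univ.elim_finite_subcover (fun x : X => Set.range (j x).base)
    (fun x => haveI := hj x; (j x).isOpenEmbedding.isOpen_range) (fun x _ => Set.mem_iUnion.2 ⟨x, hx x⟩)
  let N : ℤ := ((∑ x ∈ t, ((a x).natAbs + (b x).natAbs) : ℕ) : ℤ)
  refine ⟨-N, N, torAmplitude_of_local E fun y => ?_⟩
  obtain ⟨x, hxt, hyx⟩ := Set.mem_iUnion₂.1 (ht (Set.mem_univ y))
  haveI := hj x
  have hbx : (a x).natAbs + (b x).natAbs ≤ ∑ x ∈ t, ((a x).natAbs + (b x).natAbs) :=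
    Finset.single_le_sum (f := fun x => (a x).natAbs + (b x).natAbs) (fun _ _ => Nat.zero_le _) hxt
  refine ⟨U x, j x, hj x, hyx, torAmplitude_of_flatAmplitude
    ⟨P x, fun i hi => hb x i ?_, fun i => isFlat_of_isFinLocFree ((hP x).2 i), e x⟩⟩
  rcases hi with hi | hi
  · exact Or.inl (by omega)
  · exact Or.inr (by omega)

variable (f : X ⟶ Y) [QuasiCompact f] [QuasiSeparated f] [DCoh.HasRpush f]

/-- Direct images of objects in a range lie in a range. -/
theorem isZero_hd_rpush_range (N : ℕ) (hN : ∀ M : X.Modules, Coh.IsQCoh M → ∀ p : ℕ, N < p →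
    IsZero ((Coh.Rpush f p).obj M)) (a b : ℤ) (G : DCoh.D X) (hG : DCoh.IsQCohD G)
    (hz : ∀ i : ℤ, i < a ∨ b < i → IsZero (DCoh.HD G i)) (i : ℤ) (hi : i < a ∨ b + N < i) :
    IsZero (DCoh.HD ((DCoh.Rpush f).obj G) i) := by
  haveI : G.IsGE a := (DerivedCategory.isGE_iff _ _).2 fun j hj => hz j (Or.inl hj)
  rcases hi with hi | hi
  · exact isZero_hd_rpush_of_lt f G a i hi
  have hle : G.IsLE (a + (b - a).toNat) :=
    (DerivedCategory.isLE_iff _ _).2 fun j hj => hz j (Or.inr (by omega))
  by_cases hab : a ≤ b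
  · have h := (rpush_bounded f (b - a).toNat a G inferInstance hle hG).2 ⊤ (N + 1)
      (fun M hM p hp => (Scheme.Modules.restrictFunctor _).map_isZero (hN M hM p (by omega))) i (by omega)
    exact isZero_of_isZero_restrict _ fun y => ⟨⊤, trivial, h⟩
  · refine (DerivedCategory.homologyFunctor Y.Modules i).map_isZero ?_
    haveI : (DCoh.Rpush f).Additive :=
      (exists_rightDerived_triangle (Scheme.Modules.pushforward f) _
        (contractible_distinguished G)).1
    refine (DCoh.Rpush f).map_isZero ?_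
    haveI : G.IsLE (a - 1) := (DerivedCategory.isLE_iff _ _).2 fun j hj => hz j (by omega)
    exact DerivedCategory.TStructure.t.isZero G (a - 1) a (by omega)

/-- Derived direct images along flat morphisms preserve finite tor amplitude. -/
theorem torAmplitude_rpush [Flat f] [QuasiSeparatedSpace Y] (N : ℕ)
    (hN : ∀ M : X.Modules, Coh.IsQCoh M → ∀ p : ℕ, N < p → IsZero ((Coh.Rpush f p).obj M))
    (E : DCoh.D X) (hE : DCoh.IsQCohD E) (a b : ℤ)
    (hamp : ∀ (F : Y.Modules), Coh.IsQCoh F → ∀ [DCoh.HasLTensorMod ((Scheme.Modules.pullback f).obj F)]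
      (i : ℤ), (i < a ∨ b < i) →
        IsZero (DCoh.HD ((DCoh.LTensorMod ((Scheme.Modules.pullback f).obj F)).obj E) i)) :
    DCoh.HasTorAmplitudeIn a (b + N) ((DCoh.Rpush f).obj E) :=
  torAmplitude_of_qcoh _ a (b + N) fun F hF _ i hi => by
    haveI := hasLpull f
    let F' := (Scheme.Modules.pullback f).obj F
    have hF' : Coh.IsQCoh F' := QCoh.isQCoh_pullback f hF
    let K := (HomologicalComplex.single Y.Modules (ComplexShape.up ℤ) 0).obj F
    let M := (HomologicalComplex.single X.Modules (ComplexShape.up ℤ) 0).obj F'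
    haveI := hasLTensorCx K
    haveI := hasLTensorCx M
    haveI := hasLTensorMod F'
    let eK : DerivedCategory.Q.obj K ≅ DCoh.inD Y F :=
      ((DerivedCategory.singleFunctorIsoCompQ Y.Modules 0).app F).symm
    let eM : DerivedCategory.Q.obj M ≅ DCoh.inD X F' :=
      ((DerivedCategory.singleFunctorIsoCompQ X.Modules 0).app F').symm
    obtain ⟨eL⟩ := nonempty_lpull_inD_of_flat f F
    obtain ⟨p⟩ := nonempty_projection_DQCoh f E hE K (isQCohD_of_iso eK.symm (isQCohD_inD_of_isQCoh hF)) M
      ⟨eM ≪≫ eL.symm ≪≫ (DCoh.Lpull f).mapIso eK.symm⟩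
    obtain ⟨c⟩ := nonempty_ltensorMod_ltensorCx F ((DCoh.Rpush f).obj E)
    obtain ⟨c'⟩ := nonempty_ltensorMod_ltensorCx F' E
    refine IsZero.of_iso ?_ ((DerivedCategory.homologyFunctor Y.Modules i).mapIso
      (c ≪≫ p ≪≫ (DCoh.Rpush f).mapIso c'.symm))
    exact isZero_hd_rpush_range f N hN a b _
      (isQCohD_of_iso c'.symm (isQCohD_ltensor M (isQCohD_of_iso eM.symm (isQCohD_inD_of_isQCoh hF')) hE))
      (fun j hj => hamp F hF j hj) i hi

/-- The case of an object of finite tor amplitude. -/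
theorem torAmplitude_rpush' [Flat f] [QuasiSeparatedSpace Y] (N : ℕ)
    (hN : ∀ M : X.Modules, Coh.IsQCoh M → ∀ p : ℕ, N < p → IsZero ((Coh.Rpush f p).obj M))
    (E : DCoh.D X) (hE : DCoh.IsQCohD E) (a b : ℤ) (hamp : DCoh.HasTorAmplitudeIn a b E) :
    DCoh.HasTorAmplitudeIn a (b + N) ((DCoh.Rpush f).obj E) :=
  torAmplitude_rpush f N hN E hE a b fun _ _ _ i hi => hamp _ i hi

end Groth.Agent.KFlatLib
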