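import Groth.Agent.KFlatLib.Scheme.RelTensorLocal
import Groth.Agent.KFlatLib.Scheme.TorAmpPush
import Groth.Agent.KFlatLib.Scheme.QCohTensor
import Groth.Agent.QCoh.TensorSections
import Groth.Agent.QCoh.LocFree
import Mathlib.RingTheory.Flat.Basic
import Mathlib.LinearAlgebra.TensorProduct.Tower

/-!
# Perfect objects tensored with modules flat over the base
-/

set_option linter.style.haveILetI false
set_option backward.isDefEq.respectTransparency false

universe u

open CategoryTheory CategoryTheory.Limits AlgebraicGeometry MonoidalCategory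
open scoped TensorProduct

attribute [local instance] HasDerivedCategory.standard

namespace Groth.Agent.KFlatLib

lemma flat_tensor_of_flat (R S : Type u) [CommRing R] [CommRing S] [Algebra R S] (P G : Type u)
    [AddCommGroup P] [Module S P] [Module R P] [IsScalarTower R S P] [AddCommGroup G] [Module S G]
    [Module R G] [IsScalarTower R S G] [Module.Flat R G] [Module.Flat S P] :
    Module.Flat R (P ⊗[S] G) := by
  rw [Module.Flat.iff_lTensor_preserves_injective_linearMap]
  intro N N' _ _ _ _ f hf
  let g : G ⊗[R] N →ₗ[S] G ⊗[R] N' := TensorProduct.AlgebraTensorModule.map LinearMap.id f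
  have hg : Function.Injective g := Module.Flat.lTensor_preserves_injective_linearMap (M := G) f hf
  have h := Module.Flat.lTensor_preserves_injective_linearMap (M := P) g hg
  let e := TensorProduct.AlgebraTensorModule.assoc R S S P G N
  let e' := TensorProduct.AlgebraTensorModule.assoc R S S P G N'
  have comm : ∀ z, e' (LinearMap.lTensor (P ⊗[S] G) f z) = LinearMap.lTensor P g (e z) := by
    intro z
    induction z using TensorProduct.induction_on with
    | zero => simp
    | add a b ha hb => simp only [map_add, ha, hb]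
    | tmul a n =>
      induction a using TensorProduct.induction_on with
      | zero => simp
      | add a b ha hb => simp only [TensorProduct.add_tmul, map_add, ha, hb]
      | tmul p q => simp [e, e', g]
  intro a b hab
  apply e.injective; apply h
  rw [← comm, ← comm, hab]

lemma flat_of_tensor_iso {R S : Type u} [CommRing R] [CommRing S] (φ : R →+* S) (P G T : ModuleCat.{u} S)
    (e : P ⊗ G ≅ T) (hP : Module.Flat S P)
    (hG : letI := Module.compHom (G : Type u) φ; Module.Flat R G) :
    letI := Module.compHom (T : Type u) φ; Module.Flat R T := by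
  letI : Algebra R S := φ.toAlgebra
  letI : Module R (P : Type u) := Module.compHom (P : Type u) φ
  letI : Module R (G : Type u) := Module.compHom (G : Type u) φ
  letI : Module R (T : Type u) := Module.compHom (T : Type u) φ
  haveI : IsScalarTower R S (P : Type u) := IsScalarTower.of_algebraMap_smul fun _ _ => rfl
  haveI : IsScalarTower R S (G : Type u) := IsScalarTower.of_algebraMap_smul fun _ _ => rfl
  haveI : IsScalarTower R S (T : Type u) := IsScalarTower.of_algebraMap_smul fun _ _ => rfl
  haveI : Module.Flat R (G : Type u) := hG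
  haveI := flat_tensor_of_flat R S (P : Type u) (G : Type u)
  let e' : ((P : Type u) ⊗[S] (G : Type u)) ≃ₗ[S] (T : Type u) := e.toLinearEquiv
  exact Module.Flat.of_linearEquiv (e'.restrictScalars R).symm

variable {X Y : Scheme.{u}} (f : X ⟶ Y)

/-- Flat modules tensored with modules flat over the base are flat over the base. -/
lemma isFlatOver_tensor {P G : X.Modules} (hP : FlatMod.IsFlat P) (hG : FlatMod.IsFlatOver f G) :
    FlatMod.IsFlatOver f ((DCoh.tensorBi.obj P).obj G) := fun x =>
  flat_of_tensor_iso (f.stalkMap x).hom ((DerSch.stalkFunctor X x).obj P) ((DerSch.stalkFunctor X x).obj G)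
    ((DerSch.stalkFunctor X x).obj ((DCoh.tensorBi.obj P).obj G)) (stalkTensorIso x P G) (hP x) (hG x)

/-- Locally free modules tensored with coherent ones are coherent. -/
lemma isCoh_tensor_finLocFree {P G : X.Modules} (hP : FlatMod.IsFinLocFree P) (hG : Coh.IsCoh G) :
    Coh.IsCoh ((DCoh.tensorBi.obj P).obj G) := by
  have hq := QCoh.isQCoh_of_isFinLocFree hP
  refine QCoh.isCoh_iff.2 ⟨isQCoh_tensor hq hG.1, fun U => ?_⟩
  haveI := QCoh.finite_sections hG U.2
  haveI := QCoh.finite_sections (M := P) ⟨hq, QCoh.isFT_of_isFP (QCoh.isFP_of_isFinLocFree hP)⟩ U.2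
  exact Module.Finite.of_surjective (QCoh.tmLin P G U.1) (QCoh.bijective_tmLin hq hG.1 U.2).2

/-- A module in degree zero, pulled back, tensored with a K-flat complex. -/
lemma nonempty_tensorCx_pull_single {U : Scheme.{u}} (j : U ⟶ X) [IsOpenImmersion j] (G : X.Modules)
    (P : CochainComplex U.Modules ℤ) :
    Nonempty ((DCoh.tensorCx.obj P).obj ((pullCx j).obj
        ((HomologicalComplex.single X.Modules (ComplexShape.up ℤ) 0).obj G)) ≅
      (tensorModCx ((Scheme.Modules.pullback j).obj G)).obj P) := by
  let e₁ : (pullCx j).obj ((HomologicalComplex.single X.Modules (ComplexShape.up ℤ) 0).obj G) ≅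
      (HomologicalComplex.single U.Modules (ComplexShape.up ℤ) 0).obj ((Scheme.Modules.pullback j).obj G) :=
    (HomologicalComplex.singleMapHomologicalComplex (Scheme.Modules.pullback j) _ 0).app G
  have e₂ := (singleIso (DCoh.tensorBi (X := U)) ((Scheme.Modules.pullback j).obj G)).app P
  exact ⟨(DCoh.tensorCx.obj P).mapIso e₁ ≪≫ e₂⟩

/-- Tensoring a K-flat complex with quasi-isomorphic complexes. -/
lemma nonempty_tensorCx_congr {U : Scheme.{u}} (P : CochainComplex U.Modules ℤ) (hP : DCoh.IsKFlat P)
    {A B : CochainComplex U.Modules ℤ} (g : A ⟶ B) [QuasiIso g] :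
    Nonempty (DerivedCategory.Q.obj ((DCoh.tensorCx.obj P).obj A) ≅
      DerivedCategory.Q.obj ((DCoh.tensorCx.obj P).obj B)) := by
  haveI : QuasiIso ((DCoh.tensorCx.obj P).map g) := KFlat.quasiIso_map' (tensorBiFlipIso U) hP _
  haveI := isIso_Q_map ((DCoh.tensorCx.obj P).map g) inferInstance
  exact ⟨asIso (DerivedCategory.Q.map ((DCoh.tensorCx.obj P).map g))⟩

/-- The restriction of a derived tensor product with a module, computed by a K-flat complex. -/
lemma nonempty_rho_ltensorCx {U : Scheme.{u}} (j : U ⟶ X) [IsOpenImmersion j] (C : CochainComplex X.Modules ℤ)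
    (hC : DCoh.IsKFlat C) [DCoh.HasLTensorCx C] (E : DCoh.D X) (P : CochainComplex U.Modules ℤ)
    (hP : DCoh.IsKFlat P) (e : DerivedCategory.Q.obj P ≅ (rho j).obj E) :
    Nonempty ((rho j).obj ((DCoh.LTensorCx C).obj E) ≅
      DerivedCategory.Q.obj ((DCoh.tensorCx.obj P).obj ((pullCx j).obj C))) := by
  haveI := hasLpull j
  haveI := hasLTensorCx ((pullCx j).obj C)
  obtain ⟨q⟩ := nonempty_rho_iso_lpull j
  obtain ⟨l⟩ := nonempty_lpull_ltensor j C hC E
  exact ⟨q.app _ ≪≫ l ≪≫ (DCoh.LTensorCx _).mapIso ((q.app E).symm ≪≫ e.symm) ≪≫ ltensorCxIso _ hP⟩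

/-- The restriction of a derived tensor product with a module. -/
lemma nonempty_rho_ltensorMod {U : Scheme.{u}} (j : U ⟶ X) [IsOpenImmersion j] (G : X.Modules)
    [DCoh.HasLTensorMod G] (E : DCoh.D X) (P : CochainComplex U.Modules ℤ) (hP : DCoh.IsKFlat P)
    (e : DerivedCategory.Q.obj P ≅ (rho j).obj E) :
    Nonempty ((rho j).obj ((DCoh.LTensorMod G).obj E) ≅
      DerivedCategory.Q.obj ((tensorModCx ((Scheme.Modules.pullback j).obj G)).obj P)) := by
  let M := (HomologicalComplex.single X.Modules (ComplexShape.up ℤ) 0).obj G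
  haveI := hasLTensorCx M
  obtain ⟨c₀⟩ := nonempty_ltensorMod_ltensorCx G E
  let C := (kRes X).obj M
  haveI := (flatCover X).quasiIso_ψ M
  haveI := hasLTensorCx C
  haveI : DCoh.HasLTensorCx ((𝟭 (CochainComplex X.Modules ℤ)).obj M) := ‹DCoh.HasLTensorCx M›
  obtain ⟨c⟩ := nonempty_LTensorCx_congr ((flatCover X).ψ.app M)
  obtain ⟨r⟩ := nonempty_rho_ltensorCx j C (isKFlat_kRes M) E P hP e
  haveI := preservesHomology_pullback j
  haveI : QuasiIso ((pullCx j).map ((flatCover X).ψ.app M)) :=
    inferInstanceAs (QuasiIso (((Scheme.Modules.pullback j).mapHomologicalComplex (ComplexShape.up ℤ)).map _))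
  obtain ⟨s⟩ := nonempty_tensorCx_congr P hP ((pullCx j).map ((flatCover X).ψ.app M))
  obtain ⟨t⟩ := nonempty_tensorCx_pull_single j G P
  have c' : (DCoh.LTensorCx C).obj E ≅ (DCoh.LTensorMod G).obj E := c.app E ≪≫ c₀.symm
  have t' := DerivedCategory.Q.mapIso t
  exact ⟨(rho j).mapIso c'.symm ≪≫ r ≪≫ s ≪≫ t'⟩

end Groth.Agent.KFlatLib
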