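import Groth.Agent.KFlatLib.Scheme.InnerHom
import Groth.Agent.KFlatLib.Scheme.Flatness
import Groth.Agent.KFlatLib.InnerUnit
import Groth.Agent.KFlatLib.BrutalTrunc
import Groth.Agent.KFlatLib.Perfect.LocFree
import Groth.Agent.KFlatLib.Perfect.Tensor
import Mathlib.Algebra.Homology.BifunctorShift
import Mathlib.Algebra.Homology.DerivedCategory.ShortExact
import Mathlib.Algebra.Homology.HomotopyCategory.SingleFunctors

/-!
# Devissage of `iHom(P, I)` for bounded complexes of free modules
-/

set_option linter.style.haveILetI false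
set_option backward.isDefEq.respectTransparency false

universe u

open CategoryTheory CategoryTheory.Limits CategoryTheory.Pretriangulated AlgebraicGeometry

attribute [local instance] HasDerivedCategory.standard

namespace Groth.Agent.KFlatLib

variable {X : Scheme.{u}}

/-- A short exact sequence with a vanishing first term splits. -/
noncomputable def splittingOfIsZero₁ {C : Type*} [Category C] [Preadditive C] {S : ShortComplex C}
    (h : IsZero S.X₁) (e : IsIso S.g) : S.Splitting where
  r := 0
  s := inv S.g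
  f_r := h.eq_of_src _ _
  s_g := IsIso.inv_hom_id _
  id := by simp

/-- A short exact sequence with a vanishing last term splits. -/
noncomputable def splittingOfIsZero₃ {C : Type*} [Category C] [Preadditive C] {S : ShortComplex C}
    (h : IsZero S.X₃) (e : IsIso S.f) : S.Splitting where
  r := inv S.f
  s := 0
  f_r := IsIso.hom_inv_id _
  s_g := h.eq_of_src _ _
  id := by simp

/-- `iHom(O[j], -)` is the shift by `j`. -/
theorem nonempty_iHomUnitIso (j : ℤ) :
    Nonempty (iHom ((HomologicalComplex.single X.Modules (ComplexShape.up ℤ) j).obj (Coh.structureModule X)) ≅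
      shiftFunctor (CochainComplex X.Modules ℤ) j) :=
  ⟨Inner.innerHomUnitIso (DCoh.tensorBi (X := X)) (Coh.structureModule X) (tensorStructureIso X) j⟩

/-- `iHom(0, I) = 0`. -/
lemma isZero_iHom {P : CochainComplex X.Modules ℤ} (hP : IsZero P) (I : CochainComplex X.Modules ℤ) :
    IsZero ((iHom P).obj I) :=
  Inner.isZero_innerHom (DCoh.tensorBi (X := X)) hP I

section Devissage

variable (Φ : ObjectProperty (DCoh.D X)) [Φ.IsClosedUnderIsomorphisms]
  (hzero : ∀ C, IsZero C → Φ C)
  (h₂ : ∀ T ∈ distTriang (DCoh.D X), Φ T.obj₁ → Φ T.obj₃ → Φ T.obj₂)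
  (I : CochainComplex X.Modules ℤ) [∀ n, Injective (I.X n)]

/-- The property of `iHom(P, I)`. -/
def IHomProp (P : CochainComplex X.Modules ℤ) : Prop := Φ (DerivedCategory.Q.obj ((iHom P).obj I))

omit [∀ n, Injective (I.X n)] in
lemma iHomProp_of_iso {P P' : CochainComplex X.Modules ℤ} (e : P ≅ P') (h : IHomProp Φ I P) :
    IHomProp Φ I P' :=
  Φ.prop_of_iso (DerivedCategory.Q.mapIso ((Inner.innerHomIso (DCoh.tensorBi (X := X)) e).app I)) h

include hzero in
omit [∀ n, Injective (I.X n)] in
lemma iHomProp_of_isZero {P : CochainComplex X.Modules ℤ} (hP : IsZero P) : IHomProp Φ I P :=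
  hzero _ (DerivedCategory.Q.map_isZero (isZero_iHom hP I))

include h₂ in
lemma iHomProp_X₂ (S : ShortComplex (CochainComplex X.Modules ℤ))
    (hS : ∀ n, Nonempty (S.map (HomologicalComplex.eval _ _ n)).Splitting)
    (h₁ : IHomProp Φ I S.X₁) (h₃ : IHomProp Φ I S.X₃) : IHomProp Φ I S.X₂ := by
  obtain ⟨hz, hse⟩ := Inner.innerHom_shortExact (DCoh.tensorBi (X := X)) S hS I
  exact h₂ _ (DerivedCategory.triangleOfSES_distinguished hse) h₃ h₁

include hzero h₂ in
lemma iHomProp_single_free (hI : ∀ n : ℤ, Φ (DerivedCategory.Q.obj (I⟦n⟧))) (j : ℤ) :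
    ∀ n : ℕ, IHomProp Φ I ((HomologicalComplex.single X.Modules (ComplexShape.up ℤ) j).obj
      (FlatMod.freeMod X n))
  | 0 => iHomProp_of_isZero Φ hzero I (Functor.map_isZero _ isZero_freeMod_zero)
  | 1 => by
    refine iHomProp_of_iso Φ I
      ((HomologicalComplex.single X.Modules (ComplexShape.up ℤ) j).mapIso
        (coproductUniqueIso (fun _ : Fin 1 => Coh.structureModule X)).symm) ?_
    obtain ⟨e⟩ := nonempty_iHomUnitIso (X := X) j
    exact Φ.prop_of_iso (DerivedCategory.Q.mapIso (e.app I).symm) (hI j)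
  | (n + 2) => by
    let F := HomologicalComplex.single X.Modules (ComplexShape.up ℤ) j
    haveI := preservesBinaryBiproducts_of_preservesBinaryCoproducts F
    let A := FlatMod.freeMod X (n + 1)
    let B := FlatMod.freeMod X 1
    refine iHomProp_of_iso Φ I (F.mapIso (biprodFreeIso (n + 1) 1)) ?_
    let S : ShortComplex X.Modules :=
      ShortComplex.mk (biprod.inl : A ⟶ A ⊞ B) biprod.snd biprod.inl_snd
    let σ : S.Splitting := ShortComplex.Splitting.ofHasBinaryBiproduct A B
    exact iHomProp_X₂ Φ h₂ I (S.map F)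
      (fun k => ⟨(σ.map F).map (HomologicalComplex.eval _ _ k)⟩)
      (iHomProp_single_free hI j (n + 1)) (iHomProp_single_free hI j 1)

include hzero h₂ in
/-- `Φ` holds of `iHom(P, I)` for bounded complexes of free modules `P`, if it does of shifts of `I`. -/
theorem iHom_devissage (hI : ∀ n : ℤ, Φ (DerivedCategory.Q.obj (I⟦n⟧))) (a : ℤ) :
    ∀ (m : ℕ) (P : CochainComplex X.Modules ℤ), (∀ i : ℤ, (i < a ∨ a + m ≤ i) → IsZero (P.X i)) →
      (∀ i, ∃ n, Nonempty (P.X i ≅ FlatMod.freeMod X n)) → IHomProp Φ I P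
  | 0, P, hz, _ => iHomProp_of_isZero Φ hzero I
      ((IsZero.iff_id_eq_zero _).2 (HomologicalComplex.hom_ext _ _ fun i =>
        (hz i (by omega)).eq_of_src _ _))
  | m + 1, P, hz, hf => by
    have hle := isStrictlyLE_sigmaSES_X₃ P (a + m)
    rw [CochainComplex.isStrictlyLE_iff] at hle
    have hse := fun n => (sigmaSES_shortExact P (a + m)).map_of_exact
      (HomologicalComplex.eval X.Modules (ComplexShape.up ℤ) n)
    have hX₁ : ∀ i, i < a + m → IsZero ((sigmaSES P (a + m)).X₁.X i) := fun i hi =>
      isZero_stupidTrunc_of_lt P (a + m) i hi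
    have hsplit : ∀ n, Nonempty ((sigmaSES P (a + m)).map (HomologicalComplex.eval _ _ n)).Splitting := by
      intro n
      by_cases h : n < a + m
      · exact ⟨splittingOfIsZero₁ (hX₁ n h) ((hse n).isIso_g_iff.2 (hX₁ n h))⟩
      · exact ⟨splittingOfIsZero₃ (hle n (by omega)) ((hse n).isIso_f_iff.2 (hle n (by omega)))⟩
    refine iHomProp_X₂ Φ h₂ I (sigmaSES P (a + m)) hsplit ?_ ?_
    · have hX₁' : ∀ i, i ≠ a + m → IsZero ((sigmaSES P (a + m)).X₁.X i) := fun i hi => by
        by_cases h : i < a + m
        · exact hX₁ i h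
        · haveI := (hse i).mono_f
          exact IsZero.of_mono ((sigmaSES P (a + m)).map (HomologicalComplex.eval _ _ i)).f
            (hz i (by omega))
      obtain ⟨n, ⟨e⟩⟩ := hf (a + m)
      haveI : IsIso ((sigmaSES P (a + m)).f.f (a + m)) :=
        (hse (a + m)).isIso_f_iff.2 (hle (a + m) (by omega))
      refine iHomProp_of_iso Φ I ?_ (iHomProp_single_free Φ hzero h₂ I hI (a + m) n)
      refine (HomologicalComplex.single X.Modules (ComplexShape.up ℤ) (a + m)).mapIso
        (e.symm ≪≫ (asIso ((sigmaSES P (a + m)).f.f (a + m))).symm) ≪≫ ?_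
      exact HomologicalComplex.Hom.isoOfComponents
        (fun i => if h : i = a + m then
            HomologicalComplex.singleObjXIsoOfEq (ComplexShape.up ℤ) (a + m) _ i h ≪≫
              ((sigmaSES P (a + m)).X₁.XIsoOfEq h).symm
          else (HomologicalComplex.isZero_single_obj_X _ _ _ _ h).iso (hX₁' i h))
        (fun i k hik => by
          by_cases h : i = a + m
          · exact (hX₁' k (by change i + 1 = k at hik; omega)).eq_of_tgt _ _
          · exact (HomologicalComplex.isZero_single_obj_X _ _ _ _ h).eq_of_src _ _)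
    · refine iHom_devissage hI a m _ (fun i hi => ?_) (fun i => ?_)
      · rcases hi with hi | hi
        · haveI := (hse i).epi_g
          exact IsZero.of_epi ((sigmaSES P (a + m)).map (HomologicalComplex.eval _ _ i)).g (hz i (Or.inl hi))
        · exact hle i (by omega)
      · by_cases h : i < a + m
        · obtain ⟨e⟩ := nonempty_sigmaSES_X₃_iso P (a + m) i h
          obtain ⟨n, ⟨e'⟩⟩ := hf i
          exact ⟨n, ⟨e.symm ≪≫ e'⟩⟩
        · exact ⟨0, ⟨(hle i (by omega)).iso isZero_freeMod_zero⟩⟩

end Devissage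

end Groth.Agent.KFlatLib
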