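import Groth.Agent.KFlatLib.Scheme.QCohDerived
import Groth.Agent.KFlatLib.PsiC
import Groth.Agent.KFlatLib.Perfect.DLocal
import Groth.Agent.QCoh.LocFree

/-!
# Pseudo-coherent objects have quasi-coherent cohomology
-/

set_option linter.style.haveILetI false

universe u

open CategoryTheory CategoryTheory.Limits AlgebraicGeometry

attribute [local instance] HasDerivedCategory.standard

namespace Groth.Agent.KFlatLib

variable {X : Scheme.{u}}

/-- The cohomology of a local representative. -/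
noncomputable def restrictHDIso {U : Scheme.{u}} (j : U ⟶ X) [IsOpenImmersion j] (E : DCoh.D X)
    (i : ℤ) : DCoh.HD ((rho j).obj E) i ≅ (Scheme.Modules.restrictFunctor j).obj (DCoh.HD E i) :=
  (mapDCHomologyIso (Scheme.Modules.restrictFunctor j) i).app E

lemma isQCoh_HD_of_isStrictlyPerfect {U : Scheme.{u}} {P : CochainComplex U.Modules ℤ}
    (hP : DCoh.IsStrictlyPerfect P) (i : ℤ) : Coh.IsQCoh (DCoh.HD (DerivedCategory.Q.obj P) i) :=
  (isQCohD_Q_iff P).2 (fun n => isQCoh_homology_of_terms P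
    (fun n => QCoh.isQCoh_of_isFinLocFree (hP.2 n)) n) i

lemma exists_qcoh_epi_of_locPC {m : ℤ} {E : DCoh.D X} (hE : DCoh.IsPseudoCoherentD m E) (x : X) :
    ∃ (V : X.Opens) (Q : (V : Scheme.{u}).Modules)
      (π : Q ⟶ (Scheme.Modules.restrictFunctor V.ι).obj (DCoh.HD E m)),
      x ∈ V ∧ Coh.IsQCoh Q ∧ Epi π ∧
        ∀ i, m < i → Coh.IsQCoh ((Scheme.Modules.restrictFunctor V.ι).obj (DCoh.HD E i)) := by
  obtain ⟨V, hx, hV⟩ := hE x
  let F := DerivedCategory.Q.objPreimage E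
  obtain ⟨P, α, hP, hiso, hepi⟩ := hV F ⟨repIso E⟩
  let e : DerivedCategory.Q.obj ((DCoh.restrictCx V).obj F) ≅ (rho V.ι).obj E :=
    ((rhoQ V.ι).app F).symm ≪≫ (rho V.ι).mapIso (repIso E)
  let H := DerivedCategory.homologyFunctor (V : Scheme.{u}).Modules
  haveI := hepi
  refine ⟨V, _, (H m).map (α ≫ e.hom) ≫ (restrictHDIso V.ι E m).hom, hx,
    isQCoh_HD_of_isStrictlyPerfect hP m, ?_, fun i hi => ?_⟩
  · rw [Functor.map_comp]
    exact @epi_comp _ _ _ _ _ _ (@epi_comp _ _ _ _ _ _ hepi _ inferInstance) _ inferInstance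
  · haveI := hiso i hi
    exact isQCoh_of_iso (asIso ((H i).map α) ≪≫ (H i).mapIso e ≪≫ restrictHDIso V.ι E i)
      (isQCoh_HD_of_isStrictlyPerfect hP i)

lemma isQCoh_HD_of_pseudoCoherent {m : ℤ} {E : DCoh.D X} (hE : DCoh.IsPseudoCoherentD m E)
    (i : ℤ) (hi : m < i) : Coh.IsQCoh (DCoh.HD E i) := by
  choose V Q π hx hQ hπ hq using fun x => exists_qcoh_epi_of_locPC hE x
  exact QCoh.isQCoh_of_isOpenCover V (TopologicalSpace.IsOpenCover.mk (top_le_iff.1 fun x _ =>
    TopologicalSpace.Opens.mem_iSup.2 ⟨x, hx x⟩)) (fun x => hq x i hi)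

end Groth.Agent.KFlatLib
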