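import Groth.Agent.KFlatLib.Scheme.RestrictHom
import Groth.Agent.KFlatLib.Scheme.InnerDevissage
import Groth.Agent.KFlatLib.Scheme.PCQCoh

/-!
# Local study of `RSheafHom`
-/

set_option linter.style.haveILetI false
set_option backward.isDefEq.respectTransparency false

universe u

open CategoryTheory CategoryTheory.Limits CategoryTheory.Pretriangulated AlgebraicGeometry TopologicalSpace

attribute [local instance] HasDerivedCategory.standard

namespace Groth.Agent.KFlatLib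

variable {X : Scheme.{u}}

/-- `iHom(-, I)` respects isomorphisms of the derived category. -/
theorem nonempty_iHom_iso_of_iso {A B : CochainComplex X.Modules ℤ}
    (e : DerivedCategory.Q.obj A ≅ DerivedCategory.Q.obj B)
    (I : CochainComplex X.Modules ℤ) [I.IsKInjective] [∀ n, Injective (I.X n)] :
    Nonempty (DerivedCategory.Q.obj ((iHom A).obj I) ≅ DerivedCategory.Q.obj ((iHom B).obj I)) := by
  obtain ⟨B', s, hB', hs⟩ := exists_kInjective_res B
  haveI := isIso_Q_map s hs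
  obtain ⟨a, ha⟩ := exists_Q_map (e.hom ≫ DerivedCategory.Q.map s)
  haveI : QuasiIso a := by
    rw [← DerivedCategory.isIso_Q_map_iff_quasiIso (C := X.Modules), ha]
    infer_instance
  haveI := quasiIso_iHomMap a I
  haveI := quasiIso_iHomMap s I
  haveI := isIso_Q_map ((iHomMap a).app I) inferInstance
  haveI := isIso_Q_map ((iHomMap s).app I) inferInstance
  exact ⟨(asIso (DerivedCategory.Q.map ((iHomMap a).app I))).symm ≪≫
    asIso (DerivedCategory.Q.map ((iHomMap s).app I))⟩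

/-- A bounded complex of locally free modules is termwise free near every point. -/
lemma exists_free_nhd_sp {E : CochainComplex X.Modules ℤ} (hE : DCoh.IsStrictlyPerfect E) (x : X) :
    ∃ W : X.Opens, x ∈ W ∧ ∀ i, ∃ n, Nonempty ((E.X i).restrict W.ι ≅ FlatMod.freeMod W n) := by
  obtain ⟨⟨a, b, hab⟩, hf⟩ := hE
  choose U n hx he using fun i => hf i x
  have hle : ∀ i ∈ Finset.Icc a b, (Finset.Icc a b).inf U ≤ U i := fun i hi => Finset.inf_le hi
  refine ⟨(Finset.Icc a b).inf U, ?_, fun i => ?_⟩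
  · induction Finset.Icc a b using Finset.cons_induction with
    | empty => simp
    | cons c s hc ih =>
      rw [Finset.inf_cons]
      exact ⟨hx c, ih⟩
  · by_cases hi : i ∈ Finset.Icc a b
    · exact ⟨n i, ⟨restrictFreeIso (hle i hi) (he i).some⟩⟩
    · refine ⟨0, ⟨(Functor.map_isZero _ (hab i ?_)).iso isZero_freeMod_zero⟩⟩
      simp only [Finset.mem_Icc] at hi
      omega

/-- Quasi-coherence is local for open immersions. -/
lemma isQCoh_of_local {M : X.Modules}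
    (h : ∀ x : X, ∃ (U : Scheme.{u}) (j : U ⟶ X) (_ : IsOpenImmersion j),
      x ∈ Set.range j.base ∧ Coh.IsQCoh (M.restrict j)) : Coh.IsQCoh M := by
  choose U j hj hx hq using h
  refine QCoh.isQCoh_of_isOpenCover (fun x => @Scheme.Hom.opensRange _ _ (j x) (hj x))
    (IsOpenCover.mk (top_le_iff.1 fun x _ => Opens.mem_iSup.2 ⟨x, hx x⟩)) fun x => ?_
  haveI := hj x
  exact (QCoh.isQCoh_iff_iso (QCoh.restrictRestrict M (rangeHom (j x)) (j x) ≪≫
    (Scheme.Modules.restrictFunctorCongr (rangeHom_fac (j x))).app M)).1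
      (QCoh.isQCoh_restrict (rangeHom (j x)) (hq x))

/-- Quasi-coherence of a cohomology sheaf is local. -/
lemma isQCoh_HD_of_local (R : DCoh.D X) (i : ℤ)
    (h : ∀ x : X, ∃ (U : Scheme.{u}) (j : U ⟶ X) (_ : IsOpenImmersion j),
      x ∈ Set.range j.base ∧ Coh.IsQCoh (DCoh.HD ((rho j).obj R) i)) : Coh.IsQCoh (DCoh.HD R i) :=
  isQCoh_of_local fun x => by
    obtain ⟨U, j, hj, hx, hq⟩ := h x
    exact ⟨U, j, hj, hx, isQCoh_of_iso (restrictHDIso j R i) hq⟩

/-- The restriction of `Q iHom(K, I)`. -/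
theorem nonempty_rho_iHom {U : Scheme.{u}} (j : U ⟶ X) [IsOpenImmersion j]
    (K I : CochainComplex X.Modules ℤ) :
    Nonempty ((rho j).obj (DerivedCategory.Q.obj ((iHom K).obj I)) ≅
      DerivedCategory.Q.obj ((iHom ((rCx j).obj K)).obj ((rCx j).obj I))) := by
  obtain ⟨e⟩ := nonempty_iHomRestrictIso j K
  exact ⟨(rhoQ j).app _ ≪≫ DerivedCategory.Q.mapIso (e.app I)⟩

/-- Restriction preserves `D_QCoh`. -/
lemma isQCohD_rho {U : Scheme.{u}} (j : U ⟶ X) [IsOpenImmersion j] {E : DCoh.D X}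
    (hE : DCoh.IsQCohD E) : DCoh.IsQCohD ((rho j).obj E) := fun i =>
  isQCoh_of_iso (restrictHDIso j E i).symm (QCoh.isQCoh_restrict j (hE i))

/-- `RHom` from a perfect complex preserves `D_QCoh`. -/
theorem isQCohD_RSheafHom_of_isPerfect (K : CochainComplex X.Modules ℤ)
    (hK : DCoh.IsPerfect (DCoh.toD X K)) [DCoh.HasLTensorCx K] [DCoh.HasRSheafHom K]
    (L : DCoh.D X) (hL : DCoh.IsQCohD L) : DCoh.IsQCohD ((DCoh.RSheafHom K).obj L) := by
  obtain ⟨I, _, _, ⟨eL⟩⟩ := exists_kInjective_rep L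
  obtain ⟨e⟩ := nonempty_RSheafHom_iso K I
  refine isQCohD_of_iso ((DCoh.RSheafHom K).mapIso eL ≪≫ e).symm fun i => isQCoh_HD_of_local _ i fun x => ?_
  obtain ⟨V, hxV, hV⟩ := hK x
  obtain ⟨E, hE, ⟨eE⟩⟩ := hV K ⟨Iso.refl _⟩
  obtain ⟨W, hxW, hW⟩ := exists_free_nhd_sp hE ⟨x, hxV⟩
  refine ⟨W, W.ι ≫ V.ι, inferInstance, ⟨⟨⟨x, hxV⟩, hxW⟩, rfl⟩, ?_⟩
  let j := W.ι ≫ V.ι
  let J := (rCx j).obj I
  haveI : J.IsKInjective := isKInjective_rCx j I
  haveI : ∀ n, Injective (J.X n) := injective_rCx j I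
  let eK : DerivedCategory.Q.obj ((rCx j).obj K) ≅ DerivedCategory.Q.obj ((rCx W.ι).obj E) :=
    ((rhoQ j).app K).symm ≪≫ (rhoComp W.ι V.ι j rfl _).symm ≪≫
      (rho W.ι).mapIso ((rhoQ V.ι).app K ≪≫ eE) ≪≫ (rhoQ W.ι).app E
  obtain ⟨e₁⟩ := nonempty_rho_iHom j K I
  obtain ⟨e₂⟩ := nonempty_iHom_iso_of_iso eK J
  refine isQCohD_of_iso (e₁ ≪≫ e₂).symm ?_ i
  obtain ⟨a, b, hab⟩ := hE.1
  haveI : (DCoh.IsQCohD (X := (W : Scheme.{u}))).IsClosedUnderIsomorphisms := ⟨isQCohD_of_iso⟩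
  refine iHom_devissage DCoh.IsQCohD (fun C hC i => isQCoh_of_isZero (Functor.map_isZero _ hC))
    (fun T hT h₁ h₃ => isQCohD_obj₂ hT h₁ h₃) J (fun n => ?_) a ((b + 1 - a).toNat) _
    (fun k hk => Functor.map_isZero (Scheme.Modules.restrictFunctor W.ι) (hab k (by omega))) (fun k => hW k)
  have hJ : DCoh.IsQCohD (DerivedCategory.Q.obj J) :=
    isQCohD_of_iso ((rho j).mapIso eL ≪≫ (rhoQ j).app I) (isQCohD_rho j hL)
  exact isQCohD_of_iso ((DerivedCategory.Q.commShiftIso n).app J).symm (isQCohD_shift hJ n)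

end Groth.Agent.KFlatLib
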