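import Groth.Agent.KFlatLib.Scheme.RpushUnbounded
import Groth.Agent.TriCat.AcyclicObj
import Groth.Agent.TriCat.Resolve
import Groth.Agent.KFlatLib.BrutalTrunc

/-!
# Complexes of quasi-coherent `f_*`-acyclic modules compute `Rf_*`
-/

set_option linter.style.haveILetI false

universe u

open CategoryTheory CategoryTheory.Limits AlgebraicGeometry Pretriangulated ZeroObject

attribute [local instance] HasDerivedCategory.standard

namespace Groth.Agent.KFlatLib

variable {X Y : Scheme.{u}} (f : X ⟶ Y) [DCoh.HasRpush f]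

/-- The unit `Q(f_* F) ⟶ Rf_*(Q F)`, as a natural transformation of functors of complexes. -/
noncomputable def rpushUnit :
    (Scheme.Modules.pushforward f).mapHomologicalComplex (ComplexShape.up ℤ) ⋙ DerivedCategory.Q ⟶
      DerivedCategory.Q ⋙ DCoh.Rpush f :=
  (Functor.isoWhiskerRight ((Scheme.Modules.pushforward f).mapHomotopyCategoryFactors
      (ComplexShape.up ℤ)) DerivedCategory.Qh ≪≫ Functor.associator _ _ _ ≪≫
    Functor.isoWhiskerLeft _ (DerivedCategory.quotientCompQhIso Y.Modules)).inv ≫
  (Functor.associator _ _ _).hom ≫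
  Functor.whiskerLeft (HomotopyCategory.quotient X.Modules (ComplexShape.up ℤ))
    ((DCoh.pushKh f).totalRightDerivedUnit DerivedCategory.Qh
      (HomotopyCategory.quasiIso X.Modules (ComplexShape.up ℤ))) ≫
  (Functor.associator _ _ _).inv ≫
  Functor.whiskerRight (DerivedCategory.quotientCompQhIso X.Modules).hom (DCoh.Rpush f)

lemma isIso_rpushUnit_iff (F : CochainComplex X.Modules ℤ) :
    IsIso ((rpushUnit f).app F) ↔
      IsIso (((DCoh.pushKh f).totalRightDerivedUnit DerivedCategory.Qh
        (HomotopyCategory.quasiIso X.Modules (ComplexShape.up ℤ))).app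
          ((HomotopyCategory.quotient X.Modules (ComplexShape.up ℤ)).obj F)) := by
  simp only [rpushUnit, NatTrans.comp_app, Functor.associator_hom_app, Functor.associator_inv_app,
    Functor.whiskerLeft_app, Functor.whiskerRight_app]
  erw [isIso_comp_left_iff, isIso_comp_left_iff, isIso_comp_right_iff]

lemma isIso_rpushUnit_of_kInjective (I : CochainComplex X.Modules ℤ) [I.IsKInjective] :
    IsIso ((rpushUnit f).app I) :=
  (isIso_rpushUnit_iff f I).2 (isIso_unit_of_kInjective f I)

variable [HasInjectiveResolutions X.Modules]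

/-- Bounded below complexes of acyclic modules compute `Rf_*`. -/
lemma isIso_rpushUnit_of_isStrictlyGE (F : CochainComplex X.Modules ℤ) (a : ℤ) [F.IsStrictlyGE a]
    (hac : ∀ n, TriCat.IsRightAcyclic (Scheme.Modules.pushforward f) (F.X n)) :
    IsIso ((rpushUnit f).app F) := by
  haveI := SpObjSS.enoughInjectives_of_hasInjectiveResolutions (C := X.Modules)
  haveI := QCoh.preservesFiniteLimits_push f
  obtain ⟨I, s, hI, hinj, hm, hs⟩ := TriCat.exists_quasiIso_resolution (A := X.Modules) Injective
    ⟨0, isZero_zero _, IsZero.injective (isZero_zero _)⟩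
    (fun M => ⟨Injective.under M, Injective.ι M, inferInstance, inferInstance⟩) F a
  haveI := hI
  haveI := hinj
  haveI := hs
  haveI : I.IsKInjective := CochainComplex.isKInjective_of_injective _ a
  haveI := TriCat.quasiIso_map_of_adapted
    (TriCat.isAdapted_isRightAcyclic (F := Scheme.Modules.pushforward f)) s hm a hac
    (fun n => TriCat.isRightAcyclic_of_injective _)
  let P := (Scheme.Modules.pushforward f).mapHomologicalComplex (ComplexShape.up ℤ)
  have h1 : IsIso (DerivedCategory.Q.map (P.map s)) := inferInstance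
  have h2 : IsIso (DerivedCategory.Q.map s) := inferInstance
  have h3 := isIso_rpushUnit_of_kInjective f I
  have w := (rpushUnit f).naturality s
  simp only [Functor.comp_map] at w
  have h4 : IsIso ((rpushUnit f).app F ≫ (DCoh.Rpush f).map (DerivedCategory.Q.map s)) := by
    rw [← w]
    exact IsIso.comp_isIso' h1 h3
  exact IsIso.of_isIso_comp_right _ ((DCoh.Rpush f).map (DerivedCategory.Q.map s))

omit [DCoh.HasRpush f] [HasInjectiveResolutions X.Modules] in
lemma isIso_of_isIso_restrict {A B : Y.Modules} (g : A ⟶ B)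
    (h : ∀ y : Y, ∃ U : Y.Opens, y ∈ U ∧ IsIso ((Scheme.Modules.restrictFunctor U.ι).map g)) :
    IsIso g := by
  have hlim : ∀ U : Y.Opens, PreservesFiniteLimits (Scheme.Modules.restrictFunctor U.ι) ∧
      PreservesFiniteColimits (Scheme.Modules.restrictFunctor U.ι) := fun U =>
    ((Functor.exact_tfae (Scheme.Modules.restrictFunctor U.ι)).out 1 3).1
      fun S hS => exact_restrict hS U
  haveI : Mono g := Preadditive.mono_of_kernel_zero
    ((isZero_of_isZero_restrict (kernel g) fun y => by
      obtain ⟨U, hyU, hU⟩ := h y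
      haveI := (hlim U).1
      haveI := hU
      exact ⟨U, hyU, (isZero_kernel_of_mono _).of_iso (PreservesKernel.iso _ g)⟩).eq_of_src _ _)
  haveI : Epi g := Preadditive.epi_of_cokernel_zero
    ((isZero_of_isZero_restrict (cokernel g) fun y => by
      obtain ⟨U, hyU, hU⟩ := h y
      haveI := (hlim U).2
      haveI := hU
      exact ⟨U, hyU, (isZero_cokernel_of_epi _).of_iso (PreservesCokernel.iso _ g)⟩).eq_of_tgt _ _)
  exact isIso_of_mono_of_epi g

variable [QuasiCompact f] [QuasiSeparated f]

/-- Complexes of quasi-coherent acyclic modules compute `Rf_*`. -/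
theorem isIso_rpushUnit_of_acyclic (F : CochainComplex X.Modules ℤ) (hq : ∀ n, Coh.IsQCoh (F.X n))
    (hac : ∀ n, TriCat.IsRightAcyclic (Scheme.Modules.pushforward f) (F.X n)) :
    IsIso ((rpushUnit f).app F) := by
  let G := Scheme.Modules.pushforward f
  refine (DerivedCategory.isIso_iff _ _).2 fun k => isIso_of_isIso_restrict _ fun y => ?_
  obtain ⟨_, ⟨U, hU, rfl⟩, hyU, -⟩ :=
    Y.isBasis_affineOpens.exists_subset_of_mem_open (Set.mem_univ y) isOpen_univ
  refine ⟨U, hyU, ?_⟩
  obtain ⟨N₀, hN⟩ := exists_Rpush_bound_near f hU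
  let m : ℤ := k - N₀ - 1
  let Fm : CochainComplex X.Modules ℤ := F.stupidTrunc (ComplexShape.embeddingUpIntGE m)
  haveI : CochainComplex.IsStrictlyGE Fm m := inferInstance
  have hac' : ∀ n, TriCat.IsRightAcyclic G (Fm.X n) := fun n i hi => by
    rcases lt_or_ge n m with h | h
    · exact (G.rightDerived i).map_isZero (isZero_stupidTrunc_of_lt F m n h)
    · haveI := isIso_sigmaGEι_f F m n h
      exact (hac n i hi).of_iso ((G.rightDerived i).mapIso (asIso ((sigmaGEι F m).f n)))
  have h1 := isIso_rpushUnit_of_isStrictlyGE f Fm m hac'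
  let H := DerivedCategory.homologyFunctor Y.Modules k
  let P := G.mapHomologicalComplex (ComplexShape.up ℤ)
  let R := Scheme.Modules.restrictFunctor (Scheme.Opens.ι (X := Y) U)
  -- the truncation does not change the cohomology of the pushforward
  have h2 : IsIso (H.map (DerivedCategory.Q.map (P.map (sigmaGEι F m)))) := by
    refine (NatIso.isIso_map_iff (DerivedCategory.homologyFunctorFactors Y.Modules k)
      (P.map (sigmaGEι F m))).2 ?_
    haveI := isIso_sigmaGEι_f F m (k - 1) (by omega)
    haveI := isIso_sigmaGEι_f F m k (by omega)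
    haveI := isIso_sigmaGEι_f F m (k + 1) (by omega)
    refine (quasiIsoAt_iff_isIso_homologyMap (P.map (sigmaGEι F m)) k).1
      ((quasiIsoAt_iff' (P.map (sigmaGEι F m)) (k - 1) k (k + 1) (by simp) (by simp)).2 ?_)
    exact @ShortComplex.quasiIso_of_epi_of_isIso_of_mono _ _ _ _ _ _ _ _
      (inferInstanceAs (Epi (G.map ((sigmaGEι F m).f (k - 1)))))
      (inferInstanceAs (IsIso (G.map ((sigmaGEι F m).f k))))
      (inferInstanceAs (Mono (G.map ((sigmaGEι F m).f (k + 1)))))
  -- nor does it change the cohomology of `Rf_*` near `y`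
  have h3 : IsIso (R.map (H.map ((DCoh.Rpush f).map (DerivedCategory.Q.map (sigmaGEι F m))))) := by
    obtain ⟨c, hc⟩ := exists_rpush_triangle f _
      (DerivedCategory.triangleOfSES_distinguished (sigmaSES_shortExact F m))
    haveI : (DerivedCategory.Q.obj (sigmaSES F m).X₃).IsLE (m - 1) := by
      haveI := isStrictlyLE_sigmaSES_X₃ F m
      infer_instance
    have hq3 : DCoh.IsQCohD (DerivedCategory.Q.obj (sigmaSES F m).X₃) := by
      refine (isQCohD_Q_iff _).2 fun i => isQCoh_homology_of_terms _ (fun n => ?_) i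
      rcases lt_or_ge n m with h | h
      · exact isQCoh_of_iso (nonempty_sigmaSES_X₃_iso F m n h).some (hq n)
      · haveI := isStrictlyLE_sigmaSES_X₃ F m
        exact isQCoh_of_isZero (CochainComplex.isZero_of_isStrictlyLE _ (m - 1) n (by omega))
    have hv := fun i hi => isZero_restrict_hd_rpush f hq3 (m - 1) U N₀ hN i hi
    have e1 := exact_restrict (DerivedCategory.HomologySequence.exact₁ _ hc (k - 1) k (by omega)) U
    have e2 := exact_restrict (DerivedCategory.HomologySequence.exact₂ _ hc k) U
    haveI : Mono (R.map (H.map ((DCoh.Rpush f).map (DerivedCategory.Q.map (sigmaGEι F m))))) :=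
      e1.mono_g ((hv (k - 1) (by omega)).eq_of_src _ _)
    haveI : Epi (R.map (H.map ((DCoh.Rpush f).map (DerivedCategory.Q.map (sigmaGEι F m))))) :=
      e2.epi_f ((hv k (by omega)).eq_of_tgt _ _)
    exact isIso_of_mono_of_epi _
  have w := congrArg (fun z => R.map (H.map z)) ((rpushUnit f).naturality (sigmaGEι F m))
  simp only [Functor.comp_map, Functor.map_comp] at w
  have h4 : IsIso (R.map (H.map (DerivedCategory.Q.map (P.map (sigmaGEι F m)))) ≫
      R.map (H.map ((rpushUnit f).app F))) := by
    rw [w]
    haveI := h1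
    exact IsIso.comp_isIso' inferInstance h3
  haveI := h2
  exact IsIso.of_isIso_comp_left (R.map (H.map (DerivedCategory.Q.map (P.map (sigmaGEι F m))))) _

end Groth.Agent.KFlatLib
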