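import Groth.Agent.KFlatLib.Scheme.ExtZero
import Mathlib.AlgebraicGeometry.Morphisms.ClosedImmersion
import Mathlib.Topology.Sheaves.SheafCondition.PairwiseIntersections

/-!
# Stalks and exactness of the pushforward along a closed immersion
-/

set_option linter.style.haveILetI false
set_option backward.isDefEq.respectTransparency false
set_option backward.isDefEq.respectTransparency.types false

universe w' w u

open CategoryTheory CategoryTheory.Limits AlgebraicGeometry TopologicalSpace Opposite

namespace Groth.Agent.KFlatLib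

variable {X Y : Scheme.{u}} (f : X ⟶ Y) [IsClosedImmersion f]

lemma stalkPushforward_naturality' {A B : TopCat.{u}} (p : A ⟶ B) {F G : A.Presheaf Ab.{u}} (g : F ⟶ G)
    (x : A) : (TopCat.Presheaf.stalkFunctor Ab.{u} (p x)).map ((TopCat.Presheaf.pushforward Ab.{u} p).map g) ≫
      G.stalkPushforward Ab.{u} p x =
      F.stalkPushforward Ab.{u} p x ≫ (TopCat.Presheaf.stalkFunctor Ab.{u} x).map g := by
  refine TopCat.Presheaf.stalk_hom_ext _ fun U hU => ?_
  rw [TopCat.Presheaf.stalkFunctor_map_germ_assoc, TopCat.Presheaf.stalkPushforward_germ,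
    TopCat.Presheaf.stalkPushforward_germ_assoc]
  exact (TopCat.Presheaf.stalkFunctor_map_germ ((Opens.map p).obj U) x hU g).symm

instance isIso_stalkPushforward_closed (M : X.Modules) (x : X) :
    IsIso (TopCat.Presheaf.stalkPushforward Ab.{u} f.base M.presheaf x) :=
  TopCat.Presheaf.stalkPushforward.stalkPushforward_iso_of_isInducing Ab.{u}
    f.isClosedEmbedding.isInducing M.presheaf x

/-- The stalk of a pushforward at a point of the image. -/
noncomputable def stalkPushIso (x : X) :
    Scheme.Modules.pushforward f ⋙ stalkAb (X := Y) (f.base x) ≅ stalkAb (X := X) x :=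
  NatIso.ofComponents (fun M => asIso (TopCat.Presheaf.stalkPushforward Ab.{u} f.base M.presheaf x))
    fun {M N} φ => stalkPushforward_naturality' f.base ((toAb X ⋙ TopCat.Sheaf.forget _ _).map φ) x

/-- The stalk of a pushforward outside the image vanishes. -/
lemma isZero_stalk_push (y : Y) (hy : y ∉ Set.range f.base) (M : X.Modules) :
    IsZero ((Scheme.Modules.pushforward f ⋙ stalkAb (X := Y) y).obj M) := by
  rw [AddCommGrpCat.isZero_iff_subsingleton]
  refine ⟨fun a b => ?_⟩
  let W : Y.Opens := ⟨(Set.range f.base)ᶜ, f.isClosedEmbedding.isClosed_range.isOpen_compl⟩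
  have key : ∀ a : TopCat.Presheaf.stalk (C := Ab.{u}) ((Scheme.Modules.pushforward f).obj M).presheaf y,
      a = 0 := fun a => by
    obtain ⟨V, hV, s, rfl⟩ := TopCat.Presheaf.exists_germ_eq
      (((Scheme.Modules.pushforward f).obj M).presheaf) (x := y) a
    have he : f ⁻¹ᵁ (V ⊓ W) = ⊥ := by
      ext z
      simp only [Opens.coe_bot, Set.mem_empty_iff_false, iff_false]
      exact fun h => h.2 ⟨z, rfl⟩
    haveI : Subsingleton Γ(M, f ⁻¹ᵁ (V ⊓ W)) := by
      rw [he]
      exact AddCommGrpCat.subsingleton_of_isZero
        (TopCat.Sheaf.isTerminalOfEmpty (⟨M.presheaf, M.isSheaf⟩ : TopCat.Sheaf Ab.{u} X)).isZero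
    rw [← TopCat.Presheaf.germ_res_apply ((Scheme.Modules.pushforward f).obj M).presheaf
      (homOfLE inf_le_left : V ⊓ W ⟶ V) y ⟨hV, hy⟩ s]
    rw [Subsingleton.elim (α := Γ(M, f ⁻¹ᵁ (V ⊓ W))) (((Scheme.Modules.pushforward f).obj M).presheaf.map
      (homOfLE inf_le_left : V ⊓ W ⟶ V).op s) 0]
    exact map_zero _
  exact (key a).trans (key b).symm

/-- Pushforward along a closed immersion preserves the colimits that stalks preserve. -/
theorem preservesColimitsOfShape_push (K : Type w) [Category.{w'} K]
    [HasColimitsOfShape K X.Modules] [HasColimitsOfShape K Y.Modules]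
    [HasColimitsOfShape K Ab.{u}]
    [∀ x : X, PreservesColimitsOfShape K (stalkAb (X := X) x)]
    [∀ y : Y, PreservesColimitsOfShape K (stalkAb (X := Y) y)] :
    PreservesColimitsOfShape K (Scheme.Modules.pushforward f) where
  preservesColimit {F} := by
    haveI : IsIso (colimit.post F (Scheme.Modules.pushforward f)) := isIso_of_stalk _ fun y => by
      let S := stalkAb (X := Y) y
      haveI : PreservesColimit F (Scheme.Modules.pushforward f ⋙ S) := by
        by_cases hy : y ∈ Set.range f.base
        · obtain ⟨x, rfl⟩ := hy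
          exact preservesColimit_of_natIso F (stalkPushIso f x).symm
        · exact ⟨fun {c} hc => ⟨{
            desc := fun t => 0
            fac := fun t i => (isZero_stalk_push f y hy (F.obj i)).eq_of_src _ _
            uniq := fun t m _ => (isZero_stalk_push f y hy c.pt).eq_of_src _ _ }⟩⟩
      haveI : IsIso (colimit.post (F ⋙ Scheme.Modules.pushforward f) S ≫
          S.map (colimit.post F (Scheme.Modules.pushforward f))) := by
        rw [colimit.post_post F (Scheme.Modules.pushforward f) S]
        exact (inferInstance : IsIso (colimit.post F (Scheme.Modules.pushforward f ⋙ S)))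
      have h : IsIso (S.map (colimit.post F (Scheme.Modules.pushforward f))) :=
        IsIso.of_isIso_comp_left (colimit.post (F ⋙ Scheme.Modules.pushforward f) S) _
      exact @isIso_of_reflects_iso _ _ _ _ _ _ _
        (forget₂ (ModuleCat (Y.presheaf.stalk y)) AddCommGrpCat) h _
    exact preservesColimit_of_isIso_post _ F

end Groth.Agent.KFlatLib
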