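import Groth.Agent.KFlatLib.Scheme.Amplitude
import Groth.Agent.KFlatLib.Scheme.Flatness
import Groth.Agent.KFlatLib.Scheme.PullTensorCx
import Groth.Agent.KFlatLib.Scheme.PushKInj
import Mathlib.RingTheory.Flat.FaithfullyFlat.Basic
import Mathlib.AlgebraicGeometry.Morphisms.UnderlyingMap

/-!
# Descent of amplitude along flat surjective morphisms
-/

set_option linter.style.haveILetI false

universe u

open CategoryTheory CategoryTheory.Limits AlgebraicGeometry
open scoped TensorProduct ZeroObject

attribute [local instance] HasDerivedCategory.standard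

namespace Groth.Agent.KFlatLib

variable {X Y : Scheme.{u}} (f : X ⟶ Y)

/-- Pullback along a flat surjection detects zero objects. -/
lemma isZero_of_isZero_pullback [Flat f] [Surjective f] (M : Y.Modules)
    (h : IsZero ((Scheme.Modules.pullback f).obj M)) : IsZero M := by
  refine isZero_of_stalk M fun y => ?_
  obtain ⟨x, rfl⟩ := f.surjective y
  letI := (f.stalkMap x).hom.toAlgebra
  haveI : IsLocalHom (algebraMap (Y.presheaf.stalk (f.base x)) (X.presheaf.stalk x)) :=
    inferInstanceAs (IsLocalHom (f.stalkMap x).hom)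
  haveI : Module.Flat (Y.presheaf.stalk (f.base x)) (X.presheaf.stalk x) := Flat.stalkMap f x
  haveI : Module.FaithfullyFlat (Y.presheaf.stalk (f.base x)) (X.presheaf.stalk x) :=
    Module.FaithfullyFlat.of_flat_of_isLocalHom
  have hz := ((DerSch.stalkFunctor X x).map_isZero h).of_iso ((stalkPullbackIso f x).app M).symm
  haveI : Subsingleton ((X.presheaf.stalk x) ⊗[Y.presheaf.stalk (f.base x)]
      ((DerSch.stalkFunctor Y (f.base x)).obj M : Type u)) :=
    ModuleCat.subsingleton_of_isZero hz
  haveI : Subsingleton ((DerSch.stalkFunctor Y (f.base x)).obj M : Type u) :=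
    Module.FaithfullyFlat.lTensor_reflects_triviality (Y.presheaf.stalk (f.base x))
      (X.presheaf.stalk x) _
  exact ModuleCat.isZero_of_subsingleton _

/-- Pullback along a flat map preserves homology. -/
lemma preservesHomology_pullback [Flat f]
    [(Scheme.Modules.pullback f).Additive] : (Scheme.Modules.pullback f).PreservesHomology :=
  Functor.preservesHomology_of_map_exact _ fun _ hS => exact_map_pullback f hS

/-- Pullback of complexes along a flat surjection detects vanishing homology. -/
lemma isZero_homology_of_pullCx [Flat f] [Surjective f] (K : CochainComplex Y.Modules ℤ) (i : ℤ)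
    (h : IsZero (((pullCx f).obj K).homology i)) : IsZero (K.homology i) := by
  haveI := preservesHomology_pullback f
  exact isZero_of_isZero_pullback f _
    (h.of_iso ((K.sc i).mapHomologyIso (Scheme.Modules.pullback f)).symm)

/-- `f^* (K ⊗ G) ≅ f^* K ⊗ f^* G`. -/
noncomputable def pullTensorModCxIso (G : Y.Modules) (K : CochainComplex Y.Modules ℤ) :
    (tensorModCx ((Scheme.Modules.pullback f).obj G)).obj ((pullCx f).obj K) ≅
      (pullCx f).obj ((tensorModCx G).obj K) :=
  HomologicalComplex.Hom.isoOfComponents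
    (fun i => (((pullTensorBiIso f).app (K.X i)).app G).symm)
    fun i j _ => (congr($((pullTensorBiIso f).inv.naturality (K.d i j)).app G)).symm

/-- Tor amplitude descends along flat surjections. -/
lemma torAmplitude_descends [Flat f] [Surjective f] [DCoh.HasLpull f] {a b : ℤ} {E : DCoh.D Y}
    (h : DCoh.HasTorAmplitudeIn a b ((DCoh.Lpull f).obj E)) : DCoh.HasTorAmplitudeIn a b E := by
  intro G _ i hi
  let K := (kRes Y).obj (DerivedCategory.Q.objPreimage E)
  have hK : DCoh.IsKFlat K := isKFlat_kRes _
  let e : DCoh.toD Y K ≅ E := (resQIso Y).app _ ≪≫ DerivedCategory.Q.objObjPreimageIso E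
  haveI := hasLTensorMod ((Scheme.Modules.pullback f).obj G)
  have hz : IsZero (((tensorModCx G).obj K).homology i) :=
    isZero_homology_of_pullCx f _ i
      ((h _ i hi).of_iso ((HomologicalComplex.homologyFunctor _ _ i).mapIso
          (pullTensorModCxIso f G K).symm ≪≫
        (hdLTensorModIso _ (isKFlat_pullback f hK) i).symm ≪≫
        (DerivedCategory.homologyFunctor X.Modules i).mapIso ((DCoh.LTensorMod _).mapIso
          ((lpullIso f hK).symm ≪≫ (DCoh.Lpull f).mapIso e))))
  exact hz.of_iso ((DerivedCategory.homologyFunctor Y.Modules i).mapIso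
    ((DCoh.LTensorMod G).mapIso e.symm) ≪≫ hdLTensorModIso G hK i)

/-- Flat amplitude descends along flat surjections. -/
lemma flatAmplitude_descends [Flat f] [Surjective f] [DCoh.HasLpull f] {a b : ℤ} {E : DCoh.D Y}
    (h : DCoh.HasFlatAmplitudeIn a b ((DCoh.Lpull f).obj E)) :
    DCoh.HasFlatAmplitudeIn a b E := by
  have ht := torAmplitude_descends f (torAmplitude_of_flatAmplitude h)
  by_cases hab : a ≤ b
  · exact flatAmplitude_of_torAmplitude (fun G => hasLTensorMod G) hab ht
  let K := DerivedCategory.Q.objPreimage E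
  haveI := hasLTensorMod (Coh.structureModule Y)
  have hK : ∀ i, IsZero (K.homology i) := fun i =>
    (ht (Coh.structureModule Y) i (by omega)).of_iso ((hdLTensorStructureIso K i).symm ≪≫
      (DerivedCategory.homologyFunctor Y.Modules i).mapIso
        ((DCoh.LTensorMod _).mapIso (DerivedCategory.Q.objObjPreimageIso E)))
  let Z : CochainComplex Y.Modules ℤ := 0
  have hZ : ∀ i, IsZero (Z.X i) := fun i =>
    (HomologicalComplex.eval _ _ i).map_isZero (isZero_zero _)
  have hq : QuasiIso (0 : Z ⟶ K) := ⟨fun i => (quasiIsoAt_iff_isIso_homologyMap _ _).2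
    ⟨0, (ShortComplex.isZero_homology_of_isZero_X₂ _ (hZ i)).eq_of_src _ _, (hK i).eq_of_src _ _⟩⟩
  exact ⟨Z, fun i _ => hZ i, fun i => IsFlat.of_isZero (hZ i),
    ⟨@asIso _ _ _ _ (DerivedCategory.Q.map (0 : Z ⟶ K)) (isIso_Q_map _ hq) ≪≫
      DerivedCategory.Q.objObjPreimageIso E⟩⟩

end Groth.Agent.KFlatLib
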