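import Groth.Agent.KFlatLib.Scheme.QCohDevissage
import Groth.Agent.KFlatLib.Scheme.QCohTensor
import Groth.Agent.KFlatLib.Perfect.Basic
import Groth.Agent.KFlatLib.Bounded
import Groth.Agent.KFlatLib.Perfect.DLocal
import Groth.Agent.KFlatLib.Ring.Resolution

/-!
# Derived pullback and derived tensor product preserve quasi-coherence of cohomology
-/

set_option linter.style.haveILetI false

universe u

open CategoryTheory CategoryTheory.Limits AlgebraicGeometry MonoidalCategory

attribute [local instance] HasDerivedCategory.standard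

namespace Groth.Agent.KFlatLib

variable {X Y : Scheme.{u}}

lemma isQCoh_homology_of_terms (K : CochainComplex X.Modules ℤ) (h : ∀ i, Coh.IsQCoh (K.X i))
    (i : ℤ) : Coh.IsQCoh (K.homology i) := by
  have hc : ∀ j, Coh.IsQCoh (K.cycles j) := fun j =>
    isQCoh_of_iso ((limit.isLimit _).conePointUniqueUpToIso (K.cyclesIsKernel j (j + 1) (by simp)))
      (QCoh.isQCoh_kernel (h j) (h (j + 1)) (K.d j (j + 1)))
  exact isQCoh_of_iso ((colimit.isColimit _).coconePointUniqueUpToIso
      (K.homologyIsCokernel (i - 1) i (by simp)))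
    (QCoh.isQCoh_cokernel (h (i - 1)) (hc i) (K.toCycles (i - 1) i))

/-- On an affine scheme, a quasi-coherent module has resolutions by flat quasi-coherent ones. -/
lemma exists_spec_res {R : CommRingCat.{u}} (K : CochainComplex (Spec R).Modules ℤ) (b : ℤ)
    [K.IsStrictlyLE b] [K.IsStrictlyGE b] (h : Coh.IsQCoh (K.X b)) :
    ∃ T : CochainComplex (Spec R).Modules ℤ, T.IsStrictlyLE b ∧ DCoh.IsKFlat T ∧
      (∀ n, Coh.IsQCoh (T.X n)) ∧ Nonempty (DerivedCategory.Q.obj T ≅ DerivedCategory.Q.obj K) := by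
  obtain ⟨M, ⟨eK⟩⟩ := CochainComplex.exists_iso_single K b
  have hM : Coh.IsQCoh M :=
    isQCoh_of_iso ((HomologicalComplex.eval _ _ b).mapIso eK ≪≫
      HomologicalComplex.singleObjXSelf (ComplexShape.up ℤ) b M) h
  obtain ⟨M₀, ⟨eM⟩⟩ := QCoh.isQCoh_spec_iff.1 hM
  let K₀ := (HomologicalComplex.single (ModuleCat.{u} R) (ComplexShape.up ℤ) b).obj M₀
  obtain ⟨P, ψ, hψ, hflat, hz⟩ := (ringCover R).exists_bounded_resolution K₀ b fun m hm =>
    HomologicalComplex.isZero_single_obj_homology (ComplexShape.up ℤ) b M₀ m (by omega)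
  haveI := hψ
  haveI : P.IsStrictlyLE b := (CochainComplex.isStrictlyLE_iff _ _).2 hz
  have hP : KFlat (curriedTensor (ModuleCat.{u} R)) P :=
    kFlat_of_isStrictlyLE b fun n => flatObj_ringCover _ (hflat n)
  let F := (tilde.functor R).mapHomologicalComplex (ComplexShape.up ℤ)
  haveI : QuasiIso (F.map ψ) := inferInstance
  haveI := isIso_Q_map (F.map ψ) inferInstance
  refine ⟨F.obj P, (CochainComplex.isStrictlyLE_iff _ _).2 fun m hm =>
      (tilde.functor R).map_isZero (hz m hm), isKFlat_tilde P hP,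
    fun n => QCoh.isQCoh_spec_iff.2 ((tilde.functor R).obj_mem_essImage _),
    ⟨asIso (DerivedCategory.Q.map (F.map ψ)) ≪≫ DerivedCategory.Q.mapIso
      ((HomologicalComplex.singleMapHomologicalComplex (tilde.functor R) (ComplexShape.up ℤ) b).app M₀ ≪≫
        (HomologicalComplex.single _ (ComplexShape.up ℤ) b).mapIso eM ≪≫ eK.symm)⟩⟩

/-- A bounded above flat K-flat representative. -/
lemma exists_flat_rep (K : CochainComplex X.Modules ℤ) (n : ℤ) [K.IsLE n] :
    ∃ (R : CochainComplex X.Modules ℤ) (ρ : R ⟶ K), QuasiIso ρ ∧ R.IsStrictlyLE n ∧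
      DCoh.IsKFlat R := by
  obtain ⟨R, ρ, hρ, hflat, hz⟩ := (flatCover X).exists_bounded_resolution K n fun m hm =>
    (K.exactAt_of_isLE n m hm).isZero_homology
  haveI : R.IsStrictlyLE n := (CochainComplex.isStrictlyLE_iff _ _).2 hz
  exact ⟨R, ρ, hρ, inferInstance, isKFlat_of_isStrictlyLE R n hflat⟩

variable {G : CochainComplex X.Modules ℤ ⥤ CochainComplex Y.Modules ℤ}

lemma isZero_homology_of_bound (hq : RespectsQis G) (c : ℤ)
    (hG : ∀ (R : CochainComplex X.Modules ℤ) (n : ℤ), R.IsStrictlyLE n → ∀ i, n + c < i →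
      IsZero ((G.obj R).X i))
    (K : CochainComplex X.Modules ℤ) (n : ℤ) (hK : K.IsLE n) (i : ℤ) (hi : n + c < i) :
    IsZero ((G.obj ((kRes X).obj K)).homology i) := by
  haveI := hK
  obtain ⟨R, ρ, hρ, hR, hR'⟩ := exists_flat_rep K n
  haveI := hρ
  haveI := hq _ (quasiIso_kRes_map ρ) (isKFlat_kRes R) (isKFlat_kRes K)
  let ψR : (kRes X).obj R ⟶ R := (flatCover X).ψ.app R
  have hψ : QuasiIso (G.map ψR) := hq ψR ((flatCover X).quasiIso_ψ R) (isKFlat_kRes R) hR'
  have hψi : IsIso (HomologicalComplex.homologyMap (G.map ψR) i) :=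
    (quasiIsoAt_iff_isIso_homologyMap _ _).1 (hψ.quasiIsoAt i)
  refine IsZero.of_iso (ShortComplex.isZero_homology_of_isZero_X₂ _ (hG R n hR i hi))
    ((asIso (HomologicalComplex.homologyMap (G.map ((kRes X).map ρ)) i)).symm ≪≫
      @asIso _ _ _ _ (HomologicalComplex.homologyMap (G.map ψR) i) hψi)

section Tensor

lemma respectsQis_tensor (L : CochainComplex X.Modules ℤ) : RespectsQis (DCoh.tensorCx.obj L) :=
  fun α h hP hQ => by haveI := h; exact quasiIso_tensorCx_of_isKFlat α hP hQ L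

lemma respectsQis_tensorFlip (E : CochainComplex X.Modules ℤ) :
    RespectsQis (DCoh.tensorCx.flip.obj E) :=
  fun α h hP hQ => by haveI := h; exact quasiIso_tensorCx_flip_of_isKFlat α hP hQ E

lemma isZero_tensorCx_X (L K : CochainComplex X.Modules ℤ) (b n i : ℤ) [L.IsStrictlyLE b]
    [K.IsStrictlyLE n] (hi : b + n < i) : IsZero (((DCoh.tensorCx.obj L).obj K).X i) := by
  rw [IsZero.iff_id_eq_zero]
  refine HomologicalComplex.mapBifunctor.hom_ext fun p q (h : p + q = i) => ?_
  by_cases hp : b < p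
  · exact ((DCoh.tensorBi.map_isZero (L.isZero_of_isStrictlyLE b p hp)).obj _).eq_of_src _ _
  · exact ((DCoh.tensorBi.obj _).map_isZero (K.isZero_of_isStrictlyLE n q (by omega))).eq_of_src _ _

lemma isQCoh_tensorCx_X (L K : CochainComplex X.Modules ℤ) (hL : ∀ p, Coh.IsQCoh (L.X p))
    (hK : ∀ q, Coh.IsQCoh (K.X q)) (i : ℤ) :
    Coh.IsQCoh (((DCoh.tensorCx.obj L).obj K).X i) := by
  refine isQCoh_of_iso (evalObjIso₂ DCoh.tensorBi L i K).symm ?_
  let e : Discrete (ULift.{u} (fibre i)) ≌ Discrete (fibre i) := Discrete.equivalence Equiv.ulift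
  exact isQCoh_of_iso (HasColimit.isoOfEquivalence e (Iso.refl (e.functor ⋙ _)))
    (QCoh.isQCoh_colimit _ fun s => isQCoh_tensor (hL _) (hK _))

instance (E : CochainComplex X.Modules ℤ) :
    PreservesColimitsOfShape ℕ (DCoh.tensorCx.flip.obj E) :=
  preservesColimitsOfShape₁ DCoh.tensorBi ℕ E

instance (E : CochainComplex X.Modules ℤ) :
    PreservesColimitsOfShape ℕ (DCoh.tensorCx.obj E) :=
  preservesColimitsOfShape₂ DCoh.tensorBi ℕ E

lemma qData_tensor_spec {R : CommRingCat.{u}} (T : CochainComplex (Spec R).Modules ℤ) (b : ℤ)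
    [T.IsStrictlyLE b] (hT : DCoh.IsKFlat T) (hTq : ∀ n, Coh.IsQCoh (T.X n)) :
    QData (DCoh.tensorCx.obj T) where
  qis := respectsQis_tensor T
  ses S h := ⟨_, shortExact₂_of_splitting T S h⟩
  bound := ⟨b, isZero_homology_of_bound (respectsQis_tensor T) b fun K n hK i hi => by
    haveI := hK
    exact isZero_tensorCx_X T K b n i (by omega)⟩
  single K c hle hge hq := by
    haveI := hle
    haveI := hge
    obtain ⟨T', -, hT', hT'q, ⟨e⟩⟩ := exists_spec_res K c hq
    exact (qVal_iff_of_iso (respectsQis_tensor T) e).1 ((qVal_iff_rep (respectsQis_tensor T) hT').2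
      (isQCoh_homology_of_terms _ (isQCoh_tensorCx_X T T' hTq hT'q)))

lemma qVal_tensorFlip_single {E : CochainComplex X.Modules ℤ} (hE : DCoh.IsKFlat E)
    (hEq : ∀ i, Coh.IsQCoh (E.homology i)) (K : CochainComplex X.Modules ℤ) (b : ℤ)
    (hle : K.IsStrictlyLE b) (hge : K.IsStrictlyGE b) (hq : Coh.IsQCoh (K.X b)) :
    QVal (DCoh.tensorCx.flip.obj E) K := fun i => by
  refine QCoh.isQCoh_of_charts fun R j _ => ?_
  let r := rCx j
  haveI : (r.obj K).IsStrictlyLE b := (CochainComplex.isStrictlyLE_iff _ _).2 fun m hm =>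
    (Scheme.Modules.restrictFunctor j).map_isZero (K.isZero_of_isStrictlyLE b m hm)
  haveI : (r.obj K).IsStrictlyGE b := (CochainComplex.isStrictlyGE_iff _ _).2 fun m hm =>
    (Scheme.Modules.restrictFunctor j).map_isZero (K.isZero_of_isStrictlyGE b m hm)
  obtain ⟨T, hTle, hT, hTq, ⟨eT⟩⟩ := exists_spec_res (r.obj K) b (QCoh.isQCoh_restrict j hq)
  haveI := hTle
  let L := (kRes X).obj K
  have hL : DCoh.IsKFlat (r.obj L) := isKFlat_restrict j (isKFlat_kRes K)
  have hE' : ∀ k, Coh.IsQCoh ((r.obj E).homology k) := fun k =>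
    isQCoh_of_iso ((E.sc k).mapHomologyIso (Scheme.Modules.restrictFunctor j)).symm
      (QCoh.isQCoh_restrict j (hEq k))
  have h1 : QVal (DCoh.tensorCx.flip.obj (r.obj E)) T :=
    (qVal_iff_rep (respectsQis_tensorFlip _) hT).2 fun k =>
      (qData_tensor_spec T b hT hTq).isQCoh_homology (isKFlat_restrict j hE) hE' k
  haveI : QuasiIso (r.map ((flatCover X).ψ.app K)) := by
    haveI := (flatCover X).quasiIso_ψ K
    infer_instance
  have h2 := (qVal_iff_rep (respectsQis_tensorFlip (r.obj E)) hL).1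
    ((qVal_iff_of_quasiIso (respectsQis_tensorFlip _) (r.map ((flatCover X).ψ.app K))).2
      ((qVal_iff_of_iso (respectsQis_tensorFlip _) eT).1 h1)) i
  let c := restrictPullCxIso j
  let M := (DCoh.tensorCx.obj L).obj E
  exact isQCoh_of_iso ((HomologicalComplex.homologyFunctor _ _ i).mapIso
      ((DCoh.tensorCx.mapIso (c.app L)).app (r.obj E) ≪≫
        (DCoh.tensorCx.obj ((pullCx j).obj L)).mapIso (c.app E) ≪≫
        pullTensorCxIso j L E ≪≫ (c.app M).symm) ≪≫
      (M.sc i).mapHomologyIso (Scheme.Modules.restrictFunctor j)) h2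

lemma qData_tensorFlip (E : CochainComplex X.Modules ℤ) (b : ℤ) [E.IsStrictlyLE b]
    (hE : DCoh.IsKFlat E) (hEq : ∀ i, Coh.IsQCoh (E.homology i)) :
    QData (DCoh.tensorCx.flip.obj E) where
  qis := respectsQis_tensorFlip E
  ses S h := ⟨_, shortExact₁_of_splitting E S h⟩
  bound := ⟨b, isZero_homology_of_bound (respectsQis_tensorFlip E) b fun K n hK i hi => by
    haveI := hK
    exact isZero_tensorCx_X K E n b i (by omega)⟩
  single K c hle hge hq := qVal_tensorFlip_single hE hEq K c hle hge hq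

/-- Tensor products of K-flat complexes with quasi-coherent cohomology have quasi-coherent
cohomology. -/
lemma isQCoh_homology_tensorCx {K E : CochainComplex X.Modules ℤ} (hK : DCoh.IsKFlat K)
    (hKq : ∀ i, Coh.IsQCoh (K.homology i)) (hE : DCoh.IsKFlat E)
    (hEq : ∀ i, Coh.IsQCoh (E.homology i)) (i : ℤ) :
    Coh.IsQCoh (((DCoh.tensorCx.obj K).obj E).homology i) := by
  refine isQCoh_homology_of_kFlat (respectsQis_tensor K) (fun L b hb hLq => ?_) hE hEq i
  haveI := hb
  obtain ⟨E', ρ, hρ, hle, hE'⟩ := exists_flat_rep L b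
  haveI := hρ
  haveI := hle
  refine (qVal_iff_of_quasiIso (respectsQis_tensor K) ρ).1
    ((qVal_iff_rep (respectsQis_tensor K) hE').2 fun k => ?_)
  exact (qData_tensorFlip E' b hE' ((homology_isQCoh_iff ρ).2 hLq)).isQCoh_homology hK hKq k

end Tensor

section Pullback

variable (f : Y ⟶ X)

lemma respectsQis_pullCx : RespectsQis (pullCx f) :=
  fun α h hP hQ => by haveI := h; exact quasiIso_pullback f α hP hQ

lemma qVal_pullCx_single (K : CochainComplex X.Modules ℤ) (b : ℤ) (hle : K.IsStrictlyLE b)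
    (hge : K.IsStrictlyGE b) (hq : Coh.IsQCoh (K.X b)) : QVal (pullCx f) K := fun i => by
  refine QCoh.isQCoh_of_isOpenCover (fun V : X.affineOpens => f ⁻¹ᵁ V.2.fromSpec.opensRange)
    ?_ fun V => ?_
  · refine top_le_iff.1 fun y _ => ?_
    obtain ⟨_, ⟨V, hV, rfl⟩, hy, -⟩ :=
      X.isBasis_affineOpens.exists_subset_of_mem_open (Set.mem_univ (f.base y)) isOpen_univ
    exact TopologicalSpace.Opens.mem_iSup.2 ⟨⟨V, hV⟩, by rw [hV.opensRange_fromSpec]; exact hy⟩
  let j := V.2.fromSpec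
  let W := f ⁻¹ᵁ j.opensRange
  let g := IsOpenImmersion.lift j (W.ι ≫ f) (by rintro _ ⟨w, rfl⟩; exact w.2)
  have hg : g ≫ j = W.ι ≫ f := IsOpenImmersion.lift_fac _ _ _
  haveI : ((rCx j).obj K).IsStrictlyLE b := (CochainComplex.isStrictlyLE_iff _ _).2 fun m hm =>
    (Scheme.Modules.restrictFunctor j).map_isZero (K.isZero_of_isStrictlyLE b m hm)
  haveI : ((rCx j).obj K).IsStrictlyGE b := (CochainComplex.isStrictlyGE_iff _ _).2 fun m hm =>
    (Scheme.Modules.restrictFunctor j).map_isZero (K.isZero_of_isStrictlyGE b m hm)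
  obtain ⟨T, -, hT, hTq, ⟨eT⟩⟩ := exists_spec_res ((rCx j).obj K) b (QCoh.isQCoh_restrict j hq)
  let L := (kRes X).obj K
  haveI : QuasiIso ((rCx j).map ((flatCover X).ψ.app K)) := by
    haveI := (flatCover X).quasiIso_ψ K
    infer_instance
  have h2 := (qVal_iff_rep (respectsQis_pullCx g) (isKFlat_restrict j (isKFlat_kRes K))).1
    ((qVal_iff_of_quasiIso (respectsQis_pullCx g) ((rCx j).map ((flatCover X).ψ.app K))).2
      ((qVal_iff_of_iso (respectsQis_pullCx g) eT).1 ((qVal_iff_rep (respectsQis_pullCx g) hT).2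
        (isQCoh_homology_of_terms _ fun n => QCoh.isQCoh_pullback g (hTq n))))) i
  let eF : Scheme.Modules.restrictFunctor j ⋙ Scheme.Modules.pullback g ≅
      Scheme.Modules.pullback f ⋙ Scheme.Modules.restrictFunctor W.ι :=
    Functor.isoWhiskerRight (Scheme.Modules.restrictFunctorIsoPullback j) _ ≪≫
      Scheme.Modules.pullbackComp g j ≪≫ Scheme.Modules.pullbackCongr hg ≪≫
      (Scheme.Modules.pullbackComp W.ι f).symm ≪≫
      Functor.isoWhiskerLeft _ (Scheme.Modules.restrictFunctorIsoPullback W.ι).symm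
  exact isQCoh_of_iso ((HomologicalComplex.homologyFunctor _ _ i).mapIso
      ((NatIso.mapHomologicalComplex eF (ComplexShape.up ℤ)).app L) ≪≫
    (((pullCx f).obj L).sc i).mapHomologyIso (Scheme.Modules.restrictFunctor W.ι)) h2

lemma qData_pullCx : QData (pullCx f) where
  qis := respectsQis_pullCx f
  ses S h := ⟨_, HomologicalComplex.shortExact_of_degreewise_shortExact (S.map (pullCx f))
    fun n => ((h n).some.map (Scheme.Modules.pullback f)).shortExact⟩
  bound := ⟨0, isZero_homology_of_bound (respectsQis_pullCx f) 0 fun K n hK i hi => by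
    haveI := hK
    exact (Scheme.Modules.pullback f).map_isZero (K.isZero_of_isStrictlyLE n i (by omega))⟩
  single K c hle hge hq := qVal_pullCx_single f K c hle hge hq

instance : PreservesColimitsOfShape ℕ (pullCx f) :=
  ⟨fun {K} => ⟨fun {c} hc => ⟨HomologicalComplex.isColimitOfEval _ _ fun n =>
    isColimitOfPreserves (HomologicalComplex.eval X.Modules (ComplexShape.up ℤ) n ⋙
      Scheme.Modules.pullback f) hc⟩⟩⟩

lemma isQCohD_Q_iff (K : CochainComplex X.Modules ℤ) :
    DCoh.IsQCohD (DerivedCategory.Q.obj K) ↔ ∀ i, Coh.IsQCoh (K.homology i) :=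
  ⟨fun h i => isQCoh_of_iso ((DerivedCategory.homologyFunctorFactors X.Modules i).app K) (h i),
    fun h i => isQCoh_of_iso ((DerivedCategory.homologyFunctorFactors X.Modules i).app K).symm (h i)⟩

/-- `Lf^*` preserves quasi-coherence of cohomology. -/
lemma isQCohD_lpull [DCoh.HasLpull f] {K : DCoh.D X} (hK : DCoh.IsQCohD K) :
    DCoh.IsQCohD ((DCoh.Lpull f).obj K) :=
  isQCohD_of_iso (lpullRepIso f K) ((isQCohD_Q_iff _).2
    ((qData_pullCx f).isQCoh_homology (isKFlat_repK K)
      ((isQCohD_Q_iff _).1 (isQCohD_of_iso (repKIso K).symm hK))))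

/-- `- ⊗^L F` preserves quasi-coherence of cohomology. -/
lemma isQCohD_ltensor (F : CochainComplex X.Modules ℤ)
    (hF : DCoh.IsQCohD (DerivedCategory.Q.obj F)) [DCoh.HasLTensorCx F] {E : DCoh.D X}
    (hE : DCoh.IsQCohD E) : DCoh.IsQCohD ((DCoh.LTensorCx F).obj E) := by
  let F' := (kRes X).obj F
  haveI := (flatCover X).quasiIso_ψ F
  haveI : QuasiIso ((DCoh.tensorCx.obj (repK E)).map ((flatCover X).ψ.app F)) :=
    KFlat.quasiIso_map' (tensorBiFlipIso X) (isKFlat_repK E) _
  haveI : IsIso (DerivedCategory.Q.map ((DCoh.tensorCx.obj (repK E)).map ((flatCover X).ψ.app F))) :=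
    isIso_Q_map _ inferInstance
  refine isQCohD_of_iso (asIso (DerivedCategory.Q.map
      ((DCoh.tensorCx.obj (repK E)).map ((flatCover X).ψ.app F))) ≪≫
    (ltensorCxIso F (isKFlat_repK E)).symm ≪≫ (DCoh.LTensorCx F).mapIso (repKIso E))
    ((isQCohD_Q_iff _).2 (isQCoh_homology_tensorCx (isKFlat_repK E)
      ((isQCohD_Q_iff _).1 (isQCohD_of_iso (repKIso E).symm hE)) (isKFlat_kRes F)
      ((homology_isQCoh_iff ((flatCover X).ψ.app F)).2 ((isQCohD_Q_iff _).1 hF))))

end Pullback

end Groth.Agent.KFlatLib
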