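import Groth.Agent.KFlatLib.Scheme.DQCohLimit
import Groth.Agent.KFlatLib.Scheme.QCohDerived
import Groth.Agent.KFlatLib.Scheme.RpushTriangle
import Groth.Agent.KFlatLib.PsiC
import Mathlib.Algebra.Homology.HomotopyCategory.Triangulated
import Mathlib.AlgebraicGeometry.Morphisms.Affine

/-!
# Sections of complexes with quasi-coherent terms; affine pushforward
-/

set_option linter.style.haveILetI false

universe u

open CategoryTheory CategoryTheory.Limits AlgebraicGeometry Pretriangulated Opposite

attribute [local instance] HasDerivedCategory.standard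

namespace Groth.Agent.KFlatLib

variable {X Y : Scheme.{u}}

section

variable {F : CochainComplex X.Modules ℤ} (hq : ∀ n, Coh.IsQCoh (F.X n)) {V : X.Opens}
  (hV : IsAffineOpen V)

include hq

lemma isQCoh_cycles (n : ℤ) : Coh.IsQCoh (F.cycles n) :=
  isQCoh_of_iso ((kernelIsKernel (F.d n ((ComplexShape.up ℤ).next n))).conePointUniqueUpToIso
    (F.cyclesIsKernel n _ rfl)) (QCoh.isQCoh_kernel (hq _) (hq _) _)

include hV

lemma exists_lift_homologyπ (n : ℤ) (y : secObj V ⟶ F.homology n) :
    ∃ ζ : secObj V ⟶ F.cycles n, ζ ≫ F.homologyπ n = y := by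
  let S : ShortComplex X.Modules :=
    ShortComplex.mk (F.homologyπ n) (0 : F.homology n ⟶ F.homology n) comp_zero
  have hS : S.Exact := (ShortComplex.exact_iff_epi S rfl).2 inferInstance
  exact exists_secLift_exact hS (isQCoh_cycles hq n) (isQCoh_homology_of_terms F hq n) hV y comp_zero

lemma exists_lift_toCycles (n : ℤ) (c : secObj V ⟶ F.cycles n) (hc : c ≫ F.homologyπ n = 0) :
    ∃ h : secObj V ⟶ F.X (n - 1), h ≫ F.toCycles (n - 1) n = c := by
  let S : ShortComplex X.Modules :=
    ShortComplex.mk (F.toCycles (n - 1) n) (F.homologyπ n) (F.toCycles_comp_homologyπ _ _)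
  have hS : S.Exact := ShortComplex.exact_of_g_is_cokernel S (F.homologyIsCokernel (n - 1) n (by simp))
  exact exists_secLift_exact hS (hq _) (isQCoh_cycles hq n) hV c hc

/-- Homotopy classes out of `j_! O_V` compute `Hom` in `D(X)`, for qcoh terms and affine `V`. -/
lemma ho_bijective (n : ℤ) :
    Function.Bijective ((DerivedCategory.Qh (C := X.Modules)).map :
      ((HomotopyCategory.quotient X.Modules (ComplexShape.up ℤ)).obj
          ((HomologicalComplex.single X.Modules (ComplexShape.up ℤ) n).obj (secObj V)) ⟶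
        (HomotopyCategory.quotient X.Modules (ComplexShape.up ℤ)).obj F) → _) := by
  let q := HomotopyCategory.quotient X.Modules (ComplexShape.up ℤ)
  let e := DerivedCategory.quotientCompQhIso X.Modules
  let S : CochainComplex X.Modules ℤ :=
    (HomologicalComplex.single X.Modules (ComplexShape.up ℤ) n).obj (secObj V)
  have hψ : Function.Bijective (psiC n (secObj V) (DerivedCategory.Q.obj F)) :=
    bijective_psiC_of_shift (bijH0_of_isQCohD (isQCohD_shift ((isQCohD_Q_iff F).2
      (fun i => isQCoh_homology_of_terms F hq i)) n) hV)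
  have hg : ∀ g : S ⟶ F, DerivedCategory.Qh.map (q.map g) ≫ e.hom.app F =
      e.hom.app S ≫ DerivedCategory.Q.map g := fun g => e.hom.naturality g
  refine ⟨fun a b hab => sub_eq_zero.1 ?_, fun y => ?_⟩
  · obtain ⟨g, hgab⟩ := q.map_surjective (a - b)
    rw [← hgab]
    have h0 : DerivedCategory.Qh.map (q.map g) = 0 := by
      rw [hgab, Functor.map_sub, sub_eq_zero]; exact hab
    have h1 : DerivedCategory.Q.map g = 0 := by
      refine (cancel_epi (e.hom.app S)).1 ((hg g).symm.trans ?_)
      rw [h0]
      exact zero_comp.trans comp_zero.symm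
    have h2 : psiC n (secObj V) _ ((singleQ n (secObj V)).hom ≫ DerivedCategory.Q.map g) = 0 := by
      rw [h1]
      refine (congrArg (psiC n (secObj V) _) comp_zero).trans ?_
      exact (congrArg ((hSingle n (secObj V)).inv ≫ ·) (Functor.map_zero _ _ _)).trans comp_zero
    obtain ⟨H⟩ := homotopy_zero_of_homologyMap n (exists_lift_toCycles hq hV n) g
      (homologyMap_eq_zero_of_psiC n g h2)
    exact (HomotopyCategory.eq_of_homotopy _ _ H).trans (q.map_zero _ _)
  · let φ := (singleQ n (secObj V)).hom ≫ e.inv.app S ≫ y ≫ e.hom.app F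
    obtain ⟨g, hgy⟩ := exists_psiC_Q_map n (exists_lift_homologyπ hq hV n)
      (psiC n (secObj V) _ φ)
    have h := (cancel_epi _).1 (hψ.1 hgy)
    refine ⟨q.map g, (cancel_mono (e.hom.app F)).1 ((hg g).trans ?_)⟩
    rw [h]
    exact Iso.hom_inv_id_app_assoc e S _

/-- Sections over `V` of the cone of a K-injective resolution form an exact complex. -/
lemma exists_lift_cone {I : CochainComplex X.Modules ℤ} [I.IsKInjective] (s : F ⟶ I) [QuasiIso s]
    (n : ℤ) (z : secObj V ⟶ (CochainComplex.mappingCone s).X n)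
    (hz : z ≫ (CochainComplex.mappingCone s).d n (n + 1) = 0) :
    ∃ y, y ≫ (CochainComplex.mappingCone s).d (n - 1) n = z := by
  let q := HomotopyCategory.quotient X.Modules (ComplexShape.up ℤ)
  let S : CochainComplex X.Modules ℤ :=
    (HomologicalComplex.single X.Modules (ComplexShape.up ℤ) n).obj (secObj V)
  let T := CochainComplex.mappingCone.triangleh s
  have hT : T ∈ distTriang _ := HomotopyCategory.mappingCone_triangleh_distinguished s
  let g : S ⟶ CochainComplex.mappingCone s := HomologicalComplex.mkHomFromSingle z (fun j hj => by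
    obtain rfl : n + 1 = j := hj
    exact hz)
  have hT' : DerivedCategory.Qh.mapTriangle.obj T ∈ distTriang _ :=
    DerivedCategory.Qh.map_distinguished T hT
  have hZ : IsZero (DerivedCategory.Qh.obj T.obj₃) := by
    refine (Triangle.isZero₃_iff_isIso₁ _ hT').2 ?_
    haveI : IsIso (DerivedCategory.Q.map s) := inferInstance
    exact (NatIso.isIso_map_iff (DerivedCategory.quotientCompQhIso X.Modules) s).2 this
  let σ := q.commShiftIso (1 : ℤ)
  have hgδ : q.map g ≫ T.mor₃ = 0 := by
    have h : (q.map g ≫ T.mor₃) ≫ (σ.app F).inv = 0 := by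
      refine (ho_bijective (F := F⟦(1 : ℤ)⟧) (fun i => hq _) hV n).1 ?_
      rw [Functor.map_comp, Functor.map_comp]
      exact ((congrArg (· ≫ _) ((congrArg (· ≫ _) (hZ.eq_of_tgt _ 0)).trans zero_comp)).trans
        zero_comp).trans (Functor.map_zero _ _ _).symm
    exact (cancel_mono (σ.app F).inv).1 (h.trans zero_comp.symm)
  obtain ⟨h, hh⟩ := Triangle.coyoneda_exact₃ T hT (q.map g) hgδ
  haveI hiso1 : IsIso (DerivedCategory.Qh.map T.mor₁) := (Triangle.isZero₃_iff_isIso₁ _ hT').1 hZ
  obtain ⟨k, hk⟩ := (ho_bijective hq hV n).2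
    (DerivedCategory.Qh.map h ≫ @inv _ _ _ _ (DerivedCategory.Qh.map T.mor₁) hiso1)
  have hk' : k ≫ T.mor₁ = h := by
    refine (CochainComplex.IsKInjective.Qh_map_bijective _ I).1 ?_
    refine (Functor.map_comp _ _ _).trans ?_
    rw [hk, Category.assoc]
    exact (congrArg (DerivedCategory.Qh.map h ≫ ·) (@IsIso.inv_hom_id _ _ _ _ _ hiso1)).trans (Category.comp_id _)
  have hg0 : q.map g = q.map 0 := by
    refine (hh.trans ?_).trans (q.map_zero _ _).symm
    rw [← hk', Category.assoc]
    exact (congrArg (k ≫ ·) (comp_distTriang_mor_zero₁₂ T hT)).trans comp_zero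
  let H := HomotopyCategory.homotopyOfEq _ _ hg0
  refine ⟨(HomologicalComplex.singleObjXSelf (ComplexShape.up ℤ) n (secObj V)).inv ≫
    H.hom n (n - 1), ?_⟩
  have hc := H.comm n
  rw [dNext_eq H.hom (show (ComplexShape.up ℤ).Rel n (n + 1) from rfl),
    prevD_eq H.hom (show (ComplexShape.up ℤ).Rel (n - 1) n by simp)] at hc
  simp [g, HomologicalComplex.mkHomFromSingle_f, HomologicalComplex.single_obj_d, S] at hc
  rw [Category.assoc, ← hc, Iso.inv_hom_id_assoc]

end

lemma exactAt_of_sections {C : CochainComplex Y.Modules ℤ}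
    (h : ∀ (V : Y.Opens), IsAffineOpen V → ∀ (n : ℤ) (z : secObj V ⟶ C.X n),
      z ≫ C.d n (n + 1) = 0 → ∃ y, y ≫ C.d (n - 1) n = z) (n : ℤ) : C.ExactAt n := by
  rw [HomologicalComplex.exactAt_iff_isZero_homology]
  refine IsZero.of_epi_eq_zero (C.homologyπ n) (eq_zero_of_secObj _ fun V hV s => ?_)
  obtain ⟨y, hy⟩ := h V hV n (s ≫ C.iCycles n) (by simp)
  have hy' : y ≫ C.toCycles (n - 1) n = s := by
    rw [← cancel_mono (C.iCycles n), Category.assoc, HomologicalComplex.toCycles_i, hy]
  rw [← hy', Category.assoc, HomologicalComplex.toCycles_comp_homologyπ, comp_zero]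

variable (f : X ⟶ Y)

/-- `Hom(j_! O_V, f_* M) = Hom(j_! O_{f⁻¹V}, M)`. -/
noncomputable def secPushEquiv (V : Y.Opens) (M : X.Modules) :
    (secObj V ⟶ (Scheme.Modules.pushforward f).obj M) ≃ (secObj (f ⁻¹ᵁ V) ⟶ M) :=
  (secEquiv V _).trans (((M.presheaf.mapIso (eqToIso (congrArg op
    (show f ⁻¹ᵁ (V.ι ''ᵁ ⊤) = (f ⁻¹ᵁ V).ι ''ᵁ ⊤ by
      rw [Scheme.Opens.ι_image_top, Scheme.Opens.ι_image_top])))).addCommGroupIsoToAddEquiv.toEquiv).trans
    (secEquiv (f ⁻¹ᵁ V) M).symm)

lemma secPushEquiv_naturality (V : Y.Opens) {M N : X.Modules} (g : M ⟶ N)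
    (z : secObj V ⟶ (Scheme.Modules.pushforward f).obj M) :
    secPushEquiv f V N (z ≫ (Scheme.Modules.pushforward f).map g) = secPushEquiv f V M z ≫ g := by
  refine (secEquiv (f ⁻¹ᵁ V) N).injective ?_
  rw [secEquiv_naturality]
  simp only [secPushEquiv, Equiv.trans_apply, secEquiv_naturality]
  refine (Equiv.apply_symm_apply _ _).trans ?_
  refine Eq.trans ?_ (congrArg _ (Equiv.apply_symm_apply _ _).symm)
  exact (ConcreteCategory.congr_hom (g.mapPresheaf.naturality _) _).symm

lemma secPushEquiv_zero (V : Y.Opens) (M : X.Modules) : secPushEquiv f V M 0 = 0 := by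
  have h := secPushEquiv_naturality f V (0 : M ⟶ M) 0
  simpa using h

lemma isIso_unit_of_kInjective [DCoh.HasRpush f] (I : CochainComplex X.Modules ℤ) [I.IsKInjective] :
    IsIso (((DCoh.pushKh f).totalRightDerivedUnit DerivedCategory.Qh
      (HomotopyCategory.quasiIso X.Modules (ComplexShape.up ℤ))).app
        ((HomotopyCategory.quotient X.Modules (ComplexShape.up ℤ)).obj I)) := by
  haveI := TriCat.qh_isLeftAdjoint_of_exists_resolution (A := X.Modules) exists_kInjective_res
  let adjQ := Adjunction.ofIsLeftAdjoint (DerivedCategory.Qh (C := X.Modules))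
  let ρ := (DerivedCategory.Qh (C := X.Modules)).rightAdjoint
  let W := HomotopyCategory.quasiIso X.Modules (ComplexShape.up ℤ)
  haveI : (ρ ⋙ DCoh.pushKh f).IsRightDerivedFunctor
      (Functor.whiskerRight adjQ.unit (DCoh.pushKh f)) W :=
    TriCat.isRightDerivedFunctor_of_adjunction adjQ W (DCoh.pushKh f)
  let α := (DCoh.pushKh f).totalRightDerivedUnit DerivedCategory.Qh W
  let e : ρ ⋙ DCoh.pushKh f ≅ DCoh.Rpush f :=
    Functor.rightDerivedUnique _ _ (Functor.whiskerRight adjQ.unit (DCoh.pushKh f)) α W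
  let qI := (HomotopyCategory.quotient X.Modules (ComplexShape.up ℤ)).obj I
  haveI : IsIso (adjQ.unit.app qI) := by
    refine isIso_iff_yoneda_map_bijective _ |>.2 fun A => ?_
    have hb := ((adjQ.homEquiv A (DerivedCategory.Qh.obj qI)).bijective).comp
      (CochainComplex.IsKInjective.Qh_map_bijective A I)
    have h : (fun φ : A ⟶ qI => φ ≫ adjQ.unit.app qI) =
        (adjQ.homEquiv A (DerivedCategory.Qh.obj qI)) ∘ DerivedCategory.Qh.map :=
      funext fun φ => (adjQ.unit.naturality φ).trans (adjQ.homEquiv_unit ..).symm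
    exact h ▸ hb
  have : α.app qI = (DCoh.pushKh f).map (adjQ.unit.app qI) ≫ e.hom.app (DerivedCategory.Qh.obj qI) :=
    ((Functor.rightDerivedNatTrans_app (ρ ⋙ DCoh.pushKh f) (DCoh.Rpush f)
      (Functor.whiskerRight adjQ.unit (DCoh.pushKh f)) α W (𝟙 _) qI).trans
      (Category.id_comp _)).symm
  change IsIso (α.app qI)
  rw [this]
  infer_instance

/-- An affine morphism pushes complexes of quasi-coherent modules forward to `Rf_*`. -/
lemma isIso_unit_of_isAffineHom [IsAffineHom f] [DCoh.HasRpush f] (F : CochainComplex X.Modules ℤ)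
    (hq : ∀ n, Coh.IsQCoh (F.X n)) :
    IsIso (((DCoh.pushKh f).totalRightDerivedUnit DerivedCategory.Qh
      (HomotopyCategory.quasiIso X.Modules (ComplexShape.up ℤ))).app
        ((HomotopyCategory.quotient X.Modules (ComplexShape.up ℤ)).obj F)) := by
  obtain ⟨I, s, hI, hs⟩ := exists_kInjective_res F
  let q := HomotopyCategory.quotient X.Modules (ComplexShape.up ℤ)
  let P := (Scheme.Modules.pushforward f).mapHomologicalComplex (ComplexShape.up ℤ)
  have hC : ∀ n, ((P.obj (CochainComplex.mappingCone s))).ExactAt n := by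
    refine exactAt_of_sections fun V hV n z hz => ?_
    obtain ⟨y, hy⟩ := exists_lift_cone hq (hV.preimage f) s n (secPushEquiv f V _ z) (by
      rw [← secPushEquiv_naturality]
      exact (congrArg _ hz).trans (secPushEquiv_zero f V _))
    refine ⟨(secPushEquiv f V _).symm y, (secPushEquiv f V _).injective ?_⟩
    refine (secPushEquiv_naturality f V _ _).trans ?_
    rw [Equiv.apply_symm_apply, hy]
  haveI : QuasiIso (P.map s) := by
    have hC' : HomotopyCategory.subcategoryAcyclic Y.Modules
        ((HomotopyCategory.quotient Y.Modules (ComplexShape.up ℤ)).obj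
          (CochainComplex.mappingCone (P.map s))) := by
      refine (HomotopyCategory.quotient_obj_mem_subcategoryAcyclic_iff_exactAt _).2 fun n => ?_
      exact ((hC n).of_iso
        ((CochainComplex.mappingCone.mapHomologicalComplexIso s (Scheme.Modules.pushforward f))))
    have hW : (HomotopyCategory.subcategoryAcyclic Y.Modules).trW
        ((HomotopyCategory.quotient Y.Modules (ComplexShape.up ℤ)).map (P.map s)) :=
      ⟨_, _, _, HomotopyCategory.mappingCone_triangleh_distinguished (P.map s), hC'⟩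
    rwa [← HomotopyCategory.quasiIso_eq_trW_subcategoryAcyclic,
      HomotopyCategory.quotient_map_mem_quasiIso_iff, HomologicalComplex.mem_quasiIso_iff] at hW
  haveI : IsIso ((DCoh.pushKh f).map (q.map s)) :=
    (NatIso.isIso_map_iff ((Functor.associator _ _ _).symm ≪≫
      Functor.isoWhiskerRight ((Scheme.Modules.pushforward f).mapHomotopyCategoryFactors
        (ComplexShape.up ℤ)) _ ≪≫ Functor.associator _ _ _ ≪≫
      Functor.isoWhiskerLeft _ (DerivedCategory.quotientCompQhIso Y.Modules)) s).2
      (inferInstanceAs (IsIso (DerivedCategory.Q.map (P.map s))))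
  haveI : IsIso (DerivedCategory.Qh.map (q.map s)) :=
    (NatIso.isIso_map_iff (DerivedCategory.quotientCompQhIso X.Modules) s).2 inferInstance
  haveI := isIso_unit_of_kInjective f I
  let α := (DCoh.pushKh f).totalRightDerivedUnit DerivedCategory.Qh
    (HomotopyCategory.quasiIso X.Modules (ComplexShape.up ℤ))
  haveI : IsIso (α.app (q.obj F) ≫ (DCoh.Rpush f).map (DerivedCategory.Qh.map (q.map s))) := by
    have := α.naturality (q.map s)
    simp only [Functor.comp_map] at this
    rw [← this]
    change IsIso ((DCoh.pushKh f).map (q.map s) ≫ α.app (q.obj I))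
    exact IsIso.comp_isIso' inferInstance ‹_›
  exact IsIso.of_isIso_comp_right (α.app (q.obj F))
    ((DCoh.Rpush f).map (DerivedCategory.Qh.map (q.map s)))

end Groth.Agent.KFlatLib
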