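import Groth.Agent.KFlatLib.Scheme.DQCohLimit
import Groth.Agent.KFlatLib.PsiC
import Groth.Agent.QCoh.Tilde
import Groth.Prelude.Def_DCoh2
import Mathlib.Algebra.Category.ModuleCat.Projective
import Mathlib.CategoryTheory.Adjunction.Additive

/-!
# `D(R) ≅ D_QCoh(Spec R)`
-/

set_option linter.style.haveILetI false

universe u

open CategoryTheory CategoryTheory.Limits AlgebraicGeometry Opposite

attribute [local instance] HasDerivedCategory.standard

namespace Groth.Agent.KFlatLib

variable {R : CommRingCat.{u}}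

/-- `Hom(R, M) ≅ M`. -/
noncomputable def evalOne (M : ModuleCat.{u} R) : (ModuleCat.of R R ⟶ M) ≃ M where
  toFun f := f.hom (1 : R)
  invFun a := ModuleCat.ofHom (LinearMap.toSpanSingleton R M a)
  left_inv f := ModuleCat.hom_ext (LinearMap.ext_ring (LinearMap.toSpanSingleton_apply_one _ _ _))
  right_inv a := LinearMap.toSpanSingleton_apply_one _ _ _

/-- `Hom(R^~, M) ≅ Γ(M, ⊤)`. -/
noncomputable def tildeREquiv (M : (Spec R).Modules) :
    ((tilde.functor R).obj (ModuleCat.of R R) ⟶ M) ≃ Γ(M, ⊤) :=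
  ((tilde.adjunction (R := R)).homEquiv _ M).trans (evalOne _)

lemma tildeREquiv_naturality {M N : (Spec R).Modules}
    (φ : (tilde.functor R).obj (ModuleCat.of R R) ⟶ M) (g : M ⟶ N) :
    tildeREquiv N (φ ≫ g) = g.app ⊤ (tildeREquiv M φ) := by
  exact (congrArg (evalOne _) ((tilde.adjunction (R := R)).homEquiv_naturality_right φ g)).trans rfl

/-- Both corepresent global sections. -/
noncomputable def tildeRIsoSecObj :
    (tilde.functor R).obj (ModuleCat.of R R) ≅ secObj (⊤ : (Spec R).Opens) := by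
  have hU : (⊤ : (Spec R).Opens).ι ''ᵁ ⊤ = ⊤ := Scheme.Opens.ι_image_top _
  let r : ∀ M : (Spec R).Modules, Γ(M, (⊤ : (Spec R).Opens).ι ''ᵁ ⊤) → Γ(M, ⊤) := fun M y =>
    M.presheaf.map (homOfLE hU.ge).op y
  let r' : ∀ M : (Spec R).Modules, Γ(M, ⊤) → Γ(M, (⊤ : (Spec R).Opens).ι ''ᵁ ⊤) := fun M y =>
    M.presheaf.map (homOfLE hU.le).op y
  have hr : ∀ M y, r M (r' M y) = y := fun M y => by
    refine (ConcreteCategory.congr_hom (M.presheaf.map_comp _ _) y).symm.trans ?_
    exact ConcreteCategory.congr_hom (M.presheaf.map_id _) y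
  have hr' : ∀ M y, r' M (r M y) = y := fun M y => by
    refine (ConcreteCategory.congr_hom (M.presheaf.map_comp _ _) y).symm.trans ?_
    exact ConcreteCategory.congr_hom (M.presheaf.map_id _) y
  have nat : ∀ {M N : (Spec R).Modules} (g : M ⟶ N) y, g.app ⊤ (r M y) = r N (g.app _ y) :=
    fun g y => ConcreteCategory.congr_hom (g.mapPresheaf.naturality (homOfLE hU.ge).op) y
  have nat' : ∀ {M N : (Spec R).Modules} (g : M ⟶ N) y, g.app _ (r' M y) = r' N (g.app ⊤ y) :=
    fun g y => ConcreteCategory.congr_hom (g.mapPresheaf.naturality (homOfLE hU.le).op) y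
  let a := (tildeREquiv (secObj (⊤ : (Spec R).Opens))).symm (r _ (secEquiv _ _ (𝟙 _)))
  let b := (secEquiv (⊤ : (Spec R).Opens) _).symm
    (r' _ (tildeREquiv ((tilde.functor R).obj (ModuleCat.of R R)) (𝟙 _)))
  refine ⟨a, b, (tildeREquiv _).injective ?_, (secEquiv _ _).injective ?_⟩
  · rw [tildeREquiv_naturality, Equiv.apply_symm_apply, nat, ← secEquiv_naturality,
      Category.id_comp, Equiv.apply_symm_apply]
    exact hr _ _
  · rw [secEquiv_naturality, Equiv.apply_symm_apply, nat', ← tildeREquiv_naturality,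
      Category.id_comp, Equiv.apply_symm_apply, hr']

/-- `H^n(Spec R, L) = Γ(H^n L)` for `L` with quasi-coherent cohomology. -/
lemma bijective_psiC_tildeR {L : DCoh.D (Spec R)} (hL : DCoh.IsQCohD L) (n : ℤ) :
    Function.Bijective (psiC n ((tilde.functor R).obj (ModuleCat.of R R)) L) :=
  bijective_psiC_of_iso_left tildeRIsoSecObj (bijective_psiC_of_shift
    (bijH0_of_isQCohD (isQCohD_shift hL n) (isAffineOpen_top _)))

lemma isIso_of_bijective_comp {M N : ModuleCat.{u} R} (f : M ⟶ N)
    (h : Function.Bijective fun φ : ModuleCat.of R R ⟶ M => φ ≫ f) : IsIso f := by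
  refine (ConcreteCategory.isIso_iff_bijective f).2 ⟨fun x y hxy => ?_, fun z => ?_⟩
  · have := @h.1 (ModuleCat.ofHom (LinearMap.toSpanSingleton R M x))
      (ModuleCat.ofHom (LinearMap.toSpanSingleton R M y))
      (ModuleCat.hom_ext (LinearMap.ext_ring (by simpa using hxy)))
    have := congrArg (fun φ => φ.hom (1 : R)) this
    simpa using this
  · obtain ⟨φ, hφ⟩ := h.2 (ModuleCat.ofHom (LinearMap.toSpanSingleton R N z))
    exact ⟨φ.hom (1 : R), by simpa using congrArg (fun ψ => ψ.hom (1 : R)) hφ⟩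

lemma isIso_of_bijective_comp_qcoh {M N : (Spec R).Modules} (hM : Coh.IsQCoh M)
    (hN : Coh.IsQCoh N) (f : M ⟶ N)
    (h : Function.Bijective fun φ : (tilde.functor R).obj (ModuleCat.of R R) ⟶ M => φ ≫ f) :
    IsIso f := by
  obtain ⟨M', ⟨eM⟩⟩ := QCoh.isQCoh_spec_iff.1 hM
  obtain ⟨N', ⟨eN⟩⟩ := QCoh.isQCoh_spec_iff.1 hN
  obtain ⟨g, hg⟩ := (tilde.functor R).map_surjective (eM.hom ≫ f ≫ eN.inv)
  have hf : f = eM.inv ≫ (tilde.functor R).map g ≫ eN.hom := by rw [hg]; simp
  haveI : IsIso g := by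
    refine isIso_of_bijective_comp g ⟨fun x y hxy => (tilde.functor R).map_injective ?_, fun z => ?_⟩
    · refine (cancel_mono eM.hom).1 (h.1 ?_)
      change ((tilde.functor R).map x ≫ eM.hom) ≫ f = ((tilde.functor R).map y ≫ eM.hom) ≫ f
      simp only [hf, Category.assoc, Iso.hom_inv_id_assoc, ← Functor.map_comp_assoc]
      exact congrArg (fun t => (tilde.functor R).map t ≫ eN.hom) hxy
    · obtain ⟨w, hw⟩ := h.2 ((tilde.functor R).map z ≫ eN.hom)
      obtain ⟨x, hx⟩ := (tilde.functor R).map_surjective (w ≫ eM.inv)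
      refine ⟨x, (tilde.functor R).map_injective ((cancel_mono eN.hom).1 ?_)⟩
      simp only at hw
      rw [← hw, hf, Functor.map_comp, hx]
      exact (congrArg (· ≫ eN.hom) (Category.assoc _ _ _)).trans
        ((Category.assoc _ _ _).trans (congrArg (w ≫ ·) (Category.assoc _ _ _)))
  rw [hf]
  infer_instance

variable (R) [PreservesFiniteLimits (tilde.functor R)]

lemma isQCohD_tildeD (M : DerivedCategory (ModuleCat.{u} R)) :
    DCoh.IsQCohD ((DCoh.tildeD R).obj M) := fun n =>
  isQCoh_of_iso ((mapDCHomologyIso (tilde.functor R) n).app M).symm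
    (QCoh.isQCoh_spec_iff.2 ⟨_, ⟨Iso.refl _⟩⟩)

lemma tildeD_map_bijective_single (n : ℤ) (M : DerivedCategory (ModuleCat.{u} R)) :
    Function.Bijective ((DCoh.tildeD R).map :
      ((DerivedCategory.singleFunctor (ModuleCat.{u} R) n).obj (ModuleCat.of R R) ⟶ M) → _) :=
  haveI : Projective (ModuleCat.of R R) := inferInstance
  map_bijective_of_psiC (tilde.functor R) (bijective_psiC_of_projective n M)
    (bijective_psiC_tildeR (isQCohD_tildeD R M) n)

variable {R}

/-- `I ↦ Γ(I)` on complexes. -/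
noncomputable abbrev gammaCx : CochainComplex (Spec R).Modules ℤ ⥤ CochainComplex (ModuleCat.{u} R) ℤ :=
  haveI : (moduleSpecΓFunctor (R := R)).Additive :=
    (tilde.adjunction (R := R)).right_adjoint_additive
  (moduleSpecΓFunctor (R := R)).mapHomologicalComplex (ComplexShape.up ℤ)

/-- `(ΓI)^~ ⟶ I`. -/
noncomputable def counitCx (I : CochainComplex (Spec R).Modules ℤ) :
    ((tilde.functor R).mapHomologicalComplex (ComplexShape.up ℤ)).obj (gammaCx.obj I) ⟶ I where
  f i := (tilde.adjunction (R := R)).counit.app (I.X i)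
  comm' i j _ := ((tilde.adjunction (R := R)).counit.naturality (I.d i j)).symm

/-- `M ⟶ Γ(M^~)`. -/
noncomputable def unitCx (M : CochainComplex (ModuleCat.{u} R) ℤ) :
    M ⟶ gammaCx.obj (((tilde.functor R).mapHomologicalComplex (ComplexShape.up ℤ)).obj M) where
  f i := (tilde.adjunction (R := R)).unit.app (M.X i)
  comm' i j _ := ((tilde.adjunction (R := R)).unit.naturality (M.d i j)).symm

lemma map_unit_counit {M : CochainComplex (ModuleCat.{u} R) ℤ}
    {I : CochainComplex (Spec R).Modules ℤ}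
    (g : ((tilde.functor R).mapHomologicalComplex (ComplexShape.up ℤ)).obj M ⟶ I) :
    ((tilde.functor R).mapHomologicalComplex (ComplexShape.up ℤ)).map
      (unitCx M ≫ gammaCx.map g) ≫ counitCx I = g := by
  ext i : 1
  exact ((tilde.adjunction (R := R)).homEquiv_counit ..).symm.trans
    ((congrArg _ ((tilde.adjunction (R := R)).homEquiv_unit ..).symm).trans
      (Equiv.symm_apply_apply _ _))

lemma unit_map_counit {M : CochainComplex (ModuleCat.{u} R) ℤ}
    {I : CochainComplex (Spec R).Modules ℤ} (h : M ⟶ gammaCx.obj I) :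
    unitCx M ≫ gammaCx.map
      (((tilde.functor R).mapHomologicalComplex (ComplexShape.up ℤ)).map h ≫ counitCx I) = h := by
  ext i : 1
  exact ((tilde.adjunction (R := R)).homEquiv_unit ..).symm.trans
    ((congrArg _ ((tilde.adjunction (R := R)).homEquiv_counit ..).symm).trans
      (Equiv.apply_symm_apply _ _))

lemma isKInjective_gamma (I : CochainComplex (Spec R).Modules ℤ) [I.IsKInjective] :
    (gammaCx.obj I).IsKInjective := by
  haveI : (moduleSpecΓFunctor (R := R)).Additive :=
    (tilde.adjunction (R := R)).right_adjoint_additive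
  constructor
  intro K φ hK
  let G := (tilde.functor R).mapHomologicalComplex (ComplexShape.up ℤ)
  have hK' : (G.obj K).Acyclic := fun n => by
    have h := hK n
    rw [HomologicalComplex.exactAt_iff] at h ⊢
    exact h.map (tilde.functor R)
  exact ⟨(Homotopy.ofEq (unit_map_counit φ).symm).trans
    ((((moduleSpecΓFunctor (R := R)).mapHomotopy
      (CochainComplex.IsKInjective.homotopyZero (G.map φ ≫ counitCx I) hK')).compLeft (unitCx K)).trans
      (Homotopy.ofEq (by rw [Functor.map_zero, comp_zero])))⟩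

/-- `tildeD` on `Q`-images. -/
noncomputable def tildeQ (M : CochainComplex (ModuleCat.{u} R) ℤ) :
    (DCoh.tildeD R).obj (DerivedCategory.Q.obj M) ≅
      DerivedCategory.Q.obj (((tilde.functor R).mapHomologicalComplex (ComplexShape.up ℤ)).obj M) :=
  (tilde.functor R).mapDerivedCategoryFactors.app M

lemma tildeQ_naturality {M N : CochainComplex (ModuleCat.{u} R) ℤ} (f : M ⟶ N) :
    (DCoh.tildeD R).map (DerivedCategory.Q.map f) ≫ (tildeQ N).hom = (tildeQ M).hom ≫
      DerivedCategory.Q.map (((tilde.functor R).mapHomologicalComplex (ComplexShape.up ℤ)).map f) :=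
  (tilde.functor R).mapDerivedCategoryFactors.hom.naturality f

/-- The counit in the derived category. -/
noncomputable def counitQ (I : CochainComplex (Spec R).Modules ℤ) :
    (DCoh.tildeD R).obj (DerivedCategory.Q.obj (gammaCx.obj I)) ⟶ DerivedCategory.Q.obj I :=
  (tildeQ _).hom ≫ DerivedCategory.Q.map (counitCx I)

/-- Homotopy classes compute morphisms to K-injective complexes. -/
lemma exists_Q_map {C : Type*} [Category C] [Abelian C] [HasDerivedCategory C]
    {K I : CochainComplex C ℤ} [I.IsKInjective]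
    (a : DerivedCategory.Q.obj K ⟶ DerivedCategory.Q.obj I) :
    ∃ g : K ⟶ I, DerivedCategory.Q.map g = a := by
  obtain ⟨g', hg'⟩ := (CochainComplex.IsKInjective.Qh_map_bijective
    ((HomotopyCategory.quotient C _).obj K) I).2
      ((DerivedCategory.quotientCompQhIso C).hom.app K ≫ a ≫
        (DerivedCategory.quotientCompQhIso C).inv.app I)
  obtain ⟨g, rfl⟩ := (HomotopyCategory.quotient C _).map_surjective g'
  refine ⟨g, ?_⟩
  have := (DerivedCategory.quotientCompQhIso C).hom.naturality g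
  simp only [Functor.comp_map] at this
  rw [hg'] at this
  simp only [Category.assoc, Iso.inv_hom_id_app] at this
  erw [Category.comp_id, cancel_epi] at this
  exact this.symm

lemma homotopy_of_Q_map_eq {C : Type*} [Category C] [Abelian C] [HasDerivedCategory C]
    {K I : CochainComplex C ℤ} [I.IsKInjective] (f g : K ⟶ I)
    (h : DerivedCategory.Q.map f = DerivedCategory.Q.map g) : Nonempty (Homotopy f g) := by
  refine ⟨HomotopyCategory.homotopyOfEq _ _
    ((CochainComplex.IsKInjective.Qh_map_bijective _ I).1 ?_)⟩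
  rw [← cancel_mono ((DerivedCategory.quotientCompQhIso C).hom.app I)]
  refine ((DerivedCategory.quotientCompQhIso C).hom.naturality f).trans ?_
  rw [h]
  exact ((DerivedCategory.quotientCompQhIso C).hom.naturality g).symm

/-- `Hom(M, RΓ I) = Hom(M^~, I)`. -/
lemma adj_bijective (M : DerivedCategory (ModuleCat.{u} R))
    (I : CochainComplex (Spec R).Modules ℤ) [I.IsKInjective] :
    Function.Bijective (fun c : M ⟶ DerivedCategory.Q.obj (gammaCx.obj I) =>
      (DCoh.tildeD R).map c ≫ counitQ I) := by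
  obtain ⟨N, ⟨e⟩⟩ : ∃ N, Nonempty (DerivedCategory.Q.obj N ≅ M) :=
    ⟨_, ⟨DerivedCategory.Q.objObjPreimageIso M⟩⟩
  haveI := isKInjective_gamma I
  have hc : ∀ h : N ⟶ gammaCx.obj I, (DCoh.tildeD R).map (DerivedCategory.Q.map h) ≫ counitQ I =
      (tildeQ N).hom ≫ DerivedCategory.Q.map
        (((tilde.functor R).mapHomologicalComplex (ComplexShape.up ℤ)).map h ≫ counitCx I) := by
    intro h
    rw [counitQ, ← Category.assoc, tildeQ_naturality, Category.assoc, Functor.map_comp]
  have key : Function.Bijective (fun c : DerivedCategory.Q.obj N ⟶ DerivedCategory.Q.obj (gammaCx.obj I) =>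
      (DCoh.tildeD R).map c ≫ counitQ I) := by
    refine ⟨fun a b hab => ?_, fun y => ?_⟩
    · obtain ⟨f, rfl⟩ := exists_Q_map a
      obtain ⟨g, rfl⟩ := exists_Q_map b
      simp only [hc, cancel_epi] at hab
      obtain ⟨H⟩ := homotopy_of_Q_map_eq _ _ hab
      haveI : (moduleSpecΓFunctor (R := R)).Additive :=
        (tilde.adjunction (R := R)).right_adjoint_additive
      refine DerivedCategory.Q_map_eq_of_homotopy _ ?_
      exact ((Homotopy.ofEq (unit_map_counit f).symm).trans
        (((moduleSpecΓFunctor (R := R)).mapHomotopy H).compLeft (unitCx N))).trans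
          (Homotopy.ofEq (unit_map_counit g))
    · obtain ⟨g, hg⟩ := exists_Q_map ((tildeQ N).inv ≫ y)
      refine ⟨DerivedCategory.Q.map (unitCx N ≫ gammaCx.map g), ?_⟩
      simp only [hc, map_unit_counit, hg, Iso.hom_inv_id_assoc]
  refine ⟨fun a b hab => (cancel_epi e.hom).1 (key.1 ?_), fun y => ?_⟩
  · simp only [Functor.map_comp, Category.assoc] at hab ⊢
    rw [hab]
  · obtain ⟨c, hc'⟩ := key.2 ((DCoh.tildeD R).map e.hom ≫ y)
    refine ⟨e.inv ≫ c, ?_⟩
    simp only at hc' ⊢
    rw [Functor.map_comp, Category.assoc, hc', ← Functor.map_comp_assoc]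
    simp

lemma isIso_of_bijective_single {M N : DerivedCategory (ModuleCat.{u} R)} (f : M ⟶ N)
    (h : ∀ n : ℤ, Function.Bijective (fun φ :
      (DerivedCategory.singleFunctor (ModuleCat.{u} R) n).obj (ModuleCat.of R R) ⟶ M => φ ≫ f)) :
    IsIso f := by
  refine (DerivedCategory.isIso_iff _ f).2 fun n => isIso_of_bijective_comp _ ?_
  haveI : Projective (ModuleCat.of R R) := inferInstance
  have bM := bijective_psiC_of_projective (P := ModuleCat.of R R) n M
  have bN := bijective_psiC_of_projective (P := ModuleCat.of R R) n N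
  refine ⟨fun x y hxy => ?_, fun z => ?_⟩
  · obtain ⟨a, rfl⟩ := bM.2 x
    obtain ⟨b, rfl⟩ := bM.2 y
    simp only [← psiC_comp] at hxy
    rw [(h n).1 (bN.1 hxy)]
  · obtain ⟨c, rfl⟩ := bN.2 z
    obtain ⟨a, rfl⟩ := (h n).2 c
    exact ⟨_, (psiC_comp a f).symm⟩

/-- `M ≅ RΓ(M^~)`. -/
lemma exists_gamma_iso (M : DerivedCategory (ModuleCat.{u} R)) :
    ∃ (I : CochainComplex (Spec R).Modules ℤ) (_ : I.IsKInjective)
      (η : M ⟶ DerivedCategory.Q.obj (gammaCx.obj I)),
      IsIso η ∧ IsIso ((DCoh.tildeD R).map η ≫ counitQ I) := by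
  let K := DerivedCategory.Q.objPreimage ((DCoh.tildeD R).obj M)
  let eK : DerivedCategory.Q.obj K ≅ (DCoh.tildeD R).obj M := DerivedCategory.Q.objObjPreimageIso _
  obtain ⟨I, s, hI, hs⟩ := exists_kInjective_res K
  haveI : IsIso (DerivedCategory.Q.map s) := inferInstance
  let t := eK.inv ≫ DerivedCategory.Q.map s
  obtain ⟨η, hη⟩ := (adj_bijective M I).2 t
  simp only at hη
  refine ⟨I, hI, η, isIso_of_bijective_single η fun n => ?_, hη ▸ inferInstance⟩
  have hA := adj_bijective ((DerivedCategory.singleFunctor (ModuleCat.{u} R) n).obj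
    (ModuleCat.of R R)) I
  have hb := tildeD_map_bijective_single R n M
  refine ⟨fun a b hab => hb.1 ((cancel_mono t).1 ?_), fun c => ?_⟩
  · have := congrArg (fun z => (DCoh.tildeD R).map z ≫ counitQ I) hab
    simpa only [Functor.map_comp, Category.assoc, hη] using this
  · obtain ⟨a, ha⟩ := hb.2 (((DCoh.tildeD R).map c ≫ counitQ I) ≫ inv t)
    refine ⟨a, hA.1 ?_⟩
    simp only [Functor.map_comp, Category.assoc, hη, ha, IsIso.inv_hom_id, Category.comp_id]

lemma tildeD_map_bijective (M N : DerivedCategory (ModuleCat.{u} R)) :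
    Function.Bijective ((DCoh.tildeD R).map : (M ⟶ N) → _) := by
  obtain ⟨I, hI, η, hη, ht⟩ := exists_gamma_iso N
  haveI := hη
  haveI := ht
  have hA := adj_bijective M I
  refine ⟨fun a b hab => (cancel_mono η).1 (hA.1 ?_), fun y => ?_⟩
  · simp only [Functor.map_comp, Category.assoc, hab]
  · obtain ⟨c, hc⟩ := hA.2 (y ≫ (DCoh.tildeD R).map η ≫ counitQ I)
    refine ⟨c ≫ inv η, (cancel_mono ((DCoh.tildeD R).map η ≫ counitQ I)).1 ?_⟩
    simp only [← Category.assoc, ← Functor.map_comp, IsIso.inv_hom_id, Category.comp_id] at hc ⊢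
    rw [← hc, Category.assoc c, IsIso.inv_hom_id, Category.comp_id]

lemma exists_tildeD_iso {K : DCoh.D (Spec R)} (hK : DCoh.IsQCohD K) :
    ∃ M, Nonempty ((DCoh.tildeD R).obj M ≅ K) := by
  let K₀ := DerivedCategory.Q.objPreimage K
  obtain ⟨I, s, hI, hs⟩ := exists_kInjective_res K₀
  let eI : DerivedCategory.Q.obj I ≅ K :=
    (asIso (DerivedCategory.Q.map s)).symm ≪≫ DerivedCategory.Q.objObjPreimageIso K
  have hI' : DCoh.IsQCohD (DerivedCategory.Q.obj I) := isQCohD_of_iso eI.symm hK
  suffices IsIso (counitQ I) from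
    ⟨_, ⟨@asIso _ _ _ _ (counitQ I) this ≪≫ eI⟩⟩
  have hT := isQCohD_tildeD R (DerivedCategory.Q.obj (gammaCx.obj I))
  refine (DerivedCategory.isIso_iff _ (counitQ I)).2 fun n =>
    isIso_of_bijective_comp_qcoh (hT n) (hI' n) _ ?_
  let e := ((tilde.functor R).mapDerivedCategorySingleFunctor n).app (ModuleCat.of R R)
  have hA := adj_bijective ((DerivedCategory.singleFunctor (ModuleCat.{u} R) n).obj
    (ModuleCat.of R R)) I
  have hb := tildeD_map_bijective ((DerivedCategory.singleFunctor (ModuleCat.{u} R) n).obj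
    (ModuleCat.of R R)) (DerivedCategory.Q.obj (gammaCx.obj I))
  have b₁ := bijective_psiC_tildeR hT n
  have b₂ := bijective_psiC_tildeR hI' n
  have h : Function.Bijective (fun φ : (DerivedCategory.singleFunctor (Spec R).Modules n).obj
      ((tilde.functor R).obj (ModuleCat.of R R)) ⟶ _ => φ ≫ counitQ I) := by
    refine ⟨fun a b hab => (cancel_epi e.hom).1 ?_, fun y => ?_⟩
    · obtain ⟨a', ha'⟩ := hb.2 (e.hom ≫ a)
      obtain ⟨b', hb'⟩ := hb.2 (e.hom ≫ b)
      rw [← ha', ← hb', hA.1 (a₁ := a') (a₂ := b') ?_]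
      simp only at hab ⊢
      rw [ha', hb', Category.assoc, Category.assoc, hab]
    · obtain ⟨c, hc⟩ := hA.2 (e.hom ≫ y)
      refine ⟨e.inv ≫ (DCoh.tildeD R).map c, (cancel_epi e.hom).1 ?_⟩
      simp only at hc ⊢
      rw [Category.assoc, hc, Iso.inv_hom_id_assoc]
  refine ⟨fun x y hxy => ?_, fun z => ?_⟩
  · obtain ⟨a, rfl⟩ := b₁.2 x
    obtain ⟨b, rfl⟩ := b₁.2 y
    simp only [← psiC_comp] at hxy
    rw [h.1 (b₂.1 hxy)]
  · obtain ⟨c, rfl⟩ := b₂.2 z
    obtain ⟨a, rfl⟩ := h.2 c
    exact ⟨_, (psiC_comp a _).symm⟩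

end Groth.Agent.KFlatLib
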