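import Groth.Agent.KFlatLib.Scheme.TildeD
import Groth.Agent.KFlatLib.Perfect.Top
import Groth.Agent.S9826
import Groth.Agent.S12451
import Groth.Prelude.Def_DRing2
import Mathlib.Algebra.Category.ModuleCat.Biproducts

/-!
# Pseudo-coherence on `Spec R`
-/

set_option linter.style.haveILetI false

universe u

open CategoryTheory CategoryTheory.Limits AlgebraicGeometry CategoryTheory.Pretriangulated

attribute [local instance] HasDerivedCategory.standard

namespace Groth.Agent.KFlatLib

variable {R : CommRingCat.{u}}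

lemma isFT_of_iso' {X : Scheme.{u}} {M N : X.Modules} (e : M ≅ N) (h : CohB1.IsFT M) :
    CohB1.IsFT N := isFT_of_epi_free fun x => by
  obtain ⟨W, n, p, hx, hp⟩ := exists_epi_free_of_isFT h x
  exact ⟨W, n, p ≫ (Scheme.Modules.restrictFunctor W.ι).map e.hom, hx,
    @epi_comp _ _ _ _ _ p hp ((Scheme.Modules.restrictFunctor W.ι).map e.hom) inferInstance⟩

/-- A bounded complex of finite free modules. -/
def IsBddFree (E : CochainComplex (ModuleCat.{u} R) ℤ) : Prop :=
  (∃ a b : ℤ, ∀ i, i < a ∨ b < i → IsZero (E.X i)) ∧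
    ∀ i, Module.Finite R (E.X i) ∧ Module.Free R (E.X i)

/-- `m`-pseudo-coherence in `D(R)`. -/
def RPC (m : ℤ) (M : DerivedCategory (ModuleCat.{u} R)) : Prop :=
  ∃ (E : CochainComplex (ModuleCat.{u} R) ℤ) (α : DerivedCategory.Q.obj E ⟶ M),
    IsBddFree E ∧ IsPcMap m α

lemma finite_free_of_isZero {N : ModuleCat.{u} R} (h : IsZero N) :
    Module.Finite R N ∧ Module.Free R N := by
  haveI := ModuleCat.subsingleton_of_isZero h
  exact ⟨inferInstance, inferInstance⟩

lemma finite_free_of_iso {N N' : ModuleCat.{u} R} (e : N ≅ N')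
    (h : Module.Finite R N ∧ Module.Free R N) : Module.Finite R N' ∧ Module.Free R N' :=
  ⟨(Module.Finite.equiv_iff e.toLinearEquiv).1 h.1, haveI := h.2; Module.Free.of_equiv e.toLinearEquiv⟩

lemma isBddFree_single (N : ModuleCat.{u} R) (hN : Module.Finite R N ∧ Module.Free R N) (n : ℤ) :
    IsBddFree ((HomologicalComplex.single (ModuleCat.{u} R) (ComplexShape.up ℤ) n).obj N) := by
  refine ⟨⟨n, n, fun i hi => HomologicalComplex.isZero_single_obj_X (ComplexShape.up ℤ) n N i (by omega)⟩,
    fun i => ?_⟩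
  rcases eq_or_ne i n with h | h
  · subst h
    exact finite_free_of_iso (HomologicalComplex.singleObjXSelf (ComplexShape.up ℤ) i N).symm hN
  · exact finite_free_of_isZero
      (HomologicalComplex.isZero_single_obj_X (ComplexShape.up ℤ) n N i h)

lemma IsBddFree.shift {E : CochainComplex (ModuleCat.{u} R) ℤ} (h : IsBddFree E) (n : ℤ) :
    IsBddFree (E⟦n⟧) := by
  obtain ⟨⟨a, b, hz⟩, hf⟩ := h
  exact ⟨⟨a - n, b - n, fun i hi => hz (i + n) (by omega)⟩, fun i => hf (i + n)⟩

lemma IsBddFree.cone {E F : CochainComplex (ModuleCat.{u} R) ℤ} (g : E ⟶ F) (hE : IsBddFree E)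
    (hF : IsBddFree F) : IsBddFree (CochainComplex.mappingCone g) := by
  obtain ⟨⟨a, b, hz⟩, hf⟩ := hE
  obtain ⟨⟨a', b', hz'⟩, hf'⟩ := hF
  have e : ∀ i, (CochainComplex.mappingCone g).X i ≅
      ModuleCat.of R (E.X (i + 1) × F.X i) := fun i =>
    HomologicalComplex.homotopyCofiber.XIsoBiprod g i (i + 1) rfl ≪≫ ModuleCat.biprodIsoProd _ _
  refine ⟨⟨min (a - 1) a', max b b', fun i hi => ?_⟩, fun i => ?_⟩
  · haveI := ModuleCat.subsingleton_of_isZero (hz (i + 1) (by omega))
    haveI := ModuleCat.subsingleton_of_isZero (hz' i (by omega))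
    exact (ModuleCat.isZero_of_subsingleton _).of_iso (e i)
  · haveI := (hf (i + 1)).1
    haveI := (hf (i + 1)).2
    haveI := (hf' i).1
    haveI := (hf' i).2
    exact finite_free_of_iso (e i).symm ⟨inferInstance, inferInstance⟩

lemma isKProjective_of_isBddFree {E : CochainComplex (ModuleCat.{u} R) ℤ} (h : IsBddFree E) :
    E.IsKProjective := by
  obtain ⟨⟨a, b, hz⟩, hf⟩ := h
  haveI : ∀ i, Projective (E.X i) := fun i => by
    haveI : Module.Free R (E.X i) := (hf i).2
    infer_instance
  haveI : E.IsStrictlyLE b := (CochainComplex.isStrictlyLE_iff _ _).2 fun i hi => hz i (Or.inr hi)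
  exact CochainComplex.isKProjective_of_projective E b

lemma rpc_of_triangle {m : ℤ} {M M' : DerivedCategory (ModuleCat.{u} R)}
    {S : CochainComplex (ModuleCat.{u} R) ℤ} (hS : IsBddFree S)
    (δ : M' ⟶ DerivedCategory.Q.obj S) {v : DerivedCategory.Q.obj S ⟶ M⟦(1 : ℤ)⟧}
    {w : M⟦(1 : ℤ)⟧ ⟶ M'⟦(1 : ℤ)⟧} (hT : Triangle.mk δ v w ∈ distTriang _) (hM' : RPC m M') :
    RPC m M := by
  obtain ⟨E', α', hE', hα'⟩ := hM'
  haveI := isKProjective_of_isBddFree hE'
  let e := DerivedCategory.quotientCompQhIso (ModuleCat.{u} R)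
  obtain ⟨g', hg'⟩ := (CochainComplex.IsKProjective.Qh_map_bijective E'
    ((HomotopyCategory.quotient _ _).obj S)).2
      (e.hom.app E' ≫ (α' ≫ δ) ≫ e.inv.app S)
  obtain ⟨g, rfl⟩ := (HomotopyCategory.quotient _ _).map_surjective g'
  have hg : DerivedCategory.Q.map g = α' ≫ δ := by
    have := e.hom.naturality g
    simp only [Functor.comp_map] at this
    rw [hg'] at this
    simp only [Category.assoc, Iso.inv_hom_id_app] at this
    erw [Category.comp_id, cancel_epi] at this
    exact this.symm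
  let T₁ := DerivedCategory.Q.mapTriangle.obj (CochainComplex.mappingCone.triangle g)
  have hT₁ : T₁ ∈ distTriang _ := DerivedCategory.mappingCone_triangle_distinguished g
  obtain ⟨β, hβ₁, hβ₂⟩ := complete_distinguished_triangle_morphism T₁ (Triangle.mk δ v w) hT₁ hT α'
    (𝟙 _) ((Category.comp_id _).trans hg)
  let φ : T₁ ⟶ Triangle.mk δ v w :=
    { hom₁ := α'
      hom₂ := 𝟙 _
      hom₃ := β
      comm₁ := (Category.comp_id _).trans hg
      comm₂ := hβ₁
      comm₃ := hβ₂ }
  have hβ : IsPcMap (m - 1) β := by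
    refine isPcMap_hom₃ hT₁ hT φ (m := m - 1) ?_ ?_
    · rw [show m - 1 + 1 = m by omega]; exact hα'
    · exact isPcMap_of_isIso (m - 1) (𝟙 _)
  have h2 := hβ.shift (-1)
  rw [show m - 1 - -1 = m by omega] at h2
  exact ⟨(CochainComplex.mappingCone g)⟦(-1 : ℤ)⟧,
    ((DerivedCategory.Q.commShiftIso (-1 : ℤ)).app (CochainComplex.mappingCone g)).hom ≫ β⟦(-1 : ℤ)⟧' ≫
      ((shiftFunctorCompIsoId (DerivedCategory (ModuleCat.{u} R)) (1 : ℤ) (-1) (by omega)).app M).hom,
    (hE'.cone g hS).shift (-1),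
    h2.comp_iso _ _⟩

variable [PreservesFiniteLimits (tilde.functor R)]

lemma isFinLocFree_tilde_of_free {N : ModuleCat.{u} R}
    (h : Module.Finite R N ∧ Module.Free R N) :
    FlatMod.IsFinLocFree ((tilde.functor R).obj N) :=
  haveI := h.2
  (Groth.Agent.S12451.result N).2 ⟨h.1, inferInstance⟩

lemma locPC_of_rpc {m : ℤ} {M : DerivedCategory (ModuleCat.{u} R)} (h : RPC m M) :
    LocPC m ((DCoh.tildeD R).obj M) := fun x => by
  obtain ⟨E, α, ⟨⟨a, b, hz⟩, hf⟩, hα⟩ := h
  let T : CochainComplex (ModuleCat.{u} R) ℤ ⥤ CochainComplex (Spec R).Modules ℤ :=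
    (tilde.functor R).mapHomologicalComplex (ComplexShape.up ℤ)
  let j := (⊤ : (Spec R).Opens).ι
  have hT : DCoh.IsStrictlyPerfect (T.obj E) :=
    ⟨⟨a, b, fun i hi => (tilde.functor R).map_isZero (hz i hi)⟩,
      fun i => isFinLocFree_tilde_of_free (hf i)⟩
  exact ⟨_, j, inferInstance, ⟨⟨x, trivial⟩, rfl⟩, (rCx j).obj (T.obj E),
    (rhoQ j).inv.app (T.obj E) ≫ (rho j).map
      ((tilde.functor R).mapDerivedCategoryFactors.inv.app E ≫ (DCoh.tildeD R).map α),
    isStrictlyPerfect_restrict j hT,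
    by
      have := ((hα.map_exact (tilde.functor R)).comp_iso
        ((tilde.functor R).mapDerivedCategoryFactors.inv.app E) (𝟙 _)).map_exact
          (Scheme.Modules.restrictFunctor j)
      have := this.comp_iso ((rhoQ j).inv.app (T.obj E)) (𝟙 _)
      simpa using this⟩

lemma exists_homology_bound {m : ℤ} (M : DerivedCategory (ModuleCat.{u} R))
    (h : LocPC m ((DCoh.tildeD R).obj M)) :
    ∃ b, ∀ i, b ≤ i → IsZero ((DerivedCategory.homologyFunctor (ModuleCat.{u} R) i).obj M) := by
  choose U j hj hx P α hP hα using h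
  choose a b hb using fun x => (hP x).1
  obtain ⟨t, ht⟩ := isCompact_univ.elim_finite_subcover (fun x : (Spec R : Scheme.{u}) => Set.range (j x).base)
    (fun x => haveI := hj x; (j x).isOpenEmbedding.isOpen_range) (fun x _ => Set.mem_iUnion.2 ⟨x, hx x⟩)
  refine ⟨max (m + 1) (((∑ x ∈ t, (b x).natAbs : ℕ) : ℤ) + 1), fun i hi => ?_⟩
  · rw [IsZero.iff_id_eq_zero]
    refine (tilde.functor R).map_injective (IsZero.eq_of_src ?_ _ _)
    refine IsZero.of_iso ?_ ((mapDCHomologyIso (tilde.functor R) i).app M).symm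
    refine isZero_of_stalk _ fun y => ?_
    obtain ⟨x, hxt, ⟨u, rfl⟩⟩ := Set.mem_iUnion₂.1 (ht (Set.mem_univ y))
    haveI := hj x
    have hiso : IsIso ((DerivedCategory.homologyFunctor _ i).map (α x)) := (hα x).1 i (by omega)
    have hbx : (b x).natAbs ≤ ∑ x ∈ t, (b x).natAbs := Finset.single_le_sum (f := fun x => (b x).natAbs) (fun _ _ => Nat.zero_le _) hxt
    have hz : IsZero ((Scheme.Modules.restrictFunctor (j x)).obj (DCoh.HD ((DCoh.tildeD R).obj M) i)) := by
      refine IsZero.of_iso ?_ ((mapDCHomologyIso (Scheme.Modules.restrictFunctor (j x)) i).app _).symm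
      refine IsZero.of_iso ?_ (asIso ((DerivedCategory.homologyFunctor _ i).map (α x))).symm
      exact (ShortComplex.isZero_homology_of_isZero_X₂ _ (hb x i (Or.inr (by omega)))).of_iso
        ((DerivedCategory.homologyFunctorFactors _ i).app (P x))
    have h1 : Subsingleton
        (((Scheme.Modules.restrictFunctor (j x)).obj (DCoh.HD ((DCoh.tildeD R).obj M) i)).presheaf.stalk u) :=
      ModuleCat.subsingleton_of_isZero ((DerSch.stalkFunctor (U x) u).map_isZero hz)
    have h2 : Subsingleton ((DCoh.HD ((DCoh.tildeD R).obj M) i).presheaf.stalk ((j x).base u)) :=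
      @Equiv.subsingleton _ _
        ((Scheme.Modules.restrictStalkNatIso (j x) u).app _).addCommGroupIsoToAddEquiv.symm.toEquiv h1
    exact @ModuleCat.isZero_of_subsingleton _ _ _ h2

/-- Pseudo-coherence is detected on `Spec R`. -/
lemma rpc_of_locPC (m : ℤ) : ∀ (k : ℕ) (M : DerivedCategory (ModuleCat.{u} R)),
    (∀ i, m + k ≤ i → IsZero ((DerivedCategory.homologyFunctor (ModuleCat.{u} R) i).obj M)) →
    LocPC m ((DCoh.tildeD R).obj M) → RPC m M := by
  intro k
  induction k with
  | zero =>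
    intro M hz _
    let E := (HomologicalComplex.single (ModuleCat.{u} R) (ComplexShape.up ℤ) m).obj (ModuleCat.of R PUnit)
    refine ⟨E, 0, isBddFree_single _ (finite_free_of_isZero (ModuleCat.isZero_of_subsingleton _)) m,
      fun i hi => ?_, ?_⟩
    · have hE : IsZero ((DerivedCategory.homologyFunctor (ModuleCat.{u} R) i).obj (DerivedCategory.Q.obj E)) :=
        (ShortComplex.isZero_homology_of_isZero_X₂ _
          (HomologicalComplex.isZero_single_obj_X (ComplexShape.up ℤ) m _ i (by omega))).of_iso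
          ((DerivedCategory.homologyFunctorFactors _ i).app E)
      exact ⟨0, hE.eq_of_src _ _, (hz i (by omega)).eq_of_src _ _⟩
    · exact ⟨fun a b _ => (hz m (by omega)).eq_of_src a b⟩
  | succ k ih =>
    intro M hz hM
    let b : ℤ := m + k
    have hzT : ∀ i, b < i → IsZero (DCoh.HD ((DCoh.tildeD R).obj M) i) := fun i hi =>
      ((tilde.functor R).map_isZero (hz i (by omega))).of_iso ((mapDCHomologyIso (tilde.functor R) i).app M)
    have hFT := isFT_top (hM.mono (by omega : m ≤ b)) hzT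
    haveI : Module.Finite R ((DerivedCategory.homologyFunctor (ModuleCat.{u} R) b).obj M) :=
      (Groth.Agent.S9826.result R _).1
        (isFT_of_iso' ((mapDCHomologyIso (tilde.functor R) b).app M) hFT)
    obtain ⟨n, p, hp⟩ := Module.Finite.exists_fin' R ((DerivedCategory.homologyFunctor (ModuleCat.{u} R) b).obj M)
    let N := ModuleCat.of R (Fin n → R)
    have hN : Module.Finite R N ∧ Module.Free R N := ⟨inferInstance, inferInstance⟩
    haveI : Epi (ModuleCat.ofHom p : N ⟶ _) := (ModuleCat.epi_iff_surjective _).2 hp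
    obtain ⟨φ, hφ⟩ := (bijective_psiC_of_projective (P := N) b M).2 (ModuleCat.ofHom p)
    haveI : Epi ((DerivedCategory.homologyFunctor (ModuleCat.{u} R) b).map φ) := by
      have h : Epi ((hSingle b N).inv ≫ (DerivedCategory.homologyFunctor (ModuleCat.{u} R) b).map φ) := by
        change Epi (psiC b N M φ)
        rw [hφ]
        infer_instance
      exact epi_of_epi (hSingle b N).inv _
    obtain ⟨M', u, δ, hT⟩ := distinguished_cocone_triangle φ
    let H := DerivedCategory.homologyFunctor (ModuleCat.{u} R)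
    have hzF : ∀ i, i ≠ b → IsZero ((H i).obj ((DerivedCategory.singleFunctor _ b).obj N)) := fun i hi =>
      (ShortComplex.isZero_homology_of_isZero_X₂ _
        (HomologicalComplex.isZero_single_obj_X (ComplexShape.up ℤ) b N i hi)).of_iso
        ((H i).mapIso (singleQ b N) ≪≫ (DerivedCategory.homologyFunctorFactors _ i).app _)
    have hz' : ∀ i, m + k ≤ i → IsZero ((H i).obj M') := fun i hi => by
      haveI : Epi ((H i).map u) :=
        (DerivedCategory.HomologySequence.exact₃ _ hT i (i + 1) rfl).epi_f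
          ((hzF (i + 1) (by omega)).eq_of_tgt _ _)
      refine IsZero.of_epi_eq_zero ((H i).map u) ?_
      rcases eq_or_lt_of_le hi with h | h
      · obtain rfl : b = i := h
        refine (cancel_epi ((H b).map φ)).1 ?_
        rw [← Functor.map_comp]
        exact ((congrArg (H b).map (comp_distTriang_mor_zero₁₂ _ hT)).trans (Functor.map_zero _ _ _)).trans
          comp_zero.symm
      · exact (hz i (by omega)).eq_of_src _ _
    have hF : RPC (m + 1) ((DerivedCategory.singleFunctor (ModuleCat.{u} R) b).obj N) :=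
      ⟨_, (singleQ b N).inv, isBddFree_single N hN b, isPcMap_of_isIso _ _⟩
    have hM' : RPC m M' := ih M' hz' ((locPC_two_of_three m _
      ((DCoh.tildeD R).map_distinguished _ hT)).1 (locPC_of_rpc hF) hM)
    let e : ((DerivedCategory.singleFunctor (ModuleCat.{u} R) b).obj N)⟦(1 : ℤ)⟧ ≅
        DerivedCategory.Q.obj ((HomologicalComplex.single (ModuleCat.{u} R) (ComplexShape.up ℤ) (b - 1)).obj N) :=
      ((DerivedCategory.singleFunctors (ModuleCat.{u} R)).shiftIso 1 (b - 1) b (by omega)).app N ≪≫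
        singleQ (b - 1) N
    have hT₂ := rot_of_distTriang _ (rot_of_distTriang _ hT)
    let T₂ := (Triangle.mk φ u δ).rotate.rotate
    refine rpc_of_triangle (isBddFree_single N hN (b - 1)) (T₂.mor₁ ≫ e.hom)
      (v := e.inv ≫ T₂.mor₂) (w := T₂.mor₃) (isomorphic_distinguished _ hT₂ _ ?_) hM'
    exact Triangle.isoMk _ _ (Iso.refl _) e.symm (Iso.refl _)
      ((Category.assoc _ _ _).trans ((congrArg (T₂.mor₁ ≫ ·) e.hom_inv_id).trans
        ((Category.comp_id _).trans (Category.id_comp _).symm)))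
      (Category.comp_id _)
      ((congrArg (T₂.mor₃ ≫ ·) ((shiftFunctor _ (1 : ℤ)).map_id _)).trans
        ((Category.comp_id _).trans (Category.id_comp _).symm))

lemma pseudoCoherentD_tildeD_iff (m : ℤ) (M : DerivedCategory (ModuleCat.{u} R)) :
    DCoh.IsPseudoCoherentD m ((DCoh.tildeD R).obj M) ↔ RPC m M := by
  rw [isPseudoCoherentD_iff]
  refine ⟨fun h => ?_, locPC_of_rpc⟩
  obtain ⟨b, hb⟩ := exists_homology_bound M h
  exact rpc_of_locPC m (b - m).toNat M (fun i hi => hb i (by omega)) h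

end Groth.Agent.KFlatLib
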