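import Groth.Agent.KFlatLib.Scheme.PCQCoh
import Groth.Agent.KFlatLib.Scheme.TildePC
import Groth.Agent.KFlatLib.Scheme.RHomLocal
import Groth.Agent.KFlatLib.Scheme.TildeD
import Groth.Agent.QCoh.Support
import Groth.Agent.QCoh.Extension
import Groth.Agent.S6518
import Groth.Agent.S1004
import Groth.Agent.S6942
import Mathlib.RingTheory.Finiteness.Finsupp

/-!
# Coherent cohomology and pseudo-coherence
-/

set_option linter.style.haveILetI false

universe u

open CategoryTheory CategoryTheory.Limits AlgebraicGeometry CategoryTheory.Pretriangulated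

attribute [local instance] HasDerivedCategory.standard

namespace Groth.Agent.KFlatLib

variable {X : Scheme.{u}} [IsLocallyNoetherian X]

lemma isCoh_iff_locPC (M : X.Modules) : Coh.IsCoh M ↔ LocPC (-1) (DCoh.inD X M) := by
  rw [QCoh.isCoh_iff_isFP, ← isPseudoCoherentD_iff]
  exact (Groth.Agent.S6518.result M).2.symm

lemma isCoh_of_iso {M N : X.Modules} (e : M ≅ N) (h : Coh.IsCoh M) : Coh.IsCoh N :=
  (isCoh_iff_locPC N).2 (((isCoh_iff_locPC M).1 h).of_iso
    ((DerivedCategory.singleFunctor X.Modules 0).mapIso e))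

lemma isCoh_of_isZero {M : X.Modules} (h : IsZero M) : Coh.IsCoh M :=
  (isCoh_iff_locPC M).2 (locPC_of_isZero _ _ fun i _ =>
    (DerivedCategory.homologyFunctor X.Modules i).map_isZero
      ((DerivedCategory.singleFunctor X.Modules 0).map_isZero h))

/-- Extensions of coherent modules are coherent. -/
lemma isCoh_of_shortExact {S : ShortComplex X.Modules} (hS : S.ShortExact)
    (h₁ : Coh.IsCoh S.X₁) (h₃ : Coh.IsCoh S.X₃) : Coh.IsCoh S.X₂ := by
  refine QCoh.isCoh_iff.2 ⟨QCoh.isQCoh_X₂ hS h₁.1 h₃.1, fun U => ?_⟩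
  have := QCoh.finite_sections h₁ U.2
  have := QCoh.finite_sections h₃ U.2
  let f : Γ(S.X₁, U.1) →ₗ[Γ(X, U.1)] Γ(S.X₂, U.1) :=
    { toFun := S.f.app U.1, map_add' := map_add (S.f.app U.1).hom,
      map_smul' := fun r x => S.f.app_smul r x }
  let g : Γ(S.X₂, U.1) →ₗ[Γ(X, U.1)] Γ(S.X₃, U.1) :=
    { toFun := S.g.app U.1, map_add' := map_add (S.g.app U.1).hom,
      map_smul' := fun r x => S.g.app_smul r x }
  refine Module.Finite.of_exact (f := f) (g := g) (fun x => ⟨fun hx => ?_, ?_⟩)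
    (QCoh.app_surjective_of_shortExact hS h₁.1 U.2)
  · exact QCoh.exists_app_f_eq hS U.1 x hx
  · rintro ⟨a, rfl⟩
    exact QCoh.app_g_f U.1 a

/-- A module in the middle of an exact sequence of five with coherent outer terms. -/
lemma isCoh_of_exact {A B C D E : X.Modules} {f : A ⟶ B} {g : B ⟶ C} {h : C ⟶ D} {k : D ⟶ E}
    (w₁ : f ≫ g = 0) (w₂ : g ≫ h = 0) (w₃ : h ≫ k = 0)
    (h₁ : (ShortComplex.mk f g w₁).Exact) (h₂ : (ShortComplex.mk g h w₂).Exact)
    (h₃ : (ShortComplex.mk h k w₃).Exact)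
    (hA : Coh.IsCoh A) (hB : Coh.IsCoh B) (hD : Coh.IsCoh D) (hE : Coh.IsCoh E) :
    Coh.IsCoh C := by
  have hC : Coh.IsQCoh C := isQCoh_of_exact w₁ w₂ w₃ h₁ h₂ h₃ hA.1 hB.1 hD.1 hE.1
  haveI := h₁.mono_g
  let S := ShortComplex.mk (kernel.ι h) (Abelian.coimage.π h) (cokernel.condition _)
  have hS : S.ShortExact :=
    { exact := ShortComplex.exact_cokernel _, mono_f := inferInstance,
      epi_g := inferInstanceAs (Epi (cokernel.π _)) }
  refine isCoh_of_shortExact hS ?_ ?_
  · haveI := h₂.epi_kernelLift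
    exact QCoh.isCoh_of_epi (kernel.lift h g w₂) hB (QCoh.isQCoh_kernel hC hD.1 h)
  · haveI : Mono (Abelian.factorThruCoimage h) := inferInstance
    exact QCoh.isCoh_of_mono (Abelian.factorThruCoimage h) hD
      (QCoh.isQCoh_cokernel (QCoh.isQCoh_kernel hC hD.1 h) hC _)

lemma isCohD_of_iso {K L : DCoh.D X} (e : K ≅ L) (h : DCoh.IsCohD K) : DCoh.IsCohD L := fun i =>
  isCoh_of_iso ((DerivedCategory.homologyFunctor X.Modules i).mapIso e) (h i)

lemma isCohD_shift {K : DCoh.D X} (h : DCoh.IsCohD K) (n : ℤ) : DCoh.IsCohD (K⟦n⟧) := fun i =>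
  isCoh_of_iso ((((DerivedCategory.homologyFunctor X.Modules 0).shiftIso n i (n + i) rfl).app
    K).symm) (h (n + i))

lemma isCohD_obj₂ {T : Triangle (DCoh.D X)} (hT : T ∈ distinguishedTriangles)
    (h₁ : DCoh.IsCohD T.obj₁) (h₃ : DCoh.IsCohD T.obj₃) : DCoh.IsCohD T.obj₂ := fun n =>
  isCoh_of_exact _ _ _
    (DerivedCategory.HomologySequence.exact₁ T hT (n - 1) n (by omega))
    (DerivedCategory.HomologySequence.exact₂ T hT n)
    (DerivedCategory.HomologySequence.exact₃ T hT n (n + 1) rfl)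
    (h₃ (n - 1)) (h₁ n) (h₃ n) (h₁ (n + 1))

lemma isCohD_isQCohD {K : DCoh.D X} (h : DCoh.IsCohD K) : DCoh.IsQCohD K := fun i => (h i).1

lemma nonempty_rho_inD {U : Scheme.{u}} (j : U ⟶ X) [IsOpenImmersion j] (M : X.Modules) :
    Nonempty ((rho j).obj (DCoh.inD X M) ≅
      DCoh.inD U ((Scheme.Modules.restrictFunctor j).obj M)) :=
  ⟨((Scheme.Modules.restrictFunctor j).mapDerivedCategorySingleFunctor 0).app M⟩

lemma isCoh_restrict {U : Scheme.{u}} (j : U ⟶ X) [IsOpenImmersion j] {M : X.Modules}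
    (h : Coh.IsCoh M) : Coh.IsCoh ((Scheme.Modules.restrictFunctor j).obj M) := by
  haveI : IsLocallyNoetherian U := isLocallyNoetherian_of_isOpenImmersion j
  obtain ⟨e⟩ := nonempty_rho_inD j M
  exact (isCoh_iff_locPC _).2 ((((isCoh_iff_locPC M).1 h).restrict j).of_iso e)

lemma isCoh_of_local {M : X.Modules}
    (h : ∀ x : X, ∃ (U : Scheme.{u}) (j : U ⟶ X) (_ : IsOpenImmersion j),
      x ∈ Set.range j.base ∧ Coh.IsCoh ((Scheme.Modules.restrictFunctor j).obj M)) :
    Coh.IsCoh M := by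
  refine (isCoh_iff_locPC M).2 (LocPC.of_local fun x => ?_)
  obtain ⟨U, j, hj, hx, hc⟩ := h x
  haveI : IsLocallyNoetherian U := isLocallyNoetherian_of_isOpenImmersion j
  obtain ⟨e⟩ := nonempty_rho_inD j M
  exact ⟨U, j, hj, hx, ((isCoh_iff_locPC _).1 hc).of_iso e.symm⟩

lemma isCohD_rho {U : Scheme.{u}} (j : U ⟶ X) [IsOpenImmersion j] {K : DCoh.D X}
    (h : DCoh.IsCohD K) : DCoh.IsCohD ((rho j).obj K) := fun i => by
  haveI : IsLocallyNoetherian U := isLocallyNoetherian_of_isOpenImmersion j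
  exact isCoh_of_iso (restrictHDIso j K i).symm (isCoh_restrict j (h i))

/-- An affine chart at a point, with a noetherian ring. -/
lemma exists_chart (x : X) : ∃ (R : CommRingCat.{u}) (_ : IsNoetherianRing R) (j : Spec R ⟶ X)
    (_ : IsOpenImmersion j), x ∈ Set.range j.base := by
  obtain ⟨U, hU, hx, -⟩ := exists_isAffineOpen_mem_and_subset (x := x) (U := ⊤) trivial
  haveI : IsNoetherianRing Γ(X, U) := QCoh.noetherian_sections ⟨U, hU⟩
  exact ⟨_, this, hU.fromSpec, inferInstance, by rw [hU.range_fromSpec]; exact hx⟩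

lemma isCoh_tilde_iff {R : CommRingCat.{u}} [IsNoetherianRing R] (M : ModuleCat.{u} R) :
    Coh.IsCoh (tilde M) ↔ Module.Finite R M := by
  rw [QCoh.isCoh_iff_isFP, QCoh.isFP_tilde_iff]
  exact ⟨fun _ => inferInstance, fun _ => Module.finitePresentation_of_finite R M⟩

/-- Locally, coherent cohomology in degrees `≥ m` and boundedness give pseudo-coherence. -/
lemma locPC_of_coh {m : ℤ} {E : DCoh.D X} (hq : DCoh.IsQCohD E)
    (hc : ∀ i, m ≤ i → Coh.IsCoh (DCoh.HD E i)) (b : ℤ)
    (hb : ∀ i, b < i → IsZero (DCoh.HD E i)) : LocPC m E := by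
  refine LocPC.of_local fun x => ?_
  obtain ⟨R, hR, j, hj, hx⟩ := exists_chart x
  obtain ⟨M, ⟨eM⟩⟩ := exists_tildeD_iso (isQCohD_rho j hq)
  refine ⟨_, j, hj, hx, ((isPseudoCoherentD_iff _ _).1 ?_).of_iso eM⟩
  let eH : ∀ i, (tilde.functor R).obj ((DerivedCategory.homologyFunctor (ModuleCat.{u} R) i).obj M) ≅
      (Scheme.Modules.restrictFunctor j).obj (DCoh.HD E i) := fun i =>
    ((mapDCHomologyIso (tilde.functor R) i).app M).symm ≪≫
      (DerivedCategory.homologyFunctor _ i).mapIso eM ≪≫ restrictHDIso j E i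
  refine (Groth.Agent.S1004.result R M m).2
    ((Groth.Agent.S6942.result R m M PUnit).1.2 ⟨⟨b, fun i hi => ?_⟩, fun i hi => ?_⟩)
  · refine ModuleCat.subsingleton_of_isZero ((IsZero.iff_id_eq_zero _).2
      ((tilde.functor R).map_injective (IsZero.eq_of_src ?_ _ _)))
    exact (Functor.map_isZero (Scheme.Modules.restrictFunctor j) (hb i hi)).of_iso (eH i)
  · haveI : IsLocallyNoetherian (Spec R) := isLocallyNoetherian_of_isOpenImmersion j
    exact (isCoh_tilde_iff _).1 (isCoh_of_iso (eH i).symm (isCoh_restrict j (hc i hi)))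

/-- On a locally noetherian scheme, `m`-pseudo-coherence gives coherent cohomology. -/
lemma isCoh_of_locPC {m : ℤ} {E : DCoh.D X} (hq : DCoh.IsQCohD E) (h : LocPC m E) (i : ℤ)
    (hi : m ≤ i) : Coh.IsCoh (DCoh.HD E i) := by
  refine isCoh_of_local fun x => ?_
  obtain ⟨R, hR, j, hj, hx⟩ := exists_chart x
  obtain ⟨M, ⟨eM⟩⟩ := exists_tildeD_iso (isQCohD_rho j hq)
  refine ⟨_, j, hj, hx, ?_⟩
  haveI : IsLocallyNoetherian (Spec R) := isLocallyNoetherian_of_isOpenImmersion j
  have hM := ((Groth.Agent.S6942.result R m M PUnit).1.1 ((Groth.Agent.S1004.result R M m).1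
    ((isPseudoCoherentD_iff _ _).2 ((h.restrict j).of_iso eM.symm)))).2 i hi
  exact isCoh_of_iso (((mapDCHomologyIso (tilde.functor R) i).app M).symm ≪≫
      (DerivedCategory.homologyFunctor _ i).mapIso eM ≪≫ restrictHDIso j E i)
    ((isCoh_tilde_iff _).2 hM)

omit [IsLocallyNoetherian X] in
/-- On a quasi-compact scheme pseudo-coherent objects are bounded above. -/
lemma exists_bound_of_locPC [CompactSpace X] {m : ℤ} {E : DCoh.D X} (h : LocPC m E) :
    ∃ b, ∀ i, b < i → IsZero (DCoh.HD E i) := by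
  choose U j hj hx P α hP hα using h
  choose a b hb using fun x => (hP x).1
  obtain ⟨t, ht⟩ := isCompact_univ.elim_finite_subcover (fun x : X => Set.range (j x).base)
    (fun x => haveI := hj x; (j x).isOpenEmbedding.isOpen_range) (fun x _ => Set.mem_iUnion.2 ⟨x, hx x⟩)
  refine ⟨max m ((∑ x ∈ t, (b x).natAbs : ℕ) : ℤ), fun i hi => ?_⟩
  refine isZero_of_stalk _ fun y => ?_
  obtain ⟨x, hxt, ⟨v, rfl⟩⟩ := Set.mem_iUnion₂.1 (ht (Set.mem_univ y))
  haveI := hj x
  haveI : IsIso ((DerivedCategory.homologyFunctor _ i).map (α x)) := (hα x).1 i (by omega)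
  have hbx : (b x).natAbs ≤ ∑ x ∈ t, (b x).natAbs :=
    Finset.single_le_sum (f := fun x => (b x).natAbs) (fun _ _ => Nat.zero_le _) hxt
  have hz : IsZero ((Scheme.Modules.restrictFunctor (j x)).obj (DCoh.HD E i)) := by
    refine IsZero.of_iso ?_ (restrictHDIso (j x) E i).symm
    refine IsZero.of_iso ?_ (asIso ((DerivedCategory.homologyFunctor _ i).map (α x))).symm
    exact (ShortComplex.isZero_homology_of_isZero_X₂ _ (hb x i (Or.inr (by omega)))).of_iso
      ((DerivedCategory.homologyFunctorFactors _ i).app (P x))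
  have h1 : Subsingleton
      (((Scheme.Modules.restrictFunctor (j x)).obj (DCoh.HD E i)).presheaf.stalk v) :=
    ModuleCat.subsingleton_of_isZero ((DerSch.stalkFunctor (U x) v).map_isZero hz)
  have h2 : Subsingleton ((DCoh.HD E i).presheaf.stalk ((j x).base v)) :=
    @Equiv.subsingleton _ _
      ((Scheme.Modules.restrictStalkNatIso (j x) v).app _).addCommGroupIsoToAddEquiv.symm.toEquiv h1
  exact @ModuleCat.isZero_of_subsingleton _ _ _ h2

omit [IsLocallyNoetherian X] in
/-- On a quasi-compact scheme perfect objects are bounded below. -/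
lemma exists_lower_bound_of_locSP [CompactSpace X] {E : DCoh.D X} (h : LocSP E) :
    ∃ a, ∀ i, i < a → IsZero (DCoh.HD E i) := by
  choose U j hj hx P hP e using h
  choose a b hb using fun x => (hP x).1
  obtain ⟨t, ht⟩ := isCompact_univ.elim_finite_subcover (fun x : X => Set.range (j x).base)
    (fun x => haveI := hj x; (j x).isOpenEmbedding.isOpen_range) (fun x _ => Set.mem_iUnion.2 ⟨x, hx x⟩)
  refine ⟨-((∑ x ∈ t, (a x).natAbs : ℕ) : ℤ), fun i hi => ?_⟩
  refine isZero_of_stalk _ fun y => ?_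
  obtain ⟨x, hxt, ⟨v, rfl⟩⟩ := Set.mem_iUnion₂.1 (ht (Set.mem_univ y))
  haveI := hj x
  obtain ⟨ex⟩ := e x
  have hbx : (a x).natAbs ≤ ∑ x ∈ t, (a x).natAbs :=
    Finset.single_le_sum (f := fun x => (a x).natAbs) (fun _ _ => Nat.zero_le _) hxt
  have hz : IsZero ((Scheme.Modules.restrictFunctor (j x)).obj (DCoh.HD E i)) := by
    refine IsZero.of_iso ?_ (restrictHDIso (j x) E i).symm
    refine IsZero.of_iso ?_ ((DerivedCategory.homologyFunctor _ i).mapIso ex).symm
    exact (ShortComplex.isZero_homology_of_isZero_X₂ _ (hb x i (Or.inl (by omega)))).of_iso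
      ((DerivedCategory.homologyFunctorFactors _ i).app (P x))
  have h1 : Subsingleton
      (((Scheme.Modules.restrictFunctor (j x)).obj (DCoh.HD E i)).presheaf.stalk v) :=
    ModuleCat.subsingleton_of_isZero ((DerSch.stalkFunctor (U x) v).map_isZero hz)
  have h2 : Subsingleton ((DCoh.HD E i).presheaf.stalk ((j x).base v)) :=
    @Equiv.subsingleton _ _
      ((Scheme.Modules.restrictStalkNatIso (j x) v).app _).addCommGroupIsoToAddEquiv.symm.toEquiv h1
  exact @ModuleCat.isZero_of_subsingleton _ _ _ h2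


end Groth.Agent.KFlatLib
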