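import Groth.Agent.KFlatLib.Scheme.MayerVietoris
import Mathlib.CategoryTheory.Triangulated.Yoneda

/-!
# Gluing objects of the derived category along two opens
-/

set_option linter.style.haveILetI false
set_option backward.isDefEq.respectTransparency false

universe u

open CategoryTheory CategoryTheory.Limits AlgebraicGeometry TopologicalSpace Pretriangulated

attribute [local instance] HasDerivedCategory.standard

namespace Groth.Agent.KFlatLib

/-- A triangle whose first map is invertible on one summand identifies the cone with the other one. -/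
theorem isIso_inl_comp_of_triangle {𝒟 : Type*} [Category 𝒟] [Preadditive 𝒟] [HasShift 𝒟 ℤ]
    [∀ n : ℤ, (shiftFunctor 𝒟 n).Additive] [HasZeroObject 𝒟] [Pretriangulated 𝒟]
    {P A B F : 𝒟} [HasBinaryBiproduct A B] (a : P ⟶ A ⊞ B) (b : A ⊞ B ⟶ F) (c : F ⟶ P⟦(1 : ℤ)⟧)
    (h : Triangle.mk a b c ∈ distTriang 𝒟) (ha : IsIso (a ≫ biprod.snd)) :
    IsIso (biprod.inl ≫ b) := by
  let q := a ≫ biprod.snd
  let p := a ≫ biprod.fst
  let g : A ⊞ B ⟶ A := biprod.fst - biprod.snd ≫ inv q ≫ p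
  have hg : a ≫ g = 0 := by
    simp only [g, Preadditive.comp_sub]
    rw [← Category.assoc, ← Category.assoc (a ≫ biprod.snd)]
    simp [q, p]
  obtain ⟨k, hk⟩ := Triangle.yoneda_exact₂ _ h g hg
  change g = b ≫ k at hk
  have hmono : Mono a := by
    have : Mono (a ≫ biprod.snd) := inferInstance
    exact mono_of_mono a biprod.snd
  haveI : Epi b := (Triangle.mor₃_eq_zero_iff_epi₂ _ h).1
    ((Triangle.mor₃_eq_zero_iff_mono₁ _ h).2 hmono)
  refine ⟨k, ?_, ?_⟩
  · rw [Category.assoc, ← hk]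
    simp [g]
  · rw [← cancel_epi b, ← Category.assoc b k, ← hk]
    have h0 : a ≫ b = 0 := comp_distTriang_mor_zero₁₂ _ h
    have e : a = p ≫ biprod.inl + q ≫ biprod.inr := by
      apply biprod.hom_ext <;> simp [p, q]
    have h1 : (inv q ≫ p) ≫ biprod.inl ≫ b = -(biprod.inr ≫ b) := by
      rw [Category.assoc, IsIso.inv_comp_eq, Preadditive.comp_neg, eq_neg_iff_add_eq_zero,
        ← Category.assoc, ← Category.assoc q, ← Preadditive.add_comp, ← e, h0]
    simp only [g, Preadditive.sub_comp, Category.assoc, Category.comp_id] at *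
    rw [h1]
    simp only [Preadditive.comp_neg, sub_neg_eq_add, ← Category.assoc, ← Preadditive.add_comp]
    rw [biprod.total, Category.id_comp]

/-- The same after applying an exact functor. -/
theorem isIso_map_inl_of_triangle {𝒟 ℰ : Type*} [Category 𝒟] [Preadditive 𝒟] [HasShift 𝒟 ℤ]
    [∀ n : ℤ, (shiftFunctor 𝒟 n).Additive] [HasZeroObject 𝒟] [Pretriangulated 𝒟]
    [Category ℰ] [Preadditive ℰ] [HasShift ℰ ℤ]
    [∀ n : ℤ, (shiftFunctor ℰ n).Additive] [HasZeroObject ℰ] [Pretriangulated ℰ]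
    [HasBinaryBiproducts 𝒟] [HasBinaryBiproducts ℰ] (R : 𝒟 ⥤ ℰ) [R.CommShift ℤ] [R.IsTriangulated]
    {P A B F : 𝒟} (a : P ⟶ A ⊞ B) (b : A ⊞ B ⟶ F) (c : F ⟶ P⟦(1 : ℤ)⟧)
    (h : Triangle.mk a b c ∈ distTriang 𝒟) (ha : IsIso (R.map (a ≫ biprod.snd))) :
    IsIso (R.map (biprod.inl ≫ b)) := by
  haveI : PreservesBinaryBiproducts R := preservesBinaryBiproducts_of_preservesBiproducts R
  let e := R.mapBiprod A B
  have h' : Triangle.mk (R.map a ≫ e.hom) (e.inv ≫ R.map b)
      (R.mapTriangle.obj (Triangle.mk a b c)).mor₃ ∈ distTriang ℰ := by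
    refine isomorphic_distinguished _ (R.map_distinguished _ h) _
      (Triangle.isoMk _ _ (Iso.refl _) e.symm (Iso.refl _) ?_ ?_ ?_)
    · change (R.map a ≫ e.hom) ≫ e.inv = 𝟙 _ ≫ R.map a
      simp
    · change (e.inv ≫ R.map b) ≫ 𝟙 _ = e.inv ≫ R.map b
      simp
    · change (R.mapTriangle.obj (Triangle.mk a b c)).mor₃ ≫ (𝟙 _)⟦(1 : ℤ)⟧' =
        𝟙 _ ≫ (R.mapTriangle.obj (Triangle.mk a b c)).mor₃
      rw [CategoryTheory.Functor.map_id, Category.id_comp]
      exact Category.comp_id _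
  have hq : IsIso ((R.map a ≫ e.hom) ≫ biprod.snd) := by
    rw [Category.assoc, Functor.mapBiprod_hom, biprod.lift_snd, ← R.map_comp]
    exact ha
  have := isIso_inl_comp_of_triangle _ _ _ h' hq
  rw [Functor.mapBiprod_inv, ← Category.assoc, biprod.inl_desc, ← R.map_comp] at this
  exact this

variable {X : Scheme.{u}}

instance preservesFiniteLimits_restrict {U : Scheme.{u}} (j : U ⟶ X) [IsOpenImmersion j] :
    PreservesFiniteLimits (Scheme.Modules.restrictFunctor j) := by
  haveI : PreservesLimitsOfSize.{0, 0} (Scheme.Modules.restrictFunctor j) :=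
    (lshAdj j).rightAdjoint_preservesLimits
  exact ⟨fun _ => inferInstance⟩

/-- Two composable restrictions of derived categories, on a complex. -/
theorem nonempty_restrictD_comp {U W : Scheme.{u}} (i : W ⟶ U) (j : U ⟶ X) (l : W ⟶ X)
    [IsOpenImmersion i] [IsOpenImmersion j] [IsOpenImmersion l] (h : i ≫ j = l)
    [PreservesFiniteLimits (Scheme.Modules.restrictFunctor i)]
    [PreservesFiniteLimits (Scheme.Modules.restrictFunctor j)]
    [PreservesFiniteLimits (Scheme.Modules.restrictFunctor l)] (E : DCoh.D X) :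
    Nonempty ((DCoh.restrictD l).obj E ≅ (DCoh.restrictD i).obj ((DCoh.restrictD j).obj E)) := by
  let C := DerivedCategory.Q.objPreimage E
  let eE : DerivedCategory.Q.obj C ≅ E := DerivedCategory.Q.objObjPreimageIso E
  exact ⟨(DCoh.restrictD l).mapIso eE.symm ≪≫
    (Scheme.Modules.restrictFunctor l).mapDerivedCategoryFactors.app C ≪≫
    DerivedCategory.Q.mapIso ((Functor.mapHomologicalComplexCompIso
      (Scheme.Modules.restrictFunctorCongr h.symm ≪≫ Scheme.Modules.restrictFunctorComp i j).symm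
      (ComplexShape.up ℤ)).app C).symm ≪≫
    ((Scheme.Modules.restrictFunctor i).mapDerivedCategoryFactors.app ((rCx j).obj C)).symm ≪≫
    (DCoh.restrictD i).mapIso (((Scheme.Modules.restrictFunctor j).mapDerivedCategoryFactors.app C).symm ≪≫
      (DCoh.restrictD j).mapIso eE)⟩

/-- Objects on two opens which agree on the overlap glue. -/
theorem exists_glue (U V : X.Opens) (hUV : U ⊔ V = ⊤)
    [PreservesFiniteLimits (Scheme.Modules.restrictFunctor U.ι)]
    [PreservesFiniteLimits (Scheme.Modules.restrictFunctor V.ι)]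
    [PreservesFiniteLimits (Scheme.Modules.restrictFunctor (X.homOfLE (inf_le_left : U ⊓ V ≤ U)))]
    [PreservesFiniteLimits (Scheme.Modules.restrictFunctor (X.homOfLE (inf_le_right : U ⊓ V ≤ V)))]
    (A : DCoh.D (U : Scheme.{u})) (B : DCoh.D (V : Scheme.{u}))
    (c : (DCoh.restrictD (X.homOfLE (inf_le_left : U ⊓ V ≤ U))).obj A ≅
      (DCoh.restrictD (X.homOfLE (inf_le_right : U ⊓ V ≤ V))).obj B) :
    ∃ F : DCoh.D X, Nonempty ((DCoh.restrictD U.ι).obj F ≅ A) ∧
      Nonempty ((DCoh.restrictD V.ι).obj F ≅ B) := by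
  let W := U ⊓ V
  let A₀ := DerivedCategory.Q.objPreimage A
  let B₀ := DerivedCategory.Q.objPreimage B
  let A' : CochainComplex X.Modules ℤ := (mapCx (lsh U.ι)).obj A₀
  let B' : CochainComplex X.Modules ℤ := (mapCx (lsh V.ι)).obj B₀
  have eUnit : ∀ (O : X.Opens) [PreservesFiniteLimits (Scheme.Modules.restrictFunctor O.ι)]
      (C : CochainComplex (O : Scheme.{u}).Modules ℤ),
      Nonempty ((DCoh.restrictD O.ι).obj (DerivedCategory.Q.obj ((mapCx (lsh O.ι)).obj C)) ≅
        DerivedCategory.Q.obj C) := fun O _ C =>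
    ⟨(Scheme.Modules.restrictFunctor O.ι).mapDerivedCategoryFactors.app _ ≪≫
      DerivedCategory.Q.mapIso ((NatIso.mapHomologicalComplex (asIso (lshAdj O.ι).unit).symm
        (ComplexShape.up ℤ)).app C ≪≫ (Functor.mapHomologicalComplexIdIso _ _).app C)⟩
  obtain ⟨eA⟩ := eUnit U A₀
  obtain ⟨eB⟩ := eUnit V B₀
  let eA' := eA ≪≫ DerivedCategory.Q.objObjPreimageIso A
  let eB' := eB ≪≫ DerivedCategory.Q.objObjPreimageIso B
  obtain ⟨kA⟩ := nonempty_restrictD_comp (X.homOfLE (inf_le_left : W ≤ U)) U.ι W.ι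
    (X.homOfLE_ι _) (DerivedCategory.Q.obj A')
  obtain ⟨kB⟩ := nonempty_restrictD_comp (X.homOfLE (inf_le_right : W ≤ V)) V.ι W.ι
    (X.homOfLE_ι _) (DerivedCategory.Q.obj B')
  let γ : (DCoh.restrictD W.ι).obj (DerivedCategory.Q.obj A') ≅
      (DCoh.restrictD W.ι).obj (DerivedCategory.Q.obj B') :=
    kA ≪≫ (DCoh.restrictD _).mapIso eA' ≪≫ c ≪≫ (DCoh.restrictD _).mapIso eB'.symm ≪≫ kB.symm
  let ext : ∀ C : CochainComplex X.Modules ℤ,
      (lsh W.ι).mapDerivedCategory.obj ((DCoh.restrictD W.ι).obj (DerivedCategory.Q.obj C)) ≅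
        DerivedCategory.Q.obj ((mapCx (lshRes W)).obj C) := fun C =>
    (lsh W.ι).mapDerivedCategory.mapIso
      ((Scheme.Modules.restrictFunctor W.ι).mapDerivedCategoryFactors.app C) ≪≫
    (lsh W.ι).mapDerivedCategoryFactors.app _
  let θ := (ext A').symm ≪≫ (lsh W.ι).mapDerivedCategory.mapIso γ ≪≫ ext B'
  let cA : (mapCx (lshRes W)).obj A' ⟶ A' :=
    { f := fun n => (lshAdj W.ι).counit.app (A'.X n)
      comm' := fun i k _ => ((lshAdj W.ι).counit.naturality (A'.d i k)).symm }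
  let cB : (mapCx (lshRes W)).obj B' ⟶ B' :=
    { f := fun n => (lshAdj W.ι).counit.app (B'.X n)
      comm' := fun i k _ => ((lshAdj W.ι).counit.naturality (B'.d i k)).symm }
  let α := DerivedCategory.Q.map cA
  let β := θ.hom ≫ DerivedCategory.Q.map cB
  obtain ⟨F, b, d, hT⟩ := distinguished_cocone_triangle (biprod.lift α (-β))
  -- the counit is invertible on an open meeting the other open in `W`
  have hcoun : ∀ (O O' : X.Opens) [PreservesFiniteLimits (Scheme.Modules.restrictFunctor O.ι)]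
      (_ : O ⊓ O' ≤ W) (C : CochainComplex (O' : Scheme.{u}).Modules ℤ)
      (f : (mapCx (lshRes W)).obj ((mapCx (lsh O'.ι)).obj C) ⟶ (mapCx (lsh O'.ι)).obj C)
      (_ : ∀ n, f.f n = (lshAdj W.ι).counit.app (((mapCx (lsh O'.ι)).obj C).X n)),
      IsIso ((DCoh.restrictD O.ι).map (DerivedCategory.Q.map f)) := by
    intro O O' _ hO C f hf
    refine (NatIso.isIso_map_iff (Scheme.Modules.restrictFunctor O.ι).mapDerivedCategoryFactors f).2 ?_
    haveI : ∀ n, IsIso (((rCx O.ι).map f).f n) := fun n => by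
      refine isIso_restrict_of_stalk O (f.f n) fun x hx => ?_
      rw [hf]
      by_cases hx' : x ∈ O'
      · exact isIso_stalk_lsh_counit W _ x (hO ⟨hx, hx'⟩)
      · have h1 : x ∉ Set.range O'.ι.base := fun ⟨w, hw⟩ => hx' (hw ▸ w.2)
        have hz := isZero_stalk_lsh O'.ι x h1 (C.X n)
        by_cases hxW : x ∈ W
        · exact isIso_stalk_lsh_counit W _ x hxW
        · have h2 : x ∉ Set.range W.ι.base := fun ⟨w, hw⟩ => hxW (hw ▸ w.2)
          exact ⟨0, (isZero_stalk_lsh W.ι x h2 _).eq_of_src _ _, hz.eq_of_src _ _⟩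
    haveI : IsIso ((rCx O.ι).map f) := HomologicalComplex.Hom.isIso_of_components _
    exact Functor.map_isIso DerivedCategory.Q _
  refine ⟨F, ?_, ?_⟩
  · let R := DCoh.restrictD U.ι
    have h' := R.map_distinguished _ hT
    haveI : IsIso (R.map β) := by
      haveI := hcoun U V le_rfl B₀ cB fun _ => rfl
      rw [R.map_comp]
      infer_instance
    haveI := isIso_map_inl_of_triangle R _ b d hT (by
      rw [biprod.lift_snd, R.map_neg]
      exact ⟨-inv (R.map β), by simp, by simp⟩)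
    exact ⟨(asIso (R.map (biprod.inl ≫ b))).symm ≪≫ eA'⟩
  · let R := DCoh.restrictD V.ι
    have h' := R.map_distinguished _ hT
    haveI : IsIso (R.map α) := hcoun V U (le_of_eq (inf_comm V U)) A₀ cA fun _ => rfl
    let σ := biprod.braiding (DerivedCategory.Q.obj A') (DerivedCategory.Q.obj B')
    have hT' : Triangle.mk (biprod.lift α (-β) ≫ σ.hom) (σ.inv ≫ b) d ∈ distTriang _ := by
      refine isomorphic_distinguished _ hT _ (Triangle.isoMk _ _ (Iso.refl _) σ.symm (Iso.refl _) ?_ ?_ ?_)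
      · change (biprod.lift α (-β) ≫ σ.hom) ≫ σ.inv = 𝟙 _ ≫ biprod.lift α (-β)
        simp
      · change (σ.inv ≫ b) ≫ 𝟙 _ = σ.inv ≫ b
        simp
      · change d ≫ (𝟙 _)⟦(1 : ℤ)⟧' = 𝟙 _ ≫ d
        rw [CategoryTheory.Functor.map_id, Category.id_comp]
        exact Category.comp_id _
    haveI := isIso_map_inl_of_triangle R _ _ _ hT' (by
      simpa [σ] using (inferInstance : IsIso (R.map α)))
    exact ⟨(asIso (R.map (biprod.inl ≫ σ.inv ≫ b))).symm ≪≫ eB'⟩

end Groth.Agent.KFlatLib
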