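import Groth.Agent.KFlatLib.Scheme.AffinePush
import Groth.Agent.QCoh.Pullback
import Groth.Prelude.Def_DDual2

/-!
# `Rf_* (M^~) = (M restricted)^~` for `f : Spec B ⟶ Spec A`
-/

set_option linter.style.haveILetI false

universe u

open CategoryTheory CategoryTheory.Limits AlgebraicGeometry

attribute [local instance] HasDerivedCategory.standard

namespace Groth.Agent.KFlatLib

variable {A B : CommRingCat.{u}} (g : A ⟶ B)

lemma isIso_counit_push (M : ModuleCat.{u} B) :
    IsIso ((tilde.adjunction (R := A)).counit.app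
      ((Scheme.Modules.pushforward (Spec.map g)).obj ((tilde.functor B).obj M))) := by
  haveI : IsIso (Scheme.Modules.fromTildeΓ ((tilde.functor B).obj M)) :=
    (isQuasicoherent_iff_isIso_fromTildeΓ _).1 (QCoh.isQCoh_spec_iff.2 ⟨M, ⟨Iso.refl _⟩⟩)
  exact isIso_fromTildeΓ_pushforward g _

/-- `f_* (M^~) = (M restricted to A)^~`. -/
noncomputable def pushTildeIso :
    tilde.functor B ⋙ Scheme.Modules.pushforward (Spec.map g) ≅
      ModuleCat.restrictScalars.{u} g.hom ⋙ tilde.functor A :=
  haveI : ∀ M, IsIso ((Functor.whiskerLeft (tilde.functor B ⋙ Scheme.Modules.pushforward (Spec.map g))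
      (tilde.adjunction (R := A)).counit).app M) := isIso_counit_push g
  haveI := NatIso.isIso_of_isIso_app
    (Functor.whiskerLeft (tilde.functor B ⋙ Scheme.Modules.pushforward (Spec.map g))
      (tilde.adjunction (R := A)).counit)
  (Functor.rightUnitor _).symm ≪≫
    (asIso (Functor.whiskerLeft (tilde.functor B ⋙ Scheme.Modules.pushforward (Spec.map g))
      (tilde.adjunction (R := A)).counit)).symm ≪≫
    Functor.isoWhiskerLeft (tilde.functor B)
      ((Functor.associator _ _ _).symm ≪≫ Functor.isoWhiskerRight (QCoh.ΓPushIso g) (tilde.functor A)) ≪≫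
    NatIso.ofComponents (fun M => (tilde.functor A).mapIso ((ModuleCat.restrictScalars g.hom).mapIso
      (asIso ((tilde.adjunction (R := B)).unit.app M)).symm))
      (fun {M N} a => by
        have h := (tilde.adjunction (R := B)).unit.naturality a
        simp only [Functor.id_map] at h
        dsimp
        rw [← Functor.map_comp, ← Functor.map_comp, ← Functor.map_comp, ← Functor.map_comp]
        congr 2
        rw [IsIso.eq_inv_comp, ← Category.assoc, IsIso.comp_inv_eq]
        exact h.symm)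

variable [PreservesFiniteLimits (tilde.functor A)] [PreservesFiniteLimits (tilde.functor B)]

/-- `Rf_* ∘ ~ = ~ ∘ restriction` on derived categories. -/
lemma nonempty_tildeD_rpush_iso [DCoh.HasRpush (Spec.map g)] :
    Nonempty (DCoh.tildeD B ⋙ DCoh.Rpush (Spec.map g) ≅
      (ModuleCat.restrictScalars.{u} g.hom).mapDerivedCategory ⋙ DCoh.tildeD A) := by
  let f := Spec.map g
  let tB := (tilde.functor B).mapHomologicalComplex (ComplexShape.up ℤ)
  let tA := (tilde.functor A).mapHomologicalComplex (ComplexShape.up ℤ)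
  let qB := HomotopyCategory.quotient (Spec B).Modules (ComplexShape.up ℤ)
  let qA := HomotopyCategory.quotient (Spec A).Modules (ComplexShape.up ℤ)
  let pC := (Scheme.Modules.pushforward f).mapHomologicalComplex (ComplexShape.up ℤ)
  let r := (ModuleCat.restrictScalars.{u} g.hom).mapHomologicalComplex (ComplexShape.up ℤ)
  let W := HomologicalComplex.quasiIso (ModuleCat.{u} B) (ComplexShape.up ℤ)
  let α := (DCoh.pushKh f).totalRightDerivedUnit DerivedCategory.Qh
    (HomotopyCategory.quasiIso (Spec B).Modules (ComplexShape.up ℤ))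
  haveI : ∀ M, IsIso ((Functor.whiskerLeft (tB ⋙ qB) α).app M) := fun M =>
    isIso_unit_of_isAffineHom f (tB.obj M)
      (fun n => QCoh.isQCoh_spec_iff.2 ⟨M.X n, ⟨Iso.refl _⟩⟩)
  haveI := NatIso.isIso_of_isIso_app (Functor.whiskerLeft (tB ⋙ qB) α)
  let e₁ : DerivedCategory.Q ⋙ DCoh.tildeD B ⋙ DCoh.Rpush f ≅ (tB ⋙ qB) ⋙ DCoh.pushKh f :=
    (Functor.associator _ _ _).symm ≪≫
      Functor.isoWhiskerRight ((tilde.functor B).mapDerivedCategoryFactors ≪≫
        Functor.isoWhiskerLeft tB (DerivedCategory.quotientCompQhIso _).symm) (DCoh.Rpush f) ≪≫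
      Functor.associator _ _ _ ≪≫ Functor.isoWhiskerLeft tB (Functor.associator _ _ _) ≪≫
      (Functor.associator _ _ _).symm ≪≫
      (asIso (Functor.whiskerLeft (tB ⋙ qB) α)).symm
  let e₂ : (tB ⋙ qB) ⋙ DCoh.pushKh f ≅ (tB ⋙ pC) ⋙ DerivedCategory.Q :=
    Functor.associator _ _ _ ≪≫ Functor.isoWhiskerLeft tB
      ((Functor.associator _ _ _).symm ≪≫
        Functor.isoWhiskerRight ((Scheme.Modules.pushforward f).mapHomotopyCategoryFactors _) _ ≪≫
        Functor.associator _ _ _ ≪≫
        Functor.isoWhiskerLeft pC (DerivedCategory.quotientCompQhIso _)) ≪≫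
      (Functor.associator _ _ _).symm
  let e₃ : tB ⋙ pC ≅ r ⋙ tA := NatIso.ofComponents
    (fun M => HomologicalComplex.Hom.isoOfComponents (fun n => (pushTildeIso g).app (M.X n))
      (fun i j _ => ((pushTildeIso g).hom.naturality (M.d i j)).symm))
    (fun a => by ext n : 1; exact (pushTildeIso g).hom.naturality (a.f n))
  let e₄ : (r ⋙ tA) ⋙ DerivedCategory.Q ≅
      DerivedCategory.Q ⋙ (ModuleCat.restrictScalars.{u} g.hom).mapDerivedCategory ⋙ DCoh.tildeD A :=
    Functor.associator _ _ _ ≪≫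
      Functor.isoWhiskerLeft r ((tilde.functor A).mapDerivedCategoryFactors).symm ≪≫
      (Functor.associator _ _ _).symm ≪≫
      Functor.isoWhiskerRight ((ModuleCat.restrictScalars.{u} g.hom).mapDerivedCategoryFactors).symm _ ≪≫
      Functor.associator _ _ _
  letI : Localization.Lifting DerivedCategory.Q W
      (DerivedCategory.Q ⋙ DCoh.tildeD B ⋙ DCoh.Rpush f) (DCoh.tildeD B ⋙ DCoh.Rpush f) := ⟨Iso.refl _⟩
  letI : Localization.Lifting DerivedCategory.Q W
      (DerivedCategory.Q ⋙ (ModuleCat.restrictScalars.{u} g.hom).mapDerivedCategory ⋙ DCoh.tildeD A)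
      ((ModuleCat.restrictScalars.{u} g.hom).mapDerivedCategory ⋙ DCoh.tildeD A) := ⟨Iso.refl _⟩
  exact ⟨Localization.liftNatIso DerivedCategory.Q W _ _ _ _
    (e₁ ≪≫ e₂ ≪≫ Functor.isoWhiskerRight e₃ _ ≪≫ e₄)⟩

end Groth.Agent.KFlatLib
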