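import Groth.Agent.KFlatLib.Scheme.Adjoint
import Groth.Agent.KFlatLib.Scheme.AffinePush
import Groth.Agent.KFlatLib.Scheme.ProjLocFree
import Groth.Agent.KFlatLib.Scheme.RpushRestrict
import Groth.Agent.KFlatLib.Scheme.TildePush
import Groth.Agent.KFlatLib.Scheme.TildeD
import Groth.Agent.KFlatLib.Scheme.TildePC
import Groth.Agent.KFlatLib.Scheme.LocalDevissage
import Groth.Agent.KFlatLib.Scheme.GlueD
import Groth.Agent.KFlatLib.Scheme.CohD
import Groth.Agent.KFlatLib.Scheme.RpushUnbounded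
import Groth.Agent.QCoh.Tilde
import Groth.Agent.S6940
import Groth.Agent.S1004

/-!
# `Rf_*` of an affine morphism on affine charts
-/

set_option linter.style.haveILetI false
set_option backward.isDefEq.respectTransparency false

universe u

open CategoryTheory CategoryTheory.Limits AlgebraicGeometry

attribute [local instance] HasDerivedCategory.standard

namespace Groth.Agent.KFlatLib.AffineRpush

variable {X Y : Scheme.{u}}

/-- Restriction along an isomorphism of schemes. -/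
noncomputable def restrictEquiv (e : X ≅ Y) : Y.Modules ≌ X.Modules :=
  CategoryTheory.Equivalence.mk (Scheme.Modules.restrictFunctor e.hom) (Scheme.Modules.restrictFunctor e.inv)
    (Scheme.Modules.restrictFunctorId.symm ≪≫ Scheme.Modules.restrictFunctorCongr e.inv_hom_id.symm ≪≫
      Scheme.Modules.restrictFunctorComp e.inv e.hom)
    ((Scheme.Modules.restrictFunctorComp e.hom e.inv).symm ≪≫ Scheme.Modules.restrictFunctorCongr e.hom_inv_id ≪≫
      Scheme.Modules.restrictFunctorId)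

/-- Pushing forward along an isomorphism is restricting along the inverse. -/
noncomputable def pushIso (e : X ≅ Y) :
    Scheme.Modules.pushforward e.hom ≅ Scheme.Modules.restrictFunctor e.inv :=
  (Scheme.Modules.restrictAdjunction e.hom).rightAdjointUniq (restrictEquiv e).toAdjunction

/-- `Re_* = e⁻¹ restriction` for an isomorphism. -/
lemma nonempty_rpush_iso_inv (e : X ≅ Y) [DCoh.HasRpush e.hom] (F : DCoh.D X) :
    Nonempty ((DCoh.Rpush e.hom).obj F ≅ (rho e.inv).obj F) := by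
  obtain ⟨I, s, hI, hs⟩ := exists_kInjective_res (DerivedCategory.Q.objPreimage F)
  let eI : DerivedCategory.Q.obj I ≅ F :=
    (asIso (DerivedCategory.Q.map s)).symm ≪≫ DerivedCategory.Q.objObjPreimageIso F
  obtain ⟨a⟩ := nonempty_rpush_iso_of_kInjective e.hom eI
  exact ⟨a ≪≫ DerivedCategory.Q.mapIso
      ((NatIso.mapHomologicalComplex (pushIso e) (ComplexShape.up ℤ)).app I) ≪≫
    ((rhoQ e.inv).app I).symm ≪≫ (rho e.inv).mapIso eI⟩

/-- `Rf_* (M[0]) = (f_* M)[0]` for an affine morphism. -/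
lemma nonempty_rpush_inD (f : X ⟶ Y) [IsAffineHom f] [DCoh.HasRpush f] (M : X.Modules) (hM : Coh.IsQCoh M) :
    Nonempty ((DCoh.Rpush f).obj (DCoh.inD X M) ≅ DCoh.inD Y ((Scheme.Modules.pushforward f).obj M)) := by
  let C := (HomologicalComplex.single X.Modules (ComplexShape.up ℤ) 0).obj M
  have hC : ∀ n, Coh.IsQCoh (C.X n) := fun n => by
    by_cases hn : n = 0
    · subst hn
      exact isQCoh_of_iso (HomologicalComplex.singleObjXSelf (ComplexShape.up ℤ) 0 M).symm hM
    · exact isQCoh_of_isZero (HomologicalComplex.isZero_single_obj_X _ _ _ _ hn)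
  haveI := isIso_unit_of_isAffineHom f C hC
  let q := HomotopyCategory.quotient X.Modules (ComplexShape.up ℤ)
  let α := (DCoh.pushKh f).totalRightDerivedUnit DerivedCategory.Qh
    (HomotopyCategory.quasiIso X.Modules (ComplexShape.up ℤ))
  exact ⟨(DCoh.Rpush f).mapIso ((DerivedCategory.singleFunctorIsoCompQ X.Modules 0).app M ≪≫
      ((DerivedCategory.quotientCompQhIso X.Modules).app C).symm) ≪≫
    (asIso (α.app (q.obj C))).symm ≪≫
    DerivedCategory.Qh.mapIso (((Scheme.Modules.pushforward f).mapHomotopyCategoryFactors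
      (ComplexShape.up ℤ)).app C) ≪≫ (DerivedCategory.quotientCompQhIso Y.Modules).app _ ≪≫
    DerivedCategory.Q.mapIso ((HomologicalComplex.singleMapHomologicalComplex
      (Scheme.Modules.pushforward f) (ComplexShape.up ℤ) 0).app M) ≪≫
    ((DerivedCategory.singleFunctorIsoCompQ Y.Modules 0).app _).symm⟩

variable (f : X ⟶ Y) [IsAffineHom f] {V : Y.Opens} (hV : IsAffineOpen V)

/-- The ring map of an affine chart. -/
noncomputable abbrev chartMap : Γ(V, ⊤) ⟶ Γ(f ⁻¹ᵁ V, ⊤) := (f ∣_ V).appTop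

/-- The chart upstairs. -/
noncomputable abbrev chartTop : Spec Γ(f ⁻¹ᵁ V, ⊤) ⟶ X :=
  haveI : IsAffine (f ⁻¹ᵁ V : Scheme.{u}) := hV.preimage f
  (Scheme.isoSpec (f ⁻¹ᵁ V : Scheme.{u})).inv ≫ (f ⁻¹ᵁ V).ι

/-- The chart downstairs. -/
noncomputable abbrev chartBot : Spec Γ(V, ⊤) ⟶ Y :=
  haveI : IsAffine (V : Scheme.{u}) := hV
  (Scheme.isoSpec (V : Scheme.{u})).inv ≫ V.ι

instance : IsOpenImmersion (chartTop f hV) := by dsimp only [chartTop]; infer_instance

instance : IsOpenImmersion (chartBot hV) := by dsimp only [chartBot]; infer_instance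

/-- `Rf_*` on affine charts is restriction of scalars. -/
theorem nonempty_chart_rpush [DCoh.HasRpush f] [PreservesFiniteLimits (tilde.functor Γ(V, ⊤))]
    [PreservesFiniteLimits (tilde.functor Γ(f ⁻¹ᵁ V, ⊤))] (E : DCoh.D X)
    (M : DerivedCategory (ModuleCat.{u} Γ(f ⁻¹ᵁ V, ⊤)))
    (eM : (rho (chartTop f hV)).obj E ≅ (DCoh.tildeD _).obj M) :
    Nonempty ((rho (chartBot hV)).obj ((DCoh.Rpush f).obj E) ≅
      (DCoh.tildeD Γ(V, ⊤)).obj ((ModuleCat.restrictScalars.{u} (chartMap f (V := V)).hom).mapDerivedCategory.obj M)) := by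
  haveI : IsAffine (V : Scheme.{u}) := hV
  haveI : IsAffine (f ⁻¹ᵁ V : Scheme.{u}) := hV.preimage f
  let W : Scheme.{u} := (f ⁻¹ᵁ V : Scheme.{u})
  let iW := Scheme.isoSpec W
  let iV := Scheme.isoSpec (V : Scheme.{u})
  let g := Spec.map (chartMap f (V := V))
  haveI := hasRpush_scheme (f ∣_ V)
  haveI := hasRpush_scheme iV.hom
  haveI := hasRpush_scheme iW.hom
  haveI := hasRpush_scheme g
  haveI := hasRpush_scheme ((f ∣_ V) ≫ iV.hom)
  haveI := hasRpush_scheme (iW.hom ≫ g)
  obtain ⟨r⟩ := nonempty_rpush_restrictD_iso f V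
  obtain ⟨c₁⟩ := nonempty_rpush_comp (f ∣_ V) iV.hom
  obtain ⟨c₂⟩ := nonempty_rpush_comp iW.hom g
  have heq : (f ∣_ V) ≫ iV.hom = iW.hom ≫ g := (Scheme.isoSpec_hom_naturality (f ∣_ V)).symm
  let EW := (rho (f ⁻¹ᵁ V).ι).obj E
  obtain ⟨a₁⟩ := nonempty_rpush_iso_inv iV ((DCoh.Rpush (f ∣_ V)).obj EW)
  obtain ⟨a₂⟩ := nonempty_rpush_iso_inv iW EW
  obtain ⟨t⟩ := nonempty_tildeD_rpush_iso (chartMap f (V := V))
  have e₀ : Nonempty ((DCoh.Rpush ((f ∣_ V) ≫ iV.hom)).obj EW ≅ (DCoh.Rpush (iW.hom ≫ g)).obj EW) := by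
    revert heq
    generalize (f ∣_ V) ≫ iV.hom = a at *
    rintro rfl
    exact ⟨Iso.refl _⟩
  obtain ⟨e₀⟩ := e₀
  exact ⟨(rhoComp iV.inv V.ι (chartBot hV) rfl _).symm ≪≫ (rho iV.inv).mapIso (r.app E) ≪≫ a₁.symm ≪≫
    c₁.app EW ≪≫ e₀ ≪≫ (c₂.app EW).symm ≪≫ (DCoh.Rpush g).mapIso
      (a₂ ≪≫ rhoComp iW.inv (f ⁻¹ᵁ V).ι (chartTop f hV) rfl E ≪≫ eM) ≪≫ t.app M⟩

omit [IsAffineHom f] in
/-- Pseudo-coherence can be tested on charts. -/
lemma locPC_of_charts {m : ℤ} (K : DCoh.D Y)
    (h : ∀ (V : Y.Opens) (hV : IsAffineOpen V), LocPC m ((rho (chartBot hV)).obj K)) : LocPC m K := by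
  refine LocPC.of_local fun y => ?_
  obtain ⟨V, hV, hy, -⟩ := exists_isAffineOpen_mem_and_subset (x := y) (U := ⊤) trivial
  haveI : IsAffine (V : Scheme.{u}) := hV
  exact ⟨_, chartBot hV, inferInstance,
    ⟨(Scheme.isoSpec (V : Scheme.{u})).hom.base ⟨y, hy⟩, by
      rw [← Scheme.Hom.comp_apply, Iso.hom_inv_id_assoc]; rfl⟩, h V hV⟩

/-- Pseudo-coherence of `Rf_* E` for a finite morphism with pseudo-coherent direct image of `O`. -/
theorem pseudoCoherent_iff [DCoh.HasRpush f]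
    (hO : ∀ m : ℤ, DCoh.IsPseudoCoherentD m (DCoh.inD Y ((Scheme.Modules.pushforward f).obj (Coh.structureModule X))))
    (E : DCoh.D X) (hE : DCoh.IsQCohD E) (m : ℤ) :
    DCoh.IsPseudoCoherentD m E ↔ DCoh.IsPseudoCoherentD m ((DCoh.Rpush f).obj E) := by
  obtain ⟨eO⟩ := nonempty_rpush_inD f (Coh.structureModule X) QCoh.isQCoh_structureModule
  have key : ∀ (V : Y.Opens) (hV : IsAffineOpen V),
      LocPC m ((rho (chartTop f hV)).obj E) ↔ LocPC m ((rho (chartBot hV)).obj ((DCoh.Rpush f).obj E)) := by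
    intro V hV
    let A := Γ(V, ⊤)
    let B := Γ(f ⁻¹ᵁ V, ⊤)
    haveI : PreservesFiniteLimits (tilde.functor A) := QCoh.tilde_preservesFiniteLimits
    haveI : PreservesFiniteLimits (tilde.functor B) := QCoh.tilde_preservesFiniteLimits
    haveI : (tilde.functor B).Additive := tilde_additive _
    haveI : PreservesFiniteColimits (tilde.functor B) := QCoh.tilde_preservesFiniteColimits
    letI : Algebra A B := (chartMap f (V := V)).hom.toAlgebra
    obtain ⟨M, ⟨eM⟩⟩ := exists_tildeD_iso (R := B) (isQCohD_rho (chartTop f hV) hE)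
    obtain ⟨eE⟩ := nonempty_chart_rpush f hV E M eM.symm
    let eo := ((Scheme.Modules.restrictFunctor (chartTop f hV)).mapDerivedCategorySingleFunctor 0).app (Coh.structureModule X)
    let eB : (rho (chartTop f hV)).obj (DCoh.inD X (Coh.structureModule X)) ≅
        (DCoh.tildeD B).obj (Dual.inD B B) :=
      eo ≪≫ (DerivedCategory.singleFunctor (Spec B).Modules 0).mapIso
          (restrictStructureIso (chartTop f hV) ≪≫ tildeSelf.symm) ≪≫
        (((tilde.functor B).mapDerivedCategorySingleFunctor 0).app (ModuleCat.of B B)).symm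
    obtain ⟨eO'⟩ := nonempty_chart_rpush f hV (DCoh.inD X (Coh.structureModule X)) _ eB
    have hB : DRing.IsPseudoCoherentModule' A B := by
      refine (H9Misc.DRingPC.pc'_iff _).2 fun n => ?_
      have h1 := (Groth.Agent.S1004.result A _ n).1 ((isPseudoCoherentD_iff _ _).2
        (((((isPseudoCoherentD_iff _ _).1 (hO n)).of_iso eO.symm).restrict (chartBot hV)).of_iso eO'))
      exact H9Misc.DRingPC.of_iso (((ModuleCat.restrictScalars.{u} (algebraMap A B)).mapDerivedCategorySingleFunctor 0).app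
        (ModuleCat.of B B)) h1
    have h2 : LocPC m ((rho (chartTop f hV)).obj E) ↔ DRing.IsPseudoCoherent B m M :=
      ⟨fun h => (Groth.Agent.S1004.result B M m).1 ((isPseudoCoherentD_iff _ _).2 (h.of_iso eM.symm)),
        fun h => ((isPseudoCoherentD_iff _ _).1 ((Groth.Agent.S1004.result B M m).2 h)).of_iso eM⟩
    have h3 : LocPC m ((rho (chartBot hV)).obj ((DCoh.Rpush f).obj E)) ↔
        DRing.IsPseudoCoherent A m ((DRing.restrictD (algebraMap A B)).obj M) :=
      ⟨fun h => (Groth.Agent.S1004.result A _ m).1 ((isPseudoCoherentD_iff _ _).2 (h.of_iso eE)),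
        fun h => ((isPseudoCoherentD_iff _ _).1 ((Groth.Agent.S1004.result A _ m).2 h)).of_iso eE.symm⟩
    rw [h2, h3]
    exact (Groth.Agent.S6940.result hB M m).1
  rw [isPseudoCoherentD_iff, isPseudoCoherentD_iff]
  constructor
  · exact fun h => locPC_of_charts _ fun V hV => (key V hV).1 (h.restrict _)
  · intro h
    refine LocPC.of_local fun x => ?_
    obtain ⟨V, hV, hy, -⟩ := exists_isAffineOpen_mem_and_subset (x := f.base x) (U := ⊤) trivial
    haveI : IsAffine (f ⁻¹ᵁ V : Scheme.{u}) := hV.preimage f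
    exact ⟨_, chartTop f hV, inferInstance,
      ⟨(Scheme.isoSpec (f ⁻¹ᵁ V : Scheme.{u})).hom.base ⟨x, hy⟩, by
        rw [← Scheme.Hom.comp_apply, Iso.hom_inv_id_assoc]; rfl⟩, (key V hV).2 (h.restrict _)⟩

end Groth.Agent.KFlatLib.AffineRpush
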