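import Groth.Agent.KFlatLib.Scheme.PullCx
import Groth.Prelude.Def_DCoh4
import Mathlib.Algebra.Homology.Localization
import Mathlib.Algebra.Homology.DerivedCategory.Basic

/-!
# Existence of the left derived functors on `D(O_X)`
-/

set_option linter.style.haveILetI false

universe u

open CategoryTheory CategoryTheory.Limits AlgebraicGeometry

attribute [local instance] HasDerivedCategory.standard

namespace Groth.Agent.KFlatLib

variable {X Y : Scheme.{u}}

/-- Quasi-isomorphisms of complexes of modules. -/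
noncomputable abbrev qisX (X : Scheme.{u}) : MorphismProperty (CochainComplex X.Modules ℤ) :=
  HomologicalComplex.quasiIso X.Modules (ComplexShape.up ℤ)

lemma isIso_Q_map {K L : CochainComplex X.Modules ℤ} (φ : K ⟶ L) (h : QuasiIso φ) :
    IsIso (DerivedCategory.Q.map φ) :=
  (DerivedCategory.isIso_Q_map_iff_quasiIso (C := X.Modules) φ).2 h

/-- Resolution for `- ⊗ E`. -/
noncomputable def resTensor (E : CochainComplex X.Modules ℤ) :
    Resolution (qisX X) (DCoh.tensorCxQ E) where
  Good := DCoh.IsKFlat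
  P := kRes X
  ψ := (flatCover X).ψ
  good := isKFlat_kRes
  weq K := (flatCover X).quasiIso_ψ K
  inverts _ _ α hP hQ (hα : QuasiIso α) :=
    haveI := hα
    isIso_Q_map _ (quasiIso_tensorCx_flip_of_isKFlat α hP hQ E)

/-- `- ⊗^L E` exists. -/
lemma hasLTensorCx (E : CochainComplex X.Modules ℤ) : DCoh.HasLTensorCx E :=
  (resTensor E).hasLeftDerivedFunctor DerivedCategory.Q

/-- The derived tensor product is computed by K-flat complexes. -/
lemma isIso_LTensorCx_counit (E : CochainComplex X.Modules ℤ) [DCoh.HasLTensorCx E]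
    {K : CochainComplex X.Modules ℤ} (hK : DCoh.IsKFlat K) :
    IsIso (((DCoh.tensorCxQ E).totalLeftDerivedCounit DerivedCategory.Q (qisX X)).app K) :=
  (resTensor E).isIso_totalLeftDerivedCounit DerivedCategory.Q hK

/-- The descended functor of complexes. -/
noncomputable def quotientMapIso (F : Y.Modules ⥤ X.Modules) [F.Additive] :
    HomotopyCategory.quotient Y.Modules (ComplexShape.up ℤ) ⋙
        F.mapHomotopyCategory (ComplexShape.up ℤ) ⋙ DerivedCategory.Qh ≅
      F.mapHomologicalComplex (ComplexShape.up ℤ) ⋙ DerivedCategory.Q :=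
  (Functor.associator _ _ _).symm ≪≫
    Functor.isoWhiskerRight (F.mapHomotopyCategoryFactors (ComplexShape.up ℤ)) _ ≪≫
    Functor.associator _ _ _ ≪≫
    Functor.isoWhiskerLeft _ (DerivedCategory.quotientCompQhIso X.Modules)

/-- Resolution for an additive functor preserving quasi-isomorphisms between K-flat complexes. -/
noncomputable def resOfFunctor (F : Y.Modules ⥤ X.Modules) [F.Additive]
    (h : ∀ ⦃P Q : CochainComplex Y.Modules ℤ⦄ (α : P ⟶ Q), DCoh.IsKFlat P → DCoh.IsKFlat Q →
      QuasiIso α → QuasiIso ((F.mapHomologicalComplex (ComplexShape.up ℤ)).map α)) :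
    Resolution (qisX Y) (HomotopyCategory.quotient Y.Modules (ComplexShape.up ℤ) ⋙
      F.mapHomotopyCategory (ComplexShape.up ℤ) ⋙ DerivedCategory.Qh) where
  Good := DCoh.IsKFlat
  P := kRes Y
  ψ := (flatCover Y).ψ
  good := isKFlat_kRes
  weq K := (flatCover Y).quasiIso_ψ K
  inverts _ _ α hP hQ hα := by
    have := isIso_Q_map _ (h α hP hQ hα)
    exact ((NatIso.isIso_map_iff (quotientMapIso F) α)).2 this

lemma hasLeftDerived_of_functor (F : Y.Modules ⥤ X.Modules) [F.Additive]
    (h : ∀ ⦃P Q : CochainComplex Y.Modules ℤ⦄ (α : P ⟶ Q), DCoh.IsKFlat P → DCoh.IsKFlat Q →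
      QuasiIso α → QuasiIso ((F.mapHomologicalComplex (ComplexShape.up ℤ)).map α)) :
    (F.mapHomotopyCategory (ComplexShape.up ℤ) ⋙ DerivedCategory.Qh).HasLeftDerivedFunctor
      (HomotopyCategory.quasiIso Y.Modules (ComplexShape.up ℤ)) :=
  (resOfFunctor F h).hasLeftDerivedFunctor' DerivedCategory.Q DerivedCategory.Qh
    (HomotopyCategory.quotient Y.Modules (ComplexShape.up ℤ))
    (HomologicalComplex.homotopyEquivalences Y.Modules (ComplexShape.up ℤ))
    (DerivedCategory.quotientCompQhIso Y.Modules) _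

lemma quasiIso_tensorRightMod (M : X.Modules) {P Q : CochainComplex X.Modules ℤ} (α : P ⟶ Q)
    (hP : DCoh.IsKFlat P) (hQ : DCoh.IsKFlat Q) [QuasiIso α] :
    QuasiIso (((DCoh.tensorRightMod M).mapHomologicalComplex (ComplexShape.up ℤ)).map α) := by
  haveI := quasiIso_tensorCx_flip_of_isKFlat α hP hQ
    ((HomologicalComplex.single X.Modules (ComplexShape.up ℤ) 0).obj M)
  exact (quasiIso_iff_of_arrow_mk_iso _ _
    (((Functor.mapArrowFunctor _ _).mapIso (singleIso DCoh.tensorBi M)).app (Arrow.mk α))).1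
      (by assumption)

/-- `- ⊗^L M` exists for a module `M`. -/
lemma hasLTensorMod (M : X.Modules) : DCoh.HasLTensorMod M :=
  hasLeftDerived_of_functor (DCoh.tensorRightMod M)
    fun _ _ α hP hQ hα => haveI := hα; quasiIso_tensorRightMod M α hP hQ

/-- `Lf^*` exists. -/
lemma hasLpull (f : X ⟶ Y) : DCoh.HasLpull f :=
  hasLeftDerived_of_functor (Scheme.Modules.pullback f)
    fun _ _ α hP hQ hα => haveI := hα; quasiIso_pullback f α hP hQ

/-- `Lf^*` is computed by K-flat complexes. -/
lemma isIso_Lpull_counit (f : X ⟶ Y) [DCoh.HasLpull f] {K : CochainComplex Y.Modules ℤ}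
    (hK : DCoh.IsKFlat K) :
    IsIso (((DCoh.pullKh f).totalLeftDerivedCounit DerivedCategory.Qh
      (HomotopyCategory.quasiIso Y.Modules (ComplexShape.up ℤ))).app
        ((HomotopyCategory.quotient Y.Modules (ComplexShape.up ℤ)).obj K)) :=
  (resOfFunctor (Scheme.Modules.pullback f)
      (fun _ _ α hP hQ hα => haveI := hα; quasiIso_pullback f α hP hQ)).isIso_totalLeftDerivedCounit'
    DerivedCategory.Q DerivedCategory.Qh
    (HomotopyCategory.quotient Y.Modules (ComplexShape.up ℤ))
    (HomologicalComplex.homotopyEquivalences Y.Modules (ComplexShape.up ℤ))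
    (DerivedCategory.quotientCompQhIso Y.Modules) _ hK

/-- `- ⊗^L M` is computed by K-flat complexes. -/
lemma isIso_LTensorMod_counit (M : X.Modules) [DCoh.HasLTensorMod M] {K : CochainComplex X.Modules ℤ}
    (hK : DCoh.IsKFlat K) :
    IsIso (((DCoh.tensorModKh M).totalLeftDerivedCounit DerivedCategory.Qh
      (HomotopyCategory.quasiIso X.Modules (ComplexShape.up ℤ))).app
        ((HomotopyCategory.quotient X.Modules (ComplexShape.up ℤ)).obj K)) :=
  (resOfFunctor (DCoh.tensorRightMod M)
      (fun _ _ α hP hQ hα => haveI := hα; quasiIso_tensorRightMod M α hP hQ)).isIso_totalLeftDerivedCounit'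
    DerivedCategory.Q DerivedCategory.Qh
    (HomotopyCategory.quotient X.Modules (ComplexShape.up ℤ))
    (HomologicalComplex.homotopyEquivalences X.Modules (ComplexShape.up ℤ))
    (DerivedCategory.quotientCompQhIso X.Modules) _ hK

end Groth.Agent.KFlatLib
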