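import Groth.Agent.KFlatLib.Scheme.Sky
import Groth.Agent.KFlatLib.Scheme.PullTensorCx
import Groth.Agent.KFlatLib.Scheme.Derived
import Mathlib.Algebra.Category.ModuleCat.Sheaf.PullbackContinuous
import Mathlib.CategoryTheory.Adjunction.Triple
import Mathlib.CategoryTheory.Adjunction.Additive

/-!
# Extension by zero along an open immersion of schemes, and the projection formula
-/

set_option linter.style.haveILetI false
set_option backward.isDefEq.respectTransparency false

universe u

open CategoryTheory CategoryTheory.Limits AlgebraicGeometry TopologicalSpace Opposite MonoidalCategory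

namespace Groth.Agent.KFlatLib

variable {U X : Scheme.{u}} (j : U ⟶ X) [IsOpenImmersion j]

instance isRightAdjoint_restrictFunctor : (Scheme.Modules.restrictFunctor j).IsRightAdjoint := by
  have h : ∀ (φ : U.ringCatSheaf ⟶ (j.opensFunctor.sheafPushforwardContinuous RingCat.{u}
      (Opens.grothendieckTopology U) (Opens.grothendieckTopology X)).obj X.ringCatSheaf),
      (SheafOfModules.pushforward.{u} φ).IsRightAdjoint := by
    intro φ
    have h1 : (PresheafOfModules.pushforward.{u} (F := j.opensFunctor) (R := X.ringCatSheaf.obj)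
      φ.hom).IsRightAdjoint := inferInstance
    exact @inferInstance _ (by infer_instance)
  exact h _

/-- Extension by zero. -/
noncomputable def lsh : U.Modules ⥤ X.Modules := (Scheme.Modules.restrictFunctor j).leftAdjoint

/-- Extension by zero is left adjoint to restriction. -/
noncomputable def lshAdj : lsh j ⊣ Scheme.Modules.restrictFunctor j :=
  Adjunction.ofIsRightAdjoint _

instance : (lsh j).IsLeftAdjoint := (lshAdj j).isLeftAdjoint

instance additive_lsh : (lsh j).Additive := (lshAdj j).left_adjoint_additive

instance isIso_lshAdj_unit : IsIso (lshAdj j).unit := by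
  let t : Adjunction.Triple (lsh j) (Scheme.Modules.restrictFunctor j) (Scheme.Modules.pushforward j) :=
    ⟨lshAdj j, Scheme.Modules.restrictAdjunction j⟩
  have h := t.fullyFaithfulEquiv.symm (Scheme.Modules.restrictAdjunction j).fullyFaithfulROfIsIsoCounit
  haveI := h.full
  haveI := h.faithful
  infer_instance

/-- A section map into the skyscraper of the stalk. -/
noncomputable def skyUnit (y : X) (M : X.Modules) :
    M ⟶ (sky y).obj (stalkMod y (DCoh.toP.obj M)) :=
  ⟨{ app := fun V => ModuleCat.ofHom (X := (DCoh.toP.obj M).obj V)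
        (Y := skyObj y (stalkMod y (DCoh.toP.obj M)) V)
      { toFun := fun s h => germP (DCoh.toP.obj M) V.unop h.down s
        map_add' := fun s t => funext fun h => map_add _ s t
        map_smul' := fun r s => funext fun h => germP_smul (P := DCoh.toP.obj M) V.unop h.down r s }
     naturality := fun {V W} i => by
      apply ModuleCat.hom_ext
      refine LinearMap.ext fun s => funext fun h => ?_
      exact germP_res (P := DCoh.toP.obj M) i.unop h.down s }⟩

/-- Outside of the open, extensions by zero have zero stalks. -/
lemma isZero_stalk_lsh (x : X) (hx : x ∉ Set.range j.base) (M : U.Modules) :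
    IsZero ((DerSch.stalkFunctor X x).obj ((lsh j).obj M)) := by
  let L := (lsh j).obj M
  let S := stalkMod x (DCoh.toP.obj L)
  have hzero : skyUnit x L = 0 := by
    refine ((lshAdj j).homEquiv _ _).injective (SheafOfModules.hom_ext ?_)
    refine PresheafOfModules.Hom.ext (funext fun V => ?_)
    apply ModuleCat.hom_ext
    refine LinearMap.ext fun s => funext fun h => ?_
    exact absurd ⟨_, (h.down : x ∈ j ''ᵁ V.unop).choose_spec.2⟩ hx
  refine ModuleCat.isZero_of_iff_subsingleton.2 ?_
  have hs : ∀ m : S, m = 0 := fun m => by
    obtain ⟨W, hW, s, rfl⟩ := exists_germP m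
    have h := congrArg (fun t : L ⟶ (sky x).obj S => ((t.val.app (op W)) s : _)) hzero
    exact congrArg (fun t : (skyP x S).obj (op W) => (t ⟨hW⟩ : S)) h
  haveI : Subsingleton ((DCoh.toP ⋙ stalkP x).obj L : Type u) :=
    ⟨fun a b => (hs a).trans (hs b).symm⟩
  exact ((stalkToPIso x).app L).toLinearEquiv.toEquiv.subsingleton

/-- Injectivity on stalks inside an open can be checked after restricting. -/
lemma injective_stalk_of_restrict {M N : X.Modules} (f : M ⟶ N) (u : U)
    (h : Function.Injective ((DerSch.stalkFunctor U u).map ((Scheme.Modules.restrictFunctor j).map f))) :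
    Function.Injective ((DerSch.stalkFunctor X (j.base u)).map f) := by
  have e := Scheme.Modules.restrictStalkNatIso j u
  let F₀ := Scheme.Modules.restrictFunctor j ⋙ Scheme.Modules.toPresheaf U ⋙
    TopCat.Presheaf.stalkFunctor Ab.{u} u
  have hF : Mono (F₀.map f) := (AddCommGrpCat.mono_iff_injective _).2 h
  have h1 : Mono ((Scheme.Modules.toPresheaf X ⋙ TopCat.Presheaf.stalkFunctor Ab.{u} (j.base u)).map f) :=
    ((MorphismProperty.monomorphisms _).arrow_mk_iso_iff
      (((Functor.mapArrowFunctor _ _).mapIso e).app (Arrow.mk f))).1 hF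
  exact (AddCommGrpCat.mono_iff_injective _).1 h1

/-- Surjectivity on stalks inside an open can be checked after restricting. -/
lemma surjective_stalk_of_restrict {M N : X.Modules} (f : M ⟶ N) (u : U)
    (h : Function.Surjective ((DerSch.stalkFunctor U u).map ((Scheme.Modules.restrictFunctor j).map f))) :
    Function.Surjective ((DerSch.stalkFunctor X (j.base u)).map f) := by
  have e := Scheme.Modules.restrictStalkNatIso j u
  let F₀ := Scheme.Modules.restrictFunctor j ⋙ Scheme.Modules.toPresheaf U ⋙
    TopCat.Presheaf.stalkFunctor Ab.{u} u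
  have hF : Epi (F₀.map f) := (AddCommGrpCat.epi_iff_surjective _).2 h
  have h1 : Epi ((Scheme.Modules.toPresheaf X ⋙ TopCat.Presheaf.stalkFunctor Ab.{u} (j.base u)).map f) :=
    ((MorphismProperty.epimorphisms _).arrow_mk_iso_iff
      (((Functor.mapArrowFunctor _ _).mapIso e).app (Arrow.mk f))).1 hF
  exact (AddCommGrpCat.epi_iff_surjective _).1 h1

/-- A map vanishing outside an open is an iso if it is one on the open. -/
lemma isIso_of_restrict_of_stalk {M N : X.Modules} (f : M ⟶ N)
    (h : IsIso ((Scheme.Modules.restrictFunctor j).map f))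
    (hM : ∀ x ∉ Set.range j.base, IsZero ((DerSch.stalkFunctor X x).obj M))
    (hN : ∀ x ∉ Set.range j.base, IsZero ((DerSch.stalkFunctor X x).obj N)) : IsIso f := by
  refine isIso_of_stalk _ fun x => ?_
  by_cases hx : x ∈ Set.range j.base
  · obtain ⟨u, rfl⟩ := hx
    haveI := h
    have hb := ConcreteCategory.bijective_of_isIso
      ((DerSch.stalkFunctor U u).map ((Scheme.Modules.restrictFunctor j).map f))
    exact (ConcreteCategory.isIso_iff_bijective _).2
      ⟨injective_stalk_of_restrict j f u hb.1, surjective_stalk_of_restrict j f u hb.2⟩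
  · exact ⟨0, (hM x hx).eq_of_src _ _, (hN x hx).eq_of_src _ _⟩

instance preservesMonomorphisms_lsh : (lsh j).PreservesMonomorphisms where
  preserves {M N} g hg := by
    refine (ShortComplex.exact_iff_mono
      (ShortComplex.mk (0 : (lsh j).obj M ⟶ (lsh j).obj M) ((lsh j).map g) zero_comp) rfl).1 ?_
    refine (exact_iff_stalk _).2 fun x => ((ShortComplex.mk (0 : (lsh j).obj M ⟶ (lsh j).obj M)
      ((lsh j).map g) zero_comp).map (DerSch.stalkFunctor X x)).exact_iff_mono
        ((DerSch.stalkFunctor X x).map_zero _ _) |>.2 ?_
    by_cases hx : x ∈ Set.range j.base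
    · obtain ⟨u, rfl⟩ := hx
      refine (ModuleCat.mono_iff_injective _).2 (injective_stalk_of_restrict j _ u ?_)
      haveI : Mono ((lsh j ⋙ Scheme.Modules.restrictFunctor j).map g) :=
        ((MorphismProperty.monomorphisms _).arrow_mk_iso_iff
          (((Functor.mapArrowFunctor _ _).mapIso (asIso (lshAdj j).unit)).app (Arrow.mk g))).1 hg
      exact (ModuleCat.mono_iff_injective _).1 (inferInstanceAs
        (Mono ((DerSch.stalkFunctor U u).map ((lsh j ⋙ Scheme.Modules.restrictFunctor j).map g))))
    · exact ⟨fun _ _ _ => (isZero_stalk_lsh j x hx M).eq_of_tgt _ _⟩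

instance preservesFiniteColimits_lsh : PreservesFiniteColimits (lsh j) := by
  have : PreservesColimitsOfSize.{0, 0} (lsh j) := (lshAdj j).leftAdjoint_preservesColimits
  exact ⟨fun _ => inferInstance⟩

instance preservesFiniteLimits_lsh : PreservesFiniteLimits (lsh j) :=
  haveI : (lsh j).PreservesHomology :=
    Functor.preservesHomology_of_preservesMonos_and_cokernels (lsh j)
  Functor.preservesFiniteLimits_of_preservesHomology (lsh j)

/-- Restriction commutes with tensor products. -/
noncomputable def restrictTensorBiIso :
    DCoh.tensorBi ⋙ (Functor.whiskeringRight _ _ _).obj (Scheme.Modules.restrictFunctor j) ≅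
      Scheme.Modules.restrictFunctor j ⋙ DCoh.tensorBi ⋙
        (Functor.whiskeringLeft _ _ _).obj (Scheme.Modules.restrictFunctor j) :=
  Functor.isoWhiskerLeft _ ((Functor.whiskeringRight _ _ _).mapIso
      (Scheme.Modules.restrictFunctorIsoPullback j)) ≪≫ pullTensorBiIso j ≪≫
    Functor.isoWhiskerRight (Scheme.Modules.restrictFunctorIsoPullback j).symm _ ≪≫
    Functor.isoWhiskerLeft _ (Functor.isoWhiskerLeft _
      ((Functor.whiskeringLeft _ _ _).mapIso (Scheme.Modules.restrictFunctorIsoPullback j).symm))

/-- `N ⊗ j^* E ⟶ j^* (j_! N ⊗ E)`. -/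
noncomputable def projAux (N : U.Modules) (E : X.Modules) :
    (DCoh.tensorBi.obj N).obj ((Scheme.Modules.restrictFunctor j).obj E) ⟶
      (Scheme.Modules.restrictFunctor j).obj ((DCoh.tensorBi.obj ((lsh j).obj N)).obj E) :=
  (DCoh.tensorBi.map ((lshAdj j).unit.app N)).app _ ≫
    ((restrictTensorBiIso j).inv.app ((lsh j).obj N)).app E

instance (N : U.Modules) (E : X.Modules) : IsIso (projAux j N E) := by
  haveI : IsIso ((lshAdj j).unit.app N) := inferInstance
  haveI : IsIso (DCoh.tensorBi.map ((lshAdj j).unit.app N)) := inferInstance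
  exact IsIso.comp_isIso' inferInstance inferInstance

lemma projAux_naturality_left {N N' : U.Modules} (g : N ⟶ N') (E : X.Modules) :
    (DCoh.tensorBi.map g).app ((Scheme.Modules.restrictFunctor j).obj E) ≫ projAux j N' E =
      projAux j N E ≫ (Scheme.Modules.restrictFunctor j).map
        ((DCoh.tensorBi.map ((lsh j).map g)).app E) := by
  have h1 := congrArg (fun t => (DCoh.tensorBi.map t).app ((Scheme.Modules.restrictFunctor j).obj E))
    ((lshAdj j).unit.naturality g)
  simp only [Functor.map_comp, NatTrans.comp_app, Functor.id_map] at h1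
  have h2 := NatTrans.congr_app ((restrictTensorBiIso j).inv.naturality ((lsh j).map g)) E
  rw [projAux, projAux, reassoc_of% h1, Category.assoc]
  exact congrArg (_ ≫ ·) h2

lemma projAux_naturality_right (N : U.Modules) {E E' : X.Modules} (h : E ⟶ E') :
    (DCoh.tensorBi.obj N).map ((Scheme.Modules.restrictFunctor j).map h) ≫ projAux j N E' =
      projAux j N E ≫ (Scheme.Modules.restrictFunctor j).map
        ((DCoh.tensorBi.obj ((lsh j).obj N)).map h) := by
  have h1 := (DCoh.tensorBi.map ((lshAdj j).unit.app N)).naturality
    ((Scheme.Modules.restrictFunctor j).map h)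
  have h2 := ((restrictTensorBiIso j).inv.app ((lsh j).obj N)).naturality h
  rw [projAux, projAux, reassoc_of% h1, Category.assoc]
  exact congrArg (_ ≫ ·) h2

/-- The projection map `j_! (N ⊗ j^* E) ⟶ j_! N ⊗ E`. -/
noncomputable def projHom (N : U.Modules) (E : X.Modules) :
    (lsh j).obj ((DCoh.tensorBi.obj N).obj ((Scheme.Modules.restrictFunctor j).obj E)) ⟶
      (DCoh.tensorBi.obj ((lsh j).obj N)).obj E :=
  ((lshAdj j).homEquiv _ _).symm (projAux j N E)

lemma isZero_stalk_tensor_left (x : X) (M N : X.Modules) (h : IsZero ((DerSch.stalkFunctor X x).obj M)) :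
    IsZero ((DerSch.stalkFunctor X x).obj ((DCoh.tensorBi.obj M).obj N)) :=
  IsZero.of_iso ((tensorRight _).map_isZero h) (stalkTensorIso x M N).symm

instance (N : U.Modules) (E : X.Modules) : IsIso (projHom j N E) := by
  refine isIso_of_restrict_of_stalk j _ ?_ (fun x hx => isZero_stalk_lsh j x hx _)
    fun x hx => isZero_stalk_tensor_left x _ _ (isZero_stalk_lsh j x hx N)
  have h : (lshAdj j).unit.app _ ≫ (Scheme.Modules.restrictFunctor j).map (projHom j N E) =
      projAux j N E := by
    exact ((lshAdj j).homEquiv_unit _ _ _).symm.trans (((lshAdj j).homEquiv _ _).apply_symm_apply _)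
  haveI : IsIso ((lshAdj j).unit.app _ ≫ (Scheme.Modules.restrictFunctor j).map (projHom j N E)) := by
    rw [h]; infer_instance
  exact IsIso.of_isIso_comp_left ((lshAdj j).unit.app _) _

/-- The projection formula for extension by zero, naturally in both variables. -/
noncomputable def projIso :
    (DCoh.tensorBi (X := U) ⋙
        (Functor.whiskeringLeft _ _ _).obj (Scheme.Modules.restrictFunctor j)) ⋙
        (Functor.whiskeringRight _ _ _).obj (lsh j) ≅
      lsh j ⋙ DCoh.tensorBi (X := X) ⋙ (Functor.whiskeringLeft _ _ _).obj (𝟭 X.Modules) :=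
  NatIso.ofComponents (fun N => NatIso.ofComponents (fun E => asIso (projHom j N E))
    (fun {E E'} h => by
      refine ((lshAdj j).homEquiv _ _).injective ?_
      refine ((lshAdj j).homEquiv_naturality_left _ _).trans ?_
      refine Eq.trans ?_ ((lshAdj j).homEquiv_naturality_right _ _).symm
      simp only [asIso_hom, projHom]
      erw [Equiv.apply_symm_apply, Equiv.apply_symm_apply]
      exact projAux_naturality_right j N h))
    (fun {N N'} g => by
      ext E : 2
      refine ((lshAdj j).homEquiv _ _).injective ?_
      refine ((lshAdj j).homEquiv_naturality_left _ _).trans ?_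
      refine Eq.trans ?_ ((lshAdj j).homEquiv_naturality_right _ _).symm
      simp only [NatIso.ofComponents_hom_app, asIso_hom, projHom]
      erw [Equiv.apply_symm_apply, Equiv.apply_symm_apply]
      exact projAux_naturality_left j g E)

/-- An adjunction termwise on complexes. -/
noncomputable def adjCx {C D : Type*} [Category C] [Category D] [Preadditive C] [Preadditive D]
    {F : C ⥤ D} {G : D ⥤ C} [F.Additive] [G.Additive] (adj : F ⊣ G) {ι : Type*} (c : ComplexShape ι) :
    F.mapHomologicalComplex c ⊣ G.mapHomologicalComplex c where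
  unit :=
    { app := fun K => { f := fun i => adj.unit.app (K.X i), comm' := fun i k _ => (adj.unit.naturality _).symm }
      naturality := fun K L φ => by ext i; exact adj.unit.naturality (φ.f i) }
  counit :=
    { app := fun K => { f := fun i => adj.counit.app (K.X i), comm' := fun i k _ => (adj.counit.naturality _).symm }
      naturality := fun K L φ => by ext i; exact adj.counit.naturality (φ.f i) }
  left_triangle_components K := by ext i; exact adj.left_triangle_components (K.X i)
  right_triangle_components K := by ext i; exact adj.right_triangle_components (K.X i)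

end Groth.Agent.KFlatLib
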