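import Groth.Agent.KFlatLib.Scheme.ProjFormula
import Groth.Agent.KFlatLib.Scheme.AffineRpush
import Groth.Agent.KFlatLib.Scheme.FlatDescent
import Groth.Agent.KFlatLib.Scheme.LocalDevissage
import Groth.Agent.KFlatLib.InnerUnit
import Groth.Agent.SheafHomX.Basic
import Groth.Agent.QCoh.LocFree
import Groth.Agent.KFlatLib.Scheme.RGammaPush
import Groth.Agent.KFlatLib.Perfect.Tensor

/-!
# The projection formula for modules along flat affine morphisms
-/

set_option linter.style.haveILetI false
set_option backward.isDefEq.respectTransparency false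

universe u

open CategoryTheory CategoryTheory.Limits AlgebraicGeometry

attribute [local instance] HasDerivedCategory.standard

namespace Groth.Agent.KFlatLib

variable {X Y : Scheme.{u}}

/-- A module in degree zero has quasi-coherent cohomology. -/
lemma isQCohD_inD_of_isQCoh {M : X.Modules} (hM : Coh.IsQCoh M) : DCoh.IsQCohD (DCoh.inD X M) := fun i => by
  let e := (DerivedCategory.homologyFunctor X.Modules i).mapIso
      ((DerivedCategory.singleFunctorIsoCompQ X.Modules 0).app M) ≪≫
    (DerivedCategory.homologyFunctorFactors X.Modules i).app _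
  by_cases h : i = 0
  · subst h
    exact isQCoh_of_iso ((e ≪≫ (HomologicalComplex.homologyFunctorSingleIso X.Modules (ComplexShape.up ℤ) 0).app M)).symm hM
  · have hz := IsZero.of_iso (HomologicalComplex.isZero_single_obj_homology (ComplexShape.up ℤ) 0 M i h) e
    exact QCoh.isQCoh_of_isFP (QCoh.isFP_of_isFinLocFree (isFinLocFree_of_isZero hz))

/-- The tensor product of modules in degree zero. -/
noncomputable def tensorSingleIso (P M : X.Modules) :
    DerivedCategory.Q.obj ((DCoh.tensorCx.obj ((HomologicalComplex.single X.Modules (ComplexShape.up ℤ) 0).obj P)).obj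
      ((HomologicalComplex.single X.Modules (ComplexShape.up ℤ) 0).obj M)) ≅
    DCoh.inD X ((DCoh.tensorBi.obj P).obj M) :=
  DerivedCategory.Q.mapIso ((singleIso (DCoh.tensorBi (X := X)) M).app _ ≪≫
    (HomologicalComplex.singleMapHomologicalComplex (DCoh.tensorBi.flip.obj M) _ 0).app P) ≪≫
    ((DerivedCategory.singleFunctorIsoCompQ X.Modules 0).app _).symm

lemma isKFlat_single_of_isFlat {P : X.Modules} (hP : FlatMod.IsFlat P) :
    DCoh.IsKFlat ((HomologicalComplex.single X.Modules (ComplexShape.up ℤ) 0).obj P) := by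
  haveI : CochainComplex.IsStrictlyLE ((HomologicalComplex.single X.Modules (ComplexShape.up ℤ) 0).obj P) 0 :=
    (CochainComplex.isStrictlyLE_iff _ 0).2
      fun j hj => HomologicalComplex.isZero_single_obj_X (ComplexShape.up ℤ) 0 _ j (by omega)
  exact isKFlat_of_isStrictlyLE _ 0 (isFlat_single 0 hP)

/-- The derived tensor product of modules, one of them flat. -/
lemma nonempty_ltensor_inD {P : X.Modules} (hP : FlatMod.IsFlat P) (M : X.Modules)
    [DCoh.HasLTensorCx ((HomologicalComplex.single X.Modules (ComplexShape.up ℤ) 0).obj M)] :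
    Nonempty ((DCoh.LTensorCx ((HomologicalComplex.single X.Modules (ComplexShape.up ℤ) 0).obj M)).obj (DCoh.inD X P) ≅
      DCoh.inD X ((DCoh.tensorBi.obj P).obj M)) :=
  ⟨(DCoh.LTensorCx _).mapIso ((DerivedCategory.singleFunctorIsoCompQ X.Modules 0).app P) ≪≫
    ltensorCxIso _ (isKFlat_single_of_isFlat hP) ≪≫ tensorSingleIso P M⟩

/-- Derived pullback of a module along a flat morphism. -/
lemma nonempty_lpull_inD_of_flat (f : X ⟶ Y) [Flat f] [DCoh.HasLpull f] (M : Y.Modules) :
    Nonempty ((DCoh.Lpull f).obj (DCoh.inD Y M) ≅ DCoh.inD X ((Scheme.Modules.pullback f).obj M)) := by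
  let S := (HomologicalComplex.single Y.Modules (ComplexShape.up ℤ) 0).obj M
  let R := (kRes Y).obj S
  haveI : QuasiIso ((flatCover Y).ψ.app S) := (flatCover Y).quasiIso_ψ S
  haveI := isIso_Q_map ((flatCover Y).ψ.app S) inferInstance
  haveI := preservesHomology_pullback f
  haveI : QuasiIso ((pullCx f).map ((flatCover Y).ψ.app S)) :=
    inferInstanceAs (QuasiIso (((Scheme.Modules.pullback f).mapHomologicalComplex (ComplexShape.up ℤ)).map _))
  haveI := isIso_Q_map ((pullCx f).map ((flatCover Y).ψ.app S)) inferInstance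
  exact ⟨(DCoh.Lpull f).mapIso ((DerivedCategory.singleFunctorIsoCompQ Y.Modules 0).app M ≪≫
      (asIso (DerivedCategory.Q.map ((flatCover Y).ψ.app S))).symm) ≪≫
    lpullIso f (isKFlat_kRes S) ≪≫
    asIso (DerivedCategory.Q.map ((pullCx f).map ((flatCover Y).ψ.app S))) ≪≫
    DerivedCategory.Q.mapIso ((HomologicalComplex.singleMapHomologicalComplex (Scheme.Modules.pullback f) _ 0).app M) ≪≫
    ((DerivedCategory.singleFunctorIsoCompQ X.Modules 0).app _).symm⟩

/-- `f_* O ⊗ M ≅ f_* f^* M` for quasi-coherent `M`. -/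
theorem nonempty_push_pull_iso (f : X ⟶ Y) [IsAffineHom f] [Flat f]
    (hA : FlatMod.IsFlat ((Scheme.Modules.pushforward f).obj (Coh.structureModule X)))
    {M : Y.Modules} (hM : Coh.IsQCoh M) :
    Nonempty ((DCoh.tensorBi.obj ((Scheme.Modules.pushforward f).obj (Coh.structureModule X))).obj M ≅
      (Scheme.Modules.pushforward f).obj ((Scheme.Modules.pullback f).obj M)) := by
  haveI := hasLpull f
  haveI := hasRpush_scheme f
  let K := (HomologicalComplex.single Y.Modules (ComplexShape.up ℤ) 0).obj M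
  let N := (Scheme.Modules.pullback f).obj M
  let M' := (HomologicalComplex.single X.Modules (ComplexShape.up ℤ) 0).obj N
  haveI := hasLTensorCx K
  haveI := hasLTensorCx M'
  let eK : DerivedCategory.Q.obj K ≅ DCoh.inD Y M := ((DerivedCategory.singleFunctorIsoCompQ Y.Modules 0).app M).symm
  obtain ⟨eL⟩ := nonempty_lpull_inD_of_flat f M
  obtain ⟨p⟩ := nonempty_projection_DQCoh f (DCoh.inD X (Coh.structureModule X))
    (isQCohD_inD_of_isQCoh QCoh.isQCoh_structureModule) K
    (isQCohD_of_iso eK (isQCohD_inD_of_isQCoh hM)) M'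
    ⟨((DerivedCategory.singleFunctorIsoCompQ X.Modules 0).app N).symm ≪≫ eL.symm ≪≫ (DCoh.Lpull f).mapIso eK.symm⟩
  obtain ⟨a⟩ := AffineRpush.nonempty_rpush_inD f (Coh.structureModule X) QCoh.isQCoh_structureModule
  obtain ⟨b⟩ := nonempty_ltensor_inD hA M
  obtain ⟨c⟩ := nonempty_ltensor_inD (isFlat_structureModule (X := X)) N
  obtain ⟨d⟩ := AffineRpush.nonempty_rpush_inD f N (QCoh.isQCoh_pullback f hM)
  exact ⟨(DerivedCategory.singleFunctor Y.Modules 0).preimageIso (b.symm ≪≫ (DCoh.LTensorCx K).mapIso a.symm ≪≫ p ≪≫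
    (DCoh.Rpush f).mapIso (c ≪≫ (DerivedCategory.singleFunctor X.Modules 0).mapIso (SheafHomX.tenUnitIso N)) ≪≫ d)⟩

end Groth.Agent.KFlatLib
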