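import Groth.Agent.KFlatLib.Scheme.LocalQis
import Groth.Agent.KFlatLib.Perfect.Corollaries

/-!
# Evaluation at the dual of a perfect complex
-/

set_option linter.style.haveILetI false
set_option backward.isDefEq.respectTransparency false

universe u

open CategoryTheory CategoryTheory.Limits CategoryTheory.Pretriangulated AlgebraicGeometry
open scoped ZeroObject

attribute [local instance] HasDerivedCategory.standard

namespace Groth.Agent.KFlatLib

variable {X : Scheme.{u}}

/-- Quasi-isomorphisms are local. -/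
theorem quasiIso_of_local {A B : CochainComplex X.Modules ℤ} (φ : A ⟶ B)
    (h : ∀ x : X, ∃ (U : Scheme.{u}) (j : U ⟶ X) (_ : IsOpenImmersion j),
      x ∈ Set.range j.base ∧ QuasiIso ((rCx j).map φ)) : QuasiIso φ := by
  refine ⟨fun i => ?_⟩
  rw [quasiIsoAt_iff_isIso_homologyMap]
  refine isIso_of_stalk _ fun x => ?_
  obtain ⟨U, j, hj, ⟨v, rfl⟩, hq⟩ := h x
  have hi : IsIso ((Scheme.Modules.restrictFunctor j).map (HomologicalComplex.homologyMap φ i)) := by
    have h₁ : IsIso (((Scheme.Modules.restrictFunctor j).mapShortComplex ⋙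
        ShortComplex.homologyFunctor U.Modules).map
          ((HomologicalComplex.shortComplexFunctor X.Modules (ComplexShape.up ℤ) i).map φ)) :=
      (quasiIsoAt_iff_isIso_homologyMap ((rCx j).map φ) i).1 inferInstance
    exact (NatIso.isIso_map_iff (ShortComplex.homologyFunctorIso (Scheme.Modules.restrictFunctor j))
      ((HomologicalComplex.shortComplexFunctor X.Modules (ComplexShape.up ℤ) i).map φ)).1 h₁
  have hb := ConcreteCategory.bijective_of_isIso ((DerSch.stalkFunctor U v).map
    ((Scheme.Modules.restrictFunctor j).map (HomologicalComplex.homologyMap φ i)))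
  exact (ConcreteCategory.isIso_iff_bijective _).2
    ⟨injective_stalk_of_restrict j _ v hb.1, surjective_stalk_of_restrict j _ v hb.2⟩

/-- Tensoring with a complex of flat modules turns short exact sequences into short exact ones. -/
theorem shortExact_tensorCx_of_flat (R : CochainComplex X.Modules ℤ) (hR : ∀ p, FlatMod.IsFlat (R.X p))
    {S : ShortComplex (CochainComplex X.Modules ℤ)} (hS : S.ShortExact) :
    (S.map (DCoh.tensorBi.map₂CochainComplex.obj R)).ShortExact :=
  shortExact₂ DCoh.tensorBi R S fun p q => ShortComplex.shortExact_of_iso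
    ((S.map (HomologicalComplex.eval X.Modules (ComplexShape.up ℤ) q)).mapNatIso
      ((tensorBiFlipIso X).app (R.X p)))
    (flatObj_of_isFlat (hR p) _ ((HomologicalComplex.shortExact_iff_degreewise_shortExact S).1 hS q))

section Eval

variable (R I J : CochainComplex X.Modules ℤ) (s : (DCoh.tensorCx.obj R).obj I ⟶ J)

/-- The evaluation map is a quasi-isomorphism at shifts of the structure module. -/
theorem quasiIso_evalMap_single (hs : QuasiIso s) (n : ℤ) :
    QuasiIso (evalMap R I J s ((HomologicalComplex.single X.Modules (ComplexShape.up ℤ) n).obj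
      (Coh.structureModule X))) := by
  let P := (HomologicalComplex.single X.Modules (ComplexShape.up ℤ) n).obj (Coh.structureModule X)
  obtain ⟨e⟩ := nonempty_iHomUnitIso (X := X) n
  haveI : (iHom P).Full := Functor.Full.of_iso e.symm
  haveI : (iHom P).Faithful := Functor.Faithful.of_iso e.symm
  let F := Inner.tenX (DCoh.tensorBi (X := X)) P
  haveI hc : ∀ L, IsIso ((iHomAdj P).counit.app L) := fun L => inferInstance
  have h₁ : F.map (evalMap R I J s P) ≫ (iHomAdj P).counit.app J = evalAux R I J s P :=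
    ((iHomAdj P).homEquiv_counit _ _ _).symm.trans (Equiv.symm_apply_apply _ _)
  haveI := hs
  haveI : IsIso ((DCoh.tensorCx.obj R).map ((iHomAdj P).counit.app I)) :=
    Functor.map_isIso _ _
  haveI h₂ : QuasiIso (evalAux R I J s P) := by
    rw [evalAux]; infer_instance
  haveI h₃ : QuasiIso (F.map (evalMap R I J s P) ≫ (iHomAdj P).counit.app J) := by
    rw [h₁]; exact h₂
  haveI h₄ : QuasiIso (F.map (evalMap R I J s P)) :=
    quasiIso_of_comp_right _ ((iHomAdj P).counit.app J)
  let eF : F ≅ shiftFunctor (CochainComplex X.Modules ℤ) (-n) :=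
    Inner.tensorUnitShiftIso (DCoh.tensorBi (X := X)) (Coh.structureModule X) (tensorStructureIso X) n
  have h₅ : QuasiIso ((shiftFunctor (CochainComplex X.Modules ℤ) (-n)).map (evalMap R I J s P)) :=
    (quasiIso_iff_of_arrow_mk_iso _ _
      (((Functor.mapArrowFunctor _ _).mapIso eF).app (Arrow.mk (evalMap R I J s P)))).1 h₄
  exact (MorphismProperty.IsCompatibleWithShift.iff
    (HomologicalComplex.quasiIso X.Modules (ComplexShape.up ℤ)) _ (-n)).1 h₅

/-- The evaluation map at a perfect complex is a quasi-isomorphism. -/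
theorem quasiIso_evalMap (hR : DCoh.IsKFlat R) (hR' : ∀ p, FlatMod.IsFlat (R.X p))
    [∀ n, Injective (I.X n)] [I.IsKInjective] [∀ n, Injective (J.X n)] [J.IsKInjective]
    (hs : QuasiIso s) (K : CochainComplex X.Modules ℤ) (hK : DCoh.IsPerfect (DCoh.toD X K)) :
    QuasiIso (evalMap R I J s K) := by
  refine quasiIso_of_local _ fun x => ?_
  obtain ⟨U, j, hj, hx, h⟩ := exists_devissage_of_isPerfect K hK x
  refine ⟨U, j, hj, hx, h (fun P => QuasiIso ((rCx j).map (evalMap R I J s P))) (fun A B g hg => ?_)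
    (fun P hP => ?_) (fun S hS _ hl hr => ?_) (fun n => ?_)⟩
  · haveI := hg
    haveI := quasiIso_rCx_iHomMap j g I
    haveI := quasiIso_rCx_iHomMap j g J
    haveI := quasiIso_rCx_tensor j hR ((iHomMap g).app I)
    have w := congrArg (fun t => (rCx j).map t) (evalMap_naturality R I J s g)
    simp only [Functor.map_comp] at w
    change QuasiIso ((rCx j).map (evalMap R I J s A)) ↔ QuasiIso ((rCx j).map (evalMap R I J s B))
    rw [← quasiIso_iff_comp_left ((rCx j).map ((DCoh.tensorCx.obj R).map ((iHomMap g).app I))), w,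
      quasiIso_iff_comp_right]
  · refine quasiIso_of_isZero _ ((rCx j).map_isZero ((DCoh.tensorCx.obj R).map_isZero ?_))
      ((rCx j).map_isZero ?_) <;> exact isZero_iHom hP _
  · obtain ⟨w₁, hI⟩ := Inner.innerHom_shortExact (DCoh.tensorBi (X := X)) S hS I
    obtain ⟨w₂, hJ⟩ := Inner.innerHom_shortExact (DCoh.tensorBi (X := X)) S hS J
    let T₁ := ShortComplex.mk ((iHomMap S.g).app I) ((iHomMap S.f).app I) w₁
    let T₂ := ShortComplex.mk ((iHomMap S.g).app J) ((iHomMap S.f).app J) w₂
    let φ : (T₁.map (DCoh.tensorBi.map₂CochainComplex.obj R)).map (rCx j) ⟶ T₂.map (rCx j) :=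
      { τ₁ := (rCx j).map (evalMap R I J s S.X₃)
        τ₂ := (rCx j).map (evalMap R I J s S.X₂)
        τ₃ := (rCx j).map (evalMap R I J s S.X₁)
        comm₁₂ := by
          refine ((rCx j).map_comp _ _).symm.trans (Eq.trans ?_ ((rCx j).map_comp _ _))
          exact congrArg _ (evalMap_naturality R I J s S.g).symm
        comm₂₃ := by
          refine ((rCx j).map_comp _ _).symm.trans (Eq.trans ?_ ((rCx j).map_comp _ _))
          exact congrArg _ (evalMap_naturality R I J s S.f).symm }
    exact quasiIso_τ₂' φ ((shortExact_tensorCx_of_flat R hR' hI).map_of_exact _)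
      (hJ.map_of_exact _) hr hl
  · haveI := quasiIso_evalMap_single R I J s hs n
    change QuasiIso ((rCx j).map _)
    infer_instance

end Eval

lemma LocSP.restrict' {K : DCoh.D X} (h : LocSP K) {U : Scheme.{u}} (j : U ⟶ X) [IsOpenImmersion j] :
    LocSP ((rho j).obj K) := fun u' => by
  obtain ⟨U', j', _, hx, P, hP, ⟨e⟩⟩ := h (j.base u')
  obtain ⟨W, k, _, i₁, i₂, _, _, ⟨w, hw⟩, f₁, f₂⟩ := exists_common j' j hx ⟨u', rfl⟩
  refine ⟨W, i₂, inferInstance, ⟨w, ?_⟩, _, isStrictlyPerfect_restrict i₁ hP,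
    ⟨((rhoQ i₁).app P).symm ≪≫ (rho i₁).mapIso e ≪≫ rhoComp i₁ j' k f₁ K ≪≫
      (rhoComp i₂ j k f₂ K).symm⟩⟩
  apply j.isOpenEmbedding.injective
  rw [← hw, ← f₂]
  rfl

lemma locSP_of_isZero {C : DCoh.D X} (h : IsZero C) : LocSP C := fun x =>
  ⟨X, 𝟙 X, inferInstance, ⟨x, rfl⟩, 0, ⟨⟨0, 0, fun i _ =>
      Functor.map_isZero (HomologicalComplex.eval _ _ i) (isZero_zero _)⟩, fun i =>
      isFinLocFree_of_isZero (Functor.map_isZero (HomologicalComplex.eval _ _ i) (isZero_zero _))⟩,
    ⟨(Functor.map_isZero DerivedCategory.Q (isZero_zero _)).iso (Functor.map_isZero _ h)⟩⟩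

lemma locSP_obj₂ (T : Triangle (DCoh.D X)) (hT : T ∈ distinguishedTriangles)
    (h₁ : LocSP T.obj₁) (h₃ : LocSP T.obj₃) : LocSP T.obj₂ :=
  locSP_obj₃ T.invRotate (inv_rot_of_distTriang T hT) (h₃.shift (-1)) h₁

lemma locSP_structure : LocSP (DerivedCategory.Q.obj
    ((HomologicalComplex.single X.Modules (ComplexShape.up ℤ) 0).obj (Coh.structureModule X))) :=
  fun x => by
    obtain ⟨U, j, hj, hx⟩ : ∃ (U : Scheme.{u}) (j : U ⟶ X) (_ : IsOpenImmersion j),
        x ∈ Set.range j.base := ⟨X, 𝟙 X, inferInstance, x, rfl⟩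
    refine ⟨U, j, hj, hx, (HomologicalComplex.single U.Modules (ComplexShape.up ℤ) 0).obj
      (FlatMod.freeMod U 1), ⟨⟨0, 0, fun i hi => HomologicalComplex.isZero_single_obj_X _ _ _ _
        (by omega)⟩, fun i => ?_⟩, ⟨?_⟩⟩
    · by_cases hi : i = 0
      · exact H23.PullPush.isFinLocFree_of_iso
          (HomologicalComplex.singleObjXIsoOfEq (ComplexShape.up ℤ) 0 _ i hi).symm (isFinLocFree_freeMod 1)
      · exact isFinLocFree_of_isZero (HomologicalComplex.isZero_single_obj_X _ _ _ _ hi)
    · exact DerivedCategory.Q.mapIso ((HomologicalComplex.single U.Modules _ 0).mapIso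
          (coproductUniqueIso (fun _ : Fin 1 => Coh.structureModule U) ≪≫ (restrictStructureIso j).symm) ≪≫
        ((HomologicalComplex.singleMapHomologicalComplex (Scheme.Modules.restrictFunctor j) _ 0).app _).symm) ≪≫
        ((rhoQ j).app _).symm

/-- The dual of a perfect complex is perfect. -/
theorem isPerfect_iHom (K : CochainComplex X.Modules ℤ) (hK : DCoh.IsPerfect (DCoh.toD X K))
    (I : CochainComplex X.Modules ℤ) [∀ n, Injective (I.X n)] [I.IsKInjective]
    (hI : LocSP (DerivedCategory.Q.obj I)) :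
    DCoh.IsPerfect (DerivedCategory.Q.obj ((iHom K).obj I)) := by
  refine (isPerfect_iff _).2 (LocSP.of_local fun x => ?_)
  obtain ⟨U, j, hj, hx, h⟩ := exists_devissage_of_isPerfect K hK x
  refine ⟨U, j, hj, hx, h (fun P => LocSP ((rho j).obj (DerivedCategory.Q.obj ((iHom P).obj I))))
    (fun A B g hg => ?_) (fun P hP => ?_) (fun S hS _ hl hr => ?_) (fun n => ?_)⟩
  · haveI := hg
    haveI := quasiIso_rCx_iHomMap j g I
    haveI := isIso_Q_map ((rCx j).map ((iHomMap g).app I)) inferInstance
    let e := (rhoQ j).app _ ≪≫ asIso (DerivedCategory.Q.map ((rCx j).map ((iHomMap g).app I))) ≪≫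
      ((rhoQ j).app _).symm
    exact ⟨fun hA => hA.of_iso e.symm, fun hB => hB.of_iso e⟩
  · exact locSP_of_isZero ((rho j).map_isZero (DerivedCategory.Q.map_isZero (isZero_iHom hP I)))
  · obtain ⟨w, hse⟩ := Inner.innerHom_shortExact (DCoh.tensorBi (X := X)) S hS I
    exact locSP_obj₂ _ ((rho j).map_distinguished _ (DerivedCategory.triangleOfSES_distinguished hse))
      hr hl
  · obtain ⟨e⟩ := nonempty_iHomUnitIso (X := X) n
    exact ((hI.shift n).of_iso (((DerivedCategory.Q.commShiftIso n).app I).symm ≪≫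
      DerivedCategory.Q.mapIso (e.app I).symm)).restrict' j

end Groth.Agent.KFlatLib
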