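import Groth.Agent.KFlatLib.Scheme.TorBCTensor
import Groth.Agent.KFlatLib.Scheme.Amplitude
import Groth.Agent.KFlatLib.Scheme.PullTensorCx

/-!
# The base change map for derived tensor products with a module flat over the base
-/

set_option linter.style.haveILetI false
set_option backward.isDefEq.respectTransparency false

universe u

open CategoryTheory CategoryTheory.Limits AlgebraicGeometry Opposite

attribute [local instance] HasDerivedCategory.standard

namespace Groth.Agent.KFlatLib.TorBC

open FlatBC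

variable {X Y X' S S' : Scheme.{u}}

local notation "Kh" X:max => HomotopyCategory (Scheme.Modules X) (ComplexShape.up ℤ)
local notation "qq" X:max => HomotopyCategory.quotient (Scheme.Modules X) (ComplexShape.up ℤ)

/-- `f^*(M ⊗ F) ≅ f^*M ⊗ f^*F`, natural in `M`. -/
noncomputable def pullTensorRightIso (f : X' ⟶ X) (F : X.Modules) :
    Scheme.Modules.pullback f ⋙ DCoh.tensorRightMod ((Scheme.Modules.pullback f).obj F) ≅
      DCoh.tensorRightMod F ⋙ Scheme.Modules.pullback f :=
  NatIso.ofComponents (fun M => (((pullTensorBiIso f).app M).app F).symm) fun {M M'} φ => by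
    have h := congrArg (fun t => NatTrans.app t F) ((pullTensorBiIso f).inv.naturality φ)
    exact h

/-- `f^*(K ⊗ F) ≅ f^*K ⊗ f^*F`, natural in `K`. -/
noncomputable def pullTensorModCxIso (f : X' ⟶ X) (F : X.Modules) :
    pullCx f ⋙ tensorModCx ((Scheme.Modules.pullback f).obj F) ≅ tensorModCx F ⋙ pullCx f :=
  NatIso.ofComponents (fun K => HomologicalComplex.Hom.isoOfComponents
    (fun i => (pullTensorRightIso f F).app (K.X i))
    (fun i j _ => ((pullTensorRightIso f F).hom.naturality (K.d i j)).symm))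
    (fun φ => HomologicalComplex.hom_ext _ _ fun i => (pullTensorRightIso f F).hom.naturality (φ.f i))

variable {f : X ⟶ S} {g : S' ⟶ S} {g' : X' ⟶ X} {f' : X' ⟶ S'}
  [DCoh.HasRpush f] [DCoh.HasRpush g] [DCoh.HasLpull g] [DCoh.HasRpush f'] [DCoh.HasRpush g']
  [DCoh.HasLpull g']

variable (g') in
/-- The comparison `Lg^*(E ⊗ F) ⟶ Lg^*E ⊗ g^*F`. -/
theorem exists_pull_tensor_map (F : X.Modules) [DCoh.HasLTensorMod F]
    [DCoh.HasLTensorMod ((Scheme.Modules.pullback g').obj F)] :
    ∃ φ : DCoh.LTensorMod F ⋙ DCoh.Lpull g' ⟶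
        DCoh.Lpull g' ⋙ DCoh.LTensorMod ((Scheme.Modules.pullback g').obj F),
      ∀ C : CochainComplex X.Modules ℤ, DCoh.IsKFlat C →
        ∃ c : (DCoh.LTensorMod ((Scheme.Modules.pullback g').obj F)).obj ((DCoh.Lpull g').obj (DerivedCategory.Q.obj C)) ≅
            DerivedCategory.Q.obj ((pullCx g').obj ((tensorModCx F).obj C)),
          φ.app (DerivedCategory.Q.obj C) ≫ c.hom =
            (DCoh.Lpull g').map ((ltensorModComparison F).app C) ≫ (lpullComparison g').app ((tensorModCx F).obj C) := by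
  let G := (Scheme.Modules.pullback g').obj F
  let β : DerivedCategory.Q ⋙ (DCoh.LTensorMod F ⋙ DCoh.Lpull g') ⟶ tensorModCx F ⋙ pullCx g' ⋙ DerivedCategory.Q :=
    Functor.whiskerRight (ltensorModComparison F) (DCoh.Lpull g') ≫
      Functor.whiskerLeft (tensorModCx F) (lpullComparison g')
  let c : DerivedCategory.Q ⋙ (DCoh.Lpull g' ⋙ DCoh.LTensorMod G) ⟶ tensorModCx F ⋙ pullCx g' ⋙ DerivedCategory.Q :=
    Functor.whiskerRight (lpullComparison g') (DCoh.LTensorMod G) ≫
      Functor.whiskerLeft (pullCx g') (ltensorModComparison G) ≫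
      Functor.whiskerRight (pullTensorModCxIso g' F).hom DerivedCategory.Q
  have hc : ∀ C, DCoh.IsKFlat C → IsIso (c.app C) := fun C hC => by
    haveI := isIso_lpullComparison g' hC
    haveI := isIso_ltensorModComparison G (isKFlat_pullback g' hC)
    haveI : IsIso ((Functor.whiskerRight (pullTensorModCxIso g' F).hom DerivedCategory.Q).app C) :=
      inferInstance
    haveI : IsIso ((Functor.whiskerLeft (pullCx g') (ltensorModComparison G)).app C) :=
      isIso_ltensorModComparison G (isKFlat_pullback g' hC)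
    haveI : IsIso ((Functor.whiskerRight (lpullComparison g') (DCoh.LTensorMod G)).app C) :=
      inferInstanceAs (IsIso ((DCoh.LTensorMod G).map ((lpullComparison g').app C)))
    simp only [c, NatTrans.comp_app]
    infer_instance
  obtain ⟨φ, hφ⟩ := exists_natTrans_of_counit DerivedCategory.Q (qisX X) (kRes X) (flatCover X).ψ
    (fun K => (flatCover X).quasiIso_ψ K) β c (fun K => hc _ (isKFlat_kRes K))
  refine ⟨φ, fun C hC => ?_⟩
  haveI := hc C hC
  exact ⟨asIso (c.app C), hφ C⟩

/-- The natural base change map for tensor products, invertible on structure sheaves of affine opens. -/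
theorem exists_tensor_theta [IsAffine S] [IsAffine S'] (h : IsPullback g' f' f g) [IsProper f]
    (F : X.Modules) (hF : Coh.IsQCoh F) (hflat : FlatMod.IsFlatOver f F) [DCoh.HasLTensorMod F]
    [DCoh.HasLTensorMod ((Scheme.Modules.pullback g').obj F)] :
    ∃ τ : (DCoh.LTensorMod F ⋙ DCoh.Rpush f) ⋙ DCoh.Lpull g ⟶
        (DCoh.Lpull g' ⋙ DCoh.LTensorMod ((Scheme.Modules.pullback g').obj F)) ⋙ DCoh.Rpush f',
      ∀ (W : Scheme.{u}) (j : W ⟶ X) [IsOpenImmersion j] [IsAffine W] (n : ℤ),
        IsIso (τ.app ((DerivedCategory.singleFunctor X.Modules n).obj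
          ((Scheme.Modules.pushforward j).obj (Coh.structureModule W)))) := by
  obtain ⟨A, hA⟩ := exists_adj g
  obtain ⟨A', hA'⟩ := exists_adj g'
  obtain ⟨e, he⟩ := exists_square_derived (f := f) (g := g) (g' := g') (f' := f') h.w
  let θ := thetaTrans A A' e
  obtain ⟨φ, hφ⟩ := exists_pull_tensor_map g' F
  let τ : (DCoh.LTensorMod F ⋙ DCoh.Rpush f) ⋙ DCoh.Lpull g ⟶
      (DCoh.Lpull g' ⋙ DCoh.LTensorMod ((Scheme.Modules.pullback g').obj F)) ⋙ DCoh.Rpush f' :=
    Functor.whiskerLeft (DCoh.LTensorMod F) θ ≫ Functor.whiskerRight φ (DCoh.Rpush f')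
  refine ⟨τ, fun W j _ _ n => ?_⟩
  haveI hj : IsAffineHom j := by
    haveI : IsAffineHom (j ≫ f) := isAffineHom_of_isAffine _
    exact MorphismProperty.of_postcomp (W := @IsAffineHom) (W' := @IsSeparated) j f inferInstance inferInstance
  let V := j.opensRange
  let M := (Scheme.Modules.pushforward j).obj (Coh.structureModule W)
  let C := (HomologicalComplex.single X.Modules (ComplexShape.up ℤ) n).obj M
  let N := (DCoh.tensorRightMod F).obj M
  let T := (tensorModCx F).obj C
  have hC : DCoh.IsKFlat C := by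
    haveI : CochainComplex.IsStrictlyLE C n := (CochainComplex.isStrictlyLE_iff _ n).2
      fun i hi => HomologicalComplex.isZero_single_obj_X (ComplexShape.up ℤ) n _ i (by omega)
    exact isKFlat_of_isStrictlyLE C n (isFlat_single n (isFlat_pushforward_structure j))
  let H := (Scheme.Modules.pullback j).obj F
  have hH : Coh.IsQCoh H := QCoh.isQCoh_pullback j hF
  obtain ⟨eN⟩ := nonempty_push_pull_iso j (isFlat_pushforward_structure j) hF
  let eN' : N ≅ (Scheme.Modules.pushforward j).obj H := eN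
  have hN : Coh.IsQCoh N := isQCoh_of_iso eN'.symm (QCoh.isQCoh_pushforward j hH)
  have hb : ∀ O : X.Opens, Function.Bijective (QCoh.rs N (inf_le_left : O ⊓ V ≤ O)) := fun O => by
    have e₀ : j ⁻¹ᵁ (O ⊓ V) = j ⁻¹ᵁ O := by
      ext x
      exact ⟨fun hx => hx.1, fun hx => ⟨hx, ⟨x, rfl⟩⟩⟩
    have key : ∀ x, eN'.hom.app (O ⊓ V) (QCoh.rs _ (inf_le_left : O ⊓ V ≤ O) x) =
        QCoh.rs _ inf_le_left (eN'.hom.app O x) := fun x => QCoh.app_rs eN'.hom _ x
    refine (Function.Bijective.of_comp_iff'
      (ConcreteCategory.bijective_of_isIso (eN'.hom.app (O ⊓ V))) _).1 ?_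
    rw [show (eN'.hom.app (O ⊓ V) : _ → _) ∘ QCoh.rs _ (inf_le_left : O ⊓ V ≤ O) = _ from funext key]
    exact (show Function.Bijective (QCoh.rs ((Scheme.Modules.pushforward j).obj H) (inf_le_left : O ⊓ V ≤ O)) from
      bijective_rs_of_eq H e₀).comp (ConcreteCategory.bijective_of_isIso (eN'.hom.app O))
  have hNf : FlatMod.IsFlat ((Scheme.Modules.pushforward f).obj N) := by
    haveI : IsAffineHom (j ≫ f) := isAffineHom_of_isAffine _
    have hfl : FlatMod.IsFlatOver (j ≫ f) H := fun x =>
      RelTor.flatOverAt_of_iso ((Scheme.Modules.restrictFunctorIsoPullback j).app F)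
        ((RelTor.flatOverAt_restrict_iff j f F x).1 (hflat (j.base x)))
    exact IsFlat.of_iso ((Scheme.Modules.pushforward f).mapIso eN' ≪≫
      (Scheme.Modules.pushforwardComp j f).app H).symm (isFlat_pushforward_of_flatOver (j ≫ f) hH hfl)
  let C' := (HomologicalComplex.single X.Modules (ComplexShape.up ℤ) n).obj N
  let ρ : DerivedCategory.Q ⋙ DCoh.Rpush f ⋙ DCoh.Lpull g ⟶ pullCx g' ⋙ DerivedCategory.Q ⋙ DCoh.Rpush f' :=
    Functor.whiskerLeft DerivedCategory.Q θ ≫ Functor.whiskerRight (lpullComparison g') (DCoh.Rpush f')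
  have h1 : IsIso (ρ.app C') := by
    have hk := isIso_baseChangeApp_comp_single h hA hA' e he hN V (isAffineOpen_opensRange j) hb hNf n
    let q := (DerivedCategory.quotientCompQhIso X.Modules).inv.app C'
    let r := (quotientMapIso (Scheme.Modules.pullback g')).hom.app C'
    have ex : ρ.app C' = θ.app (DerivedCategory.Q.obj C') ≫
        (DCoh.Rpush f').map ((DCoh.Lpull g').map q ≫ (alpha g').app ((qq X).obj C') ≫ r) := by
      simp only [ρ, q, r, lpullComparison, NatTrans.comp_app, Functor.whiskerLeft_app, Functor.whiskerRight_app,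
        Functor.associator_hom_app, Category.id_comp]
    have nat : (DCoh.Lpull g).map ((DCoh.Rpush f).map q) ≫
        θ.app (DerivedCategory.Qh.obj ((qq X).obj C')) =
        θ.app (DerivedCategory.Q.obj C') ≫ (DCoh.Rpush f').map ((DCoh.Lpull g').map q) := θ.naturality q
    rw [ex, Functor.map_comp, ← reassoc_of% nat, Functor.map_comp, ← Category.assoc (θ.app _)]
    exact IsIso.comp_isIso' inferInstance (IsIso.comp_isIso' hk inferInstance)
  have h2 : IsIso (ρ.app T) := (NatTrans.isIso_app_iff_of_iso ρ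
    ((HomologicalComplex.singleMapHomologicalComplex (DCoh.tensorRightMod F) (ComplexShape.up ℤ) n).app M)).2 h1
  obtain ⟨c, hc⟩ := hφ C hC
  haveI := isIso_ltensorModComparison F hC
  refine (NatTrans.isIso_app_iff_of_iso τ ((DerivedCategory.singleFunctorIsoCompQ X.Modules n).app M)).2 ?_
  change IsIso (τ.app (DerivedCategory.Q.obj C))
  have nat : (DCoh.Lpull g).map ((DCoh.Rpush f).map ((ltensorModComparison F).app C)) ≫
      θ.app (DerivedCategory.Q.obj T) =
      θ.app ((DCoh.LTensorMod F).obj (DerivedCategory.Q.obj C)) ≫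
        (DCoh.Rpush f').map ((DCoh.Lpull g').map ((ltensorModComparison F).app C)) :=
    θ.naturality ((ltensorModComparison F).app C)
  have ex : τ.app (DerivedCategory.Q.obj C) ≫ (DCoh.Rpush f').map c.hom =
      (DCoh.Lpull g).map ((DCoh.Rpush f).map ((ltensorModComparison F).app C)) ≫ ρ.app T := by
    change (θ.app _ ≫ (DCoh.Rpush f').map (φ.app _)) ≫ (DCoh.Rpush f').map c.hom = _
    rw [Category.assoc, ← Functor.map_comp, hc, Functor.map_comp, ← reassoc_of% nat]
    rfl
  haveI : IsIso (τ.app (DerivedCategory.Q.obj C) ≫ (DCoh.Rpush f').map c.hom) := by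
    rw [ex]; exact IsIso.comp_isIso' inferInstance h2
  exact IsIso.of_isIso_comp_right _ ((DCoh.Rpush f').map c.hom)

end Groth.Agent.KFlatLib.TorBC
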