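import Groth.Agent.KFlatLib.Scheme.RpushQCoh
import Groth.Agent.KFlatLib.Scheme.RpushBound
import Groth.Agent.KFlatLib.Scheme.CohD
import Groth.Agent.QCoh.RpushClosed
import Groth.Agent.QCoh.ProperOver2

/-!
# Derived direct images of complexes with coherent cohomology and proper support
-/

set_option linter.style.haveILetI false
set_option backward.isDefEq.respectTransparency false

universe u

open CategoryTheory CategoryTheory.Limits AlgebraicGeometry CategoryTheory.Pretriangulated

attribute [local instance] HasDerivedCategory.standard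

namespace Groth.Agent.KFlatLib

variable {X S : Scheme.{u}} (f : X ⟶ S) [LocallyOfFiniteType f] [IsLocallyNoetherian S]

/-- Coherent modules with support proper over the base. -/
def ProperCoh (M : X.Modules) : Prop := Coh.IsCoh M ∧ ClSub.IsProperOver f (CohB1.support M)

lemma support_congr_iso {M N : X.Modules} (e : M ≅ N) : CohB1.support M = CohB1.support N := by
  ext x
  let e' := ((Scheme.Modules.toPresheaf X ⋙ TopCat.Presheaf.stalkFunctor Ab.{u} x).mapIso e).addCommGroupIsoToAddEquiv.toEquiv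
  exact not_congr e'.subsingleton_congr

omit [LocallyOfFiniteType f] [IsLocallyNoetherian S] in
lemma support_eq_empty_of_zero {M : X.Modules} (h : IsZero M) : CohB1.support M = ∅ := by
  refine Set.eq_empty_iff_forall_notMem.2 fun x hx => hx ?_
  exact ModuleCat.subsingleton_of_isZero ((DerSch.stalkFunctor X x).map_isZero h)

lemma properCoh_of_iso {M N : X.Modules} (e : M ≅ N) (h : ProperCoh f M) : ProperCoh f N := by
  haveI : IsLocallyNoetherian X := LocallyOfFiniteType.isLocallyNoetherian f
  exact ⟨isCoh_of_iso e h.1, (support_congr_iso e) ▸ h.2⟩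

/-- The higher direct images of such a module vanish in large degrees. -/
theorem exists_bound_properCoh [CompactSpace S] {M : X.Modules} (h : ProperCoh f M) :
    ∃ n : ℕ, ∀ p : ℕ, n ≤ p → IsZero ((Coh.Rpush f p).obj M) := by
  obtain ⟨hM, hs⟩ := h
  obtain ⟨T, i, G, hi, hr, hG, hGft, ⟨e⟩⟩ := QCoh.exists_closed_model hM.1 hM.2
  haveI := hi
  rw [← hr] at hs
  haveI : IsProper (i ≫ f) := (QCoh.isProperOver_iff i).1 hs
  obtain ⟨n, hn⟩ := exists_Rpush_bound (i ≫ f)
  refine ⟨n, fun p hp => ?_⟩
  obtain ⟨e'⟩ := QCoh.nonempty_Rpush_affine_push i f hG p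
  exact (hn G hG p hp).of_iso ((Coh.Rpush f p).mapIso e.symm ≪≫ e')

variable [DCoh.HasRpush f]

/-- Bounded complexes. -/
theorem rpush_coherent_bounded : ∀ (m : ℕ) (a : ℤ) (K : DCoh.D X), K.IsGE a → K.IsLE (a + m) →
    (∀ i, ProperCoh f (DCoh.HD K i)) →
    DCoh.IsCohD ((DCoh.Rpush f).obj K) ∧
      (CompactSpace S → ∃ b : ℤ, ∀ i, b < i → IsZero (DCoh.HD ((DCoh.Rpush f).obj K) i)) := by
  intro m
  induction m with
  | zero =>
    intro a K hge hle hq
    haveI := hge
    haveI : K.IsLE a := by simpa using hle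
    obtain ⟨M, ⟨e⟩⟩ := DerivedCategory.exists_iso_singleFunctor_obj_of_isGE_of_isLE K a
    let es : K ≅ (DCoh.inD X M)⟦(-a : ℤ)⟧ :=
      e ≪≫ (((DerivedCategory.singleFunctors X.Modules).shiftIso (-a) a 0 (by omega)).app M).symm
    obtain ⟨eS⟩ := nonempty_rpush_shift f (DCoh.inD X M) (-a)
    let eR : (DCoh.Rpush f).obj K ≅ ((DCoh.Rpush f).obj (DCoh.inD X M))⟦(-a : ℤ)⟧ :=
      (DCoh.Rpush f).mapIso es ≪≫ eS
    have hM : ProperCoh f M := by
      refine properCoh_of_iso f ?_ (hq a)
      exact (DerivedCategory.homologyFunctor X.Modules a).mapIso e ≪≫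
        (DerivedCategory.singleFunctorCompHomologyFunctorIso X.Modules a).app M
    let eH : ∀ i : ℤ, DCoh.HD ((DCoh.Rpush f).obj K) i ≅
        DCoh.HD ((DCoh.Rpush f).obj (DCoh.inD X M)) (i - a) := fun i =>
      (DerivedCategory.homologyFunctor S.Modules i).mapIso eR ≪≫
        ((DerivedCategory.homologyFunctor S.Modules 0).shiftIso (-a) i (i - a) (by omega)).app _
    refine ⟨fun i => ?_, fun _ => ?_⟩
    · refine isCoh_of_iso (eH i).symm ?_
      rcases lt_or_ge (i - a) 0 with h | h
      · exact isCoh_of_isZero (isZero_hd_rpush_of_lt f _ 0 _ h)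
      · obtain ⟨n, hn⟩ := Int.eq_ofNat_of_zero_le h
        rw [hn]
        exact isCoh_of_iso (nonempty_hd_rpush_single f M n).some.symm
          (QCoh.isCoh_Rpush_of_properSupport f hM.1 hM.2 n)
    · obtain ⟨N, hN⟩ := exists_bound_properCoh f hM
      refine ⟨a + N, fun i hi => ?_⟩
      obtain ⟨n, hn⟩ := Int.eq_ofNat_of_zero_le (show 0 ≤ i - a by omega)
      exact (hN n (by omega)).of_iso (eH i ≪≫ eqToIso (by rw [hn]) ≪≫
        (nonempty_hd_rpush_single f M n).some)
  | succ m ih =>
    intro a K hge hle hq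
    haveI := hge
    haveI := hle
    let t : Triangulated.TStructure (DCoh.D X) := DerivedCategory.TStructure.t
    let T := (t.triangleLTGE (a + 1)).obj K
    have hT : T ∈ distTriang _ := t.triangleLTGE_distinguished _ K
    haveI h₁le : T.obj₁.IsLE a := t.isLE_truncLT_obj K _ _ (by omega)
    haveI h₃ge : T.obj₃.IsGE (a + 1) := t.isGE_truncGE_obj K _ _ le_rfl
    haveI h₁ge : T.obj₁.IsGE a := by
      rw [DerivedCategory.isGE_iff]
      intro i hi
      exact (DerivedCategory.HomologySequence.exact₁ T hT (i - 1) i (by omega)).isZero_X₂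
        ((DerivedCategory.isZero_of_isGE T.obj₃ (a + 1) (i - 1) (by omega)).eq_of_src _ _)
        ((DerivedCategory.isZero_of_isGE K a i hi).eq_of_tgt _ _)
    haveI h₃le : T.obj₃.IsLE (a + 1 + m) := by
      rw [DerivedCategory.isLE_iff]
      intro i hi
      exact (DerivedCategory.HomologySequence.exact₃ T hT i (i + 1) rfl).isZero_X₂
        ((DerivedCategory.isZero_of_isLE K (a + (m + 1 : ℕ)) i (by omega)).eq_of_src _ _)
        ((DerivedCategory.isZero_of_isLE T.obj₁ a (i + 1) (by omega)).eq_of_tgt _ _)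
    haveI : IsLocallyNoetherian X := LocallyOfFiniteType.isLocallyNoetherian f
    have hz : ∀ M : X.Modules, IsZero M → ProperCoh f M := fun M hM => by
      refine ⟨isCoh_of_isZero hM, ?_⟩
      rw [support_eq_empty_of_zero hM]
      exact QCoh.isProperOver_empty
    have hq₁ : ∀ i, ProperCoh f (DCoh.HD T.obj₁ i) := fun i => by
      by_cases hi : i ≤ a
      · haveI : Epi ((DerivedCategory.homologyFunctor X.Modules i).map T.mor₁) :=
          (DerivedCategory.HomologySequence.exact₂ T hT i).epi_f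
            ((DerivedCategory.isZero_of_isGE T.obj₃ (a + 1) i (by omega)).eq_of_tgt _ _)
        haveI : Mono ((DerivedCategory.homologyFunctor X.Modules i).map T.mor₁) :=
          (DerivedCategory.HomologySequence.exact₁ T hT (i - 1) i (by omega)).mono_g
            ((DerivedCategory.isZero_of_isGE T.obj₃ (a + 1) (i - 1) (by omega)).eq_of_src _ _)
        haveI := isIso_of_mono_of_epi ((DerivedCategory.homologyFunctor X.Modules i).map T.mor₁)
        exact properCoh_of_iso f (asIso ((DerivedCategory.homologyFunctor X.Modules i).map T.mor₁)).symm (hq i)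
      · exact hz _ (DerivedCategory.isZero_of_isLE T.obj₁ a i (by omega))
    have hq₃ : ∀ i, ProperCoh f (DCoh.HD T.obj₃ i) := fun i => by
      by_cases hi : a + 1 ≤ i
      · haveI : Mono ((DerivedCategory.homologyFunctor X.Modules i).map T.mor₂) :=
          (DerivedCategory.HomologySequence.exact₂ T hT i).mono_g
            ((DerivedCategory.isZero_of_isLE T.obj₁ a i (by omega)).eq_of_src _ _)
        haveI : Epi ((DerivedCategory.homologyFunctor X.Modules i).map T.mor₂) :=
          (DerivedCategory.HomologySequence.exact₃ T hT i (i + 1) rfl).epi_f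
            ((DerivedCategory.isZero_of_isLE T.obj₁ a (i + 1) (by omega)).eq_of_tgt _ _)
        haveI := isIso_of_mono_of_epi ((DerivedCategory.homologyFunctor X.Modules i).map T.mor₂)
        exact properCoh_of_iso f (asIso ((DerivedCategory.homologyFunctor X.Modules i).map T.mor₂)) (hq i)
      · exact hz _ (DerivedCategory.isZero_of_isGE T.obj₃ (a + 1) i (by omega))
    obtain ⟨r₁, v₁⟩ := ih a T.obj₁ h₁ge
      (DerivedCategory.TStructure.t.isLE_of_le _ a _ (by omega)) hq₁
    obtain ⟨r₃, v₃⟩ := ih (a + 1) T.obj₃ h₃ge h₃le hq₃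
    obtain ⟨c, hc⟩ := exists_rpush_triangle f T hT
    refine ⟨isCohD_obj₂ hc r₁ r₃, fun hS => ?_⟩
    obtain ⟨b₁, hb₁⟩ := v₁ hS
    obtain ⟨b₃, hb₃⟩ := v₃ hS
    exact ⟨max b₁ b₃, fun i hi => (DerivedCategory.HomologySequence.exact₂ _ hc i).isZero_X₂
      ((hb₁ i (by omega)).eq_of_src _ _) ((hb₃ i (by omega)).eq_of_tgt _ _)⟩

/-- Bounded below complexes. -/
theorem isCohD_rpush_of_properSupport (K : DCoh.D X) (a : ℤ) [K.IsGE a]
    (hq : ∀ i, ProperCoh f (DCoh.HD K i)) : DCoh.IsCohD ((DCoh.Rpush f).obj K) := fun i => by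
  haveI : IsLocallyNoetherian X := LocallyOfFiniteType.isLocallyNoetherian f
  rcases lt_or_ge i a with h | h
  · exact isCoh_of_isZero (isZero_hd_rpush_of_lt f K a i h)
  let t : Triangulated.TStructure (DCoh.D X) := DerivedCategory.TStructure.t
  let T := (t.triangleLTGE (i + 2)).obj K
  have hT : T ∈ distTriang _ := t.triangleLTGE_distinguished _ K
  haveI h₁le : T.obj₁.IsLE (i + 1) := t.isLE_truncLT_obj K _ _ (by omega)
  haveI h₃ge : T.obj₃.IsGE (i + 2) := t.isGE_truncGE_obj K _ _ le_rfl
  haveI h₁ge : T.obj₁.IsGE a := by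
    rw [DerivedCategory.isGE_iff]
    intro j hj
    exact (DerivedCategory.HomologySequence.exact₁ T hT (j - 1) j (by omega)).isZero_X₂
      ((DerivedCategory.isZero_of_isGE T.obj₃ (i + 2) (j - 1) (by omega)).eq_of_src _ _)
      ((DerivedCategory.isZero_of_isGE K a j hj).eq_of_tgt _ _)
  have hq₁ : ∀ j, ProperCoh f (DCoh.HD T.obj₁ j) := fun j => by
    by_cases hj : j ≤ i + 1
    · haveI : Epi ((DerivedCategory.homologyFunctor X.Modules j).map T.mor₁) :=
        (DerivedCategory.HomologySequence.exact₂ T hT j).epi_f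
          ((DerivedCategory.isZero_of_isGE T.obj₃ (i + 2) j (by omega)).eq_of_tgt _ _)
      haveI : Mono ((DerivedCategory.homologyFunctor X.Modules j).map T.mor₁) :=
        (DerivedCategory.HomologySequence.exact₁ T hT (j - 1) j (by omega)).mono_g
          ((DerivedCategory.isZero_of_isGE T.obj₃ (i + 2) (j - 1) (by omega)).eq_of_src _ _)
      haveI := isIso_of_mono_of_epi ((DerivedCategory.homologyFunctor X.Modules j).map T.mor₁)
      exact properCoh_of_iso f (asIso ((DerivedCategory.homologyFunctor X.Modules j).map T.mor₁)).symm (hq j)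
    · refine ⟨isCoh_of_isZero (DerivedCategory.isZero_of_isLE T.obj₁ (i + 1) j (by omega)), ?_⟩
      rw [support_eq_empty_of_zero (DerivedCategory.isZero_of_isLE T.obj₁ (i + 1) j (by omega))]
      exact QCoh.isProperOver_empty
  obtain ⟨r₁, -⟩ := rpush_coherent_bounded f (i + 1 - a).toNat a T.obj₁ h₁ge
    (DerivedCategory.TStructure.t.isLE_of_le _ (i + 1) _ (by omega)) hq₁
  obtain ⟨c, hc⟩ := exists_rpush_triangle f T hT
  haveI := isGE_rpush f T.obj₃ (i + 2)
  haveI : Mono ((DerivedCategory.homologyFunctor S.Modules i).map ((DCoh.Rpush f).map T.mor₁)) :=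
    (DerivedCategory.HomologySequence.exact₁ _ hc (i - 1) i (by omega)).mono_g
      ((DerivedCategory.isZero_of_isGE ((DCoh.Rpush f).obj T.obj₃) (i + 2) (i - 1) (by omega)).eq_of_src _ _)
  haveI : Epi ((DerivedCategory.homologyFunctor S.Modules i).map ((DCoh.Rpush f).map T.mor₁)) :=
    (DerivedCategory.HomologySequence.exact₂ _ hc i).epi_f
      ((DerivedCategory.isZero_of_isGE ((DCoh.Rpush f).obj T.obj₃) (i + 2) i (by omega)).eq_of_tgt _ _)
  haveI := isIso_of_mono_of_epi ((DerivedCategory.homologyFunctor S.Modules i).map ((DCoh.Rpush f).map T.mor₁))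
  exact isCoh_of_iso (asIso ((DerivedCategory.homologyFunctor S.Modules i).map ((DCoh.Rpush f).map T.mor₁))) (r₁ i)

end Groth.Agent.KFlatLib
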