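import Groth.Agent.KFlatLib.Scheme.LpullComp
import Groth.Agent.KFlatLib.Scheme.Tilde
import Groth.Agent.KFlatLib.Ring.Resolution
import Groth.Agent.QCoh.Pullback
import Groth.Prelude.Def_DDual2
import Groth.Prelude.Def_DCoh2

/-!
# `Lf^* (M^~) = (M ⊗^L B)^~` for `f : Spec B ⟶ Spec A`
-/

set_option linter.style.haveILetI false

universe u

open CategoryTheory CategoryTheory.Limits AlgebraicGeometry MonoidalCategory

attribute [local instance] HasDerivedCategory.standard

namespace Groth.Agent.KFlatLib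

lemma tilde_additive (R : CommRingCat.{u}) : (tilde.functor R).Additive := inferInstance

variable {A B : Type u} [CommRing A] [CommRing B] (φ : A →+* B)

/-- Extension of scalars on complexes. -/
noncomputable abbrev extC :
    CochainComplex (ModuleCat.{u} A) ℤ ⥤ CochainComplex (ModuleCat.{u} B) ℤ :=
  (ModuleCat.extendScalars.{u, u, u} φ).mapHomologicalComplex (ComplexShape.up ℤ)

/-- Extension of scalars on homotopy categories, then localisation. -/
noncomputable def extQIso :
    HomotopyCategory.quotient (ModuleCat.{u} A) (ComplexShape.up ℤ) ⋙ DRing.baseChangeKh φ ≅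
      extC φ ⋙ DerivedCategory.Q :=
  (Functor.associator _ _ _).symm ≪≫
    Functor.isoWhiskerRight
      ((ModuleCat.extendScalars.{u, u, u} φ).mapHomotopyCategoryFactors (ComplexShape.up ℤ)) _ ≪≫
    Functor.associator _ _ _ ≪≫
    Functor.isoWhiskerLeft _ (DerivedCategory.quotientCompQhIso (ModuleCat.{u} B))

/-- Flat resolutions compute derived base change. -/
noncomputable def resBaseChange :
    Resolution (HomologicalComplex.quasiIso (ModuleCat.{u} A) (ComplexShape.up ℤ))
      (HomotopyCategory.quotient (ModuleCat.{u} A) (ComplexShape.up ℤ) ⋙ DRing.baseChangeKh φ) where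
  Good := KFlat (curriedTensor (ModuleCat.{u} A))
  P := (ringCover A).P
  ψ := (ringCover A).ψ
  good := kFlat_ringRes
  weq K := (ringCover A).quasiIso_ψ K
  inverts _ _ α hP hQ hα := by
    haveI : QuasiIso α := hα
    have := quasiIso_extendScalars φ α hP hQ
    exact (NatIso.isIso_map_iff (extQIso φ) α).2
      ((DerivedCategory.isIso_Q_map_iff_quasiIso _ _).2 this)

variable [DRing.HasLBaseChange φ]

/-- The comparison `L(Q K) ⟶ Q(B ⊗ K)`. -/
noncomputable def baseChangeComparison :
    DerivedCategory.Q ⋙ DRing.LBaseChange φ ⟶ extC φ ⋙ DerivedCategory.Q :=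
  Functor.whiskerRight (DerivedCategory.quotientCompQhIso (ModuleCat.{u} A)).inv _ ≫
    (Functor.associator _ _ _).hom ≫
    Functor.whiskerLeft _ ((DRing.baseChangeKh φ).totalLeftDerivedCounit DerivedCategory.Qh
      (HomotopyCategory.quasiIso (ModuleCat.{u} A) (ComplexShape.up ℤ))) ≫
    (extQIso φ).hom

lemma isIso_baseChangeComparison {K : CochainComplex (ModuleCat.{u} A) ℤ}
    (hK : KFlat (curriedTensor (ModuleCat.{u} A)) K) : IsIso ((baseChangeComparison φ).app K) := by
  haveI : IsIso ((Functor.whiskerLeft (HomotopyCategory.quotient (ModuleCat.{u} A) (ComplexShape.up ℤ))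
      ((DRing.baseChangeKh φ).totalLeftDerivedCounit DerivedCategory.Qh
        (HomotopyCategory.quasiIso (ModuleCat.{u} A) (ComplexShape.up ℤ)))).app K) :=
    (resBaseChange φ).isIso_totalLeftDerivedCounit' DerivedCategory.Q DerivedCategory.Qh
      (HomotopyCategory.quotient (ModuleCat.{u} A) (ComplexShape.up ℤ))
      (HomologicalComplex.homotopyEquivalences (ModuleCat.{u} A) (ComplexShape.up ℤ))
      (DerivedCategory.quotientCompQhIso (ModuleCat.{u} A)) _ hK
  simp only [baseChangeComparison, NatTrans.comp_app]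
  infer_instance

variable [PreservesFiniteLimits (tilde.functor (CommRingCat.of A))]
  [PreservesFiniteLimits (tilde.functor (CommRingCat.of B))]

/-- `L f^* ∘ ~ = ~ ∘ L(- ⊗ B)`. -/
lemma nonempty_tildeD_lpull_iso [DCoh.HasLpull (Spec.map (CommRingCat.ofHom φ))] :
    Nonempty (DRing.LBaseChange φ ⋙ DCoh.tildeD (CommRingCat.of B) ≅
      DCoh.tildeD (CommRingCat.of A) ⋙ DCoh.Lpull (Spec.map (CommRingCat.ofHom φ))) := by
  let g : CommRingCat.of A ⟶ CommRingCat.of B := CommRingCat.ofHom φ
  let f := Spec.map g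
  let P := (ringCover A).P
  let tA : CochainComplex (ModuleCat.{u} A) ℤ ⥤ CochainComplex (Spec (CommRingCat.of A)).Modules ℤ :=
    (tilde.functor (CommRingCat.of A)).mapHomologicalComplex (ComplexShape.up ℤ)
  let tB : CochainComplex (ModuleCat.{u} B) ℤ ⥤ CochainComplex (Spec (CommRingCat.of B)).Modules ℤ :=
    (tilde.functor (CommRingCat.of B)).mapHomologicalComplex (ComplexShape.up ℤ)
  let W := HomologicalComplex.quasiIso (ModuleCat.{u} A) (ComplexShape.up ℤ)
  haveI : ∀ K, IsIso ((Functor.whiskerRight (ringCover A).ψ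
      (DerivedCategory.Q : _ ⥤ Dual.D A)).app K) := fun K =>
    (DerivedCategory.isIso_Q_map_iff_quasiIso _ _).2 ((ringCover A).quasiIso_ψ K)
  haveI := NatIso.isIso_of_isIso_app (Functor.whiskerRight (ringCover A).ψ
    (DerivedCategory.Q : _ ⥤ Dual.D A))
  let res : P ⋙ DerivedCategory.Q ≅ (DerivedCategory.Q : _ ⥤ Dual.D A) :=
    asIso (Functor.whiskerRight (ringCover A).ψ DerivedCategory.Q) ≪≫ Functor.leftUnitor _
  haveI : ∀ K, IsIso ((Functor.whiskerLeft P (baseChangeComparison φ)).app K) :=
    fun K => isIso_baseChangeComparison φ (kFlat_ringRes K)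
  haveI := NatIso.isIso_of_isIso_app (Functor.whiskerLeft P (baseChangeComparison φ))
  let bc : DerivedCategory.Q ⋙ DRing.LBaseChange φ ≅ P ⋙ extC φ ⋙ DerivedCategory.Q :=
    Functor.isoWhiskerRight res.symm _ ≪≫ Functor.associator _ _ _ ≪≫
      asIso (Functor.whiskerLeft P (baseChangeComparison φ))
  haveI : ∀ K, IsIso ((Functor.whiskerLeft (P ⋙ tA) (lpullComparison f)).app K) :=
    fun K => isIso_lpullComparison f (isKFlat_tilde (R := CommRingCat.of A) (P.obj K) (kFlat_ringRes K))
  haveI := NatIso.isIso_of_isIso_app (Functor.whiskerLeft (P ⋙ tA) (lpullComparison f))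
  haveI : (tilde.functor (CommRingCat.of A)).Additive  := tilde_additive _
  haveI : (tilde.functor (CommRingCat.of B)).Additive  := tilde_additive _
  haveI : PreservesFiniteColimits (tilde.functor (CommRingCat.of A)) := QCoh.tilde_preservesFiniteColimits
  haveI : PreservesFiniteColimits (tilde.functor (CommRingCat.of B)) := QCoh.tilde_preservesFiniteColimits
  let e₁ : DerivedCategory.Q ⋙ DRing.LBaseChange φ ⋙ DCoh.tildeD (CommRingCat.of B) ≅
      (P ⋙ extC φ ⋙ tB) ⋙ DerivedCategory.Q :=
    (Functor.associator _ _ _).symm ≪≫ Functor.isoWhiskerRight bc _ ≪≫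
      Functor.associator _ _ _ ≪≫ Functor.isoWhiskerLeft P (Functor.associator _ _ _ ≪≫
        Functor.isoWhiskerLeft (extC φ) (tilde.functor (CommRingCat.of B)).mapDerivedCategoryFactors ≪≫
        (Functor.associator _ _ _).symm) ≪≫ (Functor.associator _ _ _).symm
  let e₂ : DerivedCategory.Q ⋙ DCoh.tildeD (CommRingCat.of A) ⋙ DCoh.Lpull f ≅
      (P ⋙ tA) ⋙ pullCx f ⋙ DerivedCategory.Q :=
    Functor.isoWhiskerRight res.symm _ ≪≫ Functor.associator _ _ _ ≪≫
      Functor.isoWhiskerLeft P ((Functor.associator _ _ _).symm ≪≫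
        Functor.isoWhiskerRight (tilde.functor (CommRingCat.of A)).mapDerivedCategoryFactors _ ≪≫
        Functor.associator _ _ _) ≪≫ (Functor.associator _ _ _).symm ≪≫
      asIso (Functor.whiskerLeft (P ⋙ tA) (lpullComparison f))
  let e₃ : extC φ ⋙ tB ≅ tA ⋙ pullCx f := NatIso.ofComponents
    (fun K => HomologicalComplex.Hom.isoOfComponents
      (fun n => ((QCoh.tildePullbackIso g).symm.app (K.X n)))
      (fun i j _ => ((QCoh.tildePullbackIso g).inv.naturality (K.d i j)).symm))
    (fun a => by ext n : 1; exact (QCoh.tildePullbackIso g).inv.naturality (a.f n))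
  letI : Localization.Lifting DerivedCategory.Q W
      (DerivedCategory.Q ⋙ DRing.LBaseChange φ ⋙ DCoh.tildeD (CommRingCat.of B))
      (DRing.LBaseChange φ ⋙ DCoh.tildeD (CommRingCat.of B)) := ⟨Iso.refl _⟩
  letI : Localization.Lifting DerivedCategory.Q W
      (DerivedCategory.Q ⋙ DCoh.tildeD (CommRingCat.of A) ⋙ DCoh.Lpull f)
      (DCoh.tildeD (CommRingCat.of A) ⋙ DCoh.Lpull f) := ⟨Iso.refl _⟩
  exact ⟨Localization.liftNatIso DerivedCategory.Q W _ _ _ _
    (e₁ ≪≫ Functor.isoWhiskerRight (Functor.isoWhiskerLeft P e₃) _ ≪≫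
      Functor.associator _ _ _ ≪≫ Functor.isoWhiskerLeft P (Functor.associator _ _ _) ≪≫
      (Functor.associator _ _ _).symm ≪≫ e₂.symm)⟩

end Groth.Agent.KFlatLib
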