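import Groth.Agent.KFlatLib.Scheme.Grothendieck
import Groth.Agent.QCoh.CechStd
import Groth.Agent.QCoh.God
import Groth.Prelude.Def_CxOX
import Mathlib.Algebra.Homology.DerivedCategory.Ext.ExactSequences
import Mathlib.CategoryTheory.Abelian.GrothendieckCategory.HasExt

/-!
# Sections over affine opens: vanishing of `Ext` out of `j_! O_V`
-/

set_option linter.style.haveILetI false

universe u

open CategoryTheory CategoryTheory.Limits AlgebraicGeometry Opposite CategoryTheory.Abelian
  TopologicalSpace

attribute [local instance] HasDerivedCategory.standard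

namespace Groth.Agent.KFlatLib

open Groth.Agent.QCoh (stdCovers abSheaf toAbFunctor)

variable {X : Scheme.{u}}

/-- Vanishing of Cech cohomology on the standard coverings of affine opens. -/
def SAcyclic (M : X.Modules) : Prop := (stdCovers X).Acyclic (abSheaf M)

lemma sAcyclic_of_isQCoh {M : X.Modules} (hM : Coh.IsQCoh M) : SAcyclic M := fun _ hV ι U hU => by
  obtain ⟨_, _, f, hf, hfU⟩ := hU
  rw [show U = fun i => X.basicOpen (f i) from funext hfU]
  exact QCoh.acyclic_std hM hV f hf

lemma sAcyclic_of_injective (J : X.Modules) [Injective J] : SAcyclic J := fun _ _ _ U _ => by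
  let r := Injective.factorThru (𝟙 J) (QCoh.toGod J)
  refine QCoh.Ab.Acyclic.of_retract (P := (abSheaf (QCoh.God J)).presheaf) ?_
    ((toAbFunctor X).map (QCoh.toGod J)).hom ((toAbFunctor X).map r).hom ?_
  · exact QCoh.Ab.pointwise_acyclic (fun x => AddCommGrpCat.of (QCoh.stk J x : Type u)) U
  · exact congrArg (fun φ : abSheaf J ⟶ abSheaf J => φ.hom)
      (((toAbFunctor X).map_comp _ r).symm.trans
        ((congrArg (toAbFunctor X).map (Injective.comp_factorThru (𝟙 J) (QCoh.toGod J))).trans
          ((toAbFunctor X).map_id J)))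

lemma shortExact_toAb {S : ShortComplex X.Modules} (hS : S.ShortExact) :
    (S.map (toAbFunctor X)).ShortExact :=
  haveI : PreservesFiniteColimits (toAbFunctor X) :=
    (toAbFunctor X).preservesFiniteColimits_of_preservesHomology
  hS.map_of_exact _

lemma sAcyclic_X₃ {S : ShortComplex X.Modules} (hS : S.ShortExact) (h₁ : SAcyclic S.X₁)
    (h₂ : SAcyclic S.X₂) : SAcyclic S.X₃ :=
  let T := S.map (toAbFunctor X)
  QCoh.Ab.Acyclic_X₃ (T := T) (stdCovers X) (shortExact_toAb hS) h₁ h₂

lemma app_surjective {S : ShortComplex X.Modules} (hS : S.ShortExact) (h₁ : SAcyclic S.X₁)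
    {V : X.Opens} (hV : IsAffineOpen V) : Function.Surjective (S.g.app V) :=
  let T := S.map (toAbFunctor X)
  QCoh.Ab.sections_surjective (T := T) (stdCovers X) (shortExact_toAb hS) h₁ hV

/-- `j_! O_V`, representing sections on `V`. -/
noncomputable abbrev secObj (V : X.Opens) : X.Modules := CxOX.extZeroUnit V.ι

/-- `Hom(j_! O_V, M) ≅ Γ(M, V)`, by restriction to `V`. -/
noncomputable def secEquiv (V : X.Opens) (M : X.Modules) :
    (secObj V ⟶ M) ≃ Γ(M, V.ι ''ᵁ ⊤) :=
  ((CxOX.extZeroAdj V.ι).homEquiv _ M).trans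
    ((SheafOfModules.unitHomEquiv.{u} (M.restrict V.ι)).trans
      { toFun := fun s => (s.val (op ⊤) : Γ(M.restrict V.ι, ⊤))
        invFun := fun a => PresheafOfModules.sectionsMk
          (fun W => ((M.restrict V.ι).presheaf.map (homOfLE (le_top : W.unop ≤ ⊤)).op
            (show Γ(M.restrict V.ι, ⊤) from a) : Γ(M.restrict V.ι, W.unop)))
          (fun W W' i => by
            refine (ConcreteCategory.congr_hom
              ((M.restrict V.ι).presheaf.map_comp _ i) _).symm.trans ?_
            rfl)
        left_inv := fun s => Subtype.ext (funext fun W =>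
          PresheafOfModules.sections_property s (homOfLE (le_top : W.unop ≤ ⊤)).op)
        right_inv := fun a =>
          ConcreteCategory.congr_hom ((M.restrict V.ι).presheaf.map_id _) a })

lemma secEquiv_naturality (V : X.Opens) {M N : X.Modules} (φ : secObj V ⟶ M) (g : M ⟶ N) :
    secEquiv V N (φ ≫ g) = g.app (V.ι ''ᵁ ⊤) (secEquiv V M φ) := by
  dsimp only [secEquiv, Equiv.trans_apply]
  erw [Adjunction.homEquiv_naturality_right]
  rfl

lemma exists_lift_of_shortExact {S : ShortComplex X.Modules} (hS : S.ShortExact)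
    (h₁ : SAcyclic S.X₁) {V : X.Opens} (hV : IsAffineOpen V) (φ : secObj V ⟶ S.X₃) :
    ∃ ψ : secObj V ⟶ S.X₂, ψ ≫ S.g = φ := by
  obtain ⟨t, ht⟩ := app_surjective hS h₁ (V.ι_image_top.symm ▸ hV :
    IsAffineOpen (V.ι ''ᵁ ⊤)) (secEquiv V _ φ)
  refine ⟨(secEquiv V _).symm t, (secEquiv V _).injective ?_⟩
  rw [secEquiv_naturality, Equiv.apply_symm_apply, ht]

attribute [local instance] IsGrothendieckAbelian.hasExt in
lemma ext_secObj_eq_zero {V : X.Opens} (hV : IsAffineOpen V) :
    ∀ (n : ℕ) {M : X.Modules} (_ : SAcyclic M) (x : Ext (secObj V) M (n + 1)), x = 0 := by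
  intro n
  induction n with
  | zero =>
    intro M hM x
    let T : ShortComplex X.Modules :=
      ShortComplex.mk (Injective.ι M) (cokernel.π (Injective.ι M)) (cokernel.condition _)
    have hT : T.ShortExact :=
      { exact := ShortComplex.exact_of_g_is_cokernel _ (cokernelIsCokernel _) }
    obtain ⟨q, hq⟩ := Ext.covariant_sequence_exact₁ _ hT x (Ext.eq_zero_of_injective _) (zero_add 1)
    obtain ⟨φ, rfl⟩ : ∃ φ, Ext.mk₀ φ = q := (Ext.mk₀_bijective _ _).surjective q
    obtain ⟨ψ, rfl⟩ := exists_lift_of_shortExact hT hM hV φ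
    rw [← hq, ← Ext.mk₀_comp_mk₀, Ext.comp_assoc_of_second_deg_zero, hT.comp_extClass, Ext.comp_zero]
  | succ n ih =>
    intro M hM x
    let T : ShortComplex X.Modules :=
      ShortComplex.mk (Injective.ι M) (cokernel.π (Injective.ι M)) (cokernel.condition _)
    have hT : T.ShortExact :=
      { exact := ShortComplex.exact_of_g_is_cokernel _ (cokernelIsCokernel _) }
    haveI : Injective T.X₂ := inferInstanceAs (Injective (Injective.under M))
    obtain ⟨q, hq⟩ := Ext.covariant_sequence_exact₁ _ hT x (Ext.eq_zero_of_injective _) rfl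
    rw [← hq, ih (sAcyclic_X₃ hT hM (sAcyclic_of_injective _)) q, Ext.zero_comp]

attribute [local instance] IsGrothendieckAbelian.hasExt in
lemma hom_secObj_shift_eq_zero {V : X.Opens} (hV : IsAffineOpen V) {M : X.Modules} (hM : SAcyclic M)
    (k : ℤ) (hk : 0 < k)
    (φ : (DerivedCategory.singleFunctor X.Modules 0).obj (secObj V) ⟶
      ((DerivedCategory.singleFunctor X.Modules 0).obj M)⟦k⟧) : φ = 0 := by
  obtain ⟨n, rfl⟩ : ∃ n : ℕ, k = ((n + 1 : ℕ) : ℤ) := ⟨(k - 1).toNat, by omega⟩
  have h := ext_secObj_eq_zero hV n hM (Ext.homEquiv.symm φ)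
  have := congrArg Ext.hom h
  rw [Ext.zero_hom] at this
  exact (Equiv.apply_symm_apply _ _).symm.trans this

end Groth.Agent.KFlatLib
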