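import Groth.Prelude.Def_DualSch
import Groth.Agent.KFlatLib.Scheme.TildeD
import Groth.Agent.KFlatLib.Scheme.CohD
import Groth.Agent.KFlatLib.Scheme.PCQCoh
import Groth.Agent.KFlatLib.Scheme.TildePull
import Groth.Agent.KFlatLib.Ring.DualizingSerre
import Groth.Agent.KFlatLib.Ring.DualizingRange
import Groth.Agent.LC.LiaisonLocal
import Groth.Agent.S0372
import Groth.Agent.S0373
import Groth.Agent.LC.GorFlat
import Groth.Agent.H9Misc.DRingTel

/-!
# The Cohen–Macaulay locus of a scheme with a dualizing object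
-/

set_option linter.style.haveILetI false
set_option backward.isDefEq.respectTransparency false

universe u

open CategoryTheory CategoryTheory.Limits AlgebraicGeometry TopologicalSpace

attribute [local instance] HasDerivedCategory.standard

namespace Groth.Agent.KFlatLib.DualizingCM

variable {A : Type u} [CommRing A]

/-- Cohen–Macaulayness at a prime through the cohomology of a dualizing complex. -/
theorem cm_iff_existsUnique [IsNoetherianRing A] {ω : Dual.D A} (hω : Dual.IsDualizing A ω)
    (q : PrimeSpectrum A) :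
    LocCoh.IsCohenMacaulayLocalRing (Localization.AtPrime q.asIdeal) ↔
      ∃! i : ℤ, q ∈ Module.support A (Dual.HD A ω i) := by
  obtain ⟨n, hn, -, -, -⟩ := exists_extDegree hω
  have hq : q ∈ Module.support A A := by
    rw [Module.support_eq_zeroLocus, Module.annihilator_eq_bot.2 inferInstance]
    simp
  obtain ⟨δ, d, hδ, hd⟩ := exists_depth_dim q A hq
  obtain ⟨h1, h2, h3⟩ := localized_ext_range hω hn q A δ d hδ hd
  have hs : ∀ i : ℤ, q ∈ Module.support A (Dual.inD A A ⟶ ω⟦i⟧) ↔ q ∈ Module.support A (Dual.HD A ω i) := fun i => by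
    obtain ⟨e⟩ := exists_homRingLEquiv ω i
    rw [e.support_eq]
  simp only [hs] at h1 h2 h3
  have hcm : LocCoh.IsCohenMacaulayLocalRing (Localization.AtPrime q.asIdeal) ↔ d = δ := by
    haveI : IsNoetherianRing (Localization.AtPrime q.asIdeal) :=
      IsLocalization.isNoetherianRing q.asIdeal.primeCompl _ inferInstance
    rw [← isCohenMacaulayModule_localized_iff q A δ d hδ hd, LocCoh.IsCohenMacaulayModule,
      Module.supportDim_eq_of_equiv (LC.selfLoc q.asIdeal.primeCompl),
      show LocCoh.depth (Localization.AtPrime q.asIdeal) (LocalizedModule q.asIdeal.primeCompl A) =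
        LocCoh.depth (Localization.AtPrime q.asIdeal) (Localization.AtPrime q.asIdeal) from
        LC.idealDepth_congr _ (LC.selfLoc q.asIdeal.primeCompl)]
    exact ⟨fun h => h.supportDim_eq_depth, fun h => { supportDim_eq_depth := h }⟩
  rw [hcm]
  constructor
  · intro h
    refine ⟨n q - d, h2, fun i hi => ?_⟩
    have := h1 i hi
    omega
  · intro h
    have := h.unique h2 h3
    omega

/-- Some cohomology of a dualizing complex is supported at each prime. -/
theorem exists_mem_support [IsNoetherianRing A] {ω : Dual.D A} (hω : Dual.IsDualizing A ω)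
    (q : PrimeSpectrum A) : ∃ i : ℤ, q ∈ Module.support A (Dual.HD A ω i) := by
  obtain ⟨n, hn, -, -, -⟩ := exists_extDegree hω
  have hq : q ∈ Module.support A A := by
    rw [Module.support_eq_zeroLocus, Module.annihilator_eq_bot.2 inferInstance]
    simp
  obtain ⟨δ, d, hδ, hd⟩ := exists_depth_dim q A hq
  obtain ⟨-, h2, -⟩ := localized_ext_range hω hn q A δ d hδ hd
  obtain ⟨e⟩ := exists_homRingLEquiv ω (n q - d)
  exact ⟨_, e.support_eq ▸ h2⟩

variable {X : Scheme.{u}} (k : Spec (CommRingCat.of A) ⟶ X) [IsOpenImmersion k]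

/-- Stalks of `~` are localizations. -/
lemma nontrivial_tilde_stalk_iff {R : CommRingCat.{u}} (M : ModuleCat.{u} R) (q : PrimeSpectrum.Top R) :
    Nontrivial ((tilde M).presheaf.stalk q) ↔ Nontrivial (LocalizedModule q.asIdeal.primeCompl M) :=
  (IsLocalizedModule.iso q.asIdeal.primeCompl (tilde.toStalk M q).hom).toEquiv.nontrivial_congr.symm

/-- A stalk of the cohomology at a point of a chart. -/
lemma nontrivial_stalk_iff [PreservesFiniteLimits (tilde.functor (CommRingCat.of A))] {K : DCoh.D X} {ω : Dual.D A}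
    (e : (rho k).obj K ≅ (DCoh.tildeD (CommRingCat.of A)).obj ω) (p : Spec (CommRingCat.of A)) (i : ℤ) :
    Nontrivial ((DCoh.HD K i).presheaf.stalk (k.base p)) ↔ p ∈ Module.support A (Dual.HD A ω i) := by
  let M : ModuleCat.{u} (CommRingCat.of A) := (DerivedCategory.homologyFunctor (ModuleCat.{u} A) i).obj ω
  haveI : (tilde.functor (CommRingCat.of A)).Additive := tilde_additive _
  haveI : PreservesFiniteColimits (tilde.functor (CommRingCat.of A)) := QCoh.tilde_preservesFiniteColimits
  let eH : (DCoh.HD K i).restrict k ≅ tilde M :=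
    (restrictHDIso k K i).symm ≪≫ (DerivedCategory.homologyFunctor _ i).mapIso e ≪≫
      (mapDCHomologyIso (tilde.functor (CommRingCat.of A)) i).app ω
  let eS : (Scheme.Modules.toPresheaf _ ⋙ TopCat.Presheaf.stalkFunctor AddCommGrpCat.{u} p).obj (tilde M) ≅
      (Scheme.Modules.toPresheaf _ ⋙ TopCat.Presheaf.stalkFunctor AddCommGrpCat.{u} (k.base p)).obj (DCoh.HD K i) :=
    (Scheme.Modules.toPresheaf _ ⋙ TopCat.Presheaf.stalkFunctor AddCommGrpCat.{u} p).mapIso eH.symm ≪≫
      (Scheme.Modules.restrictStalkNatIso k p).app (DCoh.HD K i)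
  refine (eS.addCommGroupIsoToAddEquiv.toEquiv.nontrivial_congr).symm.trans (Iff.trans ?_ Module.mem_support_iff.symm)
  exact nontrivial_tilde_stalk_iff M p

/-- The stalk at a point of a chart is a localization. -/
lemma cm_stalk_iff [IsNoetherianRing A] (p : PrimeSpectrum A) :
    LocCoh.IsCohenMacaulayLocalRing (X.presheaf.stalk (k.base p)) ↔
      LocCoh.IsCohenMacaulayLocalRing (Localization.AtPrime p.asIdeal) := by
  let e : X.presheaf.stalk (k.base p) ≃+* Localization.AtPrime p.asIdeal :=
    (asIso (k.stalkMap p) ≪≫ Spec.stalkIso (CommRingCat.of A) p).commRingCatIsoToRingEquiv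
  haveI : IsNoetherianRing (Localization.AtPrime p.asIdeal) :=
    IsLocalization.isNoetherianRing p.asIdeal.primeCompl _ inferInstance
  haveI : IsNoetherianRing (X.presheaf.stalk (k.base p)) := isNoetherianRing_of_ringEquiv _ e.symm
  exact ⟨fun h => LC.Liaison.isCMLocal_of_ringEquiv e, fun h => LC.Liaison.isCMLocal_of_ringEquiv e.symm⟩

/-- Cohen–Macaulayness at a point of a scheme with a dualizing object, and openness. -/
theorem cm_locus [IsLocallyNoetherian X]
    [∀ (U : Scheme.{u}) (j : U ⟶ X) [IsOpenImmersion j], PreservesFiniteLimits (Scheme.Modules.restrictFunctor j)]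
    [∀ (R : CommRingCat.{u}), PreservesFiniteLimits (tilde.functor R)]
    (ω : DCoh.D X) (hω : Dual2.IsDualizingSch X ω) :
    (∀ x : X, LocCoh.IsCohenMacaulayLocalRing (X.presheaf.stalk x) ↔
      ∃! i : ℤ, Nontrivial ((DCoh.HD ω i).presheaf.stalk x)) ∧
      IsOpen {x : X | LocCoh.IsCohenMacaulayLocalRing (X.presheaf.stalk x)} := by
  refine ⟨fun x => ?_, isOpen_iff_forall_mem_open.2 fun x hx => ?_⟩
  · obtain ⟨R, hR, j, hj, p, rfl⟩ := exists_chart x
    obtain ⟨ωA, hωA, ⟨e⟩⟩ := hω R j
    rw [cm_stalk_iff j p, cm_iff_existsUnique hωA p]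
    simp only [nontrivial_stalk_iff j e p]
  · obtain ⟨R, hR, j, hj, p, rfl⟩ := exists_chart x
    obtain ⟨ωA, hωA, -⟩ := hω R j
    refine ⟨j.base '' {q : PrimeSpectrum R | LocCoh.IsCohenMacaulayLocalRing (Localization.AtPrime q.asIdeal)},
      ?_, j.isOpenEmbedding.isOpenMap _ (Groth.Agent.S0372.result R ωA hωA).1, p, (cm_stalk_iff j p).1 hx, rfl⟩
    rintro _ ⟨q, hq, rfl⟩
    exact (cm_stalk_iff j q).2 hq

/-- A scheme whose dualizing object is a sheaf is Cohen–Macaulay. -/
theorem cm_of_module [IsLocallyNoetherian X]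
    [∀ (U : Scheme.{u}) (j : U ⟶ X) [IsOpenImmersion j], PreservesFiniteLimits (Scheme.Modules.restrictFunctor j)]
    [∀ (R : CommRingCat.{u}), PreservesFiniteLimits (tilde.functor R)]
    (ω : X.Modules) (hω : Dual2.IsDualizingSch X (DCoh.inD X ω)) (x : X) :
    LocCoh.IsCohenMacaulayLocalRing (X.presheaf.stalk x) := by
  refine ((cm_locus _ hω).1 x).2 ?_
  obtain ⟨R, hR, j, hj, p, rfl⟩ := exists_chart x
  obtain ⟨ωA, hωA, ⟨e⟩⟩ := hω R j
  simp only [nontrivial_stalk_iff j e p]
  obtain ⟨i, hi⟩ := exists_mem_support hωA p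
  have key : ∀ i : ℤ, p ∈ Module.support R (Dual.HD R ωA i) → i = 0 := fun i hi => by
    by_contra hne
    have hz : IsZero (DCoh.HD (DCoh.inD X ω) i) := by
      rcases lt_or_gt_of_ne hne with h | h
      · exact DerivedCategory.isZero_of_isGE (DCoh.inD X ω) 0 i h
      · exact DerivedCategory.isZero_of_isLE (DCoh.inD X ω) 0 i h
    haveI := ((nontrivial_stalk_iff j e p i).2 hi)
    exact not_subsingleton ((DCoh.HD (DCoh.inD X ω) i).presheaf.stalk (j.base p))
      (AddCommGrpCat.subsingleton_of_isZero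
        (Functor.map_isZero (Scheme.Modules.toPresheaf X ⋙ TopCat.Presheaf.stalkFunctor AddCommGrpCat.{u} (j.base p)) hz))
  exact ⟨0, key i hi ▸ hi, key⟩

/-- The stalk at a point of a chart, for the Gorenstein property. -/
lemma gor_stalk_iff [IsNoetherianRing A] (p : PrimeSpectrum A) :
    LocCoh.IsGorensteinLocalRing (X.presheaf.stalk (k.base p)) ↔
      LocCoh.IsGorensteinLocalRing (Localization.AtPrime p.asIdeal) := by
  let e : X.presheaf.stalk (k.base p) ≃+* Localization.AtPrime p.asIdeal :=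
    (asIso (k.stalkMap p) ≪≫ Spec.stalkIso (CommRingCat.of A) p).commRingCatIsoToRingEquiv
  haveI : IsNoetherianRing (Localization.AtPrime p.asIdeal) :=
    IsLocalization.isNoetherianRing p.asIdeal.primeCompl _ inferInstance
  haveI : IsNoetherianRing (X.presheaf.stalk (k.base p)) := isNoetherianRing_of_ringEquiv _ e.symm
  exact ⟨fun h => LC.gorenstein_of_ringEquiv e, fun h => LC.gorenstein_of_ringEquiv e.symm⟩

/-- The Gorenstein locus is open. -/
theorem isOpen_gorenstein_locus [IsLocallyNoetherian X]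
    [∀ (U : Scheme.{u}) (j : U ⟶ X) [IsOpenImmersion j], PreservesFiniteLimits (Scheme.Modules.restrictFunctor j)]
    [∀ (R : CommRingCat.{u}), PreservesFiniteLimits (tilde.functor R)]
    (ω : DCoh.D X) (hω : Dual2.IsDualizingSch X ω) :
    IsOpen {x : X | LocCoh.IsGorensteinLocalRing (X.presheaf.stalk x)} := by
  refine isOpen_iff_forall_mem_open.2 fun x hx => ?_
  obtain ⟨R, hR, j, hj, p, rfl⟩ := exists_chart x
  obtain ⟨ωA, hωA, -⟩ := hω R j
  refine ⟨j.base '' {q : PrimeSpectrum R | LocCoh.IsGorensteinLocalRing (Localization.AtPrime q.asIdeal)},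
    ?_, j.isOpenEmbedding.isOpenMap _ (Groth.Agent.S0373.result R ωA hωA), p, (gor_stalk_iff j p).1 hx, rfl⟩
  rintro _ ⟨q, hq, rfl⟩
  exact (gor_stalk_iff j q).2 hq

end Groth.Agent.KFlatLib.DualizingCM
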