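import Groth.Agent.KFlatLib.Scheme.PullTensorCx
import Groth.Agent.TriCat.DerivedCoproducts

/-!
# Derived tensor products and pullbacks commute with coproducts
-/

set_option linter.style.haveILetI false

universe t v u v' u'

open CategoryTheory CategoryTheory.Limits AlgebraicGeometry

attribute [local instance] HasDerivedCategory.standard

namespace Groth.Agent.KFlatLib

/-- `Q` preserves coproducts. -/
lemma preservesColimit_Q {A : Type u} [Category.{v} A] [Abelian A] {J : Type t}
    [HasColimitsOfShape (Discrete J) A] [HasExactColimitsOfShape (Discrete J) A]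
    (K : J → CochainComplex A ℤ) :
    PreservesColimit (Discrete.functor K)
      (DerivedCategory.Q : CochainComplex A ℤ ⥤ DerivedCategory A) := by
  let Q : CochainComplex A ℤ ⥤ DerivedCategory A := DerivedCategory.Q
  have hdesc : ∀ {T : DerivedCategory A} (k : ∀ j, Q.obj (K j) ⟶ T),
      ∃ d : Q.obj (∐ K) ⟶ T, ∀ j, Q.map (Sigma.ι K j) ≫ d = k j := by
    intro T k
    let eT := Q.objObjPreimageIso T
    choose Z s hs f hf using fun j => DerivedCategory.right_fac (k j ≫ eT.inv)
    haveI : IsIso (Q.map (Limits.Sigma.map s)) := (DerivedCategory.isIso_Q_map_iff_quasiIso _ _).2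
      (TriCat.quasiIso_sigmaMap s fun j => (DerivedCategory.isIso_Q_map_iff_quasiIso _ _).1 (hs j))
    refine ⟨inv (Q.map (Limits.Sigma.map s)) ≫ Q.map (Sigma.desc f) ≫ eT.hom, fun j => ?_⟩
    haveI : IsIso (Q.map (s j)) := hs j
    rw [← cancel_epi (Q.map (s j)), ← Q.map_comp_assoc, ← Sigma.ι_map s j, Q.map_comp_assoc,
      IsIso.hom_inv_id_assoc, ← Q.map_comp_assoc, Sigma.ι_desc]
    have h := congrArg (fun g => Q.map (s j) ≫ g ≫ eT.hom) (hf j)
    simp only [Category.assoc, Iso.inv_hom_id, Category.comp_id] at h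
    rw [h]
    exact (IsIso.hom_inv_id_assoc _ _).symm
  refine preservesColimit_of_preserves_colimit_cocone (coproductIsCoproduct K) ?_
  refine (Cofan.isColimitMapCoconeEquiv Q _ _).symm ?_
  exact Cofan.IsColimit.mk _ (fun t => (hdesc t.inj).choose)
    (fun t j => (hdesc t.inj).choose_spec j)
    (fun t m hm => sub_eq_zero.1 (TriCat.sigma_Q_hom_ext _ fun j => by
      rw [Preadditive.comp_sub, sub_eq_zero]
      exact (hm j).trans ((hdesc t.inj).choose_spec j).symm))

/-- A functor computed by complexes in a class stable under coproducts commutes with coproducts. -/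
lemma isIso_sigmaDesc {A : Type u} [Category.{v} A] [Abelian A] {B : Type u'} [Category.{v'} B]
    [Abelian B] {J : Type t}
    [HasColimitsOfShape (Discrete J) A] [HasExactColimitsOfShape (Discrete J) A]
    [HasColimitsOfShape (Discrete J) B] [HasExactColimitsOfShape (Discrete J) B]
    (F : DerivedCategory A ⥤ DerivedCategory B) (G : CochainComplex A ℤ ⥤ CochainComplex B ℤ)
    [PreservesColimitsOfShape (Discrete J) G]
    (η : DerivedCategory.Q ⋙ F ⟶ G ⋙ DerivedCategory.Q) (Good : CochainComplex A ℤ → Prop)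
    (hη : ∀ K, Good K → IsIso (η.app K))
    (hcop : ∀ K : J → CochainComplex A ℤ, (∀ j, Good (K j)) → Good (∐ K))
    (C : J → DerivedCategory A) [HasCoproduct C] [HasCoproduct fun j => F.obj (C j)]
    (hres : ∀ j, ∃ K, Good K ∧ Nonempty (DerivedCategory.Q.obj K ≅ C j)) :
    IsIso (Sigma.desc fun j => F.map (Sigma.ι C j)) := by
  choose K hK e using hres
  let e' := fun j => (e j).some
  haveI := preservesColimit_Q K
  haveI := preservesColimit_Q fun j => G.obj (K j)
  haveI : PreservesColimit (Discrete.functor K ⋙ G)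
      (DerivedCategory.Q : CochainComplex B ℤ ⥤ DerivedCategory B) :=
    preservesColimit_of_iso_diagram (K₁ := Discrete.functor fun j => G.obj (K j)) _
      (Discrete.natIso fun j => Iso.refl _)
  haveI : PreservesColimit (Discrete.functor K) (DerivedCategory.Q ⋙ F) := by
    refine preservesColimit_of_preserves_colimit_cocone (coproductIsCoproduct K) ?_
    refine IsColimit.equivOfNatIsoOfIso
      (NatIso.ofComponents (fun j => (@asIso _ _ _ _ (η.app (K j.as)) (hη _ (hK _))).symm)
        fun {i j} f => ?_) _ _ ?_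
      (isColimitOfPreserves (G ⋙ DerivedCategory.Q) (coproductIsCoproduct K))
    · obtain rfl := Discrete.ext (Discrete.eq_of_hom f)
      simp
    · haveI := hη _ (hcop K hK)
      refine Cocone.ext (asIso (η.app (∐ K))).symm fun j => ?_
      change (η.app (K j.as) ≫ _) ≫ inv (η.app (∐ K)) = _
      rw [IsIso.comp_inv_eq]
      exact (η.naturality _).symm
  haveI : HasCoproduct fun j => DerivedCategory.Q.obj (K j) :=
    hasColimit_of_iso (Discrete.natIso fun j => e' j.as :
      Discrete.functor (fun j => DerivedCategory.Q.obj (K j)) ≅ Discrete.functor C)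
  haveI : PreservesColimit (Discrete.functor fun j => DerivedCategory.Q.obj (K j)) F :=
    preservesColimit_of_preserves_colimit_cocone
      ((Cofan.isColimitMapCoconeEquiv (DerivedCategory.Q : CochainComplex A ℤ ⥤ DerivedCategory A)
        _ _) (isColimitOfPreserves _ (coproductIsCoproduct K)))
      ((Cofan.isColimitMapCoconeEquiv F _ _).symm
        ((Cofan.isColimitMapCoconeEquiv (DerivedCategory.Q ⋙ F) _ _)
          (isColimitOfPreserves (DerivedCategory.Q ⋙ F) (coproductIsCoproduct K))))
  haveI : PreservesColimit (Discrete.functor C) F :=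
    preservesColimit_of_iso_diagram F (Discrete.natIso fun j => e' j.as :
      Discrete.functor (fun j => DerivedCategory.Q.obj (K j)) ≅ Discrete.functor C)
  exact inferInstanceAs (IsIso (sigmaComparison F C))

variable {X Y : Scheme.{u}}

/-- A coproduct of K-flat complexes of modules is K-flat. -/
lemma isKFlat_sigma {ι : Type u} (K : ι → CochainComplex X.Modules ℤ)
    (h : ∀ i, DCoh.IsKFlat (K i)) : DCoh.IsKFlat (∐ K) :=
  kFlat_sigma K h

lemma exists_kFlat_rep (C : DCoh.D X) :
    ∃ K, DCoh.IsKFlat K ∧ Nonempty (DerivedCategory.Q.obj K ≅ C) :=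
  ⟨_, isKFlat_kRes (DerivedCategory.Q.objPreimage C),
    ⟨(resQIso X).app _ ≪≫ DerivedCategory.Q.objObjPreimageIso C⟩⟩

lemma isIso_sigmaDesc_lpull (f : X ⟶ Y) [DCoh.HasLpull f] {ι : Type u} (C : ι → DCoh.D Y)
    [HasCoproduct C] [HasCoproduct (fun i => (DCoh.Lpull f).obj (C i))] :
    IsIso (Sigma.desc (fun i => (DCoh.Lpull f).map (Sigma.ι C i))) := by
  haveI : PreservesColimitsOfShape (Discrete ι) (pullCx f) :=
    ⟨fun {K} => ⟨fun {c} hc => ⟨HomologicalComplex.isColimitOfEval _ _ fun n =>
      isColimitOfPreserves (HomologicalComplex.eval Y.Modules (ComplexShape.up ℤ) n ⋙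
        Scheme.Modules.pullback f) hc⟩⟩⟩
  exact isIso_sigmaDesc (DCoh.Lpull f) (pullCx f) (lpullComparison f) DCoh.IsKFlat
    (fun K hK => isIso_lpullComparison f hK) isKFlat_sigma C fun j => exists_kFlat_rep _

lemma isIso_sigmaDesc_ltensor (D : CochainComplex X.Modules ℤ) [DCoh.HasLTensorCx D] {ι : Type u}
    (C : ι → DCoh.D X) [HasCoproduct C] [HasCoproduct (fun i => (DCoh.LTensorCx D).obj (C i))] :
    IsIso (Sigma.desc (fun i => (DCoh.LTensorCx D).map (Sigma.ι C i))) := by
  haveI := preservesColimitsOfShape₁ DCoh.tensorBi (Discrete ι) D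
  exact isIso_sigmaDesc (DCoh.LTensorCx D) (DCoh.tensorCx.flip.obj D)
    ((DCoh.tensorCxQ D).totalLeftDerivedCounit DerivedCategory.Q (qisX X)) DCoh.IsKFlat
    (fun K hK => isIso_LTensorCx_counit D hK) isKFlat_sigma C fun j => exists_kFlat_rep _

end Groth.Agent.KFlatLib
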