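import Groth.Agent.KFlatLib.Scheme.ProjFormulaLoc
import Groth.Agent.KFlatLib.Scheme.TildeD
import Groth.Agent.KFlatLib.Scheme.PCQCoh
import Groth.Agent.KFlatLib.Scheme.LocalDevissage
import Groth.Agent.KFlatLib.Scheme.RGammaPush
import Groth.Agent.KFlatLib.Scheme.InnerHom
import Groth.Agent.KFlatLib.Scheme.TensorAssoc
import Groth.Agent.KFlatLib.Ring.DerivedInduction
import Groth.Agent.QCoh.Localize

/-!
# The projection formula on `D_QCoh`
-/

set_option linter.style.haveILetI false
set_option backward.isDefEq.respectTransparency false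

universe u

open CategoryTheory CategoryTheory.Limits AlgebraicGeometry Pretriangulated TopologicalSpace

attribute [local instance] HasDerivedCategory.standard

namespace Groth.Agent.KFlatLib

variable {X Y : Scheme.{u}}

lemma isQCohD_restrictD {U : Scheme.{u}} (j : U ⟶ X) [IsOpenImmersion j]
    [PreservesFiniteLimits (Scheme.Modules.restrictFunctor j)] {E : DCoh.D X} (hE : DCoh.IsQCohD E) :
    DCoh.IsQCohD ((DCoh.restrictD j).obj E) := fun i =>
  isQCoh_of_iso ((mapDCHomologyIso (Scheme.Modules.restrictFunctor j) i).app E).symm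
    (QCoh.isQCoh_restrict j (hE i))

/-- `- ⊗^L E` only depends on the class of `E` in the derived category. -/
lemma nonempty_LTensorCx_congr_D {P E : CochainComplex X.Modules ℤ}
    (e : DerivedCategory.Q.obj P ≅ DerivedCategory.Q.obj E)
    [DCoh.HasLTensorCx P] [DCoh.HasLTensorCx E] :
    Nonempty (DCoh.LTensorCx P ≅ DCoh.LTensorCx E) := by
  obtain ⟨Z, s, hs, g, hg⟩ := DerivedCategory.right_fac e.hom
  haveI : IsIso (DerivedCategory.Q.map s) := hs
  haveI : IsIso (DerivedCategory.Q.map g) := by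
    have h : DerivedCategory.Q.map g = DerivedCategory.Q.map s ≫ e.hom := by
      rw [hg, IsIso.hom_inv_id_assoc]
    rw [h]
    infer_instance
  haveI : QuasiIso s := (DerivedCategory.isIso_Q_map_iff_quasiIso _ _).1 inferInstance
  haveI : QuasiIso g := (DerivedCategory.isIso_Q_map_iff_quasiIso _ _).1 inferInstance
  haveI := hasLTensorCx Z
  obtain ⟨e₁⟩ := nonempty_LTensorCx_congr s
  obtain ⟨e₂⟩ := nonempty_LTensorCx_congr g
  exact ⟨e₁.symm ≪≫ e₂⟩

variable (f : X ⟶ Y) {R : CochainComplex Y.Modules ℤ} (I : CochainComplex X.Modules ℤ)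
  (a : R ⟶ (pushCxF f).obj I) [DCoh.HasRpush f] (W : Y.Opens)

lemma isIso_restrictD_map_iff {U : Scheme.{u}} (j : U ⟶ Y) [IsOpenImmersion j]
    [PreservesFiniteLimits (Scheme.Modules.restrictFunctor j)] {A B : CochainComplex Y.Modules ℤ}
    (g : A ⟶ B) :
    IsIso ((DCoh.restrictD j).map (DerivedCategory.Q.map g)) ↔ QuasiIso ((rCx j).map g) :=
  (NatIso.isIso_map_iff (Scheme.Modules.restrictFunctor j).mapDerivedCategoryFactors g).trans
    (DerivedCategory.isIso_Q_map_iff_quasiIso _ _)

omit [DCoh.HasRpush f] in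
/-- Morphisms invertible on `W` stay so after both sides of the projection map. -/
lemma isIso_restrictD_projFH (hR : DCoh.IsKFlat R) {A B : DCoh.D Y} (φ : A ⟶ B)
    (h : IsIso ((DCoh.restrictD W.ι).map φ)) :
    IsIso ((DCoh.restrictD W.ι).map ((projF R).map φ)) ∧
      IsIso ((DCoh.restrictD (kIm f W)).map ((projH f I).map φ)) := by
  let eA := DerivedCategory.Q.objObjPreimageIso A
  let eB := DerivedCategory.Q.objObjPreimageIso B
  obtain ⟨Z, s, hs, g, hg⟩ := DerivedCategory.right_fac (eA.hom ≫ φ ≫ eB.inv)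
  haveI : IsIso (DerivedCategory.Q.map s) := hs
  haveI : QuasiIso s := (DerivedCategory.isIso_Q_map_iff_quasiIso _ _).1 hs
  let g' := (kRes Y).map g
  haveI := quasiIso_kRes_map s
  haveI hg₀ : IsIso ((DCoh.restrictD W.ι).map (DerivedCategory.Q.map g)) := by
    have e : DerivedCategory.Q.map g = DerivedCategory.Q.map s ≫ eA.hom ≫ φ ≫ eB.inv := by
      rw [hg, IsIso.hom_inv_id_assoc]
    rw [e, Functor.map_comp, Functor.map_comp, Functor.map_comp]
    infer_instance
  haveI : QuasiIso ((rCx W.ι).map g') := by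
    haveI := (isIso_restrictD_map_iff W.ι g).1 hg₀
    haveI := (flatCover Y).quasiIso_ψ Z
    haveI := (flatCover Y).quasiIso_ψ (DerivedCategory.Q.objPreimage B)
    haveI : QuasiIso ((rCx W.ι).map ((flatCover Y).ψ.app Z)) := inferInstance
    haveI : QuasiIso ((rCx W.ι).map ((flatCover Y).ψ.app (DerivedCategory.Q.objPreimage B))) :=
      inferInstance
    haveI : QuasiIso ((rCx W.ι).map g' ≫
        (rCx W.ι).map ((flatCover Y).ψ.app (DerivedCategory.Q.objPreimage B))) := by
      rw [← Functor.map_comp, (flatCover Y).ψ.naturality g, Functor.map_comp]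
      exact inferInstanceAs (QuasiIso (_ ≫ (rCx W.ι).map g))
    exact quasiIso_of_comp_right _
      ((rCx W.ι).map ((flatCover Y).ψ.app (DerivedCategory.Q.objPreimage B)))
  have key : ∀ {V : Scheme.{u}} {T : Scheme.{u}} (j : V ⟶ T) [IsOpenImmersion j]
      [PreservesFiniteLimits (Scheme.Modules.restrictFunctor j)]
      {G : CochainComplex Y.Modules ℤ ⥤ CochainComplex T.Modules ℤ} (hG : KRespects G),
      QuasiIso ((rCx j).map (G.map g')) → IsIso ((DCoh.restrictD j).map ((kLift hG).map φ)) := by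
    intro V T j _ _ G hG hq
    haveI : IsIso ((DCoh.restrictD j).map ((kLift hG).map (DerivedCategory.Q.map g))) := by
      refine (NatIso.isIso_map_iff (Functor.isoWhiskerRight (kLiftFac hG) (DCoh.restrictD j)) g).2 ?_
      exact (isIso_restrictD_map_iff j (G.map g')).2 hq
    have e : φ = eA.inv ≫ inv (DerivedCategory.Q.map s) ≫ DerivedCategory.Q.map g ≫ eB.hom := by
      rw [← Category.assoc (inv _), ← hg]
      simp
    rw [e, Functor.map_comp, Functor.map_comp, Functor.map_comp, Functor.map_comp, Functor.map_comp,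
      Functor.map_comp]
    infer_instance
  refine ⟨key W.ι (kRespects_tensor R) (quasiIso_rCx_tensor W.ι hR g'),
    key (kIm f W) (kRespects_pullTensor f I) ?_⟩
  haveI := quasiIso_rCx_pull f W g' (isKFlat_kRes _) (isKFlat_kRes _)
  exact quasiIso_rCx_tensor' (kIm f W) I _ (isKFlat_pullback f (isKFlat_kRes _))
    (isKFlat_pullback f (isKFlat_kRes _))

/-- The class only sees the restriction to `W`. -/
lemma projClass_iff (hR : DCoh.IsKFlat R) {A B : DCoh.D Y} (φ : A ⟶ B)
    (h : IsIso ((DCoh.restrictD W.ι).map φ)) :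
    ProjClass f I a W A ↔ ProjClass f I a W B := by
  haveI := hasRpush_scheme (f ∣_ W)
  obtain ⟨e⟩ := nonempty_rpush_restrictD_iso f W
  have hn : ∀ n : ℤ, IsIso ((DCoh.restrictD W.ι).map (φ⟦n⟧')) := fun n => by
    haveI := h
    exact (NatIso.isIso_map_iff ((DCoh.restrictD W.ι).commShiftIso n) φ).2
      (Functor.map_isIso (shiftFunctor _ n) ((DCoh.restrictD W.ι).map φ))
  have h₁ := fun n => (isIso_restrictD_projFH f I W hR _ (hn n)).1
  have h₂ := fun n => (isIso_restrictD_projFH f I W hR _ (hn n)).2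
  have h₃ : ∀ n : ℤ, IsIso ((DCoh.restrictD W.ι).map
      ((DCoh.Rpush f).map ((projH f I).map (φ⟦n⟧')))) := fun n => by
    haveI := h₂ n
    exact (NatIso.isIso_map_iff e _).2 (Functor.map_isIso (DCoh.Rpush (f ∣_ W))
      ((DCoh.restrictD (kIm f W)).map ((projH f I).map (φ⟦n⟧'))))
  have hθ : ∀ n : ℤ, IsIso ((DCoh.restrictD W.ι).map ((projθ f I a).app (A⟦n⟧))) ↔
      IsIso ((DCoh.restrictD W.ι).map ((projθ f I a).app (B⟦n⟧))) := fun n => by
    haveI := h₁ n
    haveI := h₃ n
    have w := congrArg (fun t => (DCoh.restrictD W.ι).map t) ((projθ f I a).naturality (φ⟦n⟧'))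
    simp only [Functor.map_comp, Functor.comp_map] at w
    rw [← isIso_comp_right_iff _ ((DCoh.restrictD W.ι).map
      ((DCoh.Rpush f).map ((projH f I).map (φ⟦n⟧')))), ← w, isIso_comp_left_iff]
  refine and_congr (forall_congr' hθ) (forall_congr' fun n => ?_)
  haveI := h₂ n
  exact ⟨isQCohD_of_iso (asIso ((DCoh.restrictD (kIm f W)).map ((projH f I).map (φ⟦n⟧')))),
    isQCohD_of_iso (asIso ((DCoh.restrictD (kIm f W)).map ((projH f I).map (φ⟦n⟧')))).symm⟩

/-- Shifts of the structure module are in the class. -/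
lemma projClass_single [QuasiIso a] [I.IsKInjective] (hI : DCoh.IsQCohD (DerivedCategory.Q.obj I))
    (k : ℤ) : ProjClass f I a W (DerivedCategory.Q.obj
      ((HomologicalComplex.single Y.Modules (ComplexShape.up ℤ) k).obj (Coh.structureModule Y))) := by
  let S := HomologicalComplex.single Y.Modules (ComplexShape.up ℤ)
  have hshift : ∀ n : ℤ, Nonempty ((DerivedCategory.Q.obj ((S k).obj (Coh.structureModule Y)))⟦n⟧ ≅
      DerivedCategory.Q.obj ((S (k - n)).obj (Coh.structureModule Y))) := fun n =>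
    ⟨((DerivedCategory.Q.commShiftIso n).app _).symm ≪≫ DerivedCategory.Q.mapIso
      ((((CochainComplex.singleFunctors Y.Modules).shiftIso n (k - n) k (by omega)).app _))⟩
  have key : ∀ m : ℤ, IsIso ((DCoh.restrictD W.ι).map
      ((projθ f I a).app (DerivedCategory.Q.obj ((S m).obj (Coh.structureModule Y))))) ∧
      DCoh.IsQCohD ((DCoh.restrictD (kIm f W)).obj
        ((projH f I).obj (DerivedCategory.Q.obj ((S m).obj (Coh.structureModule Y))))) := by
    intro m
    let P := (S m).obj (Coh.structureModule Y)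
    have hP : DCoh.IsKFlat P := isKFlat_of_isStrictlyLE P m (isFlat_single m isFlat_structureModule)
    obtain ⟨h₁, h₂⟩ := quasiIso_projCx_single f R I a m (𝟙 X)
    haveI := h₁
    haveI : ((DCoh.tensorCx.obj I).obj ((pullCx f).obj P)).IsKInjective := by
      haveI := h₂
      exact CochainComplex.isKInjective_of_iso ((NatIso.mapHomologicalComplex
        (Scheme.Modules.restrictFunctorId (X := X)) (ComplexShape.up ℤ) ≪≫
        Functor.mapHomologicalComplexIdIso X.Modules (ComplexShape.up ℤ)).app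
          ((DCoh.tensorCx.obj I).obj ((pullCx f).obj P)))
    refine ⟨(isIso_projθ_iff f I a W hP).2 ?_, ?_⟩
    · haveI := isIso_Q_map _ h₁
      haveI := isIso_rpushUnit_of_kInjective f ((DCoh.tensorCx.obj I).obj ((pullCx f).obj P))
      haveI : IsIso ((projΘ f I a).app P) := IsIso.comp_isIso' inferInstance inferInstance
      infer_instance
    · haveI := isIso_kLiftε (kRespects_pullTensor f I) hP
      refine isQCohD_restrictD _ (isQCohD_of_iso (asIso ((kLiftε (kRespects_pullTensor f I)).app P)).symm ?_)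
      haveI : IsIso (SheafOfModules.pullbackObjUnitToUnit f.toRingCatSheafHom) := inferInstance
      let e : (Scheme.Modules.pullback f).obj (Coh.structureModule Y) ≅ Coh.structureModule X :=
        asIso (SheafOfModules.pullbackObjUnitToUnit f.toRingCatSheafHom)
      let eS : (pullCx f).obj P ≅
          (HomologicalComplex.single X.Modules (ComplexShape.up ℤ) m).obj (Coh.structureModule X) :=
        (HomologicalComplex.singleMapHomologicalComplex (Scheme.Modules.pullback f) _ m).app _ ≪≫
          (HomologicalComplex.single _ _ m).mapIso e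
      let e₂ : Inner.tenX (DCoh.tensorBi (X := X)) ((pullCx f).obj P) ≅
          shiftFunctor (CochainComplex X.Modules ℤ) (-m) :=
        DCoh.tensorBi.map₂CochainComplex.flip.mapIso eS ≪≫
          Inner.tensorUnitShiftIso (DCoh.tensorBi (X := X)) (Coh.structureModule X) (tensorStructureIso X) m
      exact isQCohD_of_iso (((DerivedCategory.Q.commShiftIso (-m)).app I).symm ≪≫
        DerivedCategory.Q.mapIso (e₂.app I).symm) (isQCohD_shift hI (-m))
  refine ⟨fun n => ?_, fun n => ?_⟩
  · exact (NatTrans.isIso_app_iff_of_iso (Functor.whiskerRight (projθ f I a) (DCoh.restrictD W.ι))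
      (hshift n).some.symm).1 (key (k - n)).1
  · exact isQCohD_of_iso ((DCoh.restrictD (kIm f W)).mapIso
      ((projH f I).mapIso (hshift n).some.symm)) (key (k - n)).2

variable [QuasiCompact f] [QuasiSeparated f]

/-- Over an affine open, everything with quasi-coherent cohomology is in the class. -/
theorem projClass_of_isAffineOpen (hW : IsAffineOpen W) (hR : DCoh.IsKFlat R) [QuasiIso a]
    [I.IsKInjective] (hI : DCoh.IsQCohD (DerivedCategory.Q.obj I))
    (P : CochainComplex Y.Modules ℤ) (hP : DCoh.IsQCohD (DerivedCategory.Q.obj P)) :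
    ProjClass f I a W (DerivedCategory.Q.obj P) := by
  let j := hW.fromSpec
  let C := CommRingCat.of Γ(Y, W)
  let L : DerivedCategory (ModuleCat.{u} Γ(Y, W)) ⥤ DCoh.D Y :=
    DCoh.tildeD Γ(Y, W) ⋙ (lsh j).mapDerivedCategory
  let G : CochainComplex (ModuleCat.{u} Γ(Y, W)) ℤ ⥤ CochainComplex Y.Modules ℤ :=
    (tilde.functor Γ(Y, W)).mapHomologicalComplex (ComplexShape.up ℤ) ⋙ lshCx j
  let eL : DerivedCategory.Q ⋙ L ≅ G ⋙ DerivedCategory.Q :=
    (Functor.associator _ _ _).symm ≪≫
      Functor.isoWhiskerRight (tilde.functor Γ(Y, W)).mapDerivedCategoryFactors _ ≪≫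
      Functor.associator _ _ _ ≪≫
      Functor.isoWhiskerLeft _ (lsh j).mapDerivedCategoryFactors ≪≫ (Functor.associator _ _ _).symm
  have hj : ∀ {A B : CochainComplex Y.Modules ℤ} (g : A ⟶ B), IsIso ((rCx j).map g) →
      IsIso ((DCoh.restrictD W.ι).map (DerivedCategory.Q.map g)) := by
    intro A B g hg
    haveI := hg
    refine (isIso_restrictD_map_iff W.ι g).2 ?_
    let e : rCx W.ι ≅ rCx j ⋙ rCx hW.isoSpec.hom :=
      NatIso.mapHomologicalComplex (Scheme.Modules.restrictFunctorCongr
        (show W.ι = hW.isoSpec.hom ≫ j from (hW.isoSpec.hom_inv_id_assoc W.ι).symm.trans (congrArg (hW.isoSpec.hom ≫ ·) hW.isoSpec_inv_ι)) ≪≫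
        Scheme.Modules.restrictFunctorComp _ _) (ComplexShape.up ℤ) ≪≫
      (Functor.mapHomologicalComplexCompIso (Iso.refl _) (ComplexShape.up ℤ)).symm
    haveI : IsIso ((rCx W.ι).map g) :=
      (NatIso.isIso_map_iff e g).2 (Functor.map_isIso (rCx hW.isoSpec.hom) ((rCx j).map g))
    infer_instance
  let Pr : ObjectProperty (DerivedCategory (ModuleCat.{u} Γ(Y, W))) :=
    fun M => ProjClass f I a W (L.obj M)
  haveI : Pr.IsClosedUnderIsomorphisms := ⟨fun e h => projClass_of_iso f I a W (L.mapIso e) h⟩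
  have hall : ∀ M, Pr M := fun M => by
    refine derived_induction Pr (fun T hT h₁ h₂ => projClass_obj₃ f I a W _ (L.map_distinguished T hT) h₁ h₂)
      (fun J K hK => ?_) (fun n => ?_) M
    · haveI : PreservesColimitsOfShape (Discrete J) G := by
        haveI : (tilde.functor Γ(Y, W)).IsLeftAdjoint := inferInstance
        exact ⟨fun {K} => ⟨fun {c} hc => ⟨HomologicalComplex.isColimitOfEval _ _ fun m =>
          isColimitOfPreserves (HomologicalComplex.eval _ (ComplexShape.up ℤ) m ⋙
            tilde.functor Γ(Y, W) ⋙ lsh j) hc⟩⟩⟩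
      haveI := preservesColimit_Q fun k => G.obj (K k)
      haveI : HasColimitsOfShape (Discrete J) (DCoh.D Y) := TriCat.hasColimitsOfShape_derivedCategory
      refine projClass_of_iso f I a W (eL.app (∐ K) ≪≫ DerivedCategory.Q.mapIso
        (PreservesCoproduct.iso G K) ≪≫ PreservesCoproduct.iso DerivedCategory.Q _).symm ?_
      exact projClass_sigma f I a W _ fun k => projClass_of_iso f I a W (eL.app (K k)) (hK k)
    · let O := Coh.structureModule Y
      let c : (lsh j).obj ((tilde.functor Γ(Y, W)).obj (ModuleCat.of Γ(Y, W) Γ(Y, W))) ⟶ O :=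
        (lsh j).map (tildeSelf.hom ≫ (restrictStructureIso j).inv) ≫ (lshAdj j).counit.app O
      haveI hc : IsIso ((Scheme.Modules.restrictFunctor j).map c) := by
        haveI : IsIso ((lshAdj j).unit.app ((Scheme.Modules.restrictFunctor j).obj O)) := inferInstance
        haveI : IsIso ((Scheme.Modules.restrictFunctor j).map ((lshAdj j).counit.app O)) :=
          IsIso.of_isIso_fac_left ((lshAdj j).right_triangle_components O)
        haveI : IsIso ((Scheme.Modules.restrictFunctor j).map
            ((lsh j).map (tildeSelf.hom ≫ (restrictStructureIso j).inv))) := inferInstance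
        rw [Functor.map_comp]
        infer_instance
      let g := (HomologicalComplex.single Y.Modules (ComplexShape.up ℤ) n).map c
      have hg : IsIso ((rCx j).map g) :=
        (NatIso.isIso_map_iff (HomologicalComplex.singleMapHomologicalComplex
          (Scheme.Modules.restrictFunctor j) (ComplexShape.up ℤ) n) c).2
          (Functor.map_isIso (HomologicalComplex.single _ _ n) ((Scheme.Modules.restrictFunctor j).map c))
      refine projClass_of_iso f I a W ?_ ((projClass_iff f I a W hR (DerivedCategory.Q.map g) (hj g hg)).2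
        (projClass_single f I a W hI n))
      exact DerivedCategory.Q.mapIso
        (((HomologicalComplex.singleMapHomologicalComplex (tilde.functor Γ(Y, W) ⋙ lsh j) _ n).app
          (ModuleCat.of Γ(Y, W) Γ(Y, W))).symm ≪≫
          ((Functor.mapHomologicalComplexCompIso (Iso.refl (tilde.functor Γ(Y, W) ⋙ lsh j)) _).symm.app _)) ≪≫
        (eL.app _).symm
  obtain ⟨M, ⟨eM⟩⟩ := exists_tildeD_iso (isQCohD_restrictD j hP)
  let c := (lshCxAdj j).counit.app P
  refine (projClass_iff f I a W hR (DerivedCategory.Q.map c) (hj c (isIso_rCx_map_lshCx_counit j P))).1 ?_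
  exact projClass_of_iso f I a W ((lsh j).mapDerivedCategory.mapIso
      (eM ≪≫ (Scheme.Modules.restrictFunctor j).mapDerivedCategoryFactors.app P) ≪≫
    (lsh j).mapDerivedCategoryFactors.app _) (hall M)

/-- The projection map is invertible at quasi-coherent complexes. -/
theorem isIso_projθ (hR : DCoh.IsKFlat R) [QuasiIso a] [I.IsKInjective]
    (hI : DCoh.IsQCohD (DerivedCategory.Q.obj I))
    (P : CochainComplex Y.Modules ℤ) (hP : DCoh.IsQCohD (DerivedCategory.Q.obj P)) :
    IsIso ((projθ f I a).app (DerivedCategory.Q.obj P)) := by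
  refine (DerivedCategory.isIso_iff _ _).2 fun i => isIso_of_isIso_restrict _ fun y => ?_
  obtain ⟨_, ⟨U, hU, rfl⟩, hyU, -⟩ :=
    Y.isBasis_affineOpens.exists_subset_of_mem_open (Set.mem_univ y) isOpen_univ
  have h := (projClass_of_isAffineOpen f I a U hU hR hI P hP).1 0
  have h' : IsIso ((DCoh.restrictD (Scheme.Opens.ι U)).map ((projθ f I a).app (DerivedCategory.Q.obj P))) :=
    (NatTrans.isIso_app_iff_of_iso (Functor.whiskerRight (projθ f I a) (DCoh.restrictD (Scheme.Opens.ι U)))
      ((shiftFunctorZero (DCoh.D Y) ℤ).app _)).1 h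
  exact ⟨U, hyU, (NatIso.isIso_map_iff
    (mapDCHomologyIso (Scheme.Modules.restrictFunctor (Scheme.Opens.ι U)) i) _).1
      (Functor.map_isIso (DerivedCategory.homologyFunctor _ i) _)⟩

omit R I a W in
/-- The projection formula. -/
theorem nonempty_projection_DQCoh [DCoh.HasLpull f] (E : DCoh.D X) (hE : DCoh.IsQCohD E)
    (K : CochainComplex Y.Modules ℤ) (hK : DCoh.IsQCohD (DCoh.toD Y K)) [DCoh.HasLTensorCx K]
    (M : CochainComplex X.Modules ℤ)
    (hM : Nonempty (DCoh.toD X M ≅ (DCoh.Lpull f).obj (DCoh.toD Y K))) [DCoh.HasLTensorCx M] :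
    Nonempty ((DCoh.LTensorCx K).obj ((DCoh.Rpush f).obj E) ≅
      (DCoh.Rpush f).obj ((DCoh.LTensorCx M).obj E)) := by
  obtain ⟨eM⟩ := hM
  obtain ⟨I, _, _, ⟨eE⟩⟩ := exists_kInjective_rep E
  let R := (kRes Y).obj ((pushCxF f).obj I)
  let a : R ⟶ (pushCxF f).obj I := (flatCover Y).ψ.app _
  haveI : QuasiIso a := (flatCover Y).quasiIso_ψ _
  haveI := isIso_Q_map a inferInstance
  have hR : DCoh.IsKFlat R := isKFlat_kRes _
  let P := (kRes Y).obj K
  have hP : DCoh.IsKFlat P := isKFlat_kRes _
  haveI := isIso_Q_map _ ((flatCover Y).quasiIso_ψ K)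
  let eP : DerivedCategory.Q.obj P ≅ DerivedCategory.Q.obj K :=
    asIso (DerivedCategory.Q.map ((flatCover Y).ψ.app K))
  have hI : DCoh.IsQCohD (DerivedCategory.Q.obj I) := isQCohD_of_iso eE hE
  haveI := isIso_projθ f I a hR hI P (isQCohD_of_iso eP.symm hK)
  haveI := isIso_kLiftε (kRespects_tensor R) hP
  haveI := isIso_kLiftε (kRespects_pullTensor f I) hP
  haveI := hasLTensorCx P
  haveI := hasLTensorCx ((pullCx f).obj P)
  obtain ⟨eI⟩ := nonempty_rpush_iso_of_kInjective (f := f) (I := I) (Iso.refl _)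
  haveI := isIso_Lpull_counit f hP
  haveI := isIso_lpullComparison f hP
  let eM' : DerivedCategory.Q.obj ((pullCx f).obj P) ≅ DerivedCategory.Q.obj M :=
    (asIso ((lpullComparison f).app P)).symm ≪≫ (DCoh.Lpull f).mapIso eP ≪≫ eM.symm
  haveI := isIso_LTensorCx_counit_of_isKFlat_right ((pullCx f).obj P) (isKFlat_pullback f hP) I
  obtain ⟨cK⟩ := nonempty_LTensorCx_congr_D eP
  obtain ⟨cM⟩ := nonempty_LTensorCx_congr_D eM'
  exact ⟨cK.symm.app _ ≪≫ (DCoh.LTensorCx P).mapIso ((DCoh.Rpush f).mapIso eE ≪≫ eI ≪≫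
      (asIso (DerivedCategory.Q.map a)).symm) ≪≫ ltensorCxIso P hR ≪≫
    (asIso ((kLiftε (kRespects_tensor R)).app P)).symm ≪≫
    asIso ((projθ f I a).app (DerivedCategory.Q.obj P)) ≪≫
    (DCoh.Rpush f).mapIso (asIso ((kLiftε (kRespects_pullTensor f I)).app P) ≪≫
      (asIso (((DCoh.tensorCxQ ((pullCx f).obj P)).totalLeftDerivedCounit
        DerivedCategory.Q (qisX X)).app I)).symm ≪≫ (DCoh.LTensorCx _).mapIso eE.symm ≪≫ cM.app _)⟩

end Groth.Agent.KFlatLib
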