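import Groth.Agent.KFlatLib.Scheme.RpushQCoh

/-!
# `Rf_*` preserves quasi-coherence of cohomology
-/

set_option linter.style.haveILetI false

universe u

open CategoryTheory CategoryTheory.Limits AlgebraicGeometry Pretriangulated Opposite

attribute [local instance] HasDerivedCategory.standard

namespace Groth.Agent.KFlatLib

variable {X Y : Scheme.{u}}

lemma bijective_comp_iff_app {M N : X.Modules} (g : M ⟶ N) (V : X.Opens) :
    Function.Bijective (fun s : secObj V ⟶ M => s ≫ g) ↔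
      Function.Bijective (g.app (V.ι ''ᵁ ⊤)) := by
  have h : ⇑(g.app (V.ι ''ᵁ ⊤)) = (secEquiv V N) ∘ (fun s : secObj V ⟶ M => s ≫ g) ∘
      (secEquiv V M).symm := funext fun x =>
    ((secEquiv_naturality V _ g).trans (congrArg _ (Equiv.apply_symm_apply _ x))).symm
  rw [h]
  exact ((secEquiv V M).symm.bijective.of_comp_iff _).symm.trans
    ((secEquiv V N).bijective.of_comp_iff' _).symm

lemma bijective_comp_of_isIso_restrict {M N : X.Modules} (g : M ⟶ N) {U V : X.Opens} (hVU : V ≤ U)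
    [IsIso ((Scheme.Modules.restrictFunctor U.ι).map g)] :
    Function.Bijective (fun s : secObj V ⟶ M => s ≫ g) := by
  rw [bijective_comp_iff_app]
  have h := (ConcreteCategory.isIso_iff_bijective _).1
    ((Scheme.Modules.Hom.isIso_iff_isIso_app (φ := (Scheme.Modules.restrictFunctor U.ι).map g)).1
      inferInstance (U.ι ⁻¹ᵁ (V.ι ''ᵁ ⊤)))
  have e : U.ι ''ᵁ (U.ι ⁻¹ᵁ (V.ι ''ᵁ ⊤)) = V.ι ''ᵁ ⊤ := by
    rw [U.ι.image_preimage_eq_opensRange_inf, Scheme.Opens.opensRange_ι, Scheme.Opens.ι_image_top,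
      inf_eq_right.2 hVU]
  exact e ▸ h

lemma isIso_restrict_of_bijective_comp {M N : X.Modules} (g : M ⟶ N) (U : X.Opens)
    (h : ∀ V : X.Opens, IsAffineOpen V → V ≤ U →
      Function.Bijective (fun s : secObj V ⟶ M => s ≫ g)) :
    IsIso ((Scheme.Modules.restrictFunctor U.ι).map g) := by
  refine QCoh.isIso_of_isBasis _ U.toScheme.isBasis_affineOpens fun W hW => ?_
  have hW' : IsAffineOpen (U.ι ''ᵁ W) := IsAffineOpen.image_of_isOpenImmersion hW U.ι
  have hle : U.ι ''ᵁ W ≤ U := fun z hz => by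
    obtain ⟨z, -, rfl⟩ := hz; exact z.2
  have := (bijective_comp_iff_app g _).1 (h _ hW' hle)
  have e : (U.ι ''ᵁ W).ι ''ᵁ ⊤ = U.ι ''ᵁ W := Scheme.Opens.ι_image_top _
  rw [e] at this
  exact this

lemma exact_restrict {S : ShortComplex X.Modules} (hS : S.Exact) (U : X.Opens) :
    (S.map (Scheme.Modules.restrictFunctor U.ι)).Exact := by
  haveI : Flat U.ι := inferInstance
  exact ShortComplex.exact_of_iso (S.mapNatIso (Scheme.Modules.restrictFunctorIsoPullback U.ι).symm)
    (exact_map_pullback U.ι hS)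

lemma bijective_step_of_restrict {U V : X.Opens} (hVU : V ≤ U) {A B : DCoh.D X} (g : A ⟶ B)
    (hA : BijH0 V A) (hB : BijH0 V B)
    [IsIso ((Scheme.Modules.restrictFunctor U.ι).map
      ((DerivedCategory.homologyFunctor X.Modules 0).map g))] :
    Function.Bijective (fun φ : DCoh.inD X (secObj V) ⟶ A => φ ≫ g) := by
  have h := bijective_comp_of_isIso_restrict
    ((DerivedCategory.homologyFunctor X.Modules 0).map g) hVU
  refine ⟨fun φ φ' e => hA.1 (h.1 ?_), fun ψ => ?_⟩
  · exact (psi_comp φ g).symm.trans ((congrArg (psi V B) e).trans (psi_comp φ' g))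
  · obtain ⟨y, hy⟩ := h.2 (psi V B ψ)
    obtain ⟨φ, rfl⟩ := hA.2 y
    exact ⟨φ, hB.1 ((psi_comp φ g).trans hy)⟩

section Tower

variable (U : X.Opens) (N : ℕ) (T : ℕ → DCoh.D X) (t : ∀ n, T (n + 1) ⟶ T n)
  {P L : DCoh.D X} (π : ∀ n, P ⟶ T n) (hP : IsLimit (Fan.mk P π))
  {d : P ⟶ P} (hd : ∀ n, d ≫ π n = π n - π (n + 1) ≫ t n)
  {p : L ⟶ P} {δ : P ⟶ L⟦(1 : ℤ)⟧} (hT : Triangle.mk p d δ ∈ distTriang _)
  (hbij : ∀ V : X.Opens, IsAffineOpen V → ∀ n,
    BijH0 V (T n) ∧ BijH0 V ((T n)⟦(-1 : ℤ)⟧))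
  (hiso : ∀ n, N ≤ n →
    IsIso ((Scheme.Modules.restrictFunctor U.ι).map
      ((DerivedCategory.homologyFunctor X.Modules 0).map (t n))) ∧
    IsIso ((Scheme.Modules.restrictFunctor U.ι).map
      ((DerivedCategory.homologyFunctor X.Modules 0).map ((t n)⟦(-1 : ℤ)⟧'))))

include hP hd hT hbij hiso in
/-- The tower lemma, over an open. -/
lemma isIso_restrict_tower : IsIso ((Scheme.Modules.restrictFunctor U.ι).map
    ((DerivedCategory.homologyFunctor X.Modules 0).map (p ≫ π N))) := by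
  let H := DerivedCategory.homologyFunctor X.Modules 0
  have hφ : ∀ {V : X.Opens}, IsAffineOpen V → V ≤ U →
      Function.Bijective (fun φ : DCoh.inD X (secObj V) ⟶ L => φ ≫ p ≫ π N) := fun {V} hV hVU =>
    tower_hom_bijective_of_step N T t π hP hd hT fun n hn => by
      haveI := (hiso n hn).1
      haveI := (hiso n hn).2
      exact ⟨bijective_step_of_restrict hVU (t n) (hbij V hV (n + 1)).1 (hbij V hV n).1,
        bijective_step_of_restrict hVU _ (hbij V hV (n + 1)).2 (hbij V hV n).2⟩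
  refine isIso_restrict_of_bijective_comp _ U fun V hV hVU => ⟨fun s s' e => ?_, fun y => ?_⟩
  · refine sub_eq_zero.1 (secObj_hom_eq_zero_of_local _ fun x hx => ?_)
    have he : (s - s') ≫ H.map (p ≫ π N) = 0 := by
      rw [Preadditive.sub_comp]; exact sub_eq_zero.2 e
    obtain ⟨W, hxW, hWV, hW, h⟩ := exists_local_lift L (s - s') hx
    refine ⟨W, hxW, hWV, fun hle => ?_⟩
    obtain ⟨φ, hφ'⟩ := h hle
    refine hφ'.symm.trans ?_
    have hz : secEquiv V _ ((s - s') ≫ H.map (p ≫ π N)) = 0 := by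
      rw [he]; exact secEquiv_zero V _
    rw [secEquiv_naturality] at hz
    have h1 : psi W _ (φ ≫ p ≫ π N) = psi W _ (0 ≫ p ≫ π N) := by
      rw [zero_comp, psi_zero, psi_comp]
      refine (secEquiv _ _).injective ?_
      rw [secEquiv_naturality, hφ', secEquiv_zero]
      exact map_presheaf_eq_zero (H.map (p ≫ π N)) (homOfLE hle).op _ hz
    rw [(hφ hW (hWV.trans hVU)).1 ((hbij W hW N).1.1 h1), psi_zero]
    exact secEquiv_zero _ _
  · obtain ⟨ψ, hψ⟩ := (hbij V hV N).1.2 y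
    obtain ⟨φ, rfl⟩ := (hφ hV hVU).2 ψ
    exact ⟨psi V L φ, (psi_comp φ (p ≫ π N)).symm.trans hψ⟩

end Tower

lemma truncTπ_comp_truncTMap (K : DCoh.D X) (n : ℕ) :
    truncTπ K (n + 1) ≫ truncTMap K n = truncTπ K n :=
  DerivedCategory.TStructure.t.π_natTransTruncGEOfLE_app
    (-((n + 1 : ℕ) : ℤ)) (-(n : ℤ)) (by omega) K

lemma isIso_h_truncTMap (K : DCoh.D X) (n : ℕ) (i : ℤ) (hi : -(n : ℤ) ≤ i) :
    IsIso ((DerivedCategory.homologyFunctor X.Modules i).map (truncTMap K n)) := by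
  have h := congrArg (DerivedCategory.homologyFunctor X.Modules i).map (truncTπ_comp_truncTMap K n)
  rw [Functor.map_comp] at h
  haveI := isIso_h_truncTπ K (n + 1) i (by omega)
  haveI := isIso_h_truncTπ K n i hi
  exact IsIso.of_isIso_fac_left h

/-- The fibre of a transition map lives in a single degree. -/
lemma exists_truncT_fibre {K : DCoh.D X} (hK : DCoh.IsQCohD K) (n : ℕ) :
    ∃ (A : DCoh.D X) (j : A ⟶ truncT K (n + 1)) (c : truncT K n ⟶ A⟦(1 : ℤ)⟧),
      Triangle.mk j (truncTMap K n) c ∈ distTriang _ ∧ DCoh.IsQCohD A ∧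
        A.IsGE (-(n : ℤ) - 1) ∧ A.IsLE (-(n : ℤ) - 1) := by
  obtain ⟨A, j, c, hT⟩ := Pretriangulated.distinguished_cocone_triangle₁ (truncTMap K n)
  haveI g₂ : (truncT K (n + 1)).IsGE (-((n + 1 : ℕ) : ℤ)) :=
    DerivedCategory.TStructure.t.isGE_truncGE_obj K _ _ le_rfl
  haveI g₃ : (truncT K n).IsGE (-(n : ℤ)) :=
    DerivedCategory.TStructure.t.isGE_truncGE_obj K _ _ le_rfl
  refine ⟨A, j, c, hT, isQCohD_obj₁ hT (isQCohD_truncT hK (n + 1)) (isQCohD_truncT hK n), ?_, ?_⟩
  · rw [DerivedCategory.isGE_iff]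
    intro i hi
    exact (DerivedCategory.HomologySequence.exact₁ _ hT (i - 1) i (by omega)).isZero_X₂
      ((DerivedCategory.isZero_of_isGE (truncT K n) (-(n : ℤ)) (i - 1) (by omega)).eq_of_src _ _)
      ((DerivedCategory.isZero_of_isGE (truncT K (n + 1)) (-((n + 1 : ℕ) : ℤ)) i
        (by push_cast; omega)).eq_of_tgt _ _)
  · rw [DerivedCategory.isLE_iff]
    intro i hi
    haveI hm := isIso_h_truncTMap K n i (by omega)
    refine (DerivedCategory.HomologySequence.exact₁ _ hT (i - 1) i (by omega)).isZero_X₂ ?_ ?_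
    · by_cases h : -(n : ℤ) ≤ i - 1
      · haveI hl := isIso_h_truncTMap K n (i - 1) h
        haveI : Epi ((DerivedCategory.homologyFunctor X.Modules (i - 1)).map
            (Triangle.mk j (truncTMap K n) c).mor₂) := @IsIso.epi_of_iso _ _ _ _ _ hl
        exact (cancel_epi ((DerivedCategory.homologyFunctor X.Modules (i - 1)).map
            (Triangle.mk j (truncTMap K n) c).mor₂)).1
          ((DerivedCategory.HomologySequence.comp_δ _ hT (i - 1) i (by omega)).trans comp_zero.symm)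
      · exact (DerivedCategory.isZero_of_isGE (truncT K n) (-(n : ℤ)) (i - 1) (by omega)).eq_of_src _ _
    · haveI : Mono ((DerivedCategory.homologyFunctor X.Modules i).map
          (Triangle.mk j (truncTMap K n) c).mor₂) := @IsIso.mono_of_iso _ _ _ _ _ hm
      exact (cancel_mono ((DerivedCategory.homologyFunctor X.Modules i).map
          (Triangle.mk j (truncTMap K n) c).mor₂)).1
        (((Functor.map_comp _ _ _).symm.trans ((congrArg _ (comp_distTriang_mor_zero₁₂ _ hT)).trans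
          (Functor.map_zero _ _ _))).trans zero_comp.symm)

variable (f : X ⟶ Y) [DCoh.HasRpush f] [QuasiCompact f] [QuasiSeparated f]
  [HasInjectiveResolutions X.Modules]

/-- The transition maps after `Rf_*` are eventually isomorphisms over `U`. -/
lemma isIso_restrict_rpush_truncTMap {K : DCoh.D X} (hK : DCoh.IsQCohD K) (U : Y.Opens) (N₀ : ℕ)
    (hN : RpushVanish f U N₀) (n : ℕ) (i : ℤ) (hi : -(n : ℤ) + N₀ ≤ i) :
    IsIso ((Scheme.Modules.restrictFunctor U.ι).map ((DerivedCategory.homologyFunctor Y.Modules i).map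
      ((DCoh.Rpush f).map (truncTMap K n)))) := by
  obtain ⟨A, j, c, hT, hA, hge, hle⟩ := exists_truncT_fibre hK n
  obtain ⟨c', hc⟩ := exists_rpush_triangle f _ hT
  have hv := (rpush_bounded f 0 (-(n : ℤ) - 1) A hge (by simpa using hle) hA).2 U N₀ hN
  have e₂ := exact_restrict (DerivedCategory.HomologySequence.exact₂ _ hc i) U
  have e₃ := exact_restrict (DerivedCategory.HomologySequence.exact₃ _ hc i (i + 1) rfl) U
  haveI : Mono ((Scheme.Modules.restrictFunctor U.ι).map
      ((DerivedCategory.homologyFunctor Y.Modules i).map ((DCoh.Rpush f).map (truncTMap K n)))) :=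
    e₂.mono_g ((hv i (by push_cast; omega)).eq_of_src _ _)
  haveI : Epi ((Scheme.Modules.restrictFunctor U.ι).map
      ((DerivedCategory.homologyFunctor Y.Modules i).map ((DCoh.Rpush f).map (truncTMap K n)))) :=
    e₃.epi_f ((hv (i + 1) (by push_cast; omega)).eq_of_tgt _ _)
  exact isIso_of_mono_of_epi _

/-- Over `U` the cohomology of `Rf_* K` is that of a truncation. -/
lemma isIso_restrict_rpush_truncTπ {K : DCoh.D X} (hK : DCoh.IsQCohD K) (U : Y.Opens) (N₀ : ℕ)
    (hN : RpushVanish f U N₀) (k : ℤ) (N : ℕ) (hk : k.natAbs + N₀ + 2 ≤ N) :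
    IsIso ((Scheme.Modules.restrictFunctor U.ι).map ((DerivedCategory.homologyFunctor Y.Modules k).map
      ((DCoh.Rpush f).map (truncTπ K N)))) := by
  obtain ⟨P, π, d, p, δ, ⟨hP⟩, hd, hT, hpπ, -⟩ := exists_trunc_triangle hK
  let G := DCoh.Rpush f
  haveI := hasLpull f
  obtain ⟨adj⟩ := nonempty_lpull_rpush_adj f
  haveI : PreservesLimitsOfSize.{0, 0} G := adj.rightAdjoint_preservesLimits
  haveI : G.Additive := by
    haveI : HasBinaryBiproducts (DCoh.D X) := HasBinaryBiproducts.of_hasBinaryProducts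
    haveI := preservesBinaryBiproducts_of_preservesBinaryProducts G
    exact Functor.additive_of_preservesBinaryBiproducts _
  obtain ⟨c', hc⟩ := exists_rpush_triangle f _ hT
  let Tk := fun n => (G.obj (truncT K n))⟦k⟧
  let tk := fun n => (G.map (truncTMap K n))⟦k⟧'
  let πk : ∀ n, (G.obj P)⟦k⟧ ⟶ Tk n := fun n => (G.map (π n))⟦k⟧'
  let hPk : IsLimit (Fan.mk ((G.obj P)⟦k⟧) πk) :=
    isLimitFanMkObjOfIsLimit (shiftFunctor (DCoh.D Y) k) (fun n => G.obj (truncT K n))
      (fun n => G.map (π n)) (isLimitFanMkObjOfIsLimit G (truncT K) π hP)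
  have hdk : ∀ n, (G.map d)⟦k⟧' ≫ πk n = πk n - πk (n + 1) ≫ tk n := fun n => by
    simp only [πk, tk]
    rw [← Functor.map_comp, ← G.map_comp, hd, G.map_sub, Functor.map_sub, G.map_comp,
      Functor.map_comp]
  have hTk : Triangle.mk ((G.map p)⟦k⟧') ((G.map d)⟦k⟧')
      (k.negOnePow • (c'⟦k⟧' ≫ (shiftFunctorComm (DCoh.D Y) (1 : ℤ) k).hom.app (G.obj K))) ∈
        distTriang _ :=
    triangle_units_smul k.negOnePow (Triangle.shift_distinguished _ hc k)
  have hbij : ∀ V : Y.Opens, IsAffineOpen V → ∀ n, BijH0 V (Tk n) ∧ BijH0 V ((Tk n)⟦(-1 : ℤ)⟧) :=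
    fun V hV n => by
      haveI : (truncT K n).IsGE (-(n : ℤ)) :=
        DerivedCategory.TStructure.t.isGE_truncGE_obj K _ _ le_rfl
      have hq := isQCohD_rpush_of_isGE f (truncT K n) (-(n : ℤ)) (isQCohD_truncT hK n)
      exact ⟨bijH0_of_isQCohD (isQCohD_shift hq k) hV,
        bijH0_of_isQCohD (isQCohD_shift (isQCohD_shift hq k) (-1)) hV⟩
  let R := Scheme.Modules.restrictFunctor U.ι
  have hH : ∀ (j : ℤ) {A B : DCoh.D Y} (g : A ⟶ B) (m : ℤ),
      IsIso (R.map ((DerivedCategory.homologyFunctor Y.Modules (j + m)).map g)) ↔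
      IsIso (R.map ((DerivedCategory.homologyFunctor Y.Modules m).map (g⟦j⟧'))) := fun j A B g m =>
    (NatIso.isIso_map_iff (Functor.isoWhiskerRight
      ((DerivedCategory.homologyFunctor Y.Modules 0).shiftIso j m (j + m) rfl) R) g).symm
  have hiso : ∀ n, N ≤ n →
      IsIso (R.map ((DerivedCategory.homologyFunctor Y.Modules 0).map (tk n))) ∧
      IsIso (R.map ((DerivedCategory.homologyFunctor Y.Modules 0).map ((tk n)⟦(-1 : ℤ)⟧'))) :=
    fun n hn => ⟨(hH k _ 0).1 (isIso_restrict_rpush_truncTMap f hK U N₀ hN n _ (by omega)),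
      (hH (-1) _ 0).1 ((hH k _ (-1 + 0)).1
        (isIso_restrict_rpush_truncTMap f hK U N₀ hN n _ (by omega)))⟩
  have hI := isIso_restrict_tower U N Tk tk πk hPk hdk hTk hbij hiso
  have hfac : (G.map p)⟦k⟧' ≫ πk N = (G.map (truncTπ K N))⟦k⟧' := by
    rw [← Functor.map_comp, ← G.map_comp, hpπ]
  rw [hfac] at hI
  have := (hH k _ 0).2 hI
  rwa [add_zero] at this

/-- `Rf_*` preserves quasi-coherence of cohomology. -/
theorem isQCohD_rpush {K : DCoh.D X} (hK : DCoh.IsQCohD K) :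
    DCoh.IsQCohD ((DCoh.Rpush f).obj K) := fun k => by
  refine QCoh.isQCoh_of_isOpenCover (fun U : Y.affineOpens => U.1) ?_ fun U => ?_
  · exact top_le_iff.1 (fun y _ => by
      obtain ⟨_, ⟨V, hV, rfl⟩, hyV, -⟩ :=
        Y.isBasis_affineOpens.exists_subset_of_mem_open (Set.mem_univ y) isOpen_univ
      exact TopologicalSpace.Opens.mem_iSup.2 ⟨⟨V, hV⟩, hyV⟩)
  obtain ⟨N₀, hN⟩ := exists_Rpush_bound_near f U.2
  let N := k.natAbs + N₀ + 2
  have hI := isIso_restrict_rpush_truncTπ f hK U.1 N₀ hN k N le_rfl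
  haveI : (truncT K N).IsGE (-(N : ℤ)) :=
    DerivedCategory.TStructure.t.isGE_truncGE_obj K _ _ le_rfl
  exact isQCoh_of_iso (@asIso _ _ _ _ _ hI).symm
    (QCoh.isQCoh_restrict _ (isQCohD_rpush_of_isGE f (truncT K N) (-(N : ℤ)) (isQCohD_truncT hK N) k))

/-- `Rf_*` has bounded cohomological dimension over opens where the higher direct images do. -/
theorem isZero_restrict_hd_rpush {K : DCoh.D X} (hK : DCoh.IsQCohD K) (b : ℤ) [K.IsLE b]
    (U : Y.Opens) (N₀ : ℕ) (hN : RpushVanish f U N₀) (i : ℤ) (hi : b + N₀ ≤ i) :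
    IsZero ((Scheme.Modules.restrictFunctor U.ι).obj (DCoh.HD ((DCoh.Rpush f).obj K) i)) := by
  let N := i.natAbs + N₀ + 2 + b.natAbs
  have hI := isIso_restrict_rpush_truncTπ f hK U N₀ hN i N (by omega)
  haveI : (truncT K N).IsGE (-(N : ℤ)) :=
    DerivedCategory.TStructure.t.isGE_truncGE_obj K _ _ le_rfl
  have hle : (truncT K N).IsLE (-(N : ℤ) + (b + N).toNat) := by
    rw [DerivedCategory.isLE_iff]
    intro j hj
    haveI := isIso_h_truncTπ K N j (by omega)
    exact (DerivedCategory.isZero_of_isLE K b j (by omega)).of_iso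
      (asIso ((DerivedCategory.homologyFunctor X.Modules j).map (truncTπ K N))).symm
  exact ((rpush_bounded f _ _ (truncT K N) inferInstance hle (isQCohD_truncT hK N)).2 U N₀ hN i
    (by omega)).of_iso (@asIso _ _ _ _ _ hI)

end Groth.Agent.KFlatLib
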