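import Groth.Agent.KFlatLib.Scheme.MVPush
import Groth.Agent.KFlatLib.Perfect.DLocal
import Groth.Agent.KFlatLib.Scheme.EvalPerfect
import Groth.Prelude.Def_CohB1

/-!
# Objects supported in a closed subset of an open
-/

set_option linter.style.haveILetI false
set_option backward.isDefEq.respectTransparency false

universe u

open CategoryTheory CategoryTheory.Limits AlgebraicGeometry TopologicalSpace Pretriangulated ZeroObject

attribute [local instance] HasDerivedCategory.standard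

namespace Groth.Agent.KFlatLib

variable {X : Scheme.{u}}

/-- Outside of the supports of its cohomology an object restricts to zero. -/
theorem isZero_restrictD_of_support (O : X.Opens)
    [PreservesFiniteLimits (Scheme.Modules.restrictFunctor O.ι)] (E : DCoh.D X) (T : Set X)
    (hE : ∀ i : ℤ, CohB1.support (DCoh.HD E i) ⊆ T) (hO : ∀ x ∈ O, x ∉ T) :
    IsZero ((DCoh.restrictD O.ι).obj E) := by
  let C := DerivedCategory.Q.objPreimage E
  let eE : DerivedCategory.Q.obj C ≅ E := DerivedCategory.Q.objObjPreimageIso E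
  refine IsZero.of_iso ?_ ((DCoh.restrictD O.ι).mapIso eE.symm ≪≫
    (Scheme.Modules.restrictFunctor O.ι).mapDerivedCategoryFactors.app C)
  have hac : ((rCx O.ι).obj C).Acyclic := fun i => by
    rw [HomologicalComplex.exactAt_iff_isZero_homology]
    let eH : C.homology i ≅ DCoh.HD E i :=
      ((DerivedCategory.homologyFunctorFactors _ i).app C).symm ≪≫
        (DerivedCategory.homologyFunctor _ i).mapIso eE
    haveI : (Scheme.Modules.restrictFunctor O.ι).PreservesHomology := inferInstance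
    refine IsZero.of_iso ?_ ((C.sc i).mapHomologyIso (Scheme.Modules.restrictFunctor O.ι) ≪≫
      (Scheme.Modules.restrictFunctor O.ι).mapIso eH)
    have h := isIso_restrict_of_stalk O (0 : DCoh.HD E i ⟶ DCoh.HD E i) fun x hx => by
      haveI : Subsingleton ((DCoh.HD E i).presheaf.stalk x) := not_not.1 fun h => hO x hx (hE i h)
      exact (ConcreteCategory.isIso_iff_bijective _).2
        ⟨fun a b _ => Subsingleton.elim (α := (DCoh.HD E i).presheaf.stalk x) a b,
          fun a => ⟨a, Subsingleton.elim (α := (DCoh.HD E i).presheaf.stalk x) _ a⟩⟩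
    rw [Functor.map_zero] at h
    exact (IsZero.iff_id_eq_zero _).2 ((isIsoZeroEquiv _ _).toFun h).1
  let Z : CochainComplex (O : Scheme.{u}).Modules ℤ := 0
  have hZ : IsZero Z := isZero_zero _
  haveI := isIso_Q_map (0 : Z ⟶ (rCx O.ι).obj C) (quasiIso_zero_of_acyclic _ hZ hac)
  exact (Functor.map_isZero DerivedCategory.Q hZ).of_iso
    (asIso (DerivedCategory.Q.map (0 : Z ⟶ (rCx O.ι).obj C))).symm

/-- An object supported in a closed subset of an open is pushed forward from it. -/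
theorem nonempty_iso_rpush_restrict (U : X.Opens) [DCoh.HasRpush U.ι]
    [PreservesFiniteLimits (Scheme.Modules.restrictFunctor U.ι)] (T : Set X) (hT : IsClosed T)
    (hTU : T ⊆ (U : Set X)) (E : DCoh.D X) (hE : ∀ i : ℤ, CohB1.support (DCoh.HD E i) ⊆ T) :
    Nonempty (E ≅ (DCoh.Rpush U.ι).obj ((DCoh.restrictD U.ι).obj E)) := by
  let V : X.Opens := ⟨Tᶜ, hT.isOpen_compl⟩
  have hUV : U ⊔ V = ⊤ := top_unique fun x _ =>
    Opens.mem_sup.2 ((Classical.em (x ∈ T)).imp (fun h => hTU h) id)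
  haveI := hasRpush_scheme V.ι
  haveI := hasRpush_scheme (U ⊓ V).ι
  obtain ⟨a, b, c, h⟩ := exists_mvRpush_triangle U V hUV E
  haveI : (DCoh.Rpush V.ι).Additive :=
    (exists_rightDerived_triangle (Scheme.Modules.pushforward V.ι) _
      (contractible_distinguished ((DCoh.restrictD V.ι).obj E))).1
  haveI : (DCoh.Rpush (U ⊓ V).ι).Additive :=
    (exists_rightDerived_triangle (Scheme.Modules.pushforward (U ⊓ V).ι) _
      (contractible_distinguished ((DCoh.restrictD (U ⊓ V).ι).obj E))).1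
  have hB := Functor.map_isZero (DCoh.Rpush V.ι) (isZero_restrictD_of_support V E T hE fun x hx => hx)
  have hW := Functor.map_isZero (DCoh.Rpush (U ⊓ V).ι)
    (isZero_restrictD_of_support (U ⊓ V) E T hE fun x hx => hx.2)
  haveI : IsIso a := (Triangle.isZero₃_iff_isIso₁ _ h).1 hW
  haveI : IsIso (biprod.fst : ((DCoh.Rpush U.ι).obj ((DCoh.restrictD U.ι).obj E) ⊞
      (DCoh.Rpush V.ι).obj ((DCoh.restrictD V.ι).obj E)) ⟶ _) :=
    ⟨biprod.inl, by apply biprod.hom_ext <;> simp [hB.eq_of_tgt biprod.snd 0], biprod.inl_fst⟩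
  exact ⟨asIso (a ≫ biprod.fst)⟩

/-- Extensions by zero of objects supported in a subset closed in the whole space are pushforwards. -/
theorem nonempty_extZeroD_iso_rpush (U : X.Opens) [DCoh.HasRpush U.ι]
    [PreservesFiniteLimits (CxOX.extZero U.ι)] (T : Set X) (hT : IsClosed T) (hTU : T ⊆ (U : Set X))
    (F : DCoh.D (U : Scheme.{u}))
    (hF : ∀ i : ℤ, (fun x : (U : Scheme.{u}) => U.ι.base x) '' CohB1.support (DCoh.HD F i) ⊆ T) :
    Nonempty ((CxOX.extZeroD U.ι).obj F ≅ (DCoh.Rpush U.ι).obj F) := by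
  haveI : (CxOX.extZero U.ι).Additive := (CxOX.extZeroAdj U.ι).left_adjoint_additive
  haveI : PreservesFiniteColimits (CxOX.extZero U.ι) := by
    have : PreservesColimitsOfSize.{0, 0} (CxOX.extZero U.ι) :=
      (CxOX.extZeroAdj U.ι).leftAdjoint_preservesColimits
    exact ⟨fun _ => inferInstance⟩
  let e₀ : lsh U.ι ≅ CxOX.extZero U.ι := (lshAdj U.ι).leftAdjointUniq (CxOX.extZeroAdj U.ι)
  let C := DerivedCategory.Q.objPreimage F
  let eF : DerivedCategory.Q.obj C ≅ F := DerivedCategory.Q.objObjPreimageIso F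
  let E := (mapCx (lsh U.ι)).obj C
  let eE : (CxOX.extZeroD U.ι).obj F ≅ DerivedCategory.Q.obj E :=
    (CxOX.extZeroD U.ι).mapIso eF.symm ≪≫ (CxOX.extZero U.ι).mapDerivedCategoryFactors.app C ≪≫
      DerivedCategory.Q.mapIso ((NatIso.mapHomologicalComplex e₀.symm (ComplexShape.up ℤ)).app C)
  let eR : (DCoh.restrictD U.ι).obj (DerivedCategory.Q.obj E) ≅ F :=
    (Scheme.Modules.restrictFunctor U.ι).mapDerivedCategoryFactors.app _ ≪≫
      DerivedCategory.Q.mapIso ((NatIso.mapHomologicalComplex (asIso (lshAdj U.ι).unit).symm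
        (ComplexShape.up ℤ)).app C ≪≫ (Functor.mapHomologicalComplexIdIso _ _).app C) ≪≫ eF
  have hs : ∀ i : ℤ, CohB1.support (DCoh.HD (DerivedCategory.Q.obj E) i) ⊆ T := fun i x hx => by
    let eH : DCoh.HD (DerivedCategory.Q.obj E) i ≅ (lsh U.ι).obj (DCoh.HD F i) :=
      (DerivedCategory.homologyFunctorFactors _ i).app E ≪≫
        (C.sc i).mapHomologyIso (lsh U.ι) ≪≫ (lsh U.ι).mapIso
          (((DerivedCategory.homologyFunctorFactors _ i).app C).symm ≪≫
            (DerivedCategory.homologyFunctor _ i).mapIso eF)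
    by_contra hxT
    apply hx
    have hz : IsZero ((DerSch.stalkFunctor X x).obj (DCoh.HD (DerivedCategory.Q.obj E) i)) := by
      refine IsZero.of_iso ?_ ((DerSch.stalkFunctor X x).mapIso eH)
      by_cases hxU : x ∈ Set.range U.ι.base
      · obtain ⟨y, rfl⟩ := hxU
        haveI : Subsingleton ((DCoh.HD F i).presheaf.stalk y) :=
          not_not.1 fun h => hxT (hF i ⟨y, h, rfl⟩)
        haveI : IsIso ((DerSch.stalkFunctor (U : Scheme.{u}) y).map
            ((Scheme.Modules.restrictFunctor U.ι).map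
              (0 : (lsh U.ι).obj (DCoh.HD F i) ⟶ (lsh U.ι).obj (DCoh.HD F i)))) := by
          let e := (asIso (lshAdj U.ι).unit).app (DCoh.HD F i)
          have hz' : IsZero ((DerSch.stalkFunctor (U : Scheme.{u}) y).obj (DCoh.HD F i)) :=
            @ModuleCat.isZero_of_subsingleton _ _ _ (inferInstanceAs
              (Subsingleton ((DCoh.HD F i).presheaf.stalk y)))
          exact ⟨0, (hz'.of_iso ((DerSch.stalkFunctor _ y).mapIso e).symm).eq_of_src _ _,
            (hz'.of_iso ((DerSch.stalkFunctor _ y).mapIso e).symm).eq_of_src _ _⟩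
        have hb := ConcreteCategory.bijective_of_isIso ((DerSch.stalkFunctor (U : Scheme.{u}) y).map
            ((Scheme.Modules.restrictFunctor U.ι).map
              (0 : (lsh U.ι).obj (DCoh.HD F i) ⟶ (lsh U.ι).obj (DCoh.HD F i))))
        have h0 : IsIso ((DerSch.stalkFunctor X (U.ι.base y)).map
            (0 : (lsh U.ι).obj (DCoh.HD F i) ⟶ (lsh U.ι).obj (DCoh.HD F i))) :=
          (ConcreteCategory.isIso_iff_bijective _).2
            ⟨injective_stalk_of_restrict U.ι _ y hb.1, surjective_stalk_of_restrict U.ι _ y hb.2⟩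
        rw [Functor.map_zero] at h0
        exact (IsZero.iff_id_eq_zero _).2 ((isIsoZeroEquiv _ _).toFun h0).1
      · exact isZero_stalk_lsh U.ι x hxU _
    exact ModuleCat.subsingleton_of_isZero hz
  obtain ⟨e⟩ := nonempty_iso_rpush_restrict U T hT hTU (DerivedCategory.Q.obj E) hs
  exact ⟨eE ≪≫ e ≪≫ (DCoh.Rpush U.ι).mapIso eR⟩

/-- A perfect object on an open with support closed in the whole space pushes forward to a perfect one. -/
theorem isPerfect_rpush_of_support (U : X.Opens) [DCoh.HasRpush U.ι] (E : DCoh.D (U : Scheme.{u}))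
    (hE : DCoh.IsPerfect E) (T : Set (U : Scheme.{u}))
    (hjT : IsClosed ((fun x : (U : Scheme.{u}) => U.ι.base x) '' T))
    (hsupp : ∀ i : ℤ, CohB1.support (DCoh.HD E i) ⊆ T) :
    DCoh.IsPerfect ((DCoh.Rpush U.ι).obj E) := by
  haveI : PreservesFiniteLimits (CxOX.extZero U.ι) :=
    preservesFiniteLimits_of_natIso ((lshAdj U.ι).leftAdjointUniq (CxOX.extZeroAdj U.ι))
  let T' : Set X := (fun x : (U : Scheme.{u}) => U.ι.base x) '' T
  have hTU : T' ⊆ (U : Set X) := by rintro _ ⟨y, -, rfl⟩; exact y.2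
  obtain ⟨e⟩ := nonempty_extZeroD_iso_rpush U T' hjT hTU E fun i => Set.image_mono (hsupp i)
  let V : X.Opens := ⟨T'ᶜ, hjT.isOpen_compl⟩
  refine (isPerfect_iff _).2 fun x => ?_
  by_cases hx : x ∈ U
  · obtain ⟨W, j, _, ⟨w, hw⟩, P, hP, ⟨eP⟩⟩ := (isPerfect_iff E).1 hE ⟨x, hx⟩
    let C := DerivedCategory.Q.objPreimage E
    let eC : DerivedCategory.Q.obj C ≅ E := DerivedCategory.Q.objObjPreimageIso E
    haveI : (CxOX.extZero U.ι).Additive := (CxOX.extZeroAdj U.ι).left_adjoint_additive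
    haveI : PreservesFiniteColimits (CxOX.extZero U.ι) := by
      have : PreservesColimitsOfSize.{0, 0} (CxOX.extZero U.ι) :=
        (CxOX.extZeroAdj U.ι).leftAdjoint_preservesColimits
      exact ⟨fun _ => inferInstance⟩
    let e₀ : lsh U.ι ≅ CxOX.extZero U.ι := (lshAdj U.ι).leftAdjointUniq (CxOX.extZeroAdj U.ι)
    let eR : (rho U.ι).obj ((DCoh.Rpush U.ι).obj E) ≅ E :=
      (rho U.ι).mapIso (e.symm ≪≫ (CxOX.extZeroD U.ι).mapIso eC.symm ≪≫
        (CxOX.extZero U.ι).mapDerivedCategoryFactors.app C ≪≫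
        DerivedCategory.Q.mapIso ((NatIso.mapHomologicalComplex e₀.symm (ComplexShape.up ℤ)).app C)) ≪≫
      (Scheme.Modules.restrictFunctor U.ι).mapDerivedCategoryFactors.app _ ≪≫
      DerivedCategory.Q.mapIso ((NatIso.mapHomologicalComplex (asIso (lshAdj U.ι).unit).symm
        (ComplexShape.up ℤ)).app C ≪≫ (Functor.mapHomologicalComplexIdIso _ _).app C) ≪≫ eC
    exact ⟨W, j ≫ U.ι, inferInstance, ⟨w, by simp [hw]⟩, P, hP,
      ⟨eP ≪≫ (rho j).mapIso eR.symm ≪≫ rhoComp j U.ι (j ≫ U.ι) rfl _⟩⟩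
  · have hxV : x ∈ V := fun h => hx (hTU h)
    haveI := hasRpush_scheme (U.ι ∣_ V)
    obtain ⟨iR⟩ := nonempty_rpush_restrictD_iso U.ι V
    haveI : (DCoh.Rpush (U.ι ∣_ V)).Additive :=
      (exists_rightDerived_triangle (Scheme.Modules.pushforward (U.ι ∣_ V)) _
        (contractible_distinguished ((DCoh.restrictD (U.ι ⁻¹ᵁ V).ι).obj E))).1
    have hz : IsZero ((rho V.ι).obj ((DCoh.Rpush U.ι).obj E)) :=
      IsZero.of_iso (Functor.map_isZero (DCoh.Rpush (U.ι ∣_ V))
        (isZero_restrictD_of_support (U.ι ⁻¹ᵁ V) E T hsupp fun y hy hyT => hy ⟨y, hyT, rfl⟩)) (iR.app E)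
    obtain ⟨W, j, _, ⟨w, hw⟩, P, hP, ⟨eP⟩⟩ := locSP_of_isZero hz ⟨x, hxV⟩
    exact ⟨W, j ≫ V.ι, inferInstance, ⟨w, by simp [hw]⟩, P, hP, ⟨eP ≪≫ rhoComp j V.ι (j ≫ V.ι) rfl _⟩⟩

end Groth.Agent.KFlatLib
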