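import Groth.Agent.KFlatLib.Scheme.RpushFF
import Groth.Agent.KFlatLib.Scheme.SupportPush
import Groth.Agent.KFlatLib.Scheme.ProjFormula
import Groth.Agent.KFlatLib.Scheme.DualizingCM
import Groth.Agent.KFlatLib.Scheme.RpushUnbounded
import Groth.Agent.KFlatLib.Ring.KoszulOrth

/-!
# Orthogonality to a Koszul complex and the punctured spectrum
-/

set_option linter.style.haveILetI false
set_option backward.isDefEq.respectTransparency false

universe u

open CategoryTheory CategoryTheory.Limits AlgebraicGeometry Pretriangulated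

attribute [local instance] HasDerivedCategory.standard

namespace Groth.Agent.KFlatLib.KoszulOrth

open DualizingCM

variable {A : Type u} [CommRing A] [PreservesFiniteLimits (tilde.functor (CommRingCat.of A))]

/-- Local abbreviation for the localization at the closed points. -/
noncomputable abbrev tld (M : Dual.D A) : DCoh.D (Spec (CommRingCat.of A)) :=
  (DCoh.tildeD (CommRingCat.of A)).obj M

lemma nonempty_hd_tld (M : Dual.D A) (i : ℤ) : Nonempty (DCoh.HD (tld M) i ≅ tilde (R := CommRingCat.of A)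
    ((DerivedCategory.homologyFunctor (ModuleCat.{u} A) i).obj M)) := by
  haveI : (tilde.functor (CommRingCat.of A)).Additive := tilde_additive _
  haveI : PreservesFiniteColimits (tilde.functor (CommRingCat.of A)) := QCoh.tilde_preservesFiniteColimits
  exact ⟨(mapDCHomologyIso (tilde.functor (CommRingCat.of A)) i).app M⟩

lemma nontrivial_stalk_tld (M : Dual.D A) (i : ℤ) (p : Spec (CommRingCat.of A)) :
    Nontrivial ((DCoh.HD (tld M) i).presheaf.stalk p) ↔
      Nontrivial (LocalizedModule p.asIdeal.primeCompl (Dual.HD A M i)) := by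
  obtain ⟨e⟩ := nonempty_hd_tld M i
  exact ((Scheme.Modules.toPresheaf _ ⋙ TopCat.Presheaf.stalkFunctor AddCommGrpCat.{u} p).mapIso
    e).addCommGroupIsoToAddEquiv.toEquiv.nontrivial_congr.trans
      (nontrivial_tilde_stalk_iff (R := CommRingCat.of A) _ p)

lemma isGE_tld (M : Dual.D A) (a : ℤ) [M.IsGE a] : (tld M).IsGE a :=
  (DerivedCategory.isGE_iff _ a).2 fun i hi => by
    obtain ⟨e⟩ := nonempty_hd_tld M i
    exact ((tilde.functor (CommRingCat.of A)).map_isZero
      (DerivedCategory.isZero_of_isGE M a i hi)).of_iso e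

lemma isLE_tld (M : Dual.D A) (a : ℤ) [M.IsLE a] : (tld M).IsLE a :=
  (DerivedCategory.isLE_iff _ a).2 fun i hi => by
    obtain ⟨e⟩ := nonempty_hd_tld M i
    exact ((tilde.functor (CommRingCat.of A)).map_isZero
      (DerivedCategory.isZero_of_isLE M a i hi)).of_iso e

variable (U : (Spec (CommRingCat.of A)).Opens)
  [PreservesFiniteLimits (Scheme.Modules.restrictFunctor U.ι)]

/-- An object with torsion cohomology dies away from the zero locus. -/
lemma isZero_restrictD_tld (s : List A) (M : Dual.D A)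
    (hU : ∀ p ∈ U, ∃ f ∈ s, f ∉ (p : PrimeSpectrum A).asIdeal)
    (ht : ∀ i : ℤ, ∀ f ∈ s, ∀ x : Dual.HD A M i, ∃ k : ℕ, f ^ k • x = 0) :
    IsZero ((DCoh.restrictD U.ι).obj (tld M)) := by
  refine isZero_restrictD_of_support U _ {p | ∀ f ∈ s, f ∈ (p : PrimeSpectrum A).asIdeal} ?_ fun p hp h => ?_
  · intro i p hp f hf
    by_contra hfp
    have hn : Nontrivial (LocalizedModule p.asIdeal.primeCompl (Dual.HD A M i)) :=
      (nontrivial_stalk_tld M i p).1 (not_subsingleton_iff_nontrivial.1 hp)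
    refine not_subsingleton_iff_nontrivial.2 hn (LocalizedModule.subsingleton_iff.2 fun x => ?_)
    obtain ⟨k, hk⟩ := ht i f hf x
    exact ⟨f ^ k, p.asIdeal.primeCompl.pow_mem hfp k, hk⟩
  · obtain ⟨f, hf, hfp⟩ := hU p hp
    exact hfp (h f hf)

/-- An object which dies away from the zero locus has torsion cohomology. -/
lemma torsion_of_isZero_restrictD (s : List A) (M : Dual.D A)
    (hU : ∀ p : Spec (CommRingCat.of A), (∃ f ∈ s, f ∉ (p : PrimeSpectrum A).asIdeal) → p ∈ U)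
    (hz : IsZero ((DCoh.restrictD U.ι).obj (tld M))) :
    ∀ i : ℤ, ∀ f ∈ s, ∀ x : Dual.HD A M i, ∃ k : ℕ, f ^ k • x = 0 := by
  intro i f hf x
  let I : Ideal A := LinearMap.ker (LinearMap.toSpanSingleton A (Dual.HD A M i) x)
  suffices f ∈ I.radical by
    obtain ⟨k, hk⟩ := this
    exact ⟨k, LinearMap.mem_ker.1 hk⟩
  rw [Ideal.radical_eq_sInf, Submodule.mem_sInf]
  rintro P ⟨hIP, hP⟩
  by_contra hfP
  let p : Spec (CommRingCat.of A) := (⟨P, hP⟩ : PrimeSpectrum A)
  have hpU : p ∈ U := hU p ⟨f, hf, hfP⟩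
  have hz' : IsZero ((Scheme.Modules.restrictFunctor U.ι).obj (DCoh.HD (tld M) i)) :=
    ((DerivedCategory.homologyFunctor (U : Scheme.{u}).Modules i).map_isZero hz).of_iso
      ((mapDCHomologyIso (Scheme.Modules.restrictFunctor U.ι) i).app (tld M)).symm
  haveI hq : Subsingleton (((Scheme.Modules.restrictFunctor U.ι).obj (DCoh.HD (tld M) i)).presheaf.stalk
      (⟨p, hpU⟩ : U)) :=
    ModuleCat.subsingleton_of_isZero ((DerSch.stalkFunctor (U : Scheme.{u}) (⟨p, hpU⟩ : U)).map_isZero hz')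
  have : Subsingleton (LocalizedModule p.asIdeal.primeCompl (Dual.HD A M i)) :=
    not_nontrivial_iff_subsingleton.1 fun h =>
      not_nontrivial_iff_subsingleton.2
        (((Scheme.Modules.restrictStalkNatIso U.ι (⟨p, hpU⟩ : U)).app
          (DCoh.HD (tld M) i)).addCommGroupIsoToAddEquiv.toEquiv.subsingleton_congr.1 hq)
        ((nontrivial_stalk_tld M i p).2 h)
  obtain ⟨r, hr, hrx⟩ := LocalizedModule.subsingleton_iff.1 this x
  exact hr (hIP (LinearMap.mem_ker.2 hrx))

omit U [PreservesFiniteLimits (Scheme.Modules.restrictFunctor U.ι)]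

variable (fs : List A)

/-- The punctured spectrum. -/
abbrev pU : (Spec (CommRingCat.of A)).Opens := LocCoh.puncturedOpen A (Ideal.span {a | a ∈ fs})

omit [PreservesFiniteLimits (tilde.functor (CommRingCat.of A))] in
lemma mem_pU_iff (p : Spec (CommRingCat.of A)) :
    p ∈ pU fs ↔ ∃ f ∈ fs, f ∉ (p : PrimeSpectrum A).asIdeal := by
  show p ∈ (PrimeSpectrum.zeroLocus (R := A) _)ᶜ ↔ _
  rw [PrimeSpectrum.zeroLocus_span]
  constructor
  · intro h
    by_contra hc
    exact h fun f hf => by_contra fun hfp => hc ⟨f, hf, hfp⟩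
  · rintro ⟨f, hf, hfp⟩ h
    exact hfp (h hf)

omit [PreservesFiniteLimits (tilde.functor (CommRingCat.of A))] in
lemma quasiCompact_pU : QuasiCompact (pU fs).ι := by
  haveI : CompactSpace (pU fs) := by
    refine isCompact_iff_compactSpace.1 ?_
    have : ((pU fs : (Spec (CommRingCat.of A)).Opens) : Set (Spec (CommRingCat.of A))) =
        ⋃ f ∈ {a | a ∈ fs}, (PrimeSpectrum.basicOpen (R := A) f : Set (PrimeSpectrum A)) := by
      ext p
      refine (mem_pU_iff fs p).trans ?_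
      simp only [Set.mem_iUnion₂, Set.mem_setOf_eq, exists_prop]
      exact Iff.rfl
    rw [this]
    exact (List.finite_toSet fs).isCompact_biUnion fun f _ => PrimeSpectrum.isCompact_basicOpen f
  exact quasiCompact_of_compactSpace _

variable [PreservesFiniteLimits (Scheme.Modules.restrictFunctor (pU fs).ι)] [DCoh.HasRpush (pU fs).ι]
  (E : DCoh.D (Spec (CommRingCat.of A)))

/-- No maps from a shifted Koszul complex to objects pushed forward from the punctured spectrum. -/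
lemma koszul_orth_rpush (adj : DCoh.restrictD (pU fs).ι ⊣ DCoh.Rpush (pU fs).ι) (m : ℤ) (F : DCoh.D (pU fs : Scheme.{u}))
    (φ : (tld (kQ fs))⟦m⟧ ⟶ (DCoh.Rpush (pU fs).ι).obj F) : φ = 0 := by
  have hz := isZero_restrictD_tld (pU fs) fs (kQ fs) (fun p hp => (mem_pU_iff fs p).1 hp)
    fun i f hf x => (exists_pow_smul_hd_eq_zero fs f hf).imp fun k hk => hk i x
  have hz' : IsZero ((DCoh.restrictD (pU fs).ι).obj ((tld (kQ fs))⟦m⟧)) :=
    ((shiftFunctor _ m).map_isZero hz).of_iso (((DCoh.restrictD (pU fs).ι).commShiftIso m).app _)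
  exact (adj.homEquiv _ _).symm.injective (hz'.eq_of_src _ _)

/-- The fibre of the unit. -/
lemma exists_fibre (adj : DCoh.restrictD (pU fs).ι ⊣ DCoh.Rpush (pU fs).ι) (hE : DCoh.IsQCohD E) :
    ∃ (N : Dual.D A) (i : tld N ⟶ E) (δ : (DCoh.Rpush (pU fs).ι).obj ((DCoh.restrictD (pU fs).ι).obj E) ⟶
        (tld N)⟦(1 : ℤ)⟧),
      Triangle.mk i (adj.unit.app E) δ ∈ distTriang _ ∧
      (∀ n : ℤ, (∀ φ : (tld (kQ fs))⟦-n⟧ ⟶ E, φ = 0) → IsZero (DCoh.HD (tld N) n)) := by
  obtain ⟨G, i, δ, hT⟩ := distinguished_cocone_triangle₁ (adj.unit.app E)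
  haveI := quasiCompact_pU fs
  have hR := isQCohD_rpush (pU fs).ι (isQCohD_restrictD (pU fs).ι hE)
  obtain ⟨N, ⟨eN⟩⟩ := exists_tildeD_iso (R := CommRingCat.of A) (isQCohD_obj₁ hT hE hR)
  have hT' : Triangle.mk (eN.hom ≫ i) (adj.unit.app E) (δ ≫ eN.inv⟦(1 : ℤ)⟧') ∈ distTriang _ :=
    isomorphic_distinguished _ hT _ (Triangle.isoMk _ _ eN (Iso.refl _) (Iso.refl _)
      (by simp) (by simp) (by simp [← Functor.map_comp]))
  refine ⟨N, _, _, hT', fun n ho => ?_⟩
  let T := Triangle.mk (eN.hom ≫ i) (adj.unit.app E) (δ ≫ eN.inv⟦(1 : ℤ)⟧')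
  haveI := isIso_restrictD_counit (pU fs).ι adj
  haveI : IsIso ((DCoh.restrictD (pU fs).ι).map (adj.unit.app E)) := by
    haveI : IsIso ((DCoh.restrictD (pU fs).ι).map (adj.unit.app E) ≫
        adj.counit.app ((DCoh.restrictD (pU fs).ι).obj E)) := by
      rw [adj.left_triangle_components E]
      exact (Iso.refl _).isIso_hom
    exact IsIso.of_isIso_comp_right _ (adj.counit.app ((DCoh.restrictD (pU fs).ι).obj E))
  have hz : IsZero ((DCoh.restrictD (pU fs).ι).obj (tld N)) :=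
    (Triangle.isZero₁_iff_isIso₂ _ ((DCoh.restrictD (pU fs).ι).map_distinguished T hT')).2
      (show IsIso ((DCoh.restrictD (pU fs).ι).map (adj.unit.app E)) from inferInstance)
  have ht := torsion_of_isZero_restrictD (pU fs) fs N (fun p hp => (mem_pU_iff fs p).2 hp) hz
  have hG : ∀ φ : (tld (kQ fs))⟦-n⟧ ⟶ tld N, φ = 0 := fun φ => by
    obtain ⟨χ, rfl⟩ := Triangle.coyoneda_exact₂ _ (inv_rot_of_distTriang _ hT') φ (ho _)
    suffices χ = 0 by rw [this]; exact zero_comp
    refine (shiftFunctor _ (1 : ℤ)).map_injective ?_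
    rw [Functor.map_zero, ← cancel_epi ((shiftFunctorAdd' _ (-n) 1 (-n + 1) rfl).hom.app (tld (kQ fs))),
      ← cancel_mono ((shiftFunctorCompIsoId _ (-1 : ℤ) 1 (by omega)).hom.app
        ((DCoh.Rpush (pU fs).ι).obj ((DCoh.restrictD (pU fs).ι).obj E))), comp_zero, zero_comp]
    exact koszul_orth_rpush fs adj _ _ _
  haveI := subsingleton_hd_of_orth fs ht n fun ψ => by
    refine (tildeD_map_bijective (R := CommRingCat.of A) _ _).1 ?_
    rw [Functor.map_zero, ← cancel_epi (((DCoh.tildeD (CommRingCat.of A)).commShiftIso (-n)).inv.app (kQ fs)),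
      comp_zero]
    exact hG _
  obtain ⟨e⟩ := nonempty_hd_tld N n
  exact ((tilde.functor (CommRingCat.of A)).map_isZero (ModuleCat.isZero_of_subsingleton _)).of_iso e

end Groth.Agent.KFlatLib.KoszulOrth

namespace Groth.Agent.KFlatLib.KoszulOrth

variable {A : Type u} [CommRing A]

/-- The Koszul complex lives in degrees `≤ 0`. -/
lemma isLE_kQ : ∀ l : List A, (kQ l).IsLE 0
  | [] => DerivedCategory.TStructure.t.isLE_of_iso
      (show (DerivedCategory.singleFunctor (ModuleCat.{u} A) 0).obj (ModuleCat.of A A) ≅ kQ [] from Iso.refl _) 0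
  | f :: l => by
    obtain ⟨u, v, hT⟩ := exists_triangle f l
    haveI := isLE_kQ l
    refine DerivedCategory.TStructure.t.isLE₂ _ (rot_of_distTriang _ hT) 0 (isLE_kQ l) ?_
    haveI : DerivedCategory.TStructure.t.IsLE ((kQ l)⟦(1 : ℤ)⟧) (-1) :=
      DerivedCategory.TStructure.t.isLE_shift (kQ l) 0 1 (-1) (by omega)
    exact DerivedCategory.TStructure.t.isLE_of_le ((kQ l)⟦(1 : ℤ)⟧) (-1) 0 (by omega)

/-- The Koszul complex does not map to objects in low degrees. -/
lemma orth_of_isLE (N : Dual.D A) (b : ℤ) [N.IsLE b] :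
    ∀ (l : List A) (n : ℤ), b + l.length < n → ∀ φ : kQ l ⟶ N⟦n⟧, φ = 0
  | [], n, h, φ => by
    haveI := hasLTen A
    obtain ⟨θ⟩ := exists_homUnitLEquiv (A := A) (N⟦n⟧) 0 0 (zero_add 0)
    let e : kQ ([] : List A) ≅ (DTen.unit A)⟦(0 : ℤ)⟧ := ((shiftFunctorZero (Dual.D A) ℤ).app _).symm
    have hz : IsZero ((DerivedCategory.homologyFunctor (ModuleCat.{u} A) n).obj N) :=
      DerivedCategory.isZero_of_isLE N b n (by simpa using h)
    haveI : Subsingleton (Dual.HD A (N⟦n⟧) 0) := ModuleCat.subsingleton_of_isZero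
      (hz.of_iso (((DerivedCategory.homologyFunctor (ModuleCat.{u} A) 0).shiftIso n 0 n (add_zero n)).app N))
    exact ((Linear.homCongr A e (Iso.refl (N⟦n⟧))).trans θ).injective (Subsingleton.elim _ _)
  | f :: l, n, h, φ => by
    rw [List.length_cons, Nat.cast_add_one] at h
    obtain ⟨u, v, hT⟩ := exists_triangle f l
    obtain ⟨χ, rfl⟩ := Triangle.yoneda_exact₃ _ hT φ (orth_of_isLE N b l n (by omega) _)
    suffices χ = 0 by rw [this]; exact comp_zero
    let u₁ := (shiftFunctorCompIsoId (Dual.D A) (1 : ℤ) (-1) (by omega)).app (kQ l)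
    let w := (shiftFunctorAdd' (Dual.D A) n (-1) (n - 1) (by omega)).app N
    refine (shiftFunctor (Dual.D A) (-1)).map_injective ?_
    rw [Functor.map_zero, ← cancel_epi u₁.inv, ← cancel_mono w.inv, comp_zero, zero_comp]
    exact orth_of_isLE N b l (n - 1) (by omega) _

variable [PreservesFiniteLimits (tilde.functor (CommRingCat.of A))] (fs : List A)
  [PreservesFiniteLimits (Scheme.Modules.restrictFunctor (pU fs).ι)] [DCoh.HasRpush (pU fs).ι]
  (E : DCoh.D (Spec (CommRingCat.of A)))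

/-- The standard t-structure on `D(Spec A)`. -/
noncomputable abbrev tS (A : Type u) [CommRing A] :
    CategoryTheory.Triangulated.TStructure (DCoh.D (Spec (CommRingCat.of A))) := DerivedCategory.TStructure.t

theorem isIso_truncLE_unit (adj : DCoh.restrictD (pU fs).ι ⊣ DCoh.Rpush (pU fs).ι) (hE : DCoh.IsQCohD E)
    (a : ℤ) (h : ∀ n : ℤ, n ≤ a → ∀ φ : (tld (kQ fs))⟦-n⟧ ⟶ E, φ = 0) :
    IsIso (((tS A).truncLE (a - 1)).map (adj.unit.app E)) := by
  obtain ⟨N, i, δ, hT, hN⟩ := exists_fibre fs E adj hE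
  have hG : (tS A).IsGE (tld N) (a + 1) := (DerivedCategory.isGE_iff _ _).2 fun n hn => hN n (h n (by omega))
  exact (tS A).isIso₁_truncLE_map_of_isGE _ (rot_of_distTriang _ hT) (a - 1) a (by omega)
    ((tS A).isGE_shift (tld N) (a + 1) 1 a (by omega))

theorem isIso_truncGE_unit (adj : DCoh.restrictD (pU fs).ι ⊣ DCoh.Rpush (pU fs).ι) (hE : DCoh.IsQCohD E)
    (a : ℤ) (h : ∀ n : ℤ, a ≤ n → ∀ φ : (tld (kQ fs))⟦-n⟧ ⟶ E, φ = 0) :
    IsIso (((tS A).truncGE a).map (adj.unit.app E)) := by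
  obtain ⟨N, i, δ, hT, hN⟩ := exists_fibre fs E adj hE
  have hG : (tS A).IsLE (tld N) (a - 1) := (DerivedCategory.isLE_iff _ _).2 fun n hn => hN n (h n (by omega))
  exact (tS A).isIso₂_truncGE_map_of_isLE _ hT (a - 1) a (by omega) hG

theorem orth_of_isIso_truncLE (adj : DCoh.restrictD (pU fs).ι ⊣ DCoh.Rpush (pU fs).ι) (a : ℤ)
    [IsIso (((tS A).truncLE (a - 1)).map (adj.unit.app E))] (n : ℤ) (hn : n ≤ a - 1)
    (φ : (tld (kQ fs))⟦-n⟧ ⟶ E) : φ = 0 := by
  haveI := isLE_kQ fs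
  haveI : (tS A).IsLE (tld (kQ fs)) 0 := isLE_tld _ 0
  haveI : (tS A).IsLE ((tld (kQ fs))⟦-n⟧) n := (tS A).isLE_shift _ 0 (-n) n (by omega)
  haveI : (tS A).IsLE ((tld (kQ fs))⟦-n⟧) (a - 1) := (tS A).isLE_of_le _ n (a - 1) hn
  have h0 : (tS A).liftTruncLE φ (a - 1) ≫ ((tS A).truncLE (a - 1)).map (adj.unit.app E) = 0 := by
    refine (tS A).to_truncLE_obj_ext ?_
    rw [Category.assoc, NatTrans.naturality, (tS A).liftTruncLE_ι_assoc, zero_comp]
    exact koszul_orth_rpush fs adj (-n) _ _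
  have h1 : (tS A).liftTruncLE φ (a - 1) = 0 := (cancel_mono _).1 (h0.trans zero_comp.symm)
  rw [← (tS A).liftTruncLE_ι φ (a - 1), h1]
  exact zero_comp

theorem orth_of_isIso_truncGE (adj : DCoh.restrictD (pU fs).ι ⊣ DCoh.Rpush (pU fs).ι) (hE : DCoh.IsQCohD E)
    (a : ℤ) [IsIso (((tS A).truncGE a).map (adj.unit.app E))] (n : ℤ) (hn : a + (fs.length : ℤ) ≤ n)
    (φ : (tld (kQ fs))⟦-n⟧ ⟶ E) : φ = 0 := by
  obtain ⟨M, ⟨e⟩⟩ := exists_tildeD_iso (R := CommRingCat.of A) hE
  have hπ : φ ≫ ((tS A).truncGEπ a).app E = 0 := by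
    refine (cancel_mono (((tS A).truncGE a).map (adj.unit.app E))).1 ?_
    rw [Category.assoc, ← NatTrans.naturality, Functor.id_map, ← Category.assoc, zero_comp,
      koszul_orth_rpush fs adj (-n) _ (φ ≫ adj.unit.app E), zero_comp]
  let F := DCoh.tildeD (CommRingCat.of A)
  obtain ⟨ψ, hψ⟩ := (tildeD_map_bijective (R := CommRingCat.of A) _ _).2
    ((F.commShiftIso (-n)).hom.app (kQ fs) ≫ φ ≫ e.inv)
  let t : Triangulated.TStructure (Dual.D A) := DerivedCategory.TStructure.t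
  haveI : DerivedCategory.IsGE ((t.truncGE a).obj M) a := t.isGE_truncGE_obj M _ _ le_rfl
  haveI : (tS A).IsGE (F.obj ((t.truncGE a).obj M)) a := isGE_tld _ a
  have h0 : ψ ≫ (t.truncGEπ a).app M = 0 := by
    refine (tildeD_map_bijective (R := CommRingCat.of A) _ _).1 ?_
    rw [Functor.map_comp, hψ, Functor.map_zero, Category.assoc, Category.assoc,
      ← (tS A).π_descTruncGE (e.inv ≫ F.map ((t.truncGEπ a).app M)) a, ← Category.assoc φ, hπ,
      zero_comp, comp_zero]
  obtain ⟨χ, hχ⟩ := Triangle.coyoneda_exact₂ _ (t.triangleLTGE_distinguished a M) ψ h0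
  haveI : DerivedCategory.IsLE ((t.truncLT a).obj M) (a - 1) := t.isLE_truncLT_obj M _ _ (by omega)
  let w := (shiftFunctorCompIsoId (Dual.D A) n (-n) (add_neg_cancel n)).app ((t.truncLT a).obj M)
  have hχ0 : χ = 0 := by
    obtain ⟨χ', hχ'⟩ := (shiftFunctor (Dual.D A) (-n)).map_surjective (χ ≫ w.inv)
    rw [← cancel_mono w.inv, zero_comp, ← hχ', orth_of_isLE ((t.truncLT a).obj M) (a - 1) fs n (by omega) χ',
      Functor.map_zero]
  have hψ0 : ψ = 0 := by
    rw [hχ, hχ0]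
    exact zero_comp
  rw [hψ0, Functor.map_zero] at hψ
  refine (cancel_mono e.inv).1 ((cancel_epi ((F.commShiftIso (-n)).hom.app (kQ fs))).1 ?_)
  rw [zero_comp, comp_zero]
  exact hψ.symm

end Groth.Agent.KFlatLib.KoszulOrth
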