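import Groth.Agent.KFlatLib.Scheme.TildeD
import Groth.Agent.KFlatLib.Scheme.Tilde
import Groth.Agent.KFlatLib.Scheme.Flatness
import Groth.Agent.KFlatLib.Scheme.Amplitude
import Groth.Agent.KFlatLib.Ring.Resolution
import Groth.Agent.KFlatLib.Bounded
import Groth.Agent.S2394
import Groth.Prelude.Def_DTor2
import Mathlib.Algebra.Homology.Embedding.CochainComplex

/-!
# Tor amplitude on `Spec A`
-/

set_option linter.style.haveILetI false

universe u

open CategoryTheory CategoryTheory.Limits AlgebraicGeometry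

attribute [local instance] HasDerivedCategory.standard

namespace Groth.Agent.KFlatLib

lemma isFlat_of_iso' {X : Scheme.{u}} {M N : X.Modules} (e : M ≅ N) (h : FlatMod.IsFlat M) :
    FlatMod.IsFlat N := fun x => by
  haveI : Module.Flat (X.presheaf.stalk x) ((DerSch.stalkFunctor X x).obj M : Type u) := h x
  exact Module.Flat.of_linearEquiv ((DerSch.stalkFunctor X x).mapIso e).toLinearEquiv.symm

lemma isFlatOver_id_iff {X : Scheme.{u}} (M : X.Modules) :
    FlatMod.IsFlatOver (𝟙 X) M ↔ FlatMod.IsFlat M := by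
  refine forall_congr' fun x => ?_
  have h : ((Scheme.Hom.stalkMap (𝟙 X) x).hom : X.presheaf.stalk x →+* X.presheaf.stalk x) =
      RingHom.id _ := by
    rw [Scheme.Hom.stalkMap_id]; rfl
  have hm : (Module.compHom (M.presheaf.stalk x) (RingHom.id (X.presheaf.stalk x))) =
      FlatMod.moduleStalk M x := Module.ext' _ _ fun r m => rfl
  replace hm : (Module.compHom (M.presheaf.stalk x)
      ((Scheme.Hom.stalkMap (𝟙 X) x).hom : X.presheaf.stalk x →+* X.presheaf.stalk x)) =
      FlatMod.moduleStalk M x := by rw [h]; exact hm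
  exact Iff.of_eq (congrArg (fun i => @Module.Flat (X.presheaf.stalk x) (M.presheaf.stalk x) _ _ i) hm)

variable {R : CommRingCat.{u}}

/-- `M^~` is flat iff `M` is. -/
lemma isFlat_tilde_iff (M : ModuleCat.{u} R) :
    FlatMod.IsFlat ((tilde.functor R).obj M) ↔ Module.Flat R M := by
  have h := Groth.Agent.S2394.result R R M
  rw [show Spec.map (CommRingCat.ofHom (algebraMap R R)) = 𝟙 (Spec (CommRingCat.of R)) from
    Spec.map_id _] at h
  exact (isFlatOver_id_iff _).symm.trans h

variable [PreservesFiniteLimits (tilde.functor R)]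

/-- `toD` of `E^~`. -/
noncomputable def toDTildeIso (E : CochainComplex (ModuleCat.{u} R) ℤ) :
    (DCoh.tildeD R).obj (DerivedCategory.Q.obj E) ≅
      DCoh.toD (Spec R) (((tilde.functor R).mapHomologicalComplex (ComplexShape.up ℤ)).obj E) :=
  (tilde.functor R).mapDerivedCategoryFactors.app E

lemma flatAmplitude_tildeD_iff (M : DerivedCategory (ModuleCat.{u} R)) (a b : ℤ) :
    DCoh.HasFlatAmplitudeIn a b ((DCoh.tildeD R).obj M) ↔
      ∃ E : CochainComplex (ModuleCat.{u} R) ℤ, (∀ i, i < a ∨ b < i → IsZero (E.X i)) ∧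
        (∀ i, Module.Flat R (E.X i)) ∧ Nonempty (DerivedCategory.Q.obj E ≅ M) := by
  let T : CochainComplex (ModuleCat.{u} R) ℤ ⥤ CochainComplex (Spec R).Modules ℤ :=
    (tilde.functor R).mapHomologicalComplex (ComplexShape.up ℤ)
  constructor
  swap
  · rintro ⟨E, hv, hflat, ⟨e⟩⟩
    exact ⟨T.obj E, fun i hi => (tilde.functor R).map_isZero (hv i hi),
      fun i => (isFlat_tilde_iff _).2 (hflat i),
      ⟨(toDTildeIso E).symm ≪≫ (DCoh.tildeD R).mapIso e⟩⟩
  intro h
  obtain ⟨K, ⟨eK⟩⟩ : ∃ K, Nonempty (DerivedCategory.Q.obj K ≅ M) :=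
    ⟨_, ⟨DerivedCategory.Q.objObjPreimageIso M⟩⟩
  have hz : ∀ i, i < a ∨ b < i → IsZero (K.homology i) := by
    obtain ⟨E', hv, -, ⟨e'⟩⟩ := h
    intro i hi
    rw [IsZero.iff_id_eq_zero]
    refine (tilde.functor R).map_injective ?_
    refine IsZero.eq_of_src ?_ _ _
    refine IsZero.of_iso ?_ ((tilde.functor R).mapIso
      (((DerivedCategory.homologyFunctorFactors (ModuleCat.{u} R) i).app K).symm ≪≫
        (DerivedCategory.homologyFunctor (ModuleCat.{u} R) i).mapIso eK) ≪≫
      ((mapDCHomologyIso (tilde.functor R) i).app M).symm ≪≫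
      (DerivedCategory.homologyFunctor (Spec R).Modules i).mapIso e'.symm)
    exact IsZero.of_iso (ShortComplex.isZero_homology_of_isZero_X₂ (E'.sc i) (hv i hi))
      ((DerivedCategory.homologyFunctorFactors (Spec R).Modules i).app E')
  obtain ⟨P, ψ, hψ, hflat, hPb⟩ := (ringCover R).exists_bounded_resolution K b
    fun m hm => hz m (Or.inr hm)
  haveI := hψ
  have hflatT : ∀ i, FlatMod.IsFlat ((T.obj P).X i) := fun i => (isFlat_tilde_iff _).2 (hflat i)
  haveI : CochainComplex.IsStrictlyLE (T.obj P) b :=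
    (CochainComplex.isStrictlyLE_iff _ _).2 fun i hi => (tilde.functor R).map_isZero (hPb i hi)
  let eP : DerivedCategory.Q.obj P ≅ M := asIso (DerivedCategory.Q.map ψ) ≪≫ eK
  have hTor : DCoh.HasTorAmplitudeIn a b (DCoh.toD (Spec R) (T.obj P)) :=
    torAmplitude_of_retract ((toDTildeIso P).inv ≫ (DCoh.tildeD R).map eP.hom)
      ((DCoh.tildeD R).map eP.inv ≫ (toDTildeIso P).hom)
      (by simp [← Functor.map_comp_assoc]) (torAmplitude_of_flatAmplitude h)
  have hco : FlatMod.IsFlat (cokernel ((T.obj P).d (a - 1) a)) :=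
    isFlat_cokernel_of_isZero (fun G => hasLTensorMod G) (isKFlat_of_isStrictlyLE (T.obj P) b hflatT)
      hflatT a (fun G _ => hTor G (a - 1) (Or.inl (by omega)))
  haveI : Module.Flat R (P.opcycles a) := by
    refine (isFlat_tilde_iff _).1 (isFlat_of_iso' ((PreservesCokernel.iso (tilde.functor R)
      (P.d (a - 1) a)).symm ≪≫ (tilde.functor R).mapIso
        ((cokernelIsCokernel (P.d (a - 1) a)).coconePointUniqueUpToIso
          (P.opcyclesIsCokernel (a - 1) a (by simp)))) hco)
  have hPz : ∀ i, i < a ∨ b < i → IsZero (P.homology i) := fun i hi =>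
    (hz i hi).of_iso (asIso (HomologicalComplex.homologyMap ψ i))
  let e := ComplexShape.embeddingUpIntGE a
  haveI : P.IsGE a := (CochainComplex.isGE_iff P a).2 fun i hi =>
    (P.exactAt_iff_isZero_homology i).2 (hPz i (Or.inl hi))
  refine ⟨P.truncGE a, fun i hi => ?_, fun i => ?_,
    ⟨(asIso (DerivedCategory.Q.map (P.πTruncGE a))).symm ≪≫ eP⟩⟩
  · rcases hi with hi | hi
    · exact CochainComplex.isZero_of_isStrictlyGE _ a i hi
    · rcases lt_or_ge i a with hia | hia
      · exact CochainComplex.isZero_of_isStrictlyGE _ a i hia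
      obtain ⟨n, rfl⟩ : ∃ n : ℕ, a + n = i := ⟨(i - a).toNat, by omega⟩
      rcases Nat.eq_zero_or_pos n with rfl | hn
      · refine IsZero.of_iso ?_ (HomologicalComplex.truncGEXIsoOpcycles P e (i := 0) rfl
          ((ComplexShape.boundaryGE_embeddingUpIntGE_iff a 0).2 rfl))
        haveI : Epi (P.pOpcycles (a + (0 : ℕ))) := inferInstance
        exact IsZero.of_epi (P.pOpcycles (a + (0 : ℕ))) (hPb _ hi)
      · exact (hPb _ hi).of_iso (HomologicalComplex.truncGEXIso P e (i := n) rfl
          (fun hb => by have := (ComplexShape.boundaryGE_embeddingUpIntGE_iff a n).1 hb; omega))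
  · rcases lt_or_ge i a with hia | hia
    · haveI := ModuleCat.subsingleton_of_isZero (CochainComplex.isZero_of_isStrictlyGE (P.truncGE a) a i hia)
      infer_instance
    obtain ⟨n, rfl⟩ : ∃ n : ℕ, a + n = i := ⟨(i - a).toNat, by omega⟩
    rcases Nat.eq_zero_or_pos n with rfl | hn
    · have hf : Module.Flat R (P.opcycles (a + (0 : ℕ))) := by
        rw [Nat.cast_zero, add_zero]; assumption
      exact (Module.Flat.equiv_iff (HomologicalComplex.truncGEXIsoOpcycles P e (i := 0) rfl
        ((ComplexShape.boundaryGE_embeddingUpIntGE_iff a 0).2 rfl)).toLinearEquiv).2 hf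
    · exact (Module.Flat.equiv_iff (HomologicalComplex.truncGEXIso P e (i := n) rfl
        (fun hb => by have := (ComplexShape.boundaryGE_embeddingUpIntGE_iff a n).1 hb; omega)).toLinearEquiv).2
          (hflat _)

end Groth.Agent.KFlatLib
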