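import Groth.Agent.KFlatLib.Scheme.TildePC
import Groth.Agent.KFlatLib.Scheme.TildeAmp
import Groth.Agent.KFlatLib.Perfect.Amplitude
import Groth.Agent.KFlatLib.Perfect.Criterion
import Groth.Agent.QCoh.LocFree

/-!
# Perfect objects on `Spec R`
-/

set_option linter.style.haveILetI false

universe u

open CategoryTheory CategoryTheory.Limits AlgebraicGeometry

attribute [local instance] HasDerivedCategory.standard

namespace Groth.Agent.KFlatLib

variable {R : CommRingCat.{u}} [PreservesFiniteLimits (tilde.functor R)]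

/-- Bounded finite projective representatives. -/
def RPerf (M : DerivedCategory (ModuleCat.{u} R)) : Prop :=
  ∃ (E : CochainComplex (ModuleCat.{u} R) ℤ) (a b : ℤ), (∀ i, i < a ∨ b < i → IsZero (E.X i)) ∧
    (∀ i, Module.Finite R (E.X i) ∧ Module.Projective R (E.X i)) ∧
    Nonempty (DerivedCategory.Q.obj E ≅ M)

lemma locSP_of_rperf {M : DerivedCategory (ModuleCat.{u} R)} (h : RPerf M) :
    LocSP ((DCoh.tildeD R).obj M) := fun x => by
  obtain ⟨E, a, b, hz, hf, ⟨e⟩⟩ := h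
  let T : CochainComplex (ModuleCat.{u} R) ℤ ⥤ CochainComplex (Spec R).Modules ℤ :=
    (tilde.functor R).mapHomologicalComplex (ComplexShape.up ℤ)
  let j := (⊤ : (Spec R).Opens).ι
  have hT : DCoh.IsStrictlyPerfect (T.obj E) :=
    ⟨⟨a, b, fun i hi => (tilde.functor R).map_isZero (hz i hi)⟩,
      fun i => (Groth.Agent.S12451.result _).2 (hf i)⟩
  exact ⟨_, j, inferInstance, ⟨⟨x, trivial⟩, rfl⟩, (rCx j).obj (T.obj E),
    isStrictlyPerfect_restrict j hT,
    ⟨((rhoQ j).app _).symm ≪≫ (rho j).mapIso ((toDTildeIso E).symm ≪≫ (DCoh.tildeD R).mapIso e)⟩⟩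

lemma rperf_of_locSP {M : DerivedCategory (ModuleCat.{u} R)}
    (h : LocSP ((DCoh.tildeD R).obj M)) : RPerf M := by
  have h' := h
  choose U j hj hx P hP hiso using h
  choose a b hb using fun x => (hP x).1
  obtain ⟨t, ht⟩ := isCompact_univ.elim_finite_subcover
    (fun x : (Spec R : Scheme.{u}) => Set.range (j x).base)
    (fun x => haveI := hj x; (j x).isOpenEmbedding.isOpen_range)
    (fun x _ => Set.mem_iUnion.2 ⟨x, hx x⟩)
  let N : ℕ := ∑ x ∈ t, ((a x).natAbs + (b x).natAbs)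
  let m : ℤ := -(N : ℤ)
  let n : ℤ := (N : ℤ)
  obtain ⟨hpc, hamp⟩ := (perfectAmplitude_iff ((DCoh.tildeD R).obj M) m n (by omega)).1 fun y => by
    obtain ⟨x, hxt, hy⟩ := Set.mem_iUnion₂.1 (ht (Set.mem_univ y))
    have hN : (a x).natAbs + (b x).natAbs ≤ N :=
      Finset.single_le_sum (f := fun x => (a x).natAbs + (b x).natAbs) (fun _ _ => Nat.zero_le _) hxt
    exact ⟨U x, j x, hj x, hy, P x, fun i hi => hb x i (by omega), (hP x).2, hiso x⟩
  obtain ⟨F, hvF, hflatF, ⟨eF⟩⟩ := (flatAmplitude_tildeD_iff M m n).1 hamp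
  obtain ⟨E, α, hE, hα⟩ := (pseudoCoherentD_tildeD_iff (m - 1) M).1
    ((isPseudoCoherentD_iff _ _).2 hpc)
  let T : CochainComplex (ModuleCat.{u} R) ℤ ⥤ CochainComplex (Spec R).Modules ℤ :=
    (tilde.functor R).mapHomologicalComplex (ComplexShape.up ℤ)
  obtain ⟨⟨a₀, b₀, hz₀⟩, hf₀⟩ := hE
  have hTE : DCoh.IsStrictlyPerfect (T.obj E) :=
    ⟨⟨a₀, b₀, fun i hi => (tilde.functor R).map_isZero (hz₀ i hi)⟩,
      fun i => isFinLocFree_tilde_of_free (hf₀ i)⟩
  obtain ⟨P', hP', -, ⟨e'⟩⟩ := exists_perfect_of_flat_pc (F := T.obj F) (by omega : m ≤ n) hTE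
    (fun i hi => (tilde.functor R).map_isZero (hvF i hi)) (fun i => (isFlat_tilde_iff _).2 (hflatF i))
    ((toDTildeIso E).inv ≫ (DCoh.tildeD R).map (α ≫ eF.inv) ≫ (toDTildeIso F).hom)
    (((hα.comp (isPcMap_of_isIso _ eF.inv)).map_exact (tilde.functor R)).comp_iso _ _)
  obtain ⟨⟨a₁, b₁, hz₁⟩, hf₁⟩ := hP'
  have hc : ∀ i, IsIso ((counitCx P').f i) := fun i =>
    (isQuasicoherent_iff_isIso_fromTildeΓ _).1 (QCoh.isQCoh_of_isFinLocFree (hf₁ i))
  haveI : IsIso (counitCx P') := HomologicalComplex.Hom.isIso_of_components _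
  have hproj : ∀ i, Module.Finite R ((gammaCx.obj P').X i) ∧ Module.Projective R ((gammaCx.obj P').X i) :=
    fun i => (Groth.Agent.S12451.result _).1
      (H23.PullPush.isFinLocFree_of_iso (@asIso _ _ _ _ ((counitCx P').f i) (hc i)).symm (hf₁ i))
  refine ⟨gammaCx.obj P', a₁, b₁, fun i hi => ?_, hproj, ?_⟩
  · haveI : (moduleSpecΓFunctor (R := R)).Additive :=
      (tilde.adjunction (R := R)).right_adjoint_additive
    exact (moduleSpecΓFunctor (R := R)).map_isZero (hz₁ i hi)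
  · haveI : (DCoh.tildeD R).Full := ⟨fun f => (tildeD_map_bijective _ _).2 f⟩
    haveI : (DCoh.tildeD R).Faithful := ⟨fun h => (tildeD_map_bijective _ _).1 h⟩
    exact ⟨(DCoh.tildeD R).preimageIso (toDTildeIso _ ≪≫
      DerivedCategory.Q.mapIso (asIso (counitCx P')) ≪≫ e' ≪≫ (toDTildeIso F).symm ≪≫
        (DCoh.tildeD R).mapIso eF)⟩

/-- Perfectness is detected on `Spec R`. -/
lemma perfect_tildeD_iff (M : DerivedCategory (ModuleCat.{u} R)) :
    DCoh.IsPerfect ((DCoh.tildeD R).obj M) ↔ RPerf M :=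
  (isPerfect_iff _).trans ⟨rperf_of_locSP, locSP_of_rperf⟩

end Groth.Agent.KFlatLib
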