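import Groth.Agent.KFlatLib.Ring.TorsionFactor
import Groth.Agent.KFlatLib.Scheme.KoszulPunctured
import Groth.Agent.KFlatLib.Scheme.TildePerf
import Groth.Agent.KFlatLib.Scheme.EvalPerfect
import Groth.Agent.KFlatLib.Scheme.RHomLocal
import Groth.Agent.KFlatLib.Scheme.AffineRpush

/-!
# Lifting morphisms from perfect objects over a quasi-compact open of an affine scheme
-/

set_option linter.style.haveILetI false
set_option backward.isDefEq.respectTransparency false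

universe u

open CategoryTheory CategoryTheory.Limits AlgebraicGeometry Pretriangulated

attribute [local instance] HasDerivedCategory.standard

namespace Groth.Agent.KFlatLib.AffineLift

variable {X U V : Scheme.{u}}

/-- Restricting twice, naturally. -/
theorem nonempty_rhoCompNat (i : V ⟶ U) [IsOpenImmersion i] (j : U ⟶ X) [IsOpenImmersion j]
    (k : V ⟶ X) [IsOpenImmersion k] (h : i ≫ j = k) : Nonempty (rho j ⋙ rho i ≅ rho k) := by
  let e : DerivedCategory.Q ⋙ (rho j ⋙ rho i) ≅ DerivedCategory.Q ⋙ rho k :=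
    rhoQ₂ i j ≪≫ (Functor.associator _ _ _).symm ≪≫
      Functor.isoWhiskerRight (Functor.mapHomologicalComplexCompIso
        ((Scheme.Modules.restrictFunctorComp i j).symm ≪≫ Scheme.Modules.restrictFunctorCongr h)
        (ComplexShape.up ℤ)) DerivedCategory.Q ≪≫ (rhoQ k).symm
  exact ⟨Localization.liftNatIso DerivedCategory.Q (HomologicalComplex.quasiIso _ _)
    (DerivedCategory.Q ⋙ (rho j ⋙ rho i)) (DerivedCategory.Q ⋙ rho k) _ _ e⟩

theorem nonempty_rho_id (k : X ⟶ X) [IsOpenImmersion k] (h : k = 𝟙 X) :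
    Nonempty (rho k ≅ 𝟭 (DCoh.D X)) := by
  let e : DerivedCategory.Q ⋙ rho k ≅ DerivedCategory.Q ⋙ 𝟭 (DCoh.D X) :=
    rhoQ k ≪≫ Functor.isoWhiskerRight (NatIso.mapHomologicalComplex
        (Scheme.Modules.restrictFunctorCongr h ≪≫ Scheme.Modules.restrictFunctorId) (ComplexShape.up ℤ) ≪≫
      Functor.mapHomologicalComplexIdIso _ _) DerivedCategory.Q ≪≫ Functor.leftUnitor _ ≪≫
      (Functor.rightUnitor _).symm
  exact ⟨Localization.liftNatIso DerivedCategory.Q (HomologicalComplex.quasiIso _ _)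
    (DerivedCategory.Q ⋙ rho k) (DerivedCategory.Q ⋙ 𝟭 _) _ _ e⟩

/-- Restriction along an isomorphism is an equivalence. -/
theorem isEquivalence_rho (i : V ⟶ U) [IsIso i] : (rho i).IsEquivalence := by
  obtain ⟨a⟩ := nonempty_rhoCompNat i (inv i) (𝟙 V) (by simp)
  obtain ⟨b⟩ := nonempty_rhoCompNat (inv i) i (𝟙 U) (by simp)
  obtain ⟨c⟩ := nonempty_rho_id (𝟙 V) rfl
  obtain ⟨d⟩ := nonempty_rho_id (𝟙 U) rfl
  exact (CategoryTheory.Equivalence.mk (rho i) (rho (inv i)) (b ≪≫ d).symm (a ≪≫ c)).isEquivalence_functor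

/-- Perfect objects have quasi-coherent cohomology. -/
theorem isQCohD_of_locSP {K : DCoh.D X} (h : LocSP K) : DCoh.IsQCohD K := fun i =>
  isQCoh_HD_of_local K i fun x => by
    obtain ⟨U, j, hj, hx, P, hP, ⟨e⟩⟩ := h x
    exact ⟨U, j, hj, hx, isQCoh_of_iso ((DerivedCategory.homologyFunctor U.Modules i).mapIso e)
      (isQCoh_HD_of_isStrictlyPerfect hP i)⟩

/-- Vanishing on an open does not depend on the chart. -/
lemma isZero_rho_preimage_iff {Y : Scheme.{u}} (g : Y ⟶ X) [IsIso g] (O : X.Opens) (E : DCoh.D X) :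
    IsZero ((rho (g ⁻¹ᵁ O).ι).obj ((rho g).obj E)) ↔ IsZero ((rho O.ι).obj E) := by
  obtain ⟨a⟩ := nonempty_rhoCompNat (g ⁻¹ᵁ O).ι g ((g ∣_ O) ≫ O.ι) (morphismRestrict_ι g O).symm
  obtain ⟨b⟩ := nonempty_rhoCompNat (g ∣_ O) O.ι ((g ∣_ O) ≫ O.ι) rfl
  let e : (rho (g ⁻¹ᵁ O).ι).obj ((rho g).obj E) ≅ (rho (g ∣_ O)).obj ((rho O.ι).obj E) :=
    a.app E ≪≫ (b.app E).symm
  haveI := isEquivalence_rho (g ∣_ O)
  refine ⟨fun h => ?_, fun h => ((rho (g ∣_ O)).map_isZero h).of_iso e⟩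
  refine (IsZero.iff_id_eq_zero _).2 ((rho (g ∣_ O)).map_injective ?_)
  exact (h.of_iso e.symm).eq_of_src _ _

section Spec

variable {A : Type u} [CommRing A]

lemma rperf_iff (M : Dual.D A) : RPerf (R := CommRingCat.of A) M ↔ DRing.IsPerfect A M := Iff.rfl

lemma exists_list (O : (Spec (CommRingCat.of A)).Opens) (hO : IsCompact (O : Set (Spec (CommRingCat.of A)))) :
    ∃ fs : List A, O = KoszulOrth.pU fs := by
  obtain ⟨t, ht⟩ := PrimeSpectrum.isCompact_isOpen_iff.1 ⟨hO, O.isOpen⟩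
  refine ⟨t.toList, TopologicalSpace.Opens.ext ?_⟩
  have h : {a : A | a ∈ t.toList} = (t : Set A) := Set.ext fun a => Finset.mem_toList
  rw [← ht, ← h, ← PrimeSpectrum.zeroLocus_span]
  rfl

/-- Maps to objects supported away from an open factor through such perfect objects. -/
theorem exists_factor_spec (O : (Spec (CommRingCat.of A)).Opens)
    (hO : IsCompact (O : Set (Spec (CommRingCat.of A)))) {E N : DCoh.D (Spec (CommRingCat.of A))}
    (hE : LocSP E) (hN : DCoh.IsQCohD N) (hz : IsZero ((rho O.ι).obj N)) (φ : E ⟶ N) :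
    ∃ (E' : DCoh.D (Spec (CommRingCat.of A))) (q : E ⟶ E') (ψ : E' ⟶ N),
      LocSP E' ∧ q ≫ ψ = φ ∧ IsZero ((rho O.ι).obj E') := by
  haveI : PreservesFiniteLimits (tilde.functor (CommRingCat.of A)) := QCoh.tilde_preservesFiniteLimits
  obtain ⟨fs, rfl⟩ := exists_list O hO
  obtain ⟨M, ⟨eM⟩⟩ := exists_tildeD_iso (R := CommRingCat.of A) (isQCohD_of_locSP hE)
  obtain ⟨L, ⟨eL⟩⟩ := exists_tildeD_iso (R := CommRingCat.of A) hN
  have hM : DRing.IsPerfect A M :=
    ((perfect_tildeD_iff (R := CommRingCat.of A) M).1 ((isPerfect_iff _).2 (hE.of_iso eM.symm)))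
  have ht := KoszulOrth.torsion_of_isZero_restrictD (KoszulOrth.pU fs) fs L
    (fun p hp => (KoszulOrth.mem_pU_iff fs p).2 hp) (hz.of_iso ((rho _).mapIso eL))
  obtain ⟨φ', hφ'⟩ := (tildeD_map_bijective (R := CommRingCat.of A) M L).2 (eM.hom ≫ φ ≫ eL.inv)
  obtain ⟨P, q, ψ, hP, hqψ, hk⟩ := TorsionFactor.exists_factor fs ht M hM φ'
  refine ⟨KoszulOrth.tld P, eM.inv ≫ (DCoh.tildeD (CommRingCat.of A)).map q,
    (DCoh.tildeD (CommRingCat.of A)).map ψ ≫ eL.hom,
    (isPerfect_iff _).1 ((perfect_tildeD_iff (R := CommRingCat.of A) P).2 hP), ?_, ?_⟩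
  · rw [Category.assoc, ← Functor.map_comp_assoc, hqψ, hφ']
    simp
  · exact KoszulOrth.isZero_restrictD_tld (KoszulOrth.pU fs) fs P
      (fun p hp => (KoszulOrth.mem_pU_iff fs p).1 hp)
      fun i f hf x => TorsionFactor.torsion_of_pow_smul_id f (hk f hf) i x

end Spec

/-- Maps to objects supported away from an open of an affine scheme factor through such perfect objects. -/
theorem exists_factor [IsAffine X] (O : X.Opens) (hO : IsCompact (O : Set X)) {E N : DCoh.D X}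
    (hE : LocSP E) (hN : DCoh.IsQCohD N) (hz : IsZero ((rho O.ι).obj N)) (φ : E ⟶ N) :
    ∃ (E' : DCoh.D X) (q : E ⟶ E') (ψ : E' ⟶ N),
      LocSP E' ∧ q ≫ ψ = φ ∧ IsZero ((rho O.ι).obj E') := by
  let g : Spec (CommRingCat.of Γ(X, ⊤)) ⟶ X := X.isoSpec.inv
  have hO' : IsCompact ((g ⁻¹ᵁ O : (Spec (CommRingCat.of Γ(X, ⊤))).Opens) : Set (Spec (CommRingCat.of Γ(X, ⊤)))) :=
    (Scheme.homeoOfIso X.isoSpec.symm).isCompact_preimage.2 hO
  obtain ⟨E'', q, ψ, hE'', hqψ, hz''⟩ := exists_factor_spec (A := Γ(X, ⊤)) (g ⁻¹ᵁ O) hO'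
    (hE.restrict' g) (isQCohD_rho g hN) ((isZero_rho_preimage_iff g O N).2 hz) ((rho g).map φ)
  haveI := isEquivalence_rho g
  let E' := (rho g).objPreimage E''
  let e : (rho g).obj E' ≅ E'' := (rho g).objObjPreimageIso E''
  obtain ⟨q', hq'⟩ := (rho g).map_surjective (q ≫ e.inv)
  obtain ⟨ψ', hψ'⟩ := (rho g).map_surjective (e.hom ≫ ψ)
  refine ⟨E', q', ψ', ?_, (rho g).map_injective ?_,
    (isZero_rho_preimage_iff g O E').1 (hz''.of_iso ((rho _).mapIso e))⟩
  · intro x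
    obtain ⟨W, j, hj, ⟨w, hw⟩, P, hP, ⟨eP⟩⟩ := (hE''.of_iso e.symm) (X.isoSpec.hom.base x)
    refine ⟨W, j ≫ g, inferInstance, ⟨w, ?_⟩, P, hP, ⟨eP ≪≫ rhoComp j g (j ≫ g) rfl E'⟩⟩
    show g.base (j.base w) = x
    rw [hw]
    have h := congrArg (fun f : X ⟶ X => f.base x) X.isoSpec.hom_inv_id
    exact h
  · rw [Functor.map_comp, hq', hψ', Category.assoc, e.inv_hom_id_assoc, hqψ]

/-- Morphisms from perfect objects over a quasi-compact open of an affine scheme lift after a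
modification away from the open. -/
theorem exists_lift [IsAffine X] (O : X.Opens) (hO : IsCompact (O : Set X)) {E E' : DCoh.D X}
    (hE : LocSP E) (hE' : DCoh.IsQCohD E') (α : (rho O.ι).obj E ⟶ (rho O.ι).obj E') :
    ∃ (E₁ : DCoh.D X) (β : E₁ ⟶ E) (γ : E₁ ⟶ E'),
      LocSP E₁ ∧ IsIso ((rho O.ι).map β) ∧ (rho O.ι).map β ≫ α = (rho O.ι).map γ := by
  haveI := hasRpush_scheme O.ι
  haveI : QuasiCompact O.ι := by
    haveI : CompactSpace O := isCompact_iff_compactSpace.1 hO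
    exact quasiCompact_of_compactSpace _
  obtain ⟨adj⟩ := nonempty_rho_adj O.ι
  obtain ⟨G, i, δ, hT⟩ := distinguished_cocone_triangle₁ (adj.unit.app E')
  haveI := isIso_restrictD_counit O.ι adj
  haveI : IsIso ((rho O.ι).map (adj.unit.app E')) := by
    haveI : IsIso ((rho O.ι).map (adj.unit.app E') ≫ adj.counit.app ((rho O.ι).obj E')) := by
      rw [adj.left_triangle_components E']
      exact (Iso.refl _).isIso_hom
    exact IsIso.of_isIso_comp_right _ (adj.counit.app ((rho O.ι).obj E'))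
  have hG : IsZero ((rho O.ι).obj G) :=
    (Triangle.isZero₁_iff_isIso₂ _ ((rho O.ι).map_distinguished _ hT)).2
      (show IsIso ((rho O.ι).map (adj.unit.app E')) from inferInstance)
  have hG' : IsZero ((rho O.ι).obj (G⟦(1 : ℤ)⟧)) :=
    ((shiftFunctor _ (1 : ℤ)).map_isZero hG).of_iso (((rho O.ι).commShiftIso (1 : ℤ)).app G)
  have hqG : DCoh.IsQCohD (G⟦(1 : ℤ)⟧) :=
    isQCohD_shift (isQCohD_obj₁ hT hE' (isQCohD_rpush O.ι (isQCohD_rho O.ι hE'))) 1
  obtain ⟨P, q, ψ, hP, hqψ, hPz⟩ := exists_factor O hO hE hqG hG' (adj.homEquiv _ _ α ≫ δ)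
  obtain ⟨E₁, β, d, hT₁⟩ := distinguished_cocone_triangle₁ q
  have hβ : IsIso ((rho O.ι).map β) :=
    (Triangle.isZero₃_iff_isIso₁ _ ((rho O.ι).map_distinguished _ hT₁)).1 hPz
  obtain ⟨γ, hγ⟩ := Triangle.coyoneda_exact₃ _ hT (β ≫ adj.homEquiv _ _ α) (by
    show (β ≫ adj.homEquiv _ _ α) ≫ δ = 0
    rw [Category.assoc, ← hqψ, ← Category.assoc]
    exact (congrArg (· ≫ ψ) (comp_distTriang_mor_zero₁₂ _ hT₁)).trans zero_comp)
  refine ⟨E₁, β, γ, (locSP_two_of_three _ hT₁).2.2 hE hP, hβ, (adj.homEquiv _ _).injective ?_⟩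
  rw [adj.homEquiv_naturality_left]
  exact hγ.trans ((congrArg (γ ≫ ·) rfl).trans ((adj.unit.naturality γ).symm ▸ rfl))

end Groth.Agent.KFlatLib.AffineLift
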