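import Groth.Agent.KFlatLib.Scheme.BCMapLocal
import Groth.Prelude.Def_Dual3
import Mathlib.CategoryTheory.Adjunction.Restrict

/-!
# Base change data on `D_QCoh`
-/

set_option linter.style.haveILetI false
set_option backward.isDefEq.respectTransparency false

universe u

open CategoryTheory CategoryTheory.Limits AlgebraicGeometry Opposite TopologicalSpace

attribute [local instance] HasDerivedCategory.standard

namespace Groth.Agent.KFlatLib.BCData

variable {X Y X' Y' : Scheme.{u}} {f : X ⟶ Y} {g : Y' ⟶ Y} {f' : X' ⟶ Y'} {g' : X' ⟶ X}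
variable [DCoh.HasRpush f] [DCoh.HasRpush f'] [DCoh.HasRpush g] [DCoh.HasRpush g']
variable {hf : DCoh.RpushPreservesQCoh f} {hf' : DCoh.RpushPreservesQCoh f'}
variable {hg : DCoh.RpushPreservesQCoh g} {hg' : DCoh.RpushPreservesQCoh g'}
variable [DCoh.HasLpull g] [DCoh.HasLpull g'] {hLg : Dual3.LpullPreservesQCoh g}
  {hLg' : Dual3.LpullPreservesQCoh g'}
variable (adjg : Dual3.LpullQ g hLg ⊣ DCoh.RpushQ g hg) (adjg' : Dual3.LpullQ g' hLg' ⊣ DCoh.RpushQ g' hg')

variable (hf hf') in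
/-- Flat base change for `D_QCoh`. -/
theorem exists_e (hsq : IsPullback g' f' f g) [QuasiCompact f] [QuasiSeparated f] [Flat g] :
    ∃ e : DCoh.RpushQ g' hg' ⋙ DCoh.RpushQ f hf ≅ DCoh.RpushQ f' hf' ⋙ DCoh.RpushQ g hg,
      ∀ K, IsIso (Dual3.bcPush e adjg adjg' K) := by
  obtain ⟨A⟩ := nonempty_lpull_rpush_adj g
  obtain ⟨A'⟩ := nonempty_lpull_rpush_adj g'
  obtain ⟨e₀, he₀⟩ := FlatBC.exists_isIso_baseChangeApp hsq A A'
  let ι := fun (Z : Scheme.{u}) => ObjectProperty.ι (DCoh.IsQCohD (X := Z))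
  let ff := fun (Z : Scheme.{u}) => ObjectProperty.fullyFaithfulι (DCoh.IsQCohD (X := Z))
  let Ar : Dual3.LpullQ g hLg ⊣ DCoh.RpushQ g hg :=
    A.restrictFullyFaithful (ff Y) (ff Y') (Iso.refl _) (Iso.refl _)
  let Ar' : Dual3.LpullQ g' hLg' ⊣ DCoh.RpushQ g' hg' :=
    A'.restrictFullyFaithful (ff X) (ff X') (Iso.refl _) (Iso.refl _)
  let eQ : DCoh.RpushQ g' hg' ⋙ DCoh.RpushQ f hf ≅ DCoh.RpushQ f' hf' ⋙ DCoh.RpushQ g hg :=
    NatIso.ofComponents (fun M => (ff Y).preimageIso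
        (X := (DCoh.RpushQ g' hg' ⋙ DCoh.RpushQ f hf).obj M)
        (Y := (DCoh.RpushQ f' hf' ⋙ DCoh.RpushQ g hg).obj M) (e₀.app M.obj))
      (fun φ => ObjectProperty.hom_ext _ (e₀.hom.naturality φ.hom))
  let σ := Ar.rightAdjointUniq adjg
  let σ' := Ar'.rightAdjointUniq adjg'
  let e := Functor.isoWhiskerRight σ'.symm (DCoh.RpushQ f hf) ≪≫ eQ ≪≫
    Functor.isoWhiskerLeft (DCoh.RpushQ f' hf') σ
  refine ⟨e, fun K => ?_⟩
  let L' := (Dual3.LpullQ g' hLg').obj K
  let x : (DCoh.RpushQ f hf).obj K ⟶ (DCoh.RpushQ g hg).obj ((DCoh.RpushQ f' hf').obj L') :=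
    (DCoh.RpushQ f hf).map (Ar'.unit.app K) ≫ eQ.hom.app L'
  have hx : (DCoh.RpushQ f hf).map (adjg'.unit.app K) ≫ e.hom.app L' =
      x ≫ σ.hom.app ((DCoh.RpushQ f' hf').obj L') := by
    rw [show adjg'.unit.app K = Ar'.unit.app K ≫ σ'.hom.app L' from
      (Adjunction.unit_rightAdjointUniq_hom_app Ar' adjg' K).symm]
    change (DCoh.RpushQ f hf).map _ ≫ ((DCoh.RpushQ f hf).map (σ'.inv.app L') ≫ eQ.hom.app L' ≫
      σ.hom.app ((DCoh.RpushQ f' hf').obj L')) = _
    rw [← Functor.map_comp_assoc, Category.assoc, σ'.hom_inv_id_app]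
    erw [Category.comp_id]
    exact (Category.assoc _ _ _).symm
  have hbc : Dual3.bcPush e adjg adjg' K = (Ar.homEquiv _ _).symm x := by
    refine (adjg.homEquiv _ _).injective ?_
    rw [Dual3.bcPush, Equiv.apply_symm_apply, FlatBC.homEquiv_rightAdjointUniq Ar adjg,
      Equiv.apply_symm_apply]
    exact hx
  have hh : ((Ar.homEquiv _ _).symm x).hom = DCoh.baseChangeApp A A' e₀ K.obj := by
    have hc := A.map_restrictFullyFaithful_counit_app (ff Y) (ff Y')
      (L := Dual3.LpullQ g hLg) (R := DCoh.RpushQ g hg) (Iso.refl _) (Iso.refl _)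
      ((DCoh.RpushQ f' hf').obj L')
    have hu := A'.map_restrictFullyFaithful_unit_app (ff X) (ff X')
      (L := Dual3.LpullQ g' hLg') (R := DCoh.RpushQ g' hg') (Iso.refl _) (Iso.refl _) K
    change (Ar.counit.app ((DCoh.RpushQ f' hf').obj L')).hom = _ at hc
    change (Ar'.unit.app K).hom = _ at hu
    rw [Ar.homEquiv_counit]
    change (DCoh.Lpull g).map ((DCoh.Rpush f).map (Ar'.unit.app K).hom ≫ e₀.hom.app L'.obj) ≫
      (Ar.counit.app ((DCoh.RpushQ f' hf').obj L')).hom = _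
    rw [hc, hu, DCoh.baseChangeApp, A.homEquiv_counit]
    simp
    rfl
  rw [hbc]
  haveI := he₀ K.obj K.property
  haveI : IsIso ((ι Y').map ((Ar.homEquiv _ _).symm x)) := by
    change IsIso ((Ar.homEquiv _ _).symm x).hom
    rw [hh]; infer_instance
  exact isIso_of_reflects_iso _ (ι Y')

variable {a : DCoh.DQCoh Y ⥤ DCoh.DQCoh X} {a' : DCoh.DQCoh Y' ⥤ DCoh.DQCoh X'}
variable (adj : DCoh.RpushQ f hf ⊣ a) (adj' : DCoh.RpushQ f' hf' ⊣ a')
  (e : DCoh.RpushQ g' hg' ⋙ DCoh.RpushQ f hf ≅ DCoh.RpushQ f' hf' ⋙ DCoh.RpushQ g hg)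

lemma bcPush_natural {K K' : DCoh.DQCoh X} (φ : K ⟶ K') :
    (Dual3.LpullQ g hLg).map ((DCoh.RpushQ f hf).map φ) ≫ Dual3.bcPush e adjg adjg' K' =
      Dual3.bcPush e adjg adjg' K ≫ (DCoh.RpushQ f' hf').map ((Dual3.LpullQ g' hLg').map φ) := by
  refine (adjg.homEquiv _ _).injective ?_
  rw [adjg.homEquiv_naturality_left, adjg.homEquiv_naturality_right, Dual3.bcPush, Dual3.bcPush,
    Equiv.apply_symm_apply, Equiv.apply_symm_apply]
  have h1 := e.hom.naturality ((Dual3.LpullQ g' hLg').map φ)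
  simp only [Functor.comp_map] at h1
  erw [← Category.assoc, ← Functor.map_comp, Category.assoc]
  erw [← h1]
  erw [← Category.assoc, ← Functor.map_comp]
  exact congrArg (fun z => (DCoh.RpushQ f hf).map z ≫ e.hom.app _) (adjg'.unit.naturality φ)

/-- The double transpose of a map composed with `ξ`. -/
theorem transpose_comp_xi {Z : DCoh.DQCoh X} {M : DCoh.DQCoh Y'}
    (φ : Z ⟶ (DCoh.RpushQ g' hg').obj (a'.obj M)) :
    (adjg.homEquiv _ _).symm ((adj.homEquiv _ _).symm (φ ≫ Dual3.xi adj adj' e M)) =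
      Dual3.bcPush e adjg adjg' Z ≫ (adj'.homEquiv _ _).symm ((adjg'.homEquiv _ _).symm φ) := by
  refine (adjg.homEquiv _ _).injective ?_
  rw [Equiv.apply_symm_apply, adjg.homEquiv_naturality_right, Dual3.bcPush, Equiv.apply_symm_apply,
    adj.homEquiv_naturality_left_symm, Dual3.xi, Equiv.symm_apply_apply]
  let φ' := (adjg'.homEquiv _ _).symm φ
  have hφ : φ = adjg'.unit.app Z ≫ (DCoh.RpushQ g' hg').map φ' :=
    ((adjg'.homEquiv _ _).apply_symm_apply φ).symm.trans (adjg'.homEquiv_unit ..)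
  rw [adj'.homEquiv_counit, Functor.map_comp]
  conv_lhs => rw [hφ, Functor.map_comp]
  simp only [Category.assoc]
  refine congrArg ((DCoh.RpushQ f hf).map (adjg'.unit.app Z) ≫ ·) ?_
  exact (Category.assoc _ _ _).symm.trans
    ((congrArg (· ≫ _) (e.hom.naturality φ')).trans (Category.assoc _ _ _))

/-- `ξ` is invertible if base change holds. -/
theorem isIso_xi (hbc : ∀ K, IsIso (Dual3.bcPush e adjg adjg' K)) (M : DCoh.DQCoh Y') :
    IsIso (Dual3.xi adj adj' e M) := by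
  refine isIso_iff_yoneda_map_bijective _ |>.2 fun Z => ?_
  haveI := hbc Z
  let T := fun y : Z ⟶ a.obj ((DCoh.RpushQ g hg).obj M) => (adjg.homEquiv _ _).symm ((adj.homEquiv _ _).symm y)
  have hT : Function.Bijective T := (adjg.homEquiv _ _).symm.bijective.comp (adj.homEquiv _ _).symm.bijective
  refine (Function.Bijective.of_comp_iff' hT _).1 ?_
  rw [show T ∘ (fun φ => φ ≫ Dual3.xi adj adj' e M) = fun φ =>
      Dual3.bcPush e adjg adjg' Z ≫ (adj'.homEquiv _ _).symm ((adjg'.homEquiv _ _).symm φ) from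
    funext fun φ => transpose_comp_xi adjg adjg' adj adj' e φ]
  exact (Iso.homFromEquiv (asIso (Dual3.bcPush e adjg adjg' Z)).symm).bijective.comp
    ((adj'.homEquiv _ _).symm.bijective.comp (adjg'.homEquiv _ _).symm.bijective)

/-- The transpose of the base change map. -/
theorem bcPush_bcMap (K : DCoh.DQCoh Y) (hξ : IsIso (Dual3.xi adj adj' e ((Dual3.LpullQ g hLg).obj K))) :
    Dual3.bcPush e adjg adjg' (a.obj K) ≫
        (adj'.homEquiv _ _).symm (Dual3.bcMap adj adj' e adjg adjg' K hξ) =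
      (Dual3.LpullQ g hLg).map (adj.counit.app K) := by
  haveI := hξ
  let φ : a.obj K ⟶ (DCoh.RpushQ g' hg').obj (a'.obj ((Dual3.LpullQ g hLg).obj K)) :=
    a.map (adjg.unit.app K) ≫ inv (Dual3.xi adj adj' e ((Dual3.LpullQ g hLg).obj K))
  have h1 : Dual3.bcMap adj adj' e adjg adjg' K hξ = (adjg'.homEquiv _ _).symm φ := by
    rw [Dual3.bcMap, adjg'.homEquiv_counit, Functor.map_comp, Category.assoc]
  rw [h1, ← transpose_comp_xi, Category.assoc, IsIso.inv_hom_id, Category.comp_id]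
  rw [adj.homEquiv_counit]
  have h2 : (DCoh.RpushQ f hf).map (a.map (adjg.unit.app K)) ≫ adj.counit.app _ =
      adj.counit.app K ≫ adjg.unit.app K := adj.counit.naturality (adjg.unit.app K)
  erw [h2]
  rw [adjg.homEquiv_naturality_left_symm]
  erw [adjg.homEquiv_counit, adjg.left_triangle_components]
  exact Category.comp_id _

section Compare

variable [Flat g] [Flat g'] (hbc : ∀ K, IsIso (Dual3.bcPush e adjg adjg' K))

/-- `Lu^*` is `u^*` on `D_QCoh`. -/
noncomputable def pQ (u : X' ⟶ X) [Flat u] [DCoh.HasLpull u] (hu : Dual3.LpullPreservesQCoh u) :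
    Dual3.LpullQ u hu ≅ BCLoc.LQ u :=
  NatIso.ofComponents (fun K => (ObjectProperty.fullyFaithfulι DCoh.IsQCohD).preimageIso
      (X := (Dual3.LpullQ u hu).obj K) (Y := (BCLoc.LQ u).obj K) ((SecPoint.lpullPullIso u).app K.obj))
    (fun φ => ObjectProperty.hom_ext _ ((SecPoint.lpullPullIso u).hom.naturality φ.hom))

/-- Base change of direct images in terms of `u^*`. -/
noncomputable def bcIso : DCoh.RpushQ f hf ⋙ BCLoc.LQ g ≅ BCLoc.LQ g' ⋙ DCoh.RpushQ f' hf' :=
  Functor.isoWhiskerLeft _ (pQ g hLg).symm ≪≫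
    NatIso.ofComponents (F := DCoh.RpushQ f hf ⋙ Dual3.LpullQ g hLg)
      (G := Dual3.LpullQ g' hLg' ⋙ DCoh.RpushQ f' hf')
      (fun K => haveI := hbc K; asIso (Dual3.bcPush e adjg adjg' K))
      (fun φ => bcPush_natural adjg adjg' e φ) ≪≫
    Functor.isoWhiskerRight (pQ g' hLg') _

/-- The base change map is invertible if the one built from `u^*` is. -/
theorem isIso_bcMap (K : DCoh.DQCoh Y) (hξ : IsIso (Dual3.xi adj adj' e ((Dual3.LpullQ g hLg).obj K)))
    (h : IsIso (BCLoc.mMap adj adj' (bcIso adjg adjg' e hbc) K)) :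
    IsIso (Dual3.bcMap adj adj' e adjg adjg' K hξ) := by
  haveI := hbc (a.obj K)
  let p := pQ g hLg
  let p' := pQ g' hLg'
  let m := Dual3.bcMap adj adj' e adjg adjg' K hξ
  have key : BCLoc.mMap adj adj' (bcIso adjg adjg' e hbc) K =
      p'.inv.app (a.obj K) ≫ m ≫ a'.map (p.hom.app K) := by
    rw [BCLoc.mMap, ← Category.assoc, ← Equiv.eq_symm_apply]
    rw [adj'.homEquiv_naturality_right_symm, adj'.homEquiv_naturality_left_symm]
    have h2 : (adj'.homEquiv _ _).symm m =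
        inv (Dual3.bcPush e adjg adjg' (a.obj K)) ≫ (Dual3.LpullQ g hLg).map (adj.counit.app K) :=
      (IsIso.eq_inv_comp _).2 (bcPush_bcMap adjg adjg' adj adj' e K hξ)
    rw [h2]
    simp only [bcIso, Iso.trans_inv, NatTrans.comp_app, Functor.isoWhiskerLeft_inv,
      Functor.isoWhiskerRight_inv, Functor.whiskerLeft_app, Functor.whiskerRight_app,
      NatIso.ofComponents_inv_app, asIso_inv, Category.assoc]
    refine congrArg ((DCoh.RpushQ f' hf').map (p'.inv.app (a.obj K)) ≫ ·) ?_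
    refine congrArg (inv (Dual3.bcPush e adjg adjg' (a.obj K)) ≫ ·) ?_
    exact (p.hom.naturality (adj.counit.app K)).symm
  haveI : IsIso (p'.inv.app (a.obj K) ≫ m ≫ a'.map (p.hom.app K)) := key ▸ h
  haveI : IsIso (m ≫ a'.map (p.hom.app K)) := IsIso.of_isIso_comp_left (p'.inv.app (a.obj K)) _
  exact IsIso.of_isIso_comp_right m (a'.map (p.hom.app K))

end Compare

end Groth.Agent.KFlatLib.BCData
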