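import Groth.Agent.KFlatLib.Scheme.ExtendPerfect
import Groth.Agent.KFlatLib.Scheme.SupportPush
import Groth.Agent.KFlatLib.Scheme.GlueD

/-!
# A perfect generator of `D_QCoh`
-/

set_option linter.style.haveILetI false
set_option backward.isDefEq.respectTransparency false

universe u

open CategoryTheory CategoryTheory.Limits AlgebraicGeometry Pretriangulated TopologicalSpace ZeroObject

attribute [local instance] HasDerivedCategory.standard

namespace Groth.Agent.KFlatLib.Generator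

/-- Being right orthogonal to all shifts. -/
def Orth {X : Scheme.{u}} (K E : DCoh.D X) : Prop := ∀ (n : ℤ) (φ : K⟦n⟧ ⟶ E), φ = 0

variable {X : Scheme.{u}}

/-- An object with zero cohomology stalks is zero. -/
lemma isZero_of_subsingleton_stalk {E : DCoh.D X}
    (h : ∀ (i : ℤ) (x : X), Subsingleton ((DCoh.HD E i).presheaf.stalk x)) : IsZero E := by
  have hz : ∀ i, IsZero (DCoh.HD E i) := fun i =>
    isZero_of_stalk _ fun x => @ModuleCat.isZero_of_subsingleton _ _ _ (h i x)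
  haveI : IsIso (0 : E ⟶ 0) := (DerivedCategory.isIso_iff _ _).2 fun i =>
    ⟨0, (hz i).eq_of_src _ _, ((DerivedCategory.homologyFunctor X.Modules i).map_isZero (isZero_zero _)).eq_of_src _ _⟩
  exact (isZero_zero _).of_iso (asIso (0 : E ⟶ 0))

/-- Restricting to zero on an open kills the stalks there. -/
lemma subsingleton_stalk_of_isZero_rho {E : DCoh.D X} {U : Scheme.{u}} (j : U ⟶ X) [IsOpenImmersion j]
    (hz : IsZero ((rho j).obj E)) (i : ℤ) (y : U) :
    Subsingleton ((DCoh.HD E i).presheaf.stalk (j.base y)) := by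
  have h : IsZero ((Scheme.Modules.restrictFunctor j).obj (DCoh.HD E i)) :=
    ((DerivedCategory.homologyFunctor U.Modules i).map_isZero hz).of_iso (restrictHDIso j E i).symm
  exact @Equiv.subsingleton _ _
    ((Scheme.Modules.restrictStalkNatIso j y).app (DCoh.HD E i)).addCommGroupIsoToAddEquiv.symm.toEquiv
    (ModuleCat.subsingleton_of_isZero ((DerSch.stalkFunctor U y).map_isZero h))

section Spec

variable {A : Type u} [CommRing A]

lemma isPerfect_kQ : ∀ l : List A, DRing.IsPerfect A (KoszulOrth.kQ l)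
  | [] => ⟨Koszul.koszul A [], 0, 0,
      fun j hj => HomologicalComplex.isZero_single_obj_X (ComplexShape.up ℤ) 0 _ j (by omega),
      fun j => by
        rcases eq_or_ne j 0 with h | h
        · subst h
          let e := (HomologicalComplex.singleObjXSelf (ComplexShape.up ℤ) 0 (ModuleCat.of A A)).toLinearEquiv
          exact ⟨Module.Finite.equiv e.symm, Module.Projective.of_equiv e.symm⟩
        · haveI := ModuleCat.subsingleton_of_isZero (HomologicalComplex.isZero_single_obj_X (ComplexShape.up ℤ) 0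
            (ModuleCat.of A A) j h)
          let e : (Koszul.koszul A ([] : List A)).X j ≃ₗ[A] PUnit.{u + 1} :=
            ((HomologicalComplex.isZero_single_obj_X (ComplexShape.up ℤ) 0 (ModuleCat.of A A) j h).iso
              (ModuleCat.isZero_of_subsingleton (ModuleCat.of A PUnit.{u + 1}))).toLinearEquiv
          exact ⟨Module.Finite.equiv e.symm, Module.Projective.of_equiv e.symm⟩,
      ⟨Iso.refl _⟩⟩
  | f :: l => by
    obtain ⟨u, v, hT⟩ := KoszulOrth.exists_triangle f l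
    exact H9Misc.DRingPC.isPerfect₃ _ hT (isPerfect_kQ l) (isPerfect_kQ l)

/-- The Koszul complex detects objects supported away from a quasi-compact open. -/
theorem exists_detector_spec (O : (Spec (CommRingCat.of A)).Opens)
    (hO : IsCompact (O : Set (Spec (CommRingCat.of A)))) :
    ∃ K : DCoh.D (Spec (CommRingCat.of A)), LocSP K ∧ IsZero ((rho O.ι).obj K) ∧
      ∀ G, DCoh.IsQCohD G → IsZero ((rho O.ι).obj G) → Orth K G → IsZero G := by
  haveI : PreservesFiniteLimits (tilde.functor (CommRingCat.of A)) := QCoh.tilde_preservesFiniteLimits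
  obtain ⟨fs, rfl⟩ := AffineLift.exists_list O hO
  refine ⟨KoszulOrth.tld (KoszulOrth.kQ fs),
    (isPerfect_iff _).1 ((perfect_tildeD_iff (R := CommRingCat.of A) _).2 (isPerfect_kQ fs)),
    KoszulOrth.isZero_restrictD_tld (KoszulOrth.pU fs) fs _ (fun p hp => (KoszulOrth.mem_pU_iff fs p).1 hp)
      (fun i f hf x => (KoszulOrth.exists_pow_smul_hd_eq_zero fs f hf).imp fun k hk => hk i x), ?_⟩
  intro G hG hz ho
  obtain ⟨N, ⟨eN⟩⟩ := exists_tildeD_iso (R := CommRingCat.of A) hG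
  have ht := KoszulOrth.torsion_of_isZero_restrictD (KoszulOrth.pU fs) fs N
    (fun p hp => (KoszulOrth.mem_pU_iff fs p).2 hp) (hz.of_iso ((rho _).mapIso eN))
  refine IsZero.of_iso (isZero_of_subsingleton_stalk fun i x => ?_) eN.symm
  haveI := KoszulOrth.subsingleton_hd_of_orth fs ht i fun ψ => by
    refine (tildeD_map_bijective (R := CommRingCat.of A) _ _).1 ?_
    refine (cancel_mono eN.hom).1 ?_
    rw [Functor.map_zero, zero_comp,
      ← cancel_epi (((DCoh.tildeD (CommRingCat.of A)).commShiftIso (-i)).inv.app (KoszulOrth.kQ fs)), comp_zero]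
    exact ho _ _
  exact not_nontrivial_iff_subsingleton.1 fun h =>
    not_subsingleton_iff_nontrivial.2 ((KoszulOrth.nontrivial_stalk_tld N i x).1 h)
      (LocalizedModule.subsingleton_iff.2 fun z => ⟨1, Submonoid.one_mem _, (Subsingleton.elim _ _)⟩)

end Spec

/-- On an affine scheme there is a perfect detector away from a quasi-compact open. -/
theorem exists_detector [IsAffine X] (O : X.Opens) (hO : IsCompact (O : Set X)) :
    ∃ K : DCoh.D X, LocSP K ∧ IsZero ((rho O.ι).obj K) ∧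
      ∀ G, DCoh.IsQCohD G → IsZero ((rho O.ι).obj G) → Orth K G → IsZero G := by
  let g : Spec (CommRingCat.of Γ(X, ⊤)) ⟶ X := X.isoSpec.inv
  obtain ⟨K₀, hK₀, hz₀, hdet⟩ := exists_detector_spec (A := Γ(X, ⊤)) (g ⁻¹ᵁ O)
    ((Scheme.homeoOfIso X.isoSpec.symm).isCompact_preimage.2 hO)
  haveI := AffineLift.isEquivalence_rho g
  let K := (rho g).objPreimage K₀
  let e : (rho g).obj K ≅ K₀ := (rho g).objObjPreimageIso _
  refine ⟨K, ?_, (AffineLift.isZero_rho_preimage_iff g O K).1 (hz₀.of_iso ((rho _).mapIso e)), ?_⟩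
  · intro x
    obtain ⟨W, j, hj, ⟨w, hw⟩, Q, hQ, ⟨eQ⟩⟩ := (hK₀.of_iso e.symm) (X.isoSpec.hom.base x)
    refine ⟨W, j ≫ g, inferInstance, ⟨w, ?_⟩, Q, hQ, ⟨eQ ≪≫ rhoComp j g (j ≫ g) rfl K⟩⟩
    show g.base (j.base w) = x
    rw [hw]
    exact congrArg (fun f : X ⟶ X => f.base x) X.isoSpec.hom_inv_id
  · intro G hG hz ho
    have h := hdet _ (isQCohD_rho g hG) ((AffineLift.isZero_rho_preimage_iff g O G).2 hz) fun n φ => by
      obtain ⟨ψ, hψ⟩ := (rho g).map_surjective
        (((rho g).commShiftIso n).hom.app K ≫ e.hom⟦n⟧' ≫ φ)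
      rw [ho n ψ, Functor.map_zero] at hψ
      exact (cancel_epi (e.hom⟦n⟧')).1 ((cancel_epi (((rho g).commShiftIso n).hom.app K)).1
        (by rw [← hψ, comp_zero, comp_zero]))
    refine (IsZero.iff_id_eq_zero _).2 ((rho g).map_injective ?_)
    exact h.eq_of_src _ _

/-- Hom from a shift and from a summand. -/
lemma orth_biprod {Y : Scheme.{u}} {K L E : DCoh.D Y} [HasBinaryBiproduct K L] (h : Orth (K ⊞ L) E) :
    Orth K E ∧ Orth L E := by
  constructor <;> intro n φ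
  · have := h n ((biprod.fst : K ⊞ L ⟶ K)⟦n⟧' ≫ φ)
    rw [← cancel_epi ((biprod.fst : K ⊞ L ⟶ K)⟦n⟧'), this, comp_zero]
  · have := h n ((biprod.snd : K ⊞ L ⟶ L)⟦n⟧' ≫ φ)
    rw [← cancel_epi ((biprod.snd : K ⊞ L ⟶ L)⟦n⟧'), this, comp_zero]

/-- Orthogonality passes through `j^* ⊣ Rj_*`. -/
lemma orth_rho {U : Scheme.{u}} (j : U ⟶ X) [IsOpenImmersion j] [DCoh.HasRpush j]
    {K : DCoh.D X} {E : DCoh.D U} {F : DCoh.D X} (e : F ≅ (DCoh.Rpush j).obj E) (h : Orth K F) :
    Orth ((rho j).obj K) E := by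
  obtain ⟨adj⟩ := nonempty_rho_adj j
  haveI := adj.right_adjoint_additive
  intro n φ
  refine (cancel_epi (((rho j).commShiftIso n).hom.app K)).1 ?_
  rw [comp_zero]
  refine (adj.homEquiv _ _).injective ((cancel_mono e.inv).1 ((h n _).trans ?_))
  rw [Adjunction.homEquiv_unit, Functor.map_zero, comp_zero, zero_comp]

/-- Induction step. -/
theorem exists_gen_step [CompactSpace X] [QuasiSeparatedSpace X] (U V : X.Opens)
    (hU : IsCompact (U : Set X)) (hV : IsAffineOpen V) (hUV : U ⊔ V = ⊤)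
    (Q : DCoh.D (U : Scheme.{u})) (hQ : LocSP Q)
    (hgen : ∀ E, DCoh.IsQCohD E → Orth Q E → IsZero E) :
    ∃ P : DCoh.D X, LocSP P ∧ ∀ E, DCoh.IsQCohD E → Orth P E → IsZero E := by
  haveI : IsAffine (V : Scheme.{u}) := hV
  haveI := hasRpush_scheme U.ι
  haveI := hasRpush_scheme V.ι
  haveI : QuasiCompact U.ι := by
    haveI : CompactSpace U := isCompact_iff_compactSpace.1 hU
    exact quasiCompact_of_compactSpace _
  obtain ⟨isoU⟩ := nonempty_rpush_restrictD_id U.ι
  obtain ⟨isoV⟩ := nonempty_rpush_restrictD_id V.ι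
  haveI := (nonempty_rho_adj U.ι).some.right_adjoint_additive
  haveI := (nonempty_rho_adj V.ι).some.right_adjoint_additive
  let W' : (V : Scheme.{u}).Opens := V.ι ⁻¹ᵁ U
  have hW' : IsCompact (W' : Set (V : Scheme.{u})) := by
    refine V.ι.isOpenEmbedding.isInducing.isCompact_iff.2 ?_
    have h : V.ι.base '' (W' : Set (V : Scheme.{u})) = (U : Set X) ∩ (V : Set X) := by
      show V.ι.base '' (V.ι.base ⁻¹' (U : Set X)) = _
      rw [Set.image_preimage_eq_inter_range, Scheme.Opens.range_ι]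
    exact h ▸ QuasiSeparatedSpace.inter_isCompact _ _ U.2 hU V.2 hV.isCompact
  -- the part generating away from `U`
  obtain ⟨K₀, hK₀, hKz, hdet⟩ := exists_detector W' hW'
  let T : Set (V : Scheme.{u}) := V.ι.base ⁻¹' (U : Set X)ᶜ
  have hTim : V.ι.base '' T = (U : Set X)ᶜ := by
    rw [Set.image_preimage_eq_inter_range, Scheme.Opens.range_ι]
    exact Set.inter_eq_left.2 fun x hx =>
      ((Opens.mem_sup).1 (hUV ▸ trivial : x ∈ U ⊔ V)).resolve_left hx
  have hsupp : ∀ i : ℤ, CohB1.support (DCoh.HD K₀ i) ⊆ T := fun i x hx hxU =>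
    hx (subsingleton_stalk_of_isZero_rho W'.ι hKz i ⟨x, hxU⟩)
  let K := (DCoh.Rpush V.ι).obj K₀
  have hK : LocSP K := (isPerfect_iff _).1 (
    isPerfect_rpush_of_support V K₀ ((isPerfect_iff _).2 hK₀) T
      (by rw [hTim]; exact U.2.isClosed_compl) hsupp)
  -- the extension of `Q ⊕ Q[1]`
  let B₀ := Q ⊞ Q⟦(1 : ℤ)⟧
  let l : (W' : Scheme.{u}) ⟶ (U : Scheme.{u}) := V.ι ∣_ U
  haveI : IsOpenImmersion l := inferInstance
  obtain ⟨RV, hRV, ⟨eRV⟩⟩ := ExtendPerfect.exists_extend W' hW' ((rho l).obj Q) (hQ.restrict' l)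
  have hr : Set.range (X.homOfLE (inf_le_right : U ⊓ V ≤ V)).base ⊆ Set.range W'.ι.base := by
    rintro _ ⟨x, rfl⟩
    rw [Scheme.Opens.range_ι]
    show V.ι.base ((X.homOfLE (inf_le_right : U ⊓ V ≤ V)).base x) ∈ U
    rw [← Scheme.Hom.comp_apply, Scheme.homOfLE_ι]
    exact x.2.1
  let k := IsOpenImmersion.lift W'.ι (X.homOfLE (inf_le_right : U ⊓ V ≤ V)) hr
  have hk : k ≫ W'.ι = X.homOfLE (inf_le_right : U ⊓ V ≤ V) := IsOpenImmersion.lift_fac _ _ _
  haveI : IsOpenImmersion k := by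
    haveI : IsOpenImmersion (k ≫ W'.ι) := by rw [hk]; infer_instance
    exact IsOpenImmersion.of_comp k W'.ι
  have hkl : k ≫ l = X.homOfLE (inf_le_left : U ⊓ V ≤ U) := by
    rw [← cancel_mono U.ι, Category.assoc, morphismRestrict_ι, ← Category.assoc, hk,
      Scheme.homOfLE_ι, Scheme.homOfLE_ι]
  haveI := preservesBinaryBiproducts_of_preservesBiproducts (rho l)
  let cB : (rho l).obj B₀ ≅ (rho W'.ι).obj RV :=
    (rho l).mapBiprod _ _ ≪≫
      biprod.mapIso (Iso.refl _) (((rho l).commShiftIso (1 : ℤ)).app Q) ≪≫ eRV.symm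
  obtain ⟨R, ⟨eU⟩, ⟨eV⟩⟩ := exists_glue U V hUV B₀ RV
    ((rhoComp k l _ hkl B₀).symm ≪≫ (rho k).mapIso cB ≪≫ rhoComp k W'.ι _ hk RV)
  have hR : LocSP R := by
    intro x
    rcases (Opens.mem_sup).1 (hUV ▸ trivial : x ∈ U ⊔ V) with hx | hx
    · have hB : LocSP B₀ := locSP_obj₂ _ (binaryBiproductTriangle_distinguished _ _) hQ (hQ.shift 1)
      obtain ⟨W, j, hj, ⟨w, hw⟩, P, hP, ⟨eP⟩⟩ := (hB.of_iso eU.symm) ⟨x, hx⟩
      exact ⟨W, j ≫ U.ι, inferInstance, ⟨w, by simp [hw]⟩, P, hP, ⟨eP ≪≫ rhoComp j U.ι (j ≫ U.ι) rfl R⟩⟩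
    · obtain ⟨W, j, hj, ⟨w, hw⟩, P, hP, ⟨eP⟩⟩ := (hRV.of_iso eV.symm) ⟨x, hx⟩
      exact ⟨W, j ≫ V.ι, inferInstance, ⟨w, by simp [hw]⟩, P, hP, ⟨eP ≪≫ rhoComp j V.ι (j ≫ V.ι) rfl R⟩⟩
  refine ⟨R ⊞ K, locSP_obj₂ _ (binaryBiproductTriangle_distinguished _ _) hR hK, fun E hE ho => ?_⟩
  obtain ⟨hoR, hoK⟩ := orth_biprod ho
  obtain ⟨adj⟩ := nonempty_rho_adj U.ι
  haveI := isIso_restrictD_counit U.ι adj
  haveI : IsIso ((rho U.ι).map (adj.unit.app E)) := by
    haveI : IsIso ((rho U.ι).map (adj.unit.app E) ≫ adj.counit.app ((rho U.ι).obj E)) := by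
      rw [adj.left_triangle_components E]
      exact (Iso.refl _).isIso_hom
    exact IsIso.of_isIso_comp_right _ (adj.counit.app ((rho U.ι).obj E))
  obtain ⟨G, i, δ, hT⟩ := distinguished_cocone_triangle₁ (adj.unit.app E)
  have hG : IsZero ((rho U.ι).obj G) :=
    (Triangle.isZero₁_iff_isIso₂ _ ((rho U.ι).map_distinguished _ hT)).2
      (show IsIso ((rho U.ι).map (adj.unit.app E)) from inferInstance)
  have hqG : DCoh.IsQCohD G := isQCohD_obj₁ hT hE (isQCohD_rpush U.ι (isQCohD_rho U.ι hE))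
  have hGsupp : ∀ m : ℤ, CohB1.support (DCoh.HD G m) ⊆ (U : Set X)ᶜ := fun m x hx hxU =>
    hx (subsingleton_stalk_of_isZero_rho U.ι hG m ⟨x, hxU⟩)
  have hKU : IsZero ((rho U.ι).obj K) := by
    haveI := hasRpush_scheme (V.ι ∣_ U)
    obtain ⟨iR⟩ := nonempty_rpush_restrictD_iso V.ι U
    haveI : IsOpenImmersion (V.ι ∣_ U) := inferInstance
    obtain ⟨adj'⟩ := nonempty_rho_adj (V.ι ∣_ U)
    haveI := adj'.right_adjoint_additive
    exact ((DCoh.Rpush (V.ι ∣_ U)).map_isZero hKz).of_iso (iR.app K₀)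
  have hoG : Orth K G := fun n φ => by
    obtain ⟨χ, rfl⟩ := Triangle.coyoneda_exact₂ _ (inv_rot_of_distTriang _ hT) φ (hoK n _)
    suffices χ = 0 by rw [this]; exact zero_comp
    refine (shiftFunctor (DCoh.D X) (1 : ℤ)).map_injective ?_
    rw [Functor.map_zero, ← cancel_epi ((shiftFunctorAdd' (DCoh.D X) n 1 (n + 1) rfl).hom.app K),
      ← cancel_mono ((shiftFunctorCompIsoId (DCoh.D X) (-1 : ℤ) 1 (by omega)).hom.app
        ((DCoh.Rpush U.ι).obj ((rho U.ι).obj E))), comp_zero, zero_comp]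
    exact (adj.homEquiv _ _).symm.injective
      ((((shiftFunctor _ (n + 1)).map_isZero hKU).of_iso (((rho U.ι).commShiftIso (n + 1)).app K)).eq_of_src _ _)
  obtain ⟨eG⟩ := nonempty_iso_rpush_restrict V (U : Set X)ᶜ U.2.isClosed_compl
    (fun x hx => ((Opens.mem_sup).1 (hUV ▸ trivial : x ∈ U ⊔ V)).resolve_left hx) G hGsupp
  have hGV : Orth K₀ ((rho V.ι).obj G) := fun n φ => by
    have h := orth_rho V.ι eG hoG n ((isoV.app K₀).hom⟦n⟧' ≫ φ)
    exact (cancel_epi ((isoV.app K₀).hom⟦n⟧')).1 (h.trans comp_zero.symm)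
  have hGV0 : IsZero ((rho V.ι).obj G) := by
    refine hdet _ (isQCohD_rho V.ι hqG) ?_ hGV
    exact ((rho l).map_isZero hG).of_iso
      (rhoComp W'.ι V.ι (W'.ι ≫ V.ι) rfl G ≪≫ (rhoComp l U.ι (W'.ι ≫ V.ι) (morphismRestrict_ι _ _) G).symm)
  have hG0 : IsZero G := ((DCoh.Rpush V.ι).map_isZero hGV0).of_iso eG
  haveI : IsIso (adj.unit.app E) := (Triangle.isZero₁_iff_isIso₂ _ hT).1 hG0
  have hEU : IsZero ((rho U.ι).obj E) := by
    refine hgen _ (isQCohD_rho U.ι hE) ?_
    have h := orth_rho U.ι (asIso (adj.unit.app E)) hoR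
    refine (orth_biprod (K := Q) (L := Q⟦(1 : ℤ)⟧) ?_).1
    intro n φ
    exact (cancel_epi (eU.hom⟦n⟧')).1 ((h n _).trans comp_zero.symm)
  exact ((DCoh.Rpush U.ι).map_isZero hEU).of_iso (asIso (adj.unit.app E))

end Groth.Agent.KFlatLib.Generator

namespace Groth.Agent.KFlatLib.Generator

/-- A generator on a scheme covered by finitely many affines. -/
theorem exists_gen_of_cover : ∀ (n : ℕ) (Y : Scheme.{u}) [CompactSpace Y] [QuasiSeparatedSpace Y]
    (W : Fin n → Y.Opens), (∀ k, IsAffineOpen (W k)) → (⨆ k, W k) = ⊤ →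
    ∃ P : DCoh.D Y, LocSP P ∧ ∀ E, DCoh.IsQCohD E → Orth P E → IsZero E := by
  intro n
  induction n with
  | zero =>
    intro Y _ _ W _ hW
    have he : ∀ y : Y, False := fun y => by
      have h : y ∈ (⊤ : Y.Opens) := trivial
      rw [← hW] at h
      exact (Opens.mem_iSup.1 h).choose.elim0
    exact ⟨0, locSP_of_isZero (isZero_zero _), fun E _ _ =>
      isZero_of_subsingleton_stalk fun i x => (he x).elim⟩
  | succ n ih =>
    intro Y _ _ W hW hsup
    let U : Y.Opens := ⨆ k : Fin n, W k.succ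
    have hUc : IsCompact (U : Set Y) := by
      rw [Opens.coe_iSup]
      exact isCompact_iUnion fun k => (hW k.succ).isCompact
    have hUV : U ⊔ W 0 = ⊤ := by
      refine top_le_iff.1 ?_
      rw [← hsup]
      refine iSup_le fun k => ?_
      refine Fin.cases le_sup_right (fun k => ?_) k
      exact (le_iSup (fun k : Fin n => W k.succ) k).trans le_sup_left
    haveI : CompactSpace U := isCompact_iff_compactSpace.1 hUc
    haveI : QuasiSeparatedSpace U := quasiSeparatedSpace_of_quasiSeparated U.ι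
    obtain ⟨Q, hQ, hgen⟩ := ih (U : Scheme.{u}) (fun k => U.ι ⁻¹ᵁ W k.succ)
      (fun k => (hW k.succ).preimage_of_isOpenImmersion U.ι (by
        rw [Scheme.Opens.opensRange_ι]
        exact le_iSup (fun k : Fin n => W k.succ) k))
      (top_le_iff.1 fun y _ => by
        obtain ⟨k, hk⟩ := Opens.mem_iSup.1 y.2
        exact Opens.mem_iSup.2 ⟨k, hk⟩)
    exact exists_gen_step U (W 0) hUc (hW 0) hUV Q hQ hgen

/-- `D_QCoh` of a quasi-compact quasi-separated scheme has a perfect generator. -/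
theorem exists_gen (X : Scheme.{u}) [CompactSpace X] [QuasiSeparatedSpace X] :
    ∃ P : DCoh.D X, LocSP P ∧ ∀ E, DCoh.IsQCohD E → Orth P E → IsZero E := by
  have hex : ∀ x : X, ∃ V : X.Opens, IsAffineOpen V ∧ x ∈ V := fun x => by
    obtain ⟨_, ⟨V, hV, rfl⟩, hxV, -⟩ :=
      X.isBasis_affineOpens.exists_subset_of_mem_open (Set.mem_univ x) isOpen_univ
    exact ⟨V, hV, hxV⟩
  choose V hV hxV using hex
  obtain ⟨t, ht⟩ := isCompact_univ.elim_finite_subcover (fun x : X => (V x : Set X)) (fun x => (V x).2)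
    (fun x _ => Set.mem_iUnion.2 ⟨x, hxV x⟩)
  exact exists_gen_of_cover t.card X (fun k => V (t.equivFin.symm k)) (fun k => hV _)
    (top_le_iff.1 fun x _ => by
      obtain ⟨y, hy, hxy⟩ := Set.mem_iUnion₂.1 (ht (Set.mem_univ x))
      exact Opens.mem_iSup.2 ⟨t.equivFin ⟨y, hy⟩, by simpa using hxy⟩)

end Groth.Agent.KFlatLib.Generator
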