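import Groth.Agent.KFlatLib.Scheme.DQCohSmall
import Groth.Agent.KFlatLib.Scheme.Generator
import Groth.Agent.TriCat.BrownCompact
import Mathlib.CategoryTheory.Adjunction.Restrict

/-!
# Brown representability for `D_QCoh`
-/

set_option linter.style.haveILetI false
set_option backward.isDefEq.respectTransparency false

universe u

open CategoryTheory CategoryTheory.Limits AlgebraicGeometry Pretriangulated Opposite
open Pretriangulated.Opposite

attribute [local instance] HasDerivedCategory.standard

namespace Groth.Agent.KFlatLib.DQSmall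

variable {X Y : Scheme.{u}}

/-- A preimage in the small model of a quasi-coherent object. -/
theorem exists_DQS_preimage (E : DCoh.D X) (hE : DCoh.IsQCohD E) :
    ∃ K : DQS X, Nonempty ((incl X).obj K ≅ E) :=
  ⟨⟨(toD X).inverse.obj E, isQCohD_of_iso ((toD X).counitIso.app E).symm hE⟩, ⟨(toD X).counitIso.app E⟩⟩

variable [CompactSpace X] [QuasiSeparatedSpace X]

/-- Perfect objects are countably perfect in the small model. -/
theorem countPerfect_of_locSP {κ : Type u} (E : κ → DQS X) (hE : ∀ i, LocSP ((incl X).obj (E i)))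
    [HasColimitsOfShape (Discrete ℕ) (DQS X)] : TriCat.CountPerfect E := by
  intro M i α
  classical
  haveI : ∀ J : Type u, HasColimitsOfShape (Discrete J) (DQS X) := fun J => hasCoproducts_DQS X J
  haveI := preservesCoproducts_incl X (ULift.{u} ℕ)
  haveI : PreservesColimitsOfShape (Discrete ℕ) (incl X) :=
    preservesColimitsOfShape_of_equiv (Discrete.equivalence Equiv.ulift) _
  haveI : HasColimitsOfShape (Discrete (ULift.{u} ℕ)) (DCoh.D X) := TriCat.hasColimitsOfShape_derivedCategory
  haveI : HasColimitsOfShape (Discrete ℕ) (DCoh.D X) :=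
    hasColimitsOfShape_of_equivalence (Discrete.equivalence Equiv.ulift)
  haveI : (incl X).PreservesZeroMorphisms := inferInstance
  let N := fun k => (incl X).obj (M k)
  have hfix : FixAt N ((incl X).obj (E i)) :=
    FixAt.reindex Equiv.ulift (fun _ => Iso.refl _)
      (DQCompact.fixAt ((isPerfect_iff _).2 (hE i)) (fun k : ULift.{u} ℕ => N k.down) fun k => (M k.down).property)
  obtain ⟨F, hF⟩ := hfix ((incl X).map α ≫ inv (sigmaComparison (incl X) M))
  have hα : α ≫ partProj M F = α := by
    refine (incl X).map_injective ((cancel_mono (inv (sigmaComparison (incl X) M))).1 ?_)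
    rw [Functor.map_comp, Category.assoc]
    refine Eq.trans (congrArg ((incl X).map α ≫ ·) ?_) ((Category.assoc _ _ _).symm.trans hF)
    rw [IsIso.comp_inv_eq, Category.assoc, ← sigmaComparison_partProj M (incl X) F, IsIso.inv_hom_id_assoc]
  let π : ∀ k, ∐ M ⟶ M k := fun k => Sigma.desc fun j => if h : j = k then eqToHom (congrArg M h) else 0
  refine ⟨fun _ => i, fun k => α ≫ π k, ∑ k ∈ F, Sigma.ι (fun _ : ℕ => E i) k, ?_⟩
  rw [Preadditive.sum_comp]
  simp only [Limits.Sigma.ι_map, Category.assoc]
  rw [← Preadditive.comp_sum]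
  refine hα.symm.trans (congrArg (α ≫ ·) (Sigma.hom_ext _ _ fun j => ?_))
  rw [Preadditive.comp_sum]
  by_cases hj : j ∈ F
  · rw [ι_partProj_mem M hj, Finset.sum_eq_single j (fun b _ hb => by
      rw [← Category.assoc, show Sigma.ι M j ≫ π b = 0 by simp [π, Ne.symm hb], zero_comp])
      (fun h => absurd hj h), ← Category.assoc, show Sigma.ι M j ≫ π j = 𝟙 _ by simp [π], Category.id_comp]
  · rw [ι_partProj_not_mem M hj]
    exact (Finset.sum_eq_zero fun b hb => by
      rw [← Category.assoc, show Sigma.ι M j ≫ π b = 0 by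
        simp [π, show j ≠ b from fun h => hj (h ▸ hb)], zero_comp]).symm

/-- A small family of detecting perfect objects. -/
theorem exists_detecting : ∃ E : ULift.{u} ℤ → DQS X, (∀ n, LocSP ((incl X).obj (E n))) ∧
    ∀ K : DQS X, ¬ IsZero K → ∃ n, ∃ f : E n ⟶ K, f ≠ 0 := by
  obtain ⟨P, hP, hgen⟩ := Generator.exists_gen X
  have h : ∀ n : ULift.{u} ℤ, ∃ K : DQS X, Nonempty ((incl X).obj K ≅ P⟦n.down⟧) := fun n =>
    exists_DQS_preimage _ (AffineLift.isQCohD_of_locSP (hP.shift n.down))
  choose E eE using h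
  refine ⟨E, fun n => (hP.shift n.down).of_iso (eE n).some.symm, fun K hK => ?_⟩
  by_contra hc
  push_neg at hc
  refine hK ((IsZero.iff_id_eq_zero _).2 ((incl X).map_injective ?_))
  refine IsZero.eq_of_src (hgen ((incl X).obj K) K.property fun n φ => ?_) _ _
  obtain ⟨f, hf⟩ := (incl X).map_surjective ((eE ⟨n⟩).some.hom ≫ φ)
  rw [hc ⟨n⟩ f, Functor.map_zero] at hf
  exact (cancel_epi (eE ⟨n⟩).some.hom).1 (hf.symm.trans comp_zero.symm)

variable (f : X ⟶ Y) [QuasiCompact f] [QuasiSeparated f] [DCoh.HasRpush f]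

/-- `Rf_*` out of the small model, into a small model. -/
noncomputable abbrev pushS : DQS X ⥤ DS Y := incl X ⋙ DCoh.Rpush f ⋙ (toD Y).inverse

lemma preservesCoproducts_pushS (J : Type u) : PreservesColimitsOfShape (Discrete J) (pushS f) := by
  haveI : HasColimitsOfShape (Discrete J) (DQS X) := hasCoproducts_DQS X J
  haveI := preservesCoproducts_incl X J
  haveI : HasColimitsOfShape (Discrete J) (DCoh.D X) := TriCat.hasColimitsOfShape_derivedCategory
  haveI : HasColimitsOfShape (Discrete J) (DCoh.D Y) := TriCat.hasColimitsOfShape_derivedCategory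
  haveI : PreservesColimitsOfShape (Discrete J) (incl X ⋙ DCoh.Rpush f) := by
    haveI : ∀ M : J → DQS X, PreservesColimit (Discrete.functor M) (incl X ⋙ DCoh.Rpush f) := fun M => by
      haveI : IsIso (sigmaComparison (DCoh.Rpush f) fun j => (incl X).obj (M j)) :=
        isIso_sigmaDesc_rpush f (fun j => (incl X).obj (M j)) fun j => (M j).property
      haveI := PreservesCoproduct.of_iso_comparison (G := DCoh.Rpush f) (f := fun j => (incl X).obj (M j))
      haveI : PreservesColimit (Discrete.functor M ⋙ incl X) (DCoh.Rpush f) :=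
        preservesColimit_of_iso_diagram _ (Discrete.natIso fun _ => Iso.refl _ :
          Discrete.functor (fun j => (incl X).obj (M j)) ≅ Discrete.functor M ⋙ incl X)
      infer_instance
    exact preservesColimitsOfShape_of_discrete (F := incl X ⋙ DCoh.Rpush f)
  exact inferInstanceAs (PreservesColimitsOfShape (Discrete J) ((incl X ⋙ DCoh.Rpush f) ⋙ (toD Y).inverse))

/-- `Rf_*` on `D_QCoh` has a right adjoint. -/
theorem isLeftAdjoint_pushS : (pushS f).IsLeftAdjoint := by
  haveI : ∀ J : Type u, HasColimitsOfShape (Discrete J) (DQS X) := fun J => hasCoproducts_DQS X J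
  haveI : HasColimitsOfShape (Discrete ℕ) (DQS X) :=
    hasColimitsOfShape_of_equivalence (Discrete.equivalence Equiv.ulift.{u})
  haveI : (DCoh.Rpush f).Additive := by
    haveI := hasLpull f
    haveI := (nonempty_lpull_rpush_adj f).some.rightAdjoint_preservesLimits
    haveI : HasBinaryBiproducts (DCoh.D X) := HasBinaryBiproducts.of_hasBinaryProducts
    haveI := preservesBinaryBiproducts_of_preservesBinaryProducts (DCoh.Rpush f)
    exact Functor.additive_of_preservesBinaryBiproducts _
  haveI : ∀ J : Type u, PreservesColimitsOfShape (Discrete J) (pushS f) := preservesCoproducts_pushS f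
  obtain ⟨E, hE, hdet⟩ := exists_detecting (X := X)
  refine (pushS f).isLeftAdjoint_of_rightAdjointObjIsDefined_eq_top ?_
  ext T
  simp only [Pi.top_apply, Prop.top_eq_true, iff_true]
  let H : (DQS X)ᵒᵖ ⥤ AddCommGrpCat.{u} := (pushS f).op ⋙ preadditiveYoneda.obj T
  haveI : H.IsHomological :=
    { exact := fun S hS => by
        rw [ShortComplex.ab_exact_iff]
        intro (x₂ : (pushS f).obj S.obj₂.unop ⟶ T) (hx₂ : (pushS f).map S.mor₂.unop ≫ x₂ = 0)
        obtain ⟨c, hc⟩ := SmallModel.exists_compare_triangle X.Modules (sm X)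
          (HasDerivedCategory.standard X.Modules) _ ((qc X).ι.map_distinguished _ (unop_distinguished S hS))
        obtain ⟨c', hc'⟩ := exists_rpush_triangle f _ hc
        obtain ⟨d, hd⟩ := SmallModel.exists_compare_triangle Y.Modules (HasDerivedCategory.standard Y.Modules) (sm Y)
          _ hc'
        let θ : (toD Y).inverse ≅ (SmallModel.compare Y.Modules (HasDerivedCategory.standard Y.Modules) (sm Y)).functor :=
          (inverseCompareIso Y)
        obtain ⟨x₃, hx₃⟩ := Triangle.yoneda_exact₂ _ hd (θ.inv.app _ ≫ x₂) (by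
          show (SmallModel.compare Y.Modules _ (sm Y)).functor.map ((DCoh.Rpush f).map ((incl X).map S.mor₂.unop)) ≫ _ = 0
          refine (Category.assoc _ _ _).symm.trans ((congrArg (· ≫ x₂)
            (θ.inv.naturality ((DCoh.Rpush f).map ((incl X).map S.mor₂.unop)))).trans ?_)
          exact (Category.assoc _ _ _).trans ((congrArg (_ ≫ ·) hx₂).trans comp_zero))
        refine ⟨θ.hom.app _ ≫ x₃, ?_⟩
        show (pushS f).map S.mor₁.unop ≫ θ.hom.app _ ≫ x₃ = x₂
        rw [← Category.assoc]
        refine (congrArg (· ≫ x₃) (θ.hom.naturality _)).trans ?_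
        rw [Category.assoc]
        exact (congrArg (θ.hom.app _ ≫ ·) hx₃.symm).trans (θ.hom_inv_id_app_assoc _ _) }
  haveI : ∀ τ : Type u, PreservesLimitsOfShape (Discrete τ) H := fun τ => by
    have : PreservesColimitsOfShape (Discrete τ)ᵒᵖ (pushS f) :=
      preservesColimitsOfShape_of_equiv (Discrete.opposite τ).symm _
    have : PreservesLimitsOfShape (Discrete τ) (pushS f).op := preservesLimitsOfShape_op _ _
    have : PreservesLimitsOfShape (Discrete τ) (preadditiveYoneda.obj T ⋙ forget AddCommGrpCat.{u}) :=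
      inferInstanceAs (PreservesLimitsOfShape (Discrete τ) (yoneda.obj T))
    have : PreservesLimitsOfShape (Discrete τ) (preadditiveYoneda.obj T) :=
      preservesLimitsOfShape_of_reflects_of_preserves _ (forget AddCommGrpCat.{u})
    exact inferInstanceAs (PreservesLimitsOfShape (Discrete τ) ((pushS f).op ⋙ preadditiveYoneda.obj T))
  exact TriCat.isRepresentable_of_detects E hdet (fun [_] => countPerfect_of_locSP E hE) H

/-- `Rf_*` on `D_QCoh` has a right adjoint. -/
theorem isLeftAdjoint_lift (h : ∀ K : DCoh.D X, DCoh.IsQCohD K → DCoh.IsQCohD ((DCoh.Rpush f).obj K)) :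
    (ObjectProperty.lift DCoh.IsQCohD (ObjectProperty.ι DCoh.IsQCohD ⋙ DCoh.Rpush f)
      (fun K => h K.obj K.property)).IsLeftAdjoint := by
  haveI := isLeftAdjoint_pushS f
  let Ψ : DQS X ⥤ DCoh.DQCoh X := ObjectProperty.lift DCoh.IsQCohD (incl X) fun K => K.property
  haveI : Ψ.Full := ⟨fun {a b} g => by
    obtain ⟨g', hg'⟩ := (incl X).map_surjective g.hom
    exact ⟨g', ObjectProperty.hom_ext _ hg'⟩⟩
  haveI : Ψ.Faithful := ⟨fun {a b} g g' hg => (incl X).map_injective (congrArg (fun t => t.hom) hg)⟩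
  haveI : Ψ.EssSurj := ⟨fun K => by
    obtain ⟨K', ⟨e⟩⟩ := exists_DQS_preimage K.obj K.property
    exact ⟨K', ⟨(ObjectProperty.ι DCoh.IsQCohD).preimageIso e⟩⟩⟩
  haveI : Ψ.IsEquivalence := { }
  let L' := Ψ.inv ⋙ pushS f ⋙ (toD Y).functor
  let F := ObjectProperty.lift DCoh.IsQCohD (ObjectProperty.ι DCoh.IsQCohD ⋙ DCoh.Rpush f)
    (fun K => h K.obj K.property)
  let e : F ⋙ ObjectProperty.ι DCoh.IsQCohD ≅ L' :=
    NatIso.ofComponents (fun K => (DCoh.Rpush f).mapIso ((ObjectProperty.ι DCoh.IsQCohD).mapIso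
        (Ψ.asEquivalence.counitIso.app K).symm) ≪≫ ((toD Y).counitIso.app _).symm)
      (fun {a b} g => by
        have hg : g ≫ Ψ.asEquivalence.counitIso.inv.app b =
            Ψ.asEquivalence.counitIso.inv.app a ≫ Ψ.map (Ψ.inv.map g) :=
          Ψ.asEquivalence.counitIso.inv.naturality g
        have hn := (toD Y).counitIso.inv.naturality ((DCoh.Rpush f).map ((incl X).map (Ψ.inv.map g)))
        have hg' := congrArg (fun t => (DCoh.Rpush f).map t.hom) hg
        simp only [ObjectProperty.FullSubcategory.comp_hom, Functor.map_comp] at hg'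
        dsimp [L', F] at hn ⊢
        rw [reassoc_of% hg', Category.assoc]
        exact congrArg (_ ≫ ·) hn)
  haveI : (F ⋙ ObjectProperty.ι DCoh.IsQCohD).IsLeftAdjoint :=
    Functor.isLeftAdjoint_of_iso e.symm
  let R := (F ⋙ ObjectProperty.ι DCoh.IsQCohD).rightAdjoint
  exact (Adjunction.restrictFullyFaithful (iC := 𝟭 (DCoh.DQCoh X)) (iD := ObjectProperty.ι DCoh.IsQCohD)
    (L' := F ⋙ ObjectProperty.ι DCoh.IsQCohD) (R' := R) (L := F)
    (R := ObjectProperty.ι DCoh.IsQCohD ⋙ R)
    (Adjunction.ofIsLeftAdjoint _) (Functor.FullyFaithful.id _) (ObjectProperty.fullyFaithfulι _)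
    (Functor.leftUnitor _) (Functor.rightUnitor _).symm).isLeftAdjoint

end Groth.Agent.KFlatLib.DQSmall
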