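import Groth.Agent.KFlatLib.Scheme.RpushUnbounded
import Groth.Prelude.Def_DCoh2

/-!
# A right adjoint of `Rf_*` on `D_QCoh` preserves bounded below objects
-/

set_option linter.style.haveILetI false
set_option backward.isDefEq.respectTransparency false

universe u

open CategoryTheory CategoryTheory.Limits CategoryTheory.Pretriangulated AlgebraicGeometry
open TopologicalSpace

attribute [local instance] HasDerivedCategory.standard

namespace Groth.Agent.KFlatLib

variable {X Y : Scheme.{u}}

/-- A lower bound on cohomology for an object receiving no map from negative quasi-coherent ones. -/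
lemma isZero_hd_of_orth {T : DCoh.D X} (hT : DCoh.IsQCohD T) (b : ℤ)
    (h : ∀ A : DCoh.D X, DCoh.IsQCohD A → A.IsLE b → ∀ φ : A ⟶ T, φ = 0) (i : ℤ) (hi : i ≤ b) :
    IsZero (DCoh.HD T i) := by
  let H := DerivedCategory.homologyFunctor X.Modules
  obtain ⟨A, B, hA, hB, f, g, δ, hTri⟩ :=
    DerivedCategory.TStructure.t.exists_triangle T b (b + 1) rfl
  haveI hA' : A.IsLE b := ⟨hA⟩
  haveI : B.IsGE (b + 1) := ⟨hB⟩
  have hexact : ∀ j, (ShortComplex.mk ((H j).map f) ((H j).map g)
      ((Functor.map_comp _ _ _).symm.trans ((congrArg (H j).map (comp_distTriang_mor_zero₁₂ _ hTri)).trans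
        (Functor.map_zero _ _ _)))).Exact :=
    fun j => DerivedCategory.HomologySequence.exact₂ _ hTri j
  have hqA : DCoh.IsQCohD A := fun j => by
    by_cases hj : b < j
    · exact isQCoh_of_isZero (DerivedCategory.isZero_of_isLE A b j hj)
    · haveI : Epi ((H j).map f) := (hexact j).epi_f
        ((DerivedCategory.isZero_of_isGE B (b + 1) j (by omega)).eq_of_tgt _ _)
      haveI : Mono ((H j).map f) := (DerivedCategory.HomologySequence.mono_homologyMap_mor₁_iff _ hTri
        (j - 1) j (by omega)).2 ((DerivedCategory.isZero_of_isGE B (b + 1) (j - 1) (by omega)).eq_of_src _ _)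
      haveI : IsIso ((H j).map f) := isIso_of_mono_of_epi _
      exact isQCoh_of_iso (asIso ((H j).map f)).symm (hT j)
  refine (hexact i).isZero_of_both_zeros ?_
    ((DerivedCategory.isZero_of_isGE B (b + 1) i (by omega)).eq_of_tgt _ _)
  change (H i).map f = 0
  rw [h A hqA hA' f, Functor.map_zero]

/-- The right adjoint of `Rf_*` shifts lower bounds boundedly. -/
theorem exists_rightAdjoint_bound [CompactSpace X] [QuasiSeparatedSpace X] [CompactSpace Y]
    [QuasiSeparatedSpace Y] (f : X ⟶ Y) [DCoh.HasRpush f]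
    (h : ∀ K : DCoh.D X, DCoh.IsQCohD K → DCoh.IsQCohD ((DCoh.Rpush f).obj K))
    (a : DCoh.DQCoh Y ⥤ DCoh.DQCoh X)
    (adj : (ObjectProperty.lift DCoh.IsQCohD (ObjectProperty.ι DCoh.IsQCohD ⋙ DCoh.Rpush f)
      (fun K => h K.obj K.property)) ⊣ a) :
    ∃ N : ℕ, ∀ (K : DCoh.DQCoh Y) (c : ℤ), (∀ i : ℤ, i ≤ c → IsZero (DCoh.HD K.obj i)) →
      ∀ i : ℤ, i ≤ c - N → IsZero (DCoh.HD (a.obj K).obj i) := by
  haveI : QuasiSeparated f := QuasiSeparated.of_quasiSeparatedSpace f
  haveI := hasInjectiveResolutions_modules (X := X)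
  obtain ⟨N, hN⟩ := exists_Rpush_bound f
  refine ⟨N, fun K c hK i hi => isZero_hd_of_orth (a.obj K).property (c - N) (fun A hA hle φ => ?_) i hi⟩
  have hKge : DerivedCategory.IsGE K.obj (c + 1) :=
    (DerivedCategory.isGE_iff _ _).2 fun j hj => hK j (by omega)
  have hle' : DerivedCategory.IsLE ((DCoh.Rpush f).obj A) c :=
    (DerivedCategory.isLE_iff _ _).2 fun j hj => isZero_of_isZero_restrict _ fun y =>
      ⟨⊤, trivial, isZero_restrict_hd_rpush f hA (c - N) ⊤ N
        (fun M hM p hp => Functor.map_isZero _ (hN M hM p hp)) j (by omega)⟩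
  let ψ : (⟨A, hA⟩ : DCoh.DQCoh X) ⟶ a.obj K := ObjectProperty.homMk φ
  have hψ : ψ = 0 := (adj.homEquiv ⟨A, hA⟩ K).symm.injective <| ObjectProperty.hom_ext _ <|
    (DerivedCategory.TStructure.t.zero_of_isLE_of_isGE _ c (c + 1) (by omega) hle' hKge).trans
      (DerivedCategory.TStructure.t.zero_of_isLE_of_isGE _ c (c + 1) (by omega) hle' hKge).symm
  exact congrArg (fun t => t.hom) hψ

end Groth.Agent.KFlatLib
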