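import Groth.Agent.CohPullX.Semicont
import Groth.Agent.FlatCxLib.Rank
import Groth.Agent.FlatCxLib.Exchange
import Groth.Prelude.Def_PerfAux

/-!
# Semicontinuity and Euler characteristics on fibres of proper morphisms of finite presentation
-/

set_option linter.style.haveILetI false
set_option linter.unusedSectionVars false
set_option backward.isDefEq.respectTransparency false

universe u

open CategoryTheory CategoryTheory.Limits AlgebraicGeometry TopologicalSpace Topology

namespace Groth.Agent.KFlatLib.FibreEuler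

open Groth.Agent.FlatCxLib

variable {X S : Scheme.{u}}

/-- Properties of model points near a model point. -/
lemma eventually_of_model {V : S.Opens} (hV : IsAffineOpen V) {A₀ : Type u} [CommRing A₀]
    (φ : A₀ →+* Γ(S, V)) {y : S} (hy : y ∈ V) {Q : PrimeSpectrum A₀ → Prop}
    (hQ : ∀ᶠ x in 𝓝 (PrimeSpectrum.comap φ (hV.primeIdealOf ⟨y, hy⟩)), Q x) :
    ∀ᶠ z in 𝓝 y, ∃ hz : z ∈ V, Q (PrimeSpectrum.comap φ (hV.primeIdealOf ⟨z, hz⟩)) := by
  obtain ⟨O, hO, hOo, hyO⟩ := eventually_nhds_iff.1 hQ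
  have hW := hV.fromSpec.isOpenEmbedding.isOpenMap _ (hOo.preimage (PrimeSpectrum.continuous_comap φ))
  refine Filter.eventually_of_mem (hW.mem_nhds ⟨hV.primeIdealOf ⟨y, hy⟩, hyO, hV.fromSpec_primeIdealOf ⟨y, hy⟩⟩) ?_
  rintro _ ⟨x, hx, rfl⟩
  obtain ⟨z, hz, rfl⟩ := QCoh.exists_point_fromSpec hV x
  rw [hV.fromSpec_primeIdealOf ⟨z, hz⟩]
  exact ⟨hz, hO _ hx⟩

section Complex

variable {A : Type u} [CommRing A] [IsNoetherianRing A] (P : ChainComplex (ModuleCat.{u} A) ℤ)

lemma fibreRank_eq_zero_of_subsingleton (M : Type u) [AddCommGroup M] [Module A M] [Subsingleton M]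
    (x : PrimeSpectrum A) : fibreRank M x = 0 :=
  Module.finrank_zero_of_subsingleton

/-- The alternating sum of the fibre dimensions of the cohomology of a bounded below complex with no positive
homology is locally constant. -/
theorem isLocallyConstant_finsum_dRank (hfin : ∀ i, Module.Finite A (P.X i)) (hfl : ∀ i, Module.Flat A (P.X i))
    (hbd : ∃ c : ℤ, ∀ i, i < c → IsZero (P.X i))
    (hpos : ∀ q : ℤ, 0 < q → ∀ N : ModuleCat.{u} A, IsZero (CohIII.T P q N)) :
    IsLocallyConstant fun x => finsum fun i : ℕ => (-1 : ℤ) ^ i * (CohIII.dRank P (-(i : ℤ)) x : ℤ) := by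
  obtain ⟨c, hc⟩ := hbd
  let N : ℕ := (-c).toNat + 1
  haveI : Module.Flat A (Coker P 1 0) :=
    (preservesEpi_iff hfl (show (0 : ℤ) + 1 = 1 from rfl)).1
      (QCoh.isExactT_of_isZero (fun M => hpos 1 one_pos M)).2
  haveI := hfin 0
  haveI : Module.FinitePresentation A (Coker P 1 0) := Module.finitePresentation_of_finite _ _
  let C : ℕ → PrimeSpectrum A → ℕ := fun i => fibreRank (Coker P (-(i : ℤ) + 1) (-(i : ℤ)))
  let R : ℕ → PrimeSpectrum A → ℕ := fun i => fibreRank (P.X (-(i : ℤ) - 1))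
  have hd : ∀ (i : ℕ) x, (CohIII.dRank P (-(i : ℤ)) x : ℤ) = C i x + C (i + 1) x - R i x := fun i x => by
    have h := dRank_add P hfin (show -(i : ℤ) + 1 = -(i : ℤ) + 1 from rfl)
      (show -(i : ℤ) - 1 + 1 = -(i : ℤ) by omega) x
    have e : ∀ a b a' b' : ℤ, a = a' → b = b' → fibreRank (Coker P a b) x = fibreRank (Coker P a' b') x := by
      rintro a b a' b' rfl rfl; rfl
    have he : C (i + 1) x = fibreRank (Coker P (-(i : ℤ)) (-(i : ℤ) - 1)) x :=
      e _ _ _ _ (by push_cast; omega) (by push_cast; omega)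
    have hC : C i x = fibreRank (Coker P (-(i : ℤ) + 1) (-(i : ℤ))) x := rfl
    have hR : R i x = fibreRank (P.X (-(i : ℤ) - 1)) x := rfl
    omega
  have hzC : ∀ i : ℕ, N ≤ i → ∀ x, C i x = 0 ∧ R i x = 0 := fun i hi x => by
    haveI : Subsingleton (P.X (-(i : ℤ))) := ModuleCat.isZero_iff_subsingleton.1 (hc _ (by omega))
    haveI : Subsingleton (P.X (-(i : ℤ) - 1)) := ModuleCat.isZero_iff_subsingleton.1 (hc _ (by omega))
    haveI : Subsingleton (Coker P (-(i : ℤ) + 1) (-(i : ℤ))) := (Submodule.mkQ_surjective _).subsingleton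
    exact ⟨fibreRank_eq_zero_of_subsingleton _ x, fibreRank_eq_zero_of_subsingleton _ x⟩
  have tel : ∀ (n : ℕ) x, ∑ i ∈ Finset.range n, (-1 : ℤ) ^ i * ((C i x : ℤ) + C (i + 1) x - R i x) =
      C 0 x - (-1 : ℤ) ^ n * C n x - ∑ i ∈ Finset.range n, (-1 : ℤ) ^ i * (R i x : ℤ) := fun n x => by
    induction n with
    | zero => simp
    | succ n ih => rw [Finset.sum_range_succ, ih, Finset.sum_range_succ, pow_succ]; ring
  have key : (fun x => finsum fun i : ℕ => (-1 : ℤ) ^ i * (CohIII.dRank P (-(i : ℤ)) x : ℤ)) =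
      fun x => (fibreRank (Coker P 1 0) x : ℤ) - ∑ i ∈ Finset.range N, (-1 : ℤ) ^ i * (R i x : ℤ) := by
    funext x
    rw [finsum_eq_sum_of_support_subset _ (s := Finset.range N) ?_]
    · have h0 : fibreRank (Coker P 1 0) x = C 0 x := rfl
      simp only [hd, tel N x, (hzC N le_rfl x).1, h0]
      simp
    · intro i hi
      by_contra hn
      have hi' : N ≤ i := not_lt.1 fun h => hn (Finset.mem_coe.2 (Finset.mem_range.2 h))
      refine hi ?_
      simp only [hd, (hzC i hi' x).1, (hzC i hi' x).2, (hzC (i + 1) (by omega) x).1]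
      simp
  rw [key]
  refine IsLocallyConstant.sub ((isLocallyConstant_fibreRank (Coker P 1 0)).comp _) ?_
  refine (IsLocallyConstant.iff_eventually_eq _).2 fun x => ?_
  have hR : ∀ i ∈ Finset.range N, ∀ᶠ y in 𝓝 x, R i y = R i x := fun i _ => by
    haveI := hfin (-(i : ℤ) - 1)
    haveI := hfl (-(i : ℤ) - 1)
    haveI : Module.FinitePresentation A (P.X (-(i : ℤ) - 1)) := Module.finitePresentation_of_finite _ _
    exact (isLocallyConstant_fibreRank (P.X (-(i : ℤ) - 1))).eventually_eq x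
  filter_upwards [(Finset.range N).eventually_all.2 hR] with y hy
  exact Finset.sum_congr rfl fun i hi => by rw [hy i hi]

end Complex

variable {f : X ⟶ S} [IsProper f] [LocallyOfFinitePresentation f] {M : X.Modules} [HasInjectiveResolutions X.Modules]
  (hfp : CohB1.IsFP M) (hfl : FlatMod.IsFlatOver f M)

include hfp hfl

/-- The dimensions of the cohomology of the fibres are upper semicontinuous. -/
theorem isOpen_fiberRank_lt (p n : ℕ) : IsOpen {s : S | CohIII.fiberRank f M p s < n} := by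
  refine isOpen_iff_eventually.2 fun y hy => ?_
  obtain ⟨_, ⟨V, hV, rfl⟩, hyV, -⟩ :=
    S.isBasis_affineOpens.exists_subset_of_mem_open (Set.mem_univ y) isOpen_univ
  have hV' : IsAffineOpen V := hV
  obtain ⟨A₀, _, hA, φ, P, hP⟩ := CohPullX.exists_isFpModel hfp hfl hV'
  haveI := hA
  have hy' : CohIII.dRank P (-(p : ℤ)) (PrimeSpectrum.comap φ (hV'.primeIdealOf ⟨y, hyV⟩)) < n :=
    (hP.2.2.2.2.2 p y hyV).1 ▸ hy
  have h := upperSemicontinuous_dRank P (fun i => haveI := hP.1 i; Module.finitePresentation_of_finite _ _)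
    hP.flat (-(p : ℤ)) _ n hy'
  refine (eventually_of_model hV' φ hyV h).mono fun z hz => ?_
  obtain ⟨hzV, hz⟩ := hz
  show CohIII.fiberRank f M p z < n
  rw [(hP.2.2.2.2.2 p z hzV).1]
  exact hz

/-- The Euler characteristic of the fibres is locally constant. -/
theorem isLocallyConstant_eulerChar : IsLocallyConstant fun s : S => PerfAux.eulerChar f M s := by
  refine (IsLocallyConstant.iff_eventually_eq _).2 fun y => ?_
  obtain ⟨_, ⟨V, hV, rfl⟩, hyV, -⟩ :=
    S.isBasis_affineOpens.exists_subset_of_mem_open (Set.mem_univ y) isOpen_univ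
  have hV' : IsAffineOpen V := hV
  obtain ⟨A₀, _, hA, φ, P, hP⟩ := CohPullX.exists_isFpModel hfp hfl hV'
  haveI := hA
  have key : ∀ (z : S) (hz : z ∈ V), PerfAux.eulerChar f M z = finsum fun i : ℕ =>
      (-1 : ℤ) ^ i * (CohIII.dRank P (-(i : ℤ)) (PrimeSpectrum.comap φ (hV'.primeIdealOf ⟨z, hz⟩)) : ℤ) :=
    fun z hz => finsum_congr fun i => congrArg (fun k : ℕ => (-1 : ℤ) ^ i * (k : ℤ)) (hP.2.2.2.2.2 i z hz).1
  have h := (isLocallyConstant_finsum_dRank P hP.1 hP.flat hP.2.2.1 hP.2.2.2.1).eventually_eq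
    (PrimeSpectrum.comap φ (hV'.primeIdealOf ⟨y, hyV⟩))
  refine (eventually_of_model hV' φ hyV h).mono fun z hz => ?_
  obtain ⟨hzV, hz⟩ := hz
  rw [key z hzV, key y hyV]
  exact hz

end Groth.Agent.KFlatLib.FibreEuler
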