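import Groth.Agent.KFlatLib.Scheme.RelTensor
import Groth.Agent.KFlatLib.Scheme.EvalPerfect
import Groth.Agent.KFlatLib.BrutalTrunc
import Groth.Agent.KFlatLib.Scheme.QCohDerived
import Groth.Agent.KFlatLib.InnerUnit
import Groth.Agent.KFlatLib.Scheme.ProjFormula

/-!
# Tensoring complexes flat over the base with pullbacks of modules
-/

set_option linter.style.haveILetI false
set_option backward.isDefEq.respectTransparency false

universe u

open CategoryTheory CategoryTheory.Limits AlgebraicGeometry

attribute [local instance] HasDerivedCategory.standard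

namespace Groth.Agent.KFlatLib

variable {X Y : Scheme.{u}} (f : X ⟶ Y)

lemma isFlatOver_of_isZero {M : X.Modules} (h : IsZero M) : FlatMod.IsFlatOver f M := fun x => by
  show Module.Flat (Y.presheaf.stalk (f.base x)) ((DerSch.stalkOver f x).obj M)
  haveI := ModuleCat.subsingleton_of_isZero ((DerSch.stalkOver f x).map_isZero h)
  infer_instance

lemma isFlatOver_of_iso' {M N : X.Modules} (e : M ≅ N) (h : FlatMod.IsFlatOver f M) :
    FlatMod.IsFlatOver f N := fun x => by
  have h' : Module.Flat (Y.presheaf.stalk (f.base x)) ((DerSch.stalkOver f x).obj M) := h x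
  show Module.Flat (Y.presheaf.stalk (f.base x)) ((DerSch.stalkOver f x).obj N)
  exact Module.Flat.of_linearEquiv ((DerSch.stalkOver f x).mapIso e).symm.toLinearEquiv

/-- One module flat over the base. -/
lemma isZero_homology_relTensor_single (P : CochainComplex Y.Modules ℤ)
    (hP : ∀ m : ℤ, m ≠ 0 → IsZero (P.homology m)) {M : X.Modules} (hM : FlatMod.IsFlatOver f M)
    (j i : ℤ) (hi : i ≠ j) :
    IsZero (((DCoh.tensorCx.obj ((pullCx f).obj P)).obj
      ((HomologicalComplex.single X.Modules (ComplexShape.up ℤ) j).obj M)).homology i) := by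
  haveI : (DCoh.tensorBi.obj M).Additive := inferInstance
  haveI := preservesHomology_tensorPull f hM
  let T := DCoh.tensorBi (X := X)
  let e₁ : Inner.tenX T ((HomologicalComplex.single X.Modules (ComplexShape.up ℤ) j).obj M) ≅
      (T.flip.obj M).mapHomologicalComplex (ComplexShape.up ℤ) ⋙ shiftFunctor _ (-j) :=
    T.map₂CochainComplex.flip.mapIso
        (((CochainComplex.singleFunctors X.Modules).shiftIso (-j) j 0 (by omega)).app M).symm ≪≫
      Inner.tensorShiftIso T _ (-j) ≪≫ Functor.isoWhiskerRight (singleIso T M) _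
  let C := (pullCx f).obj P
  let e₂ : ((T.flip.obj M).mapHomologicalComplex (ComplexShape.up ℤ)).obj C ≅
      ((tensorPull f M).mapHomologicalComplex (ComplexShape.up ℤ)).obj P :=
    (NatIso.mapHomologicalComplex ((tensorBiFlipIso X).app M) (ComplexShape.up ℤ)).app C ≪≫
      ((Functor.mapHomologicalComplexCompIso (Iso.refl (tensorPull f M)) (ComplexShape.up ℤ)).app P)
  refine IsZero.of_iso ?_ ((HomologicalComplex.homologyFunctor X.Modules (ComplexShape.up ℤ) i).mapIso
    (e₁.app C ≪≫ (shiftFunctor _ (-j)).mapIso e₂) ≪≫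
    (CochainComplex.ShiftSequence.shiftIso X.Modules (-j) i (i - j) (by omega)).app _ ≪≫
    (P.sc (i - j)).mapHomologyIso (tensorPull f M))
  exact (tensorPull f M).map_isZero (hP (i - j) (by omega))

/-- Bounded complexes of modules flat over the base. -/
theorem isZero_homology_relTensor (P : CochainComplex Y.Modules ℤ) (hPf : ∀ p, FlatMod.IsFlat (P.X p))
    (hP : ∀ m : ℤ, m ≠ 0 → IsZero (P.homology m)) (a : ℤ) :
    ∀ (m : ℕ) (E : CochainComplex X.Modules ℤ), (∀ i : ℤ, (i < a ∨ a + m ≤ i) → IsZero (E.X i)) →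
      (∀ i, FlatMod.IsFlatOver f (E.X i)) → ∀ i : ℤ, (i < a ∨ a + m ≤ i) →
        IsZero (((DCoh.tensorCx.obj ((pullCx f).obj P)).obj E).homology i)
  | 0, E, hz, _ => fun i _ => (HomologicalComplex.homologyFunctor X.Modules _ i).map_isZero
      ((DCoh.tensorCx.obj ((pullCx f).obj P)).map_isZero ((IsZero.iff_id_eq_zero _).2
        (HomologicalComplex.hom_ext _ _ fun j => (hz j (by omega)).eq_of_src _ _)))
  | m + 1, E, hz, hf => by
    intro i hi
    have hle := isStrictlyLE_sigmaSES_X₃ E (a + m)
    rw [CochainComplex.isStrictlyLE_iff] at hle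
    have hse := fun n => (sigmaSES_shortExact E (a + m)).map_of_exact
      (HomologicalComplex.eval X.Modules (ComplexShape.up ℤ) n)
    let S := sigmaSES E (a + m)
    have hS := shortExact_tensorCx_of_flat ((pullCx f).obj P)
      (fun p => isFlat_pullback f (hPf p)) (sigmaSES_shortExact E (a + m))
    have hX₁ : ∀ k, k ≠ a + m → IsZero (S.X₁.X k) := fun k hk => by
      by_cases h : k < a + m
      · exact isZero_stupidTrunc_of_lt E (a + m) k h
      · haveI := (hse k).mono_f
        exact IsZero.of_mono (S.map (HomologicalComplex.eval _ _ k)).f (hz k (by omega))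
    refine (hS.homology_exact₂ i).isZero_X₂ (IsZero.eq_of_src ?_ _ _) (IsZero.eq_of_tgt ?_ _ _)
    · haveI : IsIso (S.f.f (a + m)) := (hse (a + m)).isIso_f_iff.2 (hle (a + m) (by omega))
      let e : (HomologicalComplex.single X.Modules (ComplexShape.up ℤ) (a + m)).obj (E.X (a + m)) ≅ S.X₁ :=
        (HomologicalComplex.single X.Modules (ComplexShape.up ℤ) (a + m)).mapIso
          (asIso (S.f.f (a + m))).symm ≪≫
        HomologicalComplex.Hom.isoOfComponents
          (fun k => if h : k = a + m then
              HomologicalComplex.singleObjXIsoOfEq (ComplexShape.up ℤ) (a + m) _ k h ≪≫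
                (S.X₁.XIsoOfEq h).symm
            else (HomologicalComplex.isZero_single_obj_X _ _ _ _ h).iso (hX₁ k h))
          (fun k l hkl => by
            by_cases h : k = a + m
            · exact (hX₁ l (by change k + 1 = l at hkl; omega)).eq_of_tgt _ _
            · exact (HomologicalComplex.isZero_single_obj_X _ _ _ _ h).eq_of_src _ _)
      exact (isZero_homology_relTensor_single f P hP (hf (a + m)) (a + m) i (by push_cast at hi; omega)).of_iso
        ((HomologicalComplex.homologyFunctor X.Modules _ i).mapIso ((DCoh.tensorCx.obj _).mapIso e.symm))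
    · refine isZero_homology_relTensor P hPf hP a m S.X₃ (fun k hk => ?_) (fun k => ?_) i
        (by push_cast at hi; omega)
      · rcases hk with hk | hk
        · haveI := (hse k).epi_g
          exact IsZero.of_epi (S.map (HomologicalComplex.eval _ _ k)).g (hz k (Or.inl hk))
        · exact hle k (by omega)
      · by_cases h : k < a + m
        · obtain ⟨e⟩ := nonempty_sigmaSES_X₃_iso E (a + m) k h
          exact isFlatOver_of_iso' f e (hf k)
        · exact isFlatOver_of_isZero f (hle k (by omega))

/-- Derived tensor product of an object of finite flat amplitude over the base with a pullback. -/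
theorem isZero_hd_ltensor_lpull [DCoh.HasLpull f] {E : DCoh.D X} {a b : ℤ}
    (hE : DCoh.HasRelFlatAmplitudeIn f a b E) (F : Y.Modules) (M : CochainComplex X.Modules ℤ)
    (eM : DerivedCategory.Q.obj M ≅ (DCoh.Lpull f).obj (DCoh.inD Y F)) [DCoh.HasLTensorCx M]
    (i : ℤ) (hi : i < a ∨ b < i) : IsZero (DCoh.HD ((DCoh.LTensorCx M).obj E) i) := by
  obtain ⟨E', hv, hfl, ⟨eE⟩⟩ := hE
  let S := (HomologicalComplex.single Y.Modules (ComplexShape.up ℤ) 0).obj F
  let P := (kRes Y).obj S
  haveI := (flatCover Y).quasiIso_ψ S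
  haveI := isIso_Q_map ((flatCover Y).ψ.app S) inferInstance
  let C := (pullCx f).obj P
  have hC : DCoh.IsKFlat C := isKFlat_pullback f (isKFlat_kRes S)
  haveI := hasLTensorCx C
  let eC : DerivedCategory.Q.obj C ≅ (DCoh.Lpull f).obj (DCoh.inD Y F) :=
    (lpullIso f (isKFlat_kRes S)).symm ≪≫ (DCoh.Lpull f).mapIso
      (asIso (DerivedCategory.Q.map ((flatCover Y).ψ.app S)) ≪≫
        ((DerivedCategory.singleFunctorIsoCompQ Y.Modules 0).app F).symm)
  obtain ⟨c⟩ := nonempty_LTensorCx_congr_D (P := M) (E := C) (eM ≪≫ eC.symm)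
  let R := (kRes X).obj E'
  haveI := (flatCover X).quasiIso_ψ E'
  haveI := isIso_Q_map ((flatCover X).ψ.app E') inferInstance
  haveI : QuasiIso ((DCoh.tensorCx.obj C).map ((flatCover X).ψ.app E')) :=
    KFlat.quasiIso_map' (tensorBiFlipIso X) hC _
  haveI := isIso_Q_map ((DCoh.tensorCx.obj C).map ((flatCover X).ψ.app E')) inferInstance
  let e : (DCoh.LTensorCx M).obj E ≅ DerivedCategory.Q.obj ((DCoh.tensorCx.obj C).obj E') :=
    c.app E ≪≫ (DCoh.LTensorCx C).mapIso (eE.symm ≪≫
        (asIso (DerivedCategory.Q.map ((flatCover X).ψ.app E'))).symm) ≪≫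
      ltensorCxIso C (isKFlat_kRes E') ≪≫
      DerivedCategory.Q.mapIso ((symmIso (tensorBiFlipIso X) C).app R) ≪≫
      asIso (DerivedCategory.Q.map ((DCoh.tensorCx.obj C).map ((flatCover X).ψ.app E')))
  refine IsZero.of_iso ?_ ((DerivedCategory.homologyFunctor X.Modules i).mapIso e ≪≫
    (DerivedCategory.homologyFunctorFactors X.Modules i).app _)
  refine isZero_homology_relTensor f P (isFlat_kRes S) (fun m hm => ?_) a (b + 1 - a).toNat E'
    (fun k hk => hv k (by omega)) hfl i (by omega)
  exact (HomologicalComplex.isZero_single_obj_homology (ComplexShape.up ℤ) 0 F m hm).of_iso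
    (@asIso _ _ _ _ (HomologicalComplex.homologyMap ((flatCover Y).ψ.app S) m)
      ((quasiIsoAt_iff_isIso_homologyMap _ m).1 inferInstance))

end Groth.Agent.KFlatLib
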