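import Groth.Agent.KFlatLib.Scheme.DQCohCompact
import Groth.Agent.KFlatLib.Scheme.RightAdjBound
import Groth.Agent.KFlatLib.Scheme.CohD

/-!
# Maps and pushforwards only see a window of cohomology
-/

set_option linter.style.haveILetI false
set_option backward.isDefEq.respectTransparency false

universe w v u

open CategoryTheory CategoryTheory.Limits AlgebraicGeometry Pretriangulated TopologicalSpace ZeroObject

attribute [local instance] HasDerivedCategory.standard

namespace Groth.Agent.KFlatLib.Window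

section Shift

variable {C : Type w} [Category.{v} C] [Preadditive C] [HasShift C ℤ] [∀ n : ℤ, (shiftFunctor C n).Additive]

/-- No maps out of a shift if none into the opposite shift. -/
lemma eq_zero_of_shift {K L : C} {i : ℤ} (h : ∀ ψ : K ⟶ L⟦i⟧, ψ = 0) (φ : K⟦-i⟧ ⟶ L) : φ = 0 := by
  refine (shiftFunctor C i).map_injective ?_
  rw [Functor.map_zero, ← cancel_epi (((shiftFunctorCompIsoId C (-i) i (neg_add_cancel i)).app K).inv),
    comp_zero]
  exact h _

end Shift

variable {X : Scheme.{u}}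

lemma isZero_hd_shift (L : DCoh.D X) (i j : ℤ) (h : IsZero (DCoh.HD L (i + j))) :
    IsZero (DCoh.HD (L⟦i⟧) j) :=
  h.of_iso (((DerivedCategory.homologyFunctor X.Modules 0).shiftIso i j (i + j) rfl).app L)

/-- The cohomology above a truncation. -/
lemma isIso_hd_map_truncGEπ (L : DCoh.D X) (a i : ℤ) (hi : a ≤ i) :
    IsIso ((DerivedCategory.homologyFunctor X.Modules i).map
      ((DerivedCategory.TStructure.t.truncGEπ a).app L)) := by
  let t : Triangulated.TStructure (DCoh.D X) := DerivedCategory.TStructure.t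
  have hT := t.triangleLTGE_distinguished a L
  haveI hle : DerivedCategory.IsLE ((t.truncLT a).obj L) (a - 1) := t.isLE_truncLT_obj L _ _ (by omega)
  have e₂ := DerivedCategory.HomologySequence.exact₂ _ hT i
  have e₃ := DerivedCategory.HomologySequence.exact₃ _ hT i (i + 1) rfl
  haveI : Mono ((DerivedCategory.homologyFunctor X.Modules i).map ((t.truncGEπ a).app L)) :=
    e₂.mono_g ((DerivedCategory.isZero_of_isLE ((t.truncLT a).obj L) (a - 1) i (by omega)).eq_of_src _ _)
  haveI : Epi ((DerivedCategory.homologyFunctor X.Modules i).map ((t.truncGEπ a).app L)) :=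
    e₃.epi_f ((DerivedCategory.isZero_of_isLE ((t.truncLT a).obj L) (a - 1) (i + 1) (by omega)).eq_of_tgt _ _)
  exact isIso_of_mono_of_epi _

lemma isQCohD_truncGE {L : DCoh.D X} (hL : DCoh.IsQCohD L) (a : ℤ) :
    DCoh.IsQCohD (((DerivedCategory.TStructure.t : Triangulated.TStructure (DCoh.D X)).truncGE a).obj L) :=
  fun i => by
  let t : Triangulated.TStructure (DCoh.D X) := DerivedCategory.TStructure.t
  by_cases hi : a ≤ i
  · haveI := isIso_hd_map_truncGEπ L a i hi
    exact isQCoh_of_iso (asIso ((DerivedCategory.homologyFunctor X.Modules i).map ((t.truncGEπ a).app L))) (hL i)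
  · haveI : DerivedCategory.IsGE ((t.truncGE a).obj L) a := t.isGE_truncGE_obj L _ _ le_rfl
    exact isQCoh_of_isZero (DerivedCategory.isZero_of_isGE ((t.truncGE a).obj L) a i (by omega))

lemma isQCohD_truncLT {L : DCoh.D X} (hL : DCoh.IsQCohD L) (a : ℤ) :
    DCoh.IsQCohD (((DerivedCategory.TStructure.t : Triangulated.TStructure (DCoh.D X)).truncLT a).obj L) :=
  isQCohD_obj₁ (DerivedCategory.TStructure.t.triangleLTGE_distinguished a L) hL (isQCohD_truncGE hL a)

/-- A truncation starts above a window of vanishing cohomology. -/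
lemma isGE_truncGE_of_window {L : DCoh.D X} {a b : ℤ}
    (h : ∀ i, a ≤ i → i ≤ b → IsZero (DCoh.HD L i)) :
    DerivedCategory.IsGE (((DerivedCategory.TStructure.t : Triangulated.TStructure (DCoh.D X)).truncGE a).obj L) (b + 1) := by
  let t : Triangulated.TStructure (DCoh.D X) := DerivedCategory.TStructure.t
  haveI : DerivedCategory.IsGE ((t.truncGE a).obj L) a := t.isGE_truncGE_obj L _ _ le_rfl
  rw [DerivedCategory.isGE_iff]
  intro i hi
  by_cases hia : i < a
  · exact DerivedCategory.isZero_of_isGE ((t.truncGE a).obj L) a i hia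
  · haveI := isIso_hd_map_truncGEπ L a i (by omega)
    exact (h i (by omega) (by omega)).of_iso
      (asIso ((DerivedCategory.homologyFunctor X.Modules i).map ((t.truncGEπ a).app L))).symm

/-- A perfect object on a quasi-compact scheme is bounded above. -/
lemma exists_isLE [CompactSpace X] {K : DCoh.D X} (hK : LocSP K) : ∃ b : ℤ, DerivedCategory.IsLE K b := by
  obtain ⟨b, hb⟩ := exists_bound_of_locPC (hK.locPC 0)
  exact ⟨b, (DerivedCategory.isLE_iff _ _).2 fun i hi => hb i hi⟩

/-- Maps out of a perfect object only see a window of cohomology. -/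
theorem exists_range [CompactSpace X] [QuasiSeparatedSpace X] {K : DCoh.D X} (hK : LocSP K) :
    ∃ a b : ℤ, a ≤ b ∧ ∀ L : DCoh.D X, DCoh.IsQCohD L →
      (∀ i, a ≤ i → i ≤ b → IsZero (DCoh.HD L i)) → ∀ φ : K ⟶ L, φ = 0 := by
  obtain ⟨c, hc⟩ := DQCompact.exists_bound hK
  obtain ⟨d, hd⟩ := exists_isLE hK
  refine ⟨c + 1, max (c + 1) d, le_max_left _ _, fun L hL h φ => ?_⟩
  let t : Triangulated.TStructure (DCoh.D X) := DerivedCategory.TStructure.t
  haveI := hd
  haveI : DerivedCategory.IsGE ((t.truncGE (c + 1)).obj L) (max (c + 1) d + 1) := isGE_truncGE_of_window h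
  have h₂ : φ ≫ (t.truncGEπ (c + 1)).app L = 0 :=
    t.zero (φ ≫ (t.truncGEπ (c + 1)).app L) d (max (c + 1) d + 1) (by omega)
  obtain ⟨ψ, rfl⟩ := Triangle.coyoneda_exact₂ _ (t.triangleLTGE_distinguished (c + 1) L) φ h₂
  haveI hle : DerivedCategory.IsLE ((t.truncLT (c + 1)).obj L) c := t.isLE_truncLT_obj L _ _ (by omega)
  exact (congrArg (· ≫ (t.truncLTι (c + 1)).app L) (hc _ (isQCohD_truncLT hL _) hle ψ)).trans zero_comp

/-- Maps out of shifts of a perfect object only see a window of cohomology around the shift. -/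
theorem exists_window [CompactSpace X] [QuasiSeparatedSpace X] {K : DCoh.D X} (hK : LocSP K) :
    ∃ d : ℕ, ∀ L : DCoh.D X, DCoh.IsQCohD L → ∀ i : ℤ,
      (∀ j, i - d ≤ j → j ≤ i + d → IsZero (DCoh.HD L j)) → ∀ φ : K⟦-i⟧ ⟶ L, φ = 0 := by
  obtain ⟨a, b, _, h⟩ := exists_range hK
  refine ⟨a.natAbs + b.natAbs, fun L hL i hi φ => eq_zero_of_shift (fun ψ => ?_) φ⟩
  exact h _ (isQCohD_shift hL i)
    (fun j hja hjb => isZero_hd_shift L i j (hi _ (by omega) (by omega))) ψ

variable {Y : Scheme.{u}}

/-- Pushforwards only see a window of cohomology. -/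
theorem exists_rpush_window [CompactSpace Y] (f : X ⟶ Y) [QuasiCompact f] [QuasiSeparated f]
    [DCoh.HasRpush f] :
    ∃ N : ℕ, ∀ F : DCoh.D X, DCoh.IsQCohD F → ∀ n : ℤ,
      (∀ j, n - N ≤ j → j ≤ n → IsZero (DCoh.HD F j)) → IsZero (DCoh.HD ((DCoh.Rpush f).obj F) n) := by
  haveI := hasInjectiveResolutions_modules (X := X)
  obtain ⟨N, hN⟩ := exists_Rpush_bound f
  refine ⟨N, fun F hF n h => ?_⟩
  let t : Triangulated.TStructure (DCoh.D X) := DerivedCategory.TStructure.t
  let a : ℤ := n - N
  obtain ⟨c, hc⟩ := exists_rpush_triangle f _ (t.triangleLTGE_distinguished a F)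
  haveI hle : DerivedCategory.IsLE ((t.truncLT a).obj F) (a - 1) := t.isLE_truncLT_obj F _ _ (by omega)
  haveI : DerivedCategory.IsGE ((t.truncGE a).obj F) (n + 1) := isGE_truncGE_of_window h
  haveI hge : DerivedCategory.IsGE ((DCoh.Rpush f).obj ((t.truncGE a).obj F)) (n + 1) := isGE_rpush f _ _
  refine (DerivedCategory.HomologySequence.exact₂ _ hc n).isZero_X₂ ?_ ?_
  · refine (isZero_of_isZero_restrict _ fun y => ⟨⊤, trivial, ?_⟩ : IsZero
      (DCoh.HD ((DCoh.Rpush f).obj ((t.truncLT a).obj F)) n)).eq_of_src _ _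
    exact isZero_restrict_hd_rpush f (isQCohD_truncLT hF a) (a - 1) ⊤ N
      (fun M hM p hp => Functor.map_isZero _ (hN M hM p hp)) n (by omega)
  · exact (DerivedCategory.isZero_of_isGE ((DCoh.Rpush f).obj ((t.truncGE a).obj F)) (n + 1) n (by omega)).eq_of_tgt _ _

end Groth.Agent.KFlatLib.Window
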