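import Groth.Agent.KFlatLib.Scheme.BCLocTools

/-!
# The base change map of the right adjoint of `Rf_*`, on an affine chart

The map `u^* a(K) ⟶ a'(u^* K)` of a cartesian square with flat horizontal maps is invertible over an
affine chart as soon as morphisms out of the direct images of perfect objects into `K` commute with
the flat base change of the chart.
-/

set_option linter.style.haveILetI false
set_option backward.isDefEq.respectTransparency false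

universe u

open CategoryTheory CategoryTheory.Limits AlgebraicGeometry Opposite TopologicalSpace Pretriangulated
open scoped TensorProduct

attribute [local instance] HasDerivedCategory.standard
attribute [local instance] Groth.Agent.KFlatLib.ScalarD.linMod

namespace Groth.Agent.KFlatLib.BCLoc

open ScalarD SecPoint

variable {X Y X' Y' : Scheme.{u}}

/-- `u^*` on `D_QCoh`, for flat `u`. -/
noncomputable abbrev LQ (u : X' ⟶ X) [Flat u] : DCoh.DQCoh X ⥤ DCoh.DQCoh X' :=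
  ObjectProperty.lift _ (ObjectProperty.ι _ ⋙ pullD u) fun K => isQCohD_pullD u K.property

lemma res_appTop (f : X ⟶ Y) (V : Y.Opens) (W : X.Opens) (hW : W ≤ f ⁻¹ᵁ (V.ι ''ᵁ ⊤))
    (r : Γ((V : Scheme.{u}), ⊤)) :
    ScalarD.res ((f ∣_ V).appTop r) ((f ⁻¹ᵁ V).ι ⁻¹ᵁ W) =
      (f ⁻¹ᵁ V).ι.app W (f.appLE (V.ι ''ᵁ ⊤) W hW r) := by
  have e1 : (f ∣_ V).appTop ≫
      (f ⁻¹ᵁ V : X.Opens).toScheme.presheaf.map (homOfLE le_top).op =
        (f ∣_ V).appLE ⊤ ((f ⁻¹ᵁ V).ι ⁻¹ᵁ W) le_top := rfl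
  have e2 : (f ∣_ V).appLE ⊤ ((f ⁻¹ᵁ V).ι ⁻¹ᵁ W) le_top =
      f.appLE (V.ι ''ᵁ ⊤) W hW ≫ (f ⁻¹ᵁ V).ι.app W := by
    rw [morphismRestrict_appLE, Scheme.Opens.ι_app, Scheme.Hom.appLE_map]
  exact ConcreteCategory.congr_hom (e1.trans e2) r

/-- `Rf_*` is additive. -/
lemma rpush_additive (f : X ⟶ Y) [DCoh.HasRpush f] : (DCoh.Rpush f).Additive := by
  haveI := hasLpull f
  obtain ⟨A⟩ := nonempty_lpull_rpush_adj f
  haveI : PreservesLimitsOfSize.{0, 0} (DCoh.Rpush f) := A.rightAdjoint_preservesLimits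
  haveI : HasBinaryBiproducts (DCoh.D X) := HasBinaryBiproducts.of_hasBinaryProducts
  haveI := preservesBinaryBiproducts_of_preservesBinaryProducts (DCoh.Rpush f)
  exact Functor.additive_of_preservesBinaryBiproducts _

/-- `Rf_*` on `D_QCoh` is additive. -/
lemma rpushQ_additive (f : X ⟶ Y) [DCoh.HasRpush f] (hf : DCoh.RpushPreservesQCoh f) :
    (DCoh.RpushQ f hf).Additive :=
  haveI := rpush_additive f
  ⟨fun {K L} φ ψ => ObjectProperty.hom_ext _ ((DCoh.Rpush f).map_add (f := φ.hom) (g := ψ.hom))⟩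

variable {f : X ⟶ Y} {g : Y' ⟶ Y} {f' : X' ⟶ Y'} {g' : X' ⟶ X} [Flat g] [Flat g']
variable [DCoh.HasRpush f] [DCoh.HasRpush f'] {hf : DCoh.RpushPreservesQCoh f}
  {hf' : DCoh.RpushPreservesQCoh f'} {a : DCoh.DQCoh Y ⥤ DCoh.DQCoh X}
  {a' : DCoh.DQCoh Y' ⥤ DCoh.DQCoh X'}
variable (adj : DCoh.RpushQ f hf ⊣ a) (adj' : DCoh.RpushQ f' hf' ⊣ a')
  (bcI : DCoh.RpushQ f hf ⋙ LQ g ≅ LQ g' ⋙ DCoh.RpushQ f' hf')

/-- The base change map, defined through the base change isomorphism of direct images. -/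
noncomputable def mMap (K : DCoh.DQCoh Y) : (LQ g').obj (a.obj K) ⟶ a'.obj ((LQ g).obj K) :=
  adj'.homEquiv _ _ (bcI.inv.app (a.obj K) ≫ (LQ g).map (adj.counit.app K))

lemma mMap_natural {K K' : DCoh.DQCoh Y} (u : K ⟶ K') :
    (LQ g').map (a.map u) ≫ mMap adj adj' bcI K' = mMap adj adj' bcI K ≫ a'.map ((LQ g).map u) := by
  rw [mMap, mMap, ← adj'.homEquiv_naturality_left, ← adj'.homEquiv_naturality_right]
  congr 1
  have h1 : (DCoh.RpushQ f' hf').map ((LQ g').map (a.map u)) ≫ bcI.inv.app (a.obj K') =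
      bcI.inv.app (a.obj K) ≫ (LQ g).map ((DCoh.RpushQ f hf).map (a.map u)) :=
    bcI.inv.naturality (a.map u)
  rw [← Category.assoc, h1, Category.assoc, Category.assoc, ← Functor.map_comp, ← Functor.map_comp]
  exact congrArg (fun z => bcI.inv.app (a.obj K) ≫ (LQ g).map z) (adj.counit.naturality u)

section Chart

variable {V : Y.Opens} {V' : Y'.Opens} [DCoh.HasRpush V.ι] [DCoh.HasRpush V'.ι]
  {hj : DCoh.RpushPreservesQCoh V.ι} {hj' : DCoh.RpushPreservesQCoh V'.ι}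
  (adjV : rho V.ι ⊣ DCoh.Rpush V.ι) (adjV' : rho V'.ι ⊣ DCoh.Rpush V'.ι)
  (h : (V' : Scheme.{u}) ⟶ (V : Scheme.{u})) [Flat h]
  (c : pullD g ⋙ rho V'.ι ≅ rho V.ι ⋙ pullD h)

/-- `K|_V`. -/
noncomputable abbrev ZObj (V : Y.Opens) (K : DCoh.DQCoh Y) : DCoh.DQCoh (V : Scheme.{u}) :=
  ⟨(rho V.ι).obj K.obj, isQCohD_rho V.ι K.property⟩

/-- `h^*(K|_V)`. -/
noncomputable abbrev MObj (h : (V' : Scheme.{u}) ⟶ (V : Scheme.{u})) [Flat h] (K : DCoh.DQCoh Y) :
    DCoh.DQCoh (V' : Scheme.{u}) :=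
  (LQ h).obj (ZObj V K)

/-- `u^* Rj_*(K|_V) ⟶ Rj'_*(h^*(K|_V))`. -/
noncomputable def etaN (K : DCoh.DQCoh Y) :
    (LQ g).obj (RALocal.jObj V hj (ZObj V K)) ⟶ RALocal.jObj V' hj' (MObj h K) :=
  ObjectProperty.homMk (adjV'.homEquiv _ _
    (c.hom.app ((DCoh.Rpush V.ι).obj ((rho V.ι).obj K.obj)) ≫
      (pullD h).map (adjV.counit.app ((rho V.ι).obj K.obj))))

/-- The localised base change map. -/
noncomputable def tau (K : DCoh.DQCoh Y) :
    (LQ g').obj (a.obj (RALocal.jObj V hj (ZObj V K))) ⟶ a'.obj (RALocal.jObj V' hj' (MObj h K)) :=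
  adj'.homEquiv _ _ (bcI.inv.app _ ≫ (LQ g).map (adj.counit.app _) ≫
    etaN (hj := hj) (hj' := hj') adjV adjV' h c K)

lemma mMap_etaN (K : DCoh.DQCoh Y) :
    mMap adj adj' bcI (RALocal.jObj V hj (ZObj V K)) ≫ a'.map (etaN (hj' := hj') adjV adjV' h c K) =
      tau adj adj' bcI (hj := hj) (hj' := hj') adjV adjV' h c K := by
  rw [mMap, tau, ← adj'.homEquiv_naturality_right, Category.assoc]

/-- Morphisms into `a(Rj_* Z)`, adjointly. -/
noncomputable def phiEquiv (R : DCoh.DQCoh X) (Z : DCoh.DQCoh (V : Scheme.{u})) :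
    ((rho V.ι).obj ((DCoh.Rpush f).obj R.obj) ⟶ Z.obj) ≃ (R ⟶ a.obj (RALocal.jObj V hj Z)) :=
  (adjV.homEquiv _ _).trans
    (((ObjectProperty.fullyFaithfulι DCoh.IsQCohD).homEquiv
      (X := (DCoh.RpushQ f hf).obj R) (Y := RALocal.jObj V hj Z)).symm.trans (adj.homEquiv _ _))

lemma phiEquiv_apply (R : DCoh.DQCoh X) (Z : DCoh.DQCoh (V : Scheme.{u}))
    (x : (rho V.ι).obj ((DCoh.Rpush f).obj R.obj) ⟶ Z.obj) :
    phiEquiv adj (hj := hj) adjV R Z x =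
      adj.homEquiv _ _ ((ObjectProperty.fullyFaithfulι DCoh.IsQCohD).preimage
        (X := (DCoh.RpushQ f hf).obj R) (Y := RALocal.jObj V hj Z) (adjV.homEquiv _ _ x)) := rfl

lemma phiEquiv_add (R : DCoh.DQCoh X) (Z : DCoh.DQCoh (V : Scheme.{u}))
    (x y : (rho V.ι).obj ((DCoh.Rpush f).obj R.obj) ⟶ Z.obj) :
    (phiEquiv adj (hj := hj) adjV R Z (x + y)).hom =
      (phiEquiv adj (hj := hj) adjV R Z x).hom + (phiEquiv adj (hj := hj) adjV R Z y).hom := by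
  haveI := adjV.right_adjoint_additive
  haveI := rpushQ_additive f hf
  haveI := adj.right_adjoint_additive
  have e1 : adjV.homEquiv _ _ (x + y) = adjV.homEquiv _ _ x + adjV.homEquiv _ _ y := by
    simp only [adjV.homEquiv_unit, Functor.map_add, Preadditive.comp_add]
  let pre := (ObjectProperty.fullyFaithfulι DCoh.IsQCohD).preimage
        (X := (DCoh.RpushQ f hf).obj R) (Y := RALocal.jObj V hj Z)
  have e2 : pre (adjV.homEquiv _ _ (x + y)) = pre (adjV.homEquiv _ _ x) + pre (adjV.homEquiv _ _ y) :=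
    ObjectProperty.hom_ext _ e1
  rw [phiEquiv_apply, phiEquiv_apply, phiEquiv_apply]
  change (adj.homEquiv _ _ (pre _)).hom = (adj.homEquiv _ _ (pre _)).hom + (adj.homEquiv _ _ (pre _)).hom
  rw [e2, adj.homEquiv_unit, adj.homEquiv_unit, adj.homEquiv_unit, Functor.map_add, Preadditive.comp_add]
  rfl

lemma phiEquiv_naturality_left {R R' : DCoh.DQCoh X} (γ : R' ⟶ R) (Z : DCoh.DQCoh (V : Scheme.{u}))
    (φ : (rho V.ι).obj ((DCoh.Rpush f).obj R.obj) ⟶ Z.obj) :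
    phiEquiv adj (hj := hj) adjV R' Z ((rho V.ι).map ((DCoh.Rpush f).map γ.hom) ≫ φ) =
      γ ≫ phiEquiv adj (hj := hj) adjV R Z φ := by
  rw [phiEquiv_apply, phiEquiv_apply, ← adj.homEquiv_naturality_left, adjV.homEquiv_naturality_left]
  rfl

lemma phiEquiv_comp (R : DCoh.DQCoh X) (Z : DCoh.DQCoh (V : Scheme.{u})) (m : Z ⟶ Z)
    (φ : (rho V.ι).obj ((DCoh.Rpush f).obj R.obj) ⟶ Z.obj) :
    phiEquiv adj (hj := hj) adjV R Z (φ ≫ m.hom) =
      phiEquiv adj (hj := hj) adjV R Z φ ≫ a.map ((DCoh.RpushQ V.ι hj).map m) := by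
  rw [phiEquiv_apply, phiEquiv_apply, ← adj.homEquiv_naturality_right, adjV.homEquiv_naturality_right]
  rfl

/-- Morphisms into `a'(Rj'_* M)` out of inverse images, adjointly. -/
noncomputable def tEquiv (R : DCoh.DQCoh X) (M : DCoh.DQCoh (V' : Scheme.{u})) :
    ((LQ g').obj R ⟶ a'.obj (RALocal.jObj V' hj' M)) ≃
      ((pullD h).obj ((rho V.ι).obj ((DCoh.Rpush f).obj R.obj)) ⟶ M.obj) :=
  (adj'.homEquiv _ _).symm.trans
    ((bcI.app R).symm.homFromEquiv.trans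
      (((ObjectProperty.fullyFaithfulι DCoh.IsQCohD).homEquiv
        (X := (LQ g).obj ((DCoh.RpushQ f hf).obj R)) (Y := RALocal.jObj V' hj' M)).trans
        ((adjV'.homEquiv _ _).symm.trans ((c.app ((DCoh.Rpush f).obj R.obj)).homFromEquiv))))

lemma tEquiv_apply (R : DCoh.DQCoh X) (M : DCoh.DQCoh (V' : Scheme.{u}))
    (χ : (LQ g').obj R ⟶ a'.obj (RALocal.jObj V' hj' M)) :
    tEquiv adj' bcI (hj' := hj') adjV' h c R M χ = c.inv.app ((DCoh.Rpush f).obj R.obj) ≫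
      (adjV'.homEquiv _ _).symm
        ((bcI.hom.app R).hom ≫ ((adj'.homEquiv _ _).symm χ).hom) := rfl

lemma tEquiv_naturality_left {R R' : DCoh.DQCoh X} (γ : R' ⟶ R) (M : DCoh.DQCoh (V' : Scheme.{u}))
    (χ : (LQ g').obj R ⟶ a'.obj (RALocal.jObj V' hj' M)) :
    tEquiv adj' bcI (hj' := hj') adjV' h c R' M ((LQ g').map γ ≫ χ) =
      (pullD h).map ((rho V.ι).map ((DCoh.Rpush f).map γ.hom)) ≫
        tEquiv adj' bcI (hj' := hj') adjV' h c R M χ := by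
  rw [tEquiv_apply, tEquiv_apply, adj'.homEquiv_naturality_left_symm]
  have h1 : (bcI.hom.app R').hom ≫ ((DCoh.RpushQ f' hf').map ((LQ g').map γ)).hom =
      ((LQ g).map ((DCoh.RpushQ f hf).map γ)).hom ≫ (bcI.hom.app R).hom :=
    congrArg InducedCategory.Hom.hom (bcI.hom.naturality γ).symm
  have h2 : (bcI.hom.app R').hom ≫ ((DCoh.RpushQ f' hf').map ((LQ g').map γ) ≫
      (adj'.homEquiv _ _).symm χ).hom = (pullD g).map ((DCoh.Rpush f).map γ.hom) ≫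
        ((bcI.hom.app R).hom ≫ ((adj'.homEquiv _ _).symm χ).hom) := by
    change (bcI.hom.app R').hom ≫ ((DCoh.RpushQ f' hf').map ((LQ g').map γ)).hom ≫ _ = _
    rw [← Category.assoc, h1, Category.assoc]
    rfl
  rw [h2, adjV'.homEquiv_naturality_left_symm, ← Category.assoc, ← Category.assoc]
  exact congrArg (· ≫ _) (c.inv.naturality ((DCoh.Rpush f).map γ.hom)).symm

lemma tEquiv_comp (R : DCoh.DQCoh X) (M : DCoh.DQCoh (V' : Scheme.{u})) (m : M ⟶ M)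
    (χ : (LQ g').obj R ⟶ a'.obj (RALocal.jObj V' hj' M)) :
    tEquiv adj' bcI (hj' := hj') adjV' h c R M (χ ≫ a'.map ((DCoh.RpushQ V'.ι hj').map m)) =
      tEquiv adj' bcI (hj' := hj') adjV' h c R M χ ≫ m.hom := by
  rw [tEquiv_apply, tEquiv_apply, adj'.homEquiv_naturality_right_symm, Category.assoc]
  erw [← adjV'.homEquiv_naturality_right_symm]
  exact congrArg (c.inv.app _ ≫ ·) (congrArg (adjV'.homEquiv _ _).symm (Category.assoc _ _ _).symm)

lemma tEquiv_add (R : DCoh.DQCoh X) (M : DCoh.DQCoh (V' : Scheme.{u}))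
    (x y : (LQ g').obj R ⟶ a'.obj (RALocal.jObj V' hj' M)) :
    tEquiv adj' bcI (hj' := hj') adjV' h c R M (x + y) =
      tEquiv adj' bcI (hj' := hj') adjV' h c R M x + tEquiv adj' bcI (hj' := hj') adjV' h c R M y := by
  haveI := rpushQ_additive f' hf'
  simp only [tEquiv_apply]
  rw [adj'.homEquiv_counit, adj'.homEquiv_counit, adj'.homEquiv_counit, Functor.map_add,
    Preadditive.add_comp]
  change c.inv.app _ ≫ (adjV'.homEquiv _ _).symm ((bcI.hom.app R).hom ≫ (_ + _)) = _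
  rw [Preadditive.comp_add, adjV'.homEquiv_counit, adjV'.homEquiv_counit, adjV'.homEquiv_counit,
    Functor.map_add, Preadditive.add_comp, Preadditive.comp_add]
  rfl

/-- The transpose of `u^*(φ) ≫ τ` is `h^* φ`. -/
theorem tEquiv_tau (K : DCoh.DQCoh Y) (R : DCoh.DQCoh X)
    (φ : (rho V.ι).obj ((DCoh.Rpush f).obj R.obj) ⟶ (rho V.ι).obj K.obj) :
    tEquiv adj' bcI (hj' := hj') adjV' h c R (MObj h K)
      ((LQ g').map (phiEquiv adj (hj := hj) adjV R (ZObj V K) φ) ≫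
        tau adj adj' bcI (hj := hj) (hj' := hj') adjV adjV' h c K) = (pullD h).map φ := by
  let Φ := phiEquiv adj (hj := hj) adjV R (ZObj V K) φ
  let φ' : (DCoh.RpushQ f hf).obj R ⟶ RALocal.jObj V hj (ZObj V K) :=
    ObjectProperty.homMk (adjV.homEquiv _ _ φ)
  have hΦ : (DCoh.RpushQ f hf).map Φ ≫ adj.counit.app _ = φ' :=
    (adj.homEquiv_counit ..).symm.trans ((adj.homEquiv _ _).symm_apply_apply φ')
  have e1 : (adj'.homEquiv _ _).symm ((LQ g').map Φ ≫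
      tau adj adj' bcI (hj := hj) (hj' := hj') adjV adjV' h c K) =
      bcI.inv.app R ≫ (LQ g).map φ' ≫ etaN (hj := hj) (hj' := hj') adjV adjV' h c K := by
    rw [adj'.homEquiv_naturality_left_symm, tau, Equiv.symm_apply_apply]
    have h1 : (DCoh.RpushQ f' hf').map ((LQ g').map Φ) ≫ bcI.inv.app _ =
        bcI.inv.app R ≫ (LQ g).map ((DCoh.RpushQ f hf).map Φ) := bcI.inv.naturality Φ
    rw [← Category.assoc, h1, Category.assoc, ← hΦ, Functor.map_comp, Category.assoc]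
  rw [tEquiv_apply, e1]
  have e3 : (bcI.hom.app R).hom ≫ (bcI.inv.app R ≫ (LQ g).map φ' ≫
      etaN (hj := hj) (hj' := hj') adjV adjV' h c K).hom =
      ((LQ g).map φ' ≫ etaN (hj := hj) (hj' := hj') adjV adjV' h c K).hom :=
    congrArg InducedCategory.Hom.hom (bcI.hom_inv_id_app_assoc R _)
  rw [e3]
  let ψ := c.hom.app ((DCoh.Rpush V.ι).obj ((rho V.ι).obj K.obj)) ≫
      (pullD h).map (adjV.counit.app ((rho V.ι).obj K.obj))
  change c.inv.app _ ≫ (adjV'.homEquiv _ _).symm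
    ((pullD g).map (adjV.homEquiv _ _ φ) ≫ adjV'.homEquiv _ _ ψ) = _
  rw [adjV'.homEquiv_naturality_left_symm, Equiv.symm_apply_apply]
  have h2 : (rho V'.ι).map ((pullD g).map (adjV.homEquiv _ _ φ)) ≫ c.hom.app _ =
      c.hom.app ((DCoh.Rpush f).obj R.obj) ≫ (pullD h).map ((rho V.ι).map (adjV.homEquiv _ _ φ)) :=
    c.hom.naturality (adjV.homEquiv _ _ φ)
  rw [← Category.assoc ((rho V'.ι).map _), h2, Category.assoc, Iso.inv_hom_id_app_assoc,
    ← Functor.map_comp]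
  exact congrArg (pullD h).map ((adjV.homEquiv_counit ..).symm.trans ((adjV.homEquiv _ _).symm_apply_apply φ))

include adjV' in
/-- `u^* Rj_*(K|_V) ⟶ Rj'_*(h^*(K|_V))` is invertible on `V'`. -/
lemma isIso_rho_etaN (K : DCoh.DQCoh Y) :
    IsIso ((rho V'.ι).map (etaN (g := g) (hj := hj) (hj' := hj') adjV adjV' h c K).hom) := by
  haveI := isIso_restrictD_counit V.ι adjV
  haveI := isIso_restrictD_counit V'.ι adjV'
  let ψ := c.hom.app ((DCoh.Rpush V.ι).obj ((rho V.ι).obj K.obj)) ≫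
      (pullD h).map (adjV.counit.app ((rho V.ι).obj K.obj))
  have e : (rho V'.ι).map (adjV'.homEquiv _ _ ψ) ≫ adjV'.counit.app _ = ψ :=
    (adjV'.homEquiv_counit ..).symm.trans ((adjV'.homEquiv _ _).symm_apply_apply ψ)
  haveI : IsIso ψ := inferInstance
  haveI : IsIso ((rho V'.ι).map (adjV'.homEquiv _ _ ψ) ≫ adjV'.counit.app _) := e.symm ▸ inferInstance
  exact IsIso.of_isIso_comp_right ((rho V'.ι).map (adjV'.homEquiv _ _ ψ)) (adjV'.counit.app _)

end Chart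

section Core

variable {V : Y.Opens} {V' : Y'.Opens} [DCoh.HasRpush V.ι] [DCoh.HasRpush V'.ι]
  (hj : DCoh.RpushPreservesQCoh V.ι) (hj' : DCoh.RpushPreservesQCoh V'.ι)
  (adjV : rho V.ι ⊣ DCoh.Rpush V.ι) (adjV' : rho V'.ι ⊣ DCoh.Rpush V'.ι)
  (hle : V' ≤ g ⁻¹ᵁ V)
  [CompactSpace X] [QuasiSeparatedSpace X] [DCoh.HasRpush g']
  [QuasiCompact (f ⁻¹ᵁ V).ι] [QuasiCompact (f' ⁻¹ᵁ V').ι] [QuasiCompact g'] [QuasiSeparated g']

/-- The rings of the chart. -/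
@[instance_reducible]
noncomputable def chartAlg (h : (V' : Scheme.{u}) ⟶ (V : Scheme.{u})) :
    Algebra Γ((V : Scheme.{u}), ⊤) Γ((V' : Scheme.{u}), ⊤) :=
  h.appTop.hom.toAlgebra

/-- The heart of the matter: `τ` is bijective on `H^k` of an affine chart. -/
theorem bijective_comp_tau (hw : g' ≫ f = f' ≫ g) (h : (V' : Scheme.{u}) ⟶ (V : Scheme.{u})) [Flat h]
    (c : pullD g ⋙ rho V'.ι ≅ rho V.ι ⋙ pullD h) [Algebra Γ(Y, V.ι ''ᵁ ⊤) Γ(Y', V'.ι ''ᵁ ⊤)]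
    (φV : Γ(Y, V.ι ''ᵁ ⊤) →+* Γ((V : Scheme.{u}), ⊤)) (ψV : Γ(Y', V'.ι ''ᵁ ⊤) →+* Γ((V' : Scheme.{u}), ⊤))
    (hφV : ∀ x, φV x = x) (hψV : ∀ x, ψV x = x)
    (hc : ∀ x, h.appTop (φV x) = ψV (algebraMap _ _ x))
    (hle₁ : V'.ι ''ᵁ ⊤ ≤ g ⁻¹ᵁ (V.ι ''ᵁ ⊤))
    (halg : ∀ x : Γ(Y, V.ι ''ᵁ ⊤),
      algebraMap Γ(Y, V.ι ''ᵁ ⊤) Γ(Y', V'.ι ''ᵁ ⊤) x = g.appLE _ _ hle₁ x)
    (K : DCoh.DQCoh Y)
    (hΨ : ∀ R : DCoh.D X, LocSP R → AffineHomBC.Good h φV ψV hc
      ((rho V.ι).obj ((DCoh.Rpush f).obj R)) ((rho V.ι).obj K.obj))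
    {W : X.Opens} (hW : IsAffineOpen W) (hWV : W ≤ f ⁻¹ᵁ (V.ι ''ᵁ ⊤))
    (hW' : IsAffineOpen (g' ⁻¹ᵁ W ⊓ f' ⁻¹ᵁ (V'.ι ''ᵁ ⊤)))
    (hBC : FlatBC.IsBC (FlatBC.dA hw hle₁ halg W hWV)) (k : ℤ) :
    Function.Bijective (fun t : pt (g' ⁻¹ᵁ W ⊓ f' ⁻¹ᵁ (V'.ι ''ᵁ ⊤)) k ⟶
        (pullD g').obj (a.obj (RALocal.jObj V hj (ZObj V K))).obj =>
      t ≫ (tau adj adj' bcI (hj := hj) (hj' := hj') adjV adjV' h c K).hom) := by
  let D := FlatBC.dA hw hle₁ halg W hWV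
  let W' : X'.Opens := g' ⁻¹ᵁ W ⊓ f' ⁻¹ᵁ (V'.ι ''ᵁ ⊤)
  let U := f ⁻¹ᵁ V
  let U' := f' ⁻¹ᵁ V'
  haveI := hasRpush_scheme U.ι
  haveI := hasRpush_scheme U'.ι
  obtain ⟨adjU⟩ := nonempty_rho_adj U.ι
  obtain ⟨adjU'⟩ := nonempty_rho_adj U'.ι
  haveI := hasLpull g'
  obtain ⟨A₀⟩ := nonempty_lpull_rpush_adj g'
  let A' : pullD g' ⊣ DCoh.Rpush g' := A₀.ofNatIsoLeft (lpullPullIso g')
  let Z := ZObj V K
  let M := MObj h K
  let Ea := a.obj (RALocal.jObj V hj Z)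
  let Eb := a'.obj (RALocal.jObj V' hj' M)
  let T := tau adj adj' bcI (hj := hj) (hj' := hj') adjV adjV' h c K
  let ι₀ := iota g' (W := W) (W' := W') inf_le_left k
  haveI := RALocal.isIso_unit f' V' (hj := hj') adjV' adj' M adjU'
  haveI := rpush_additive g'
  -- scalars
  let mB : Γ(Y', V'.ι ''ᵁ ⊤) → (M ⟶ M) := fun b => ObjectProperty.homMk (mu (ψV b) M.obj)
  let βB : Γ(Y', V'.ι ''ᵁ ⊤) → (Eb.obj ⟶ Eb.obj) := fun b =>
    (a'.map ((DCoh.RpushQ V'.ι hj').map (mB b))).hom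
  let sB : Γ(Y', V'.ι ''ᵁ ⊤) → (pt W' k ⟶ pt W' k) := fun b => ptMul k (D.ψ b)
  have hsB : ∀ b (χ : pt W' k ⟶ Eb.obj), χ ≫ βB b = sB b ≫ χ := fun b χ =>
    RALocal.comp_map_a f' V' (hj := hj') adjV' adj' M adjU' (ψV b) (mB b) rfl (sB b)
      (RALocal.rho_ptMul U'.ι k (D.ψ b) _ (by
        rw [hψV]
        exact res_appTop f' V' W' inf_le_right b)) χ
  have hι : IsIso ((rho U'.ι).map ι₀) := isIso_rho_iota g' inf_le_left U'.ι (by
    apply Opens.ext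
    ext x
    change g'.base (U'.ι.base x) ∈ W ↔
      g'.base (U'.ι.base x) ∈ W ∧ f'.base (U'.ι.base x) ∈ (V'.ι ''ᵁ ⊤ : Y'.Opens)
    rw [Scheme.Opens.ι_image_top]
    exact ⟨fun hx => ⟨hx, x.2⟩, fun hx => hx.1⟩) k
  -- `t ↦ ι ≫ t^♭` is bijective
  have hpre : Function.Bijective (fun z : (pullD g').obj (pt W k) ⟶ Eb.obj => ι₀ ≫ z) := by
    haveI := hι
    refine ⟨fun x y hxy => RALocal.rho_map_injective _ adjU' ?_, fun y => ?_⟩
    · have := congrArg (rho U'.ι).map hxy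
      simp only [Functor.map_comp] at this
      exact (cancel_epi _).1 this
    · obtain ⟨z, hz⟩ := RALocal.rho_map_surjective _ adjU' (inv ((rho U'.ι).map ι₀) ≫ (rho U'.ι).map y)
      refine ⟨z, RALocal.rho_map_injective _ adjU' ?_⟩
      change (rho U'.ι).map (ι₀ ≫ z) = _
      rw [Functor.map_comp, hz, IsIso.hom_inv_id_assoc]
  have hq : DCoh.IsQCohD Ea.obj := Ea.property
  have hN : DCoh.IsQCohD ((DCoh.Rpush g').obj Eb.obj) := by
    haveI : HasInjectiveResolutions X'.Modules := hasInjectiveResolutions_modules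
    exact isQCohD_rpush g' Eb.property
  -- the transpose, on a combination
  have hT : ∀ (R : DCoh.DQCoh X) (J : Type u) [Fintype J] (b : J → Γ(Y', V'.ι ''ᵁ ⊤))
      (φ : J → ((rho V.ι).obj ((DCoh.Rpush f).obj R.obj) ⟶ Z.obj)),
      tEquiv adj' bcI (hj' := hj') adjV' h c R M
        (∑ i, (LQ g').map (phiEquiv adj (hj := hj) adjV R Z (φ i)) ≫ T ≫
          a'.map ((DCoh.RpushQ V'.ι hj').map (mB (b i)))) =
        ∑ i, ψV (b i) • (pullD h).map (φ i) := by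
    intro R J _ b φ
    let te := AddMonoidHom.mk' (tEquiv adj' bcI (hj' := hj') adjV' h c R M)
      (tEquiv_add adj' bcI adjV' h c R M)
    change te _ = _
    rw [map_sum]
    refine Finset.sum_congr rfl fun i _ => ?_
    change tEquiv adj' bcI (hj' := hj') adjV' h c R M _ = _
    rw [← Category.assoc, tEquiv_comp, tEquiv_tau]
    simp [mB, mu]
  -- the sum, on `pt W' k`
  have hsum : ∀ (R : DCoh.DQCoh X) (i₀ : pt W k ⟶ R.obj) (J : Type u) [Fintype J]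
      (b : J → Γ(Y', V'.ι ''ᵁ ⊤)) (ψ : J → (R ⟶ Ea)),
      ι₀ ≫ (pullD g').map i₀ ≫
          (∑ i, (LQ g').map (ψ i) ≫ T ≫ a'.map ((DCoh.RpushQ V'.ι hj').map (mB (b i)))).hom =
        (∑ i, sB (b i) ≫ ι₀ ≫ (pullD g').map (i₀ ≫ (ψ i).hom)) ≫ T.hom := by
    intro R i₀ J _ b ψ
    have e : (∑ i, (LQ g').map (ψ i) ≫ T ≫ a'.map ((DCoh.RpushQ V'.ι hj').map (mB (b i)))).hom =
        ∑ i, ((pullD g').map (ψ i).hom ≫ T.hom ≫ βB (b i)) :=
      map_sum (ObjectProperty.ι DCoh.IsQCohD).mapAddHom _ _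
    rw [e, Preadditive.comp_sum, Preadditive.comp_sum, Preadditive.sum_comp]
    refine Finset.sum_congr rfl fun i _ => ?_
    have := hsB (b i) (ι₀ ≫ (pullD g').map i₀ ≫ (pullD g').map (ψ i).hom ≫ T.hom)
    simp only [Category.assoc] at this
    rw [this, Functor.map_comp]
    simp only [Category.assoc]
  refine ⟨?_, fun y => ?_⟩
  · intro x₁ x₂ h12
    rw [← sub_eq_zero]
    have h0 : (x₁ - x₂) ≫ T.hom = 0 := by
      rw [Preadditive.sub_comp]; exact sub_eq_zero.2 h12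
    obtain ⟨J, hJ, b, t, hx⟩ := exists_eq_sum D hBC hW hW' k hq (x₁ - x₂)
    rw [hx] at h0 ⊢
    obtain ⟨R, i₀, β, hR, hβ⟩ := exists_lift_pt_family hW k hq t
    let RQ : DCoh.DQCoh X := ⟨R, AffineLift.isQCohD_of_locSP hR⟩
    let ψ : J → (RQ ⟶ Ea) := fun i => ObjectProperty.homMk (β i)
    let χ := ∑ i, (LQ g').map (ψ i) ≫ T ≫ a'.map ((DCoh.RpushQ V'.ι hj').map (mB (b i)))
    have hz : ι₀ ≫ (pullD g').map i₀ ≫ χ.hom = 0 := by
      rw [hsum RQ i₀ J b ψ]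
      refine Eq.trans ?_ h0
      congr 1
      exact Finset.sum_congr rfl fun i _ =>
        congrArg (fun z => sB (b i) ≫ ι₀ ≫ (pullD g').map z) (hβ i)
    have hi : i₀ ≫ A'.homEquiv _ _ χ.hom = 0 := by
      rw [← A'.homEquiv_naturality_left]
      have := hpre.1 (a₁ := (pullD g').map i₀ ≫ χ.hom) (a₂ := 0) (hz.trans comp_zero.symm)
      rw [this, A'.homEquiv_unit, Functor.map_zero, comp_zero]
    obtain ⟨R', i', γ, hR', hγi, hγ⟩ := exists_kill hW k RQ.property hN i₀ _ hi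
    let RQ' : DCoh.DQCoh X := ⟨R', AffineLift.isQCohD_of_locSP hR'⟩
    let γQ : RQ' ⟶ RQ := ObjectProperty.homMk γ
    let φ : J → ((rho V.ι).obj ((DCoh.Rpush f).obj R') ⟶ Z.obj) := fun i =>
      (phiEquiv adj (hj := hj) adjV RQ' Z).symm (γQ ≫ ψ i)
    have hχ0 : (LQ g').map γQ ≫ χ = 0 := by
      apply ObjectProperty.hom_ext
      change (pullD g').map γ ≫ χ.hom = 0
      refine (A'.homEquiv _ _).injective ?_
      rw [A'.homEquiv_naturality_left, hγ, A'.homEquiv_unit, Functor.map_zero, comp_zero]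
    have hrel : ∑ i, ψV (b i) • (pullD h).map (φ i) = 0 := by
      rw [← hT RQ' J b φ]
      have e : ∑ i, (LQ g').map (phiEquiv adj (hj := hj) adjV RQ' Z (φ i)) ≫ T ≫
          a'.map ((DCoh.RpushQ V'.ι hj').map (mB (b i))) = (LQ g').map γQ ≫ χ := by
        rw [Preadditive.comp_sum]
        refine Finset.sum_congr rfl fun i _ => ?_
        rw [Equiv.apply_symm_apply, Functor.map_comp, Category.assoc]
      rw [e, hχ0]
      exact (AddMonoidHom.mk' (tEquiv adj' bcI (hj' := hj') adjV' h c RQ' M)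
        (tEquiv_add adj' bcI adjV' h c RQ' M)).map_zero
    -- the relation descends
    let Hφ : J → AffineHomBC.HomR φV ((rho V.ι).obj ((DCoh.Rpush f).obj R')) ((rho V.ι).obj K.obj) :=
      fun i => φ i
    have hz0 : ∑ i, b i ⊗ₜ[Γ(Y, V.ι ''ᵁ ⊤)] Hφ i = 0 := by
      refine (hΨ R' hR').1 ?_
      rw [map_zero, map_sum]
      exact (Finset.sum_congr rfl fun i _ => LinearMap.liftBaseChange_tmul _ _ _ _).trans hrel
    let Λ : AffineHomBC.HomR φV ((rho V.ι).obj ((DCoh.Rpush f).obj R')) ((rho V.ι).obj K.obj) →ₗ[Γ(Y, V.ι ''ᵁ ⊤)]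
        FlatBC.RSec D.φ (DCoh.HD Ea.obj k) :=
      { toFun := fun φ₀ => (el (i' ≫ (phiEquiv adj (hj := hj) adjV RQ' Z φ₀).hom) : Γ(DCoh.HD Ea.obj k, W))
        map_add' := fun x y => by
          rw [show (phiEquiv adj (hj := hj) adjV RQ' Z (x + y)).hom = _ from phiEquiv_add adj adjV RQ' Z x y,
            Preadditive.comp_add]
          exact el_add _ _
        map_smul' := fun r φ₀ => by
          let φ₁ : (rho V.ι).obj ((DCoh.Rpush f).obj R') ⟶ Z.obj := φ₀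
          let m : Z ⟶ Z := ObjectProperty.homMk (mu (φV r) Z.obj)
          have e1 : (φV r • φ₁) = φ₁ ≫ m.hom := by simp [m, mu]
          change el (i' ≫ (phiEquiv adj (hj := hj) adjV RQ' Z (φV r • φ₁)).hom) =
            (show Γ(X, W) from D.φ r) • el (i' ≫ (phiEquiv adj (hj := hj) adjV RQ' Z φ₁).hom)
          rw [e1, phiEquiv_comp, ← el_ptMul]
          congr 1
          refine (Category.assoc _ _ _).symm.trans ?_
          exact RALocal.comp_map_a f V (hj := hj) adjV adj Z adjU (φV r) m rfl (ptMul k (D.φ r))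
            (RALocal.rho_ptMul U.ι k (D.φ r) _ (by
              rw [hφV]
              exact res_appTop f V W hWV r)) _ }
    have hΛ : ∀ i, Λ (Hφ i) = (show FlatBC.RSec D.φ (DCoh.HD Ea.obj k) from el (t i)) := fun i => by
      change el (i' ≫ (phiEquiv adj (hj := hj) adjV RQ' Z (φ i)).hom) = el (t i)
      congr 1
      rw [show phiEquiv adj (hj := hj) adjV RQ' Z (φ i) = γQ ≫ ψ i from Equiv.apply_symm_apply _ _]
      change i' ≫ γ ≫ β i = t i
      rw [← Category.assoc, hγi, hβ i]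
    refine sum_eq_zero D hW' k hq b t ?_
    have := congrArg (Λ.baseChange Γ(Y', V'.ι ''ᵁ ⊤)) hz0
    rw [map_zero, map_sum] at this
    refine Eq.trans (Finset.sum_congr rfl fun i _ => ?_) this
    rw [LinearMap.baseChange_tmul, hΛ]
  · obtain ⟨z, hz⟩ := hpre.2 y
    obtain ⟨R, i₀, β, hR, hβ⟩ := exists_lift_pt hW k hN (A'.homEquiv _ _ z)
    let RQ : DCoh.DQCoh X := ⟨R, AffineLift.isQCohD_of_locSP hR⟩
    let χ : (LQ g').obj RQ ⟶ Eb := ObjectProperty.homMk ((A'.homEquiv _ _).symm β)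
    have hy : ι₀ ≫ (pullD g').map i₀ ≫ χ.hom = y := by
      change ι₀ ≫ (pullD g').map i₀ ≫ (A'.homEquiv _ _).symm β = y
      rw [← A'.homEquiv_naturality_left_symm, hβ, Equiv.symm_apply_apply]
      exact hz
    obtain ⟨w, hw'⟩ := (hΨ R hR).2 (tEquiv adj' bcI (hj' := hj') adjV' h c RQ M χ)
    obtain ⟨S, hS⟩ := TensorProduct.exists_finset w
    let J : Type u := ULift.{u} (Fin (Fintype.card S))
    let e : J ≃ S := Equiv.ulift.trans (Fintype.equivFin S).symm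
    let φ : J → ((rho V.ι).obj ((DCoh.Rpush f).obj R) ⟶ Z.obj) := fun i => (e i).1.2
    let b : J → Γ(Y', V'.ι ''ᵁ ⊤) := fun i => (e i).1.1
    have hχ : χ = ∑ i, (LQ g').map (phiEquiv adj (hj := hj) adjV RQ Z (φ i)) ≫ T ≫
        a'.map ((DCoh.RpushQ V'.ι hj').map (mB (b i))) := by
      refine (tEquiv adj' bcI (hj' := hj') adjV' h c RQ M).injective ?_
      rw [hT RQ J b φ, ← hw', hS, map_sum, ← Finset.sum_coe_sort, ← e.sum_comp]
      exact Finset.sum_congr rfl fun i _ =>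
        LinearMap.liftBaseChange_tmul _ (AffineHomBC.theta h φV ψV hc _ _) (e i).1.1 (e i).1.2
    refine ⟨∑ i, sB (b i) ≫ ι₀ ≫
      (pullD g').map (i₀ ≫ (phiEquiv adj (hj := hj) adjV RQ Z (φ i)).hom), ?_⟩
    refine Eq.trans ?_ hy
    rw [hχ]
    exact (hsum RQ i₀ J b (fun i => phiEquiv adj (hj := hj) adjV RQ Z (φ i))).symm

end Core

end Groth.Agent.KFlatLib.BCLoc
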