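import Mathlib.AlgebraicGeometry.Morphisms.QuasiSeparated

/-!
# Induction over quasi-compact opens of a quasi-separated scheme
-/

universe u

open CategoryTheory AlgebraicGeometry TopologicalSpace

namespace Groth.Agent.KFlatLib

variable {X : Scheme.{u}} [QuasiSeparatedSpace X] (P : X.Opens → Prop)
  (hA : ∀ U : X.Opens, IsAffineOpen U → P U)
  (hU : ∀ U V : X.Opens, IsCompact (U : Set X) → IsCompact (V : Set X) →
    P U → P V → P (U ⊓ V) → P (U ⊔ V))

include hA hU in
/-- Opens covered by `n` basic opens of one affine open. -/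
lemma qc_induction_affine {V : X.Opens} (hV : IsAffineOpen V) :
    ∀ (n : ℕ) (l : List Γ(X, V)), l.length = n → P ((l.map X.basicOpen).foldr (· ⊔ ·) ⊥) ∧
      IsCompact ((((l.map X.basicOpen).foldr (· ⊔ ·) ⊥ : X.Opens)) : Set X) := by
  intro n
  induction n with
  | zero =>
    intro l hl
    rw [List.length_eq_zero_iff.1 hl]
    refine ⟨hA _ ?_, by simp⟩
    rw [List.map_nil, List.foldr_nil, ← X.basicOpen_zero V]
    exact hV.basicOpen 0
  | succ n ih =>
    intro l hl
    obtain ⟨f, l', rfl⟩ := List.exists_cons_of_length_eq_add_one hl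
    have hl' : l'.length = n := by simpa using hl
    obtain ⟨h1, h2⟩ := ih l' hl'
    have hf := hV.basicOpen f
    obtain ⟨h3, -⟩ := ih (l'.map (f * ·)) (by simpa using hl')
    have hinf : ∀ m : List Γ(X, V), ((m.map (f * ·)).map X.basicOpen).foldr (· ⊔ ·) ⊥ =
        X.basicOpen f ⊓ (m.map X.basicOpen).foldr (· ⊔ ·) ⊥ := by
      intro m
      induction m with
      | nil => simp
      | cons a m ihm => simp only [List.map_cons, List.foldr_cons, ihm, inf_sup_left, X.basicOpen_mul]
    rw [hinf] at h3
    simp only [List.map_cons, List.foldr_cons]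
    refine ⟨hU _ _ hf.isCompact h2 (hA _ hf) h1 h3, ?_⟩
    rw [Opens.coe_sup]
    exact hf.isCompact.union h2

include hA hU in
/-- A property of affine opens stable under Mayer-Vietoris holds for all quasi-compact opens. -/
theorem qc_induction (W : X.Opens) (hW : IsCompact (W : Set X)) : P W := by
  classical
  have hsub : ∀ {V W' : X.Opens}, IsAffineOpen V → IsCompact (W' : Set X) → W' ≤ V → P W' := by
    intro V W' hV hW' hle
    have hex : ∀ x : W', ∃ f : Γ(X, V), X.basicOpen f ≤ W' ∧ (x : X) ∈ X.basicOpen f := fun x =>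
      hV.exists_basicOpen_le x (hle x.2)
    choose f hf hxf using hex
    obtain ⟨t, ht⟩ := hW'.elim_finite_subcover (fun x : W' => (X.basicOpen (f x) : Set X))
      (fun x => (X.basicOpen (f x)).2) fun x hx => Set.mem_iUnion.2 ⟨⟨x, hx⟩, hxf ⟨x, hx⟩⟩
    have he : ∀ (m : List W'), ((m.map f).map X.basicOpen).foldr (· ⊔ ·) ⊥ ≤ W' := by
      intro m
      induction m with
      | nil => exact bot_le
      | cons a m ih => exact sup_le (hf a) ih
    have heq : ((t.toList.map f).map X.basicOpen).foldr (· ⊔ ·) ⊥ = W' := by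
      refine le_antisymm (he _) fun x hx => ?_
      obtain ⟨y, hy, hxy⟩ := Set.mem_iUnion₂.1 (ht hx)
      have hm : ∀ (m : List W'), y ∈ m → x ∈ ((m.map f).map X.basicOpen).foldr (· ⊔ ·) ⊥ := by
        intro m
        induction m with
        | nil => exact fun h => absurd h List.not_mem_nil
        | cons a m ih =>
          intro h
          rcases List.mem_cons.1 h with rfl | h
          · exact Opens.mem_sup.2 (Or.inl hxy)
          · exact Opens.mem_sup.2 (Or.inr (ih h))
      exact hm _ (Finset.mem_toList.2 hy)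
    rw [← heq]
    exact (qc_induction_affine P hA hU hV _ _ rfl).1
  refine compact_open_induction_on W hW ?_ fun S hS U ih => ?_
  · have hb : IsAffineOpen (⊥ : X.Opens) := isAffineOpen_bot X
    exact hA _ hb
  · exact hU S U.1 hS U.2.isCompact ih (hA _ U.2)
      (hsub U.2 (QuasiSeparatedSpace.inter_isCompact _ _ S.2 hS U.1.2 U.2.isCompact) inf_le_right)

end Groth.Agent.KFlatLib
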