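import Groth.Agent.KFlatLib.Scheme.FlatBCSec
import Groth.Agent.KFlatLib.Scheme.FlatDescent
import Groth.Agent.KFlatLib.Scheme.QcInduction
import Groth.Agent.QCoh.ClosedPush
import Mathlib.AlgebraicGeometry.Morphisms.Flat

/-!
# Flat base change of direct images, on the level of complexes
-/

set_option linter.style.haveILetI false
set_option backward.isDefEq.respectTransparency false
set_option backward.isDefEq.respectTransparency.types false

universe u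

open CategoryTheory CategoryTheory.Limits AlgebraicGeometry TopologicalSpace Opposite
open scoped TensorProduct

namespace Groth.Agent.KFlatLib.FlatBC

open Groth.Agent.QCoh

section Alg

variable {A B : Type u} [CommRing A] [CommRing B] [Algebra A B]

lemma baseChange_comm {M M₁ M₂ N : Type u} [AddCommGroup M] [Module A M] [AddCommGroup M₁]
    [Module A M₁] [AddCommGroup M₂] [Module A M₂] [AddCommGroup N] [Module A N]
    (f₁ : M →ₗ[A] M₁) (f₂ : M₁ →ₗ[A] N) (g₁ : M →ₗ[A] M₂) (g₂ : M₂ →ₗ[A] N)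
    (h : ∀ x, f₂ (f₁ x) = g₂ (g₁ x)) (z : B ⊗[A] M) :
    f₂.baseChange B (f₁.baseChange B z) = g₂.baseChange B (g₁.baseChange B z) := by
  induction z using TensorProduct.induction_on with
  | zero => simp
  | tmul b x => simp [h]
  | add p q hp hq => simp only [map_add, hp, hq]

/-- A Mayer-Vietoris sequence stays exact after a flat base change. -/
theorem baseChange_mv [Module.Flat A B] {M M₁ M₂ M₃ : Type u} [AddCommGroup M] [Module A M]
    [AddCommGroup M₁] [Module A M₁] [AddCommGroup M₂] [Module A M₂] [AddCommGroup M₃] [Module A M₃]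
    (r₁ : M →ₗ[A] M₁) (r₂ : M →ₗ[A] M₂) (s₁ : M₁ →ₗ[A] M₃) (s₂ : M₂ →ₗ[A] M₃)
    (hr : ∀ x, r₁ x = 0 → r₂ x = 0 → x = 0) (hcr : ∀ x, s₁ (r₁ x) = s₂ (r₂ x))
    (hex : ∀ a b, s₁ a = s₂ b → ∃ x, r₁ x = a ∧ r₂ x = b) (hs : Function.Surjective s₁) :
    Function.Injective ((r₁.baseChange B).prod (r₂.baseChange B)) ∧
    Function.Exact ((r₁.baseChange B).prod (r₂.baseChange B))
      ((s₁.baseChange B).comp (LinearMap.fst B (B ⊗[A] M₁) (B ⊗[A] M₂)) -
        (s₂.baseChange B).comp (LinearMap.snd B (B ⊗[A] M₁) (B ⊗[A] M₂))) ∧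
    Function.Surjective
      ((s₁.baseChange B).comp (LinearMap.fst B (B ⊗[A] M₁) (B ⊗[A] M₂)) -
        (s₂.baseChange B).comp (LinearMap.snd B (B ⊗[A] M₁) (B ⊗[A] M₂))) := by
  let R : M →ₗ[A] M₁ × M₂ := r₁.prod r₂
  let D : M₁ × M₂ →ₗ[A] M₃ := s₁.comp (LinearMap.fst A M₁ M₂) - s₂.comp (LinearMap.snd A M₁ M₂)
  have hR : Function.Injective R := (injective_iff_map_eq_zero _).2 fun x hx =>
    hr x (congrArg Prod.fst hx) (congrArg Prod.snd hx)
  have hexR : Function.Exact R D := fun p => by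
    refine ⟨fun hp => ?_, ?_⟩
    · obtain ⟨x, hx₁, hx₂⟩ := hex p.1 p.2 (sub_eq_zero.1 hp)
      exact ⟨x, Prod.ext hx₁ hx₂⟩
    · rintro ⟨x, rfl⟩
      exact sub_eq_zero.2 (hcr x)
  let e := TensorProduct.prodRight A A B M₁ M₂
  have ke : ∀ w, e (R.lTensor B w) = ((r₁.baseChange B).prod (r₂.baseChange B)) w := fun w => by
    induction w using TensorProduct.induction_on with
    | zero => simp only [map_zero]
    | tmul b m => rfl
    | add a b ha hb => simp only [map_add, ha, hb]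
  have kd : ∀ p, D.lTensor B p =
      ((s₁.baseChange B).comp (LinearMap.fst B (B ⊗[A] M₁) (B ⊗[A] M₂)) -
        (s₂.baseChange B).comp (LinearMap.snd B (B ⊗[A] M₁) (B ⊗[A] M₂)))
        (e p) := fun p => by
    induction p using TensorProduct.induction_on with
    | zero => simp
    | tmul b m => simp [D, e, TensorProduct.tmul_sub]
    | add a b ha hb => simp only [map_add, ha, hb]
  refine ⟨fun a b h => ?_, fun p => ?_, fun y => ?_⟩
  · rw [← ke, ← ke] at h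
    exact Module.Flat.lTensor_preserves_injective_linearMap (M := B) R hR (e.injective h)
  · obtain ⟨p, rfl⟩ := e.surjective p
    rw [← kd]
    constructor
    · intro h
      obtain ⟨w, hw⟩ := (Module.Flat.lTensor_exact B hexR p).1 h
      exact ⟨w, by rw [← ke, hw]⟩
    · rintro ⟨w, hw⟩
      rw [← ke] at hw
      rw [← e.injective hw]
      exact (Module.Flat.lTensor_exact B hexR _).2 ⟨w, rfl⟩
  · obtain ⟨z, hz⟩ := LinearMap.lTensor_surjective B hs y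
    refine ⟨(z, 0), ?_⟩
    change s₁.baseChange B z - s₂.baseChange B 0 = y
    rw [map_zero, sub_zero, LinearMap.baseChange_eq_ltensor, hz]

variable {P P' Q Q' : ℤ → Type u} [∀ n, AddCommGroup (P n)] [∀ n, Module B (P n)]
  [∀ n, AddCommGroup (P' n)] [∀ n, Module B (P' n)] [∀ n, AddCommGroup (Q n)] [∀ n, Module B (Q n)]
  [∀ n, AddCommGroup (Q' n)] [∀ n, Module B (Q' n)]
  (dP : ∀ n, P n →ₗ[B] P (n + 1)) (dP' : ∀ n, P' n →ₗ[B] P' (n + 1)) (ψ : ∀ n, P n →ₗ[B] P' n)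
  (dQ : ∀ n, Q n →ₗ[B] Q (n + 1)) (dQ' : ∀ n, Q' n →ₗ[B] Q' (n + 1)) (χ : ∀ n, Q n →ₗ[B] Q' n)

omit [Algebra A B] in
theorem secQI_prod (h₁ : SecQI dP dP' ψ) (h₂ : SecQI dQ dQ' χ) :
    SecQI (A := fun n => P n × Q n) (A' := fun n => P' n × Q' n)
      (fun n => (dP n).prodMap (dQ n)) (fun n => (dP' n).prodMap (dQ' n))
      (fun n => (ψ n).prodMap (χ n)) := by
  refine ⟨fun n y hy => ?_, fun n z w' hz hw' => ?_⟩
  · obtain ⟨z₁, w₁, hz₁, hy₁⟩ := h₁.1 n y.1 (congrArg Prod.fst hy)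
    obtain ⟨z₂, w₂, hz₂, hy₂⟩ := h₂.1 n y.2 (congrArg Prod.snd hy)
    exact ⟨(z₁, z₂), (w₁, w₂), Prod.ext hz₁ hz₂, Prod.ext hy₁ hy₂⟩
  · obtain ⟨w₁, hw₁⟩ := h₁.2 n z.1 w'.1 (congrArg Prod.fst hz) (congrArg Prod.fst hw')
    obtain ⟨w₂, hw₂⟩ := h₂.2 n z.2 w'.2 (congrArg Prod.snd hz) (congrArg Prod.snd hw')
    exact ⟨(w₁, w₂), Prod.ext hw₁ hw₂⟩

omit [Algebra A B] in
/-- Transport of `SecQI` along bijections. -/
theorem secQI_of_equiv (e : ∀ n, P n →ₗ[B] Q n) (e' : ∀ n, P' n →ₗ[B] Q' n)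
    (he : ∀ n, Function.Bijective (e n)) (he' : ∀ n, Function.Bijective (e' n))
    (hd : ∀ n x, e (n + 1) (dP n x) = dQ n (e n x)) (hd' : ∀ n x, e' (n + 1) (dP' n x) = dQ' n (e' n x))
    (hψ : ∀ n x, e' n (ψ n x) = χ n (e n x)) (h : SecQI dP dP' ψ) : SecQI dQ dQ' χ := by
  refine ⟨fun n y hy => ?_, fun n z w' hz hw' => ?_⟩
  · obtain ⟨y, rfl⟩ := (he' _).2 y
    obtain ⟨z, w, hz, hy'⟩ := h.1 n y ((he' _).1 (by rw [hd', hy, map_zero]))
    exact ⟨e _ z, e' _ w, by rw [← hd, hz, map_zero], by rw [hy', map_add, hψ, hd']⟩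
  · obtain ⟨z, rfl⟩ := (he _).2 z
    obtain ⟨w', rfl⟩ := (he' _).2 w'
    obtain ⟨w, hw⟩ := h.2 n z w' ((he _).1 (by rw [hd, hz, map_zero]))
      ((he' _).1 (by rw [hψ, hw', hd']))
    exact ⟨e _ w, by rw [← hd, hw]⟩

end Alg

variable {X X' S S' : Scheme.{u}}

/-- The map on cohomology sheaves of a map out of the pullback of a complex. -/
theorem exists_xi (u : X' ⟶ X) [Flat u] {C : CochainComplex X.Modules ℤ}
    {D : CochainComplex X'.Modules ℤ} (χ : (pullCx u).obj C ⟶ D) (n : ℤ) :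
    ∃ (ζ : (Scheme.Modules.pullback u).obj (C.cycles n) ⟶ D.cycles n)
      (ξ : (Scheme.Modules.pullback u).obj (C.homology n) ⟶ D.homology n),
      ζ ≫ D.iCycles n = (Scheme.Modules.pullback u).map (C.iCycles n) ≫ χ.f n ∧
      (Scheme.Modules.pullback u).map (C.homologyπ n) ≫ ξ = ζ ≫ D.homologyπ n ∧
      (IsIso ξ ↔ QuasiIsoAt χ n) := by
  haveI := preservesHomology_pullback u
  let F := Scheme.Modules.pullback u
  let T := C.sc n
  refine ⟨(T.mapCyclesIso F).inv ≫ HomologicalComplex.cyclesMap χ n,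
    (T.mapHomologyIso F).inv ≫ HomologicalComplex.homologyMap χ n, ?_, ?_, ?_⟩
  · rw [Category.assoc, HomologicalComplex.cyclesMap_i, ← Category.assoc]
    refine congrArg (· ≫ χ.f n) ((Iso.inv_comp_eq _).2 ?_)
    exact (ShortComplex.mapCyclesIso_hom_iCycles T F).symm
  · rw [Category.assoc, ← HomologicalComplex.homologyπ_naturality, ← Category.assoc, ← Category.assoc]
    refine congrArg (· ≫ HomologicalComplex.homologyMap χ n) ?_
    rw [Iso.comp_inv_eq, Category.assoc, eq_comm, Iso.inv_comp_eq]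
    change (T.map F).homologyπ ≫ _ = _ ≫ F.map T.homologyπ
    rw [T.leftHomologyData.mapHomologyIso_eq F, Iso.trans_hom, ← Category.assoc,
      ShortComplex.LeftHomologyData.homologyπ_comp_homologyIso_hom, Category.assoc]
    refine congrArg _ ?_
    rw [ShortComplex.LeftHomologyData.map_π, Functor.mapIso_hom, ← F.map_comp, Iso.symm_hom,
      ShortComplex.LeftHomologyData.π_comp_homologyIso_inv]
    refine congrArg F.map ?_
    have : T.leftHomologyData.cyclesIso.inv = 𝟙 _ := by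
      rw [← cancel_mono T.iCycles, ShortComplex.LeftHomologyData.cyclesIso_inv_comp_iCycles, Category.id_comp]
      rfl
    rw [this, Category.id_comp]
  · rw [quasiIsoAt_iff_isIso_homologyMap]
    exact ⟨fun h => IsIso.of_isIso_comp_left (T.mapHomologyIso F).inv _, fun h => inferInstance⟩

/-- Cohomology sheaves of a complex with quasi-coherent cohomology. -/
lemma isQCoh_homology_of_isQCohD {C : CochainComplex X.Modules ℤ}
    [HasDerivedCategory.{u + 1} X.Modules]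
    (h : ∀ i, Coh.IsQCoh ((DerivedCategory.homologyFunctor X.Modules i).obj (DerivedCategory.Q.obj C)))
    (i : ℤ) : Coh.IsQCoh (C.homology i) :=
  isQCoh_of_iso ((DerivedCategory.homologyFunctorFactors X.Modules i).app C) (h i)

variable {f : X ⟶ S} {g : S' ⟶ S} {g' : X' ⟶ X} {f' : X' ⟶ S'} (hw : g' ≫ f = f' ≫ g)
  {V : S.Opens} {W₀ : S'.Opens} (hle : W₀ ≤ g ⁻¹ᵁ V) [Algebra Γ(S, V) Γ(S', W₀)]
  (halg : ∀ a, algebraMap Γ(S, V) Γ(S', W₀) a = g.appLE V W₀ hle a)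

/-- The base change datum over an open of `X`. -/
def dA (O : X.Opens) (hO : O ≤ f ⁻¹ᵁ V) : Datum Γ(S, V) Γ(S', W₀) g' where
  W := O
  W' := g' ⁻¹ᵁ O ⊓ f' ⁻¹ᵁ W₀
  hle := inf_le_left
  φ := (f.appLE V O hO).hom
  ψ := (f'.appLE W₀ (g' ⁻¹ᵁ O ⊓ f' ⁻¹ᵁ W₀) inf_le_right).hom
  compat a := by
    rw [halg, ← CommRingCat.comp_apply, ← CommRingCat.comp_apply, Scheme.Hom.appLE_comp_appLE,
      Scheme.Hom.appLE_comp_appLE]
    simp only [hw]

/-- The base change datum over an open of `S`. -/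
def dG : Datum Γ(S, V) Γ(S', W₀) g where
  W := V
  W' := W₀
  hle := hle
  φ := RingHom.id _
  ψ := RingHom.id _
  compat a := (halg a).symm

lemma isBC_dG (hV : IsAffineOpen V) (hW₀ : IsAffineOpen W₀) : IsBC (dG hle halg) := by
  intro M hM
  letI : Module Γ(S, V) Γ((Scheme.Modules.pullback g).obj M, W₀) :=
    Module.compHom _ (algebraMap Γ(S, V) Γ(S', W₀))
  haveI : IsScalarTower Γ(S, V) Γ(S', W₀) Γ((Scheme.Modules.pullback g).obj M, W₀) :=
    .of_algebraMap_smul fun _ _ => rfl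
  let l₀ : Γ(M, V) →ₗ[Γ(S, V)] Γ((Scheme.Modules.pullback g).obj M, W₀) :=
    { toFun := pullSec g M hle
      map_add' := pullSec_add g M hle
      map_smul' := fun a x => (pullSec_smul g M hle a x).trans
        (congrArg (· • pullSec g M hle x) (halg a).symm) }
  have hb := isBaseChange_pullback hV g hW₀ hM hle halg l₀ fun _ => rfl
  exact hb

lemma isBC_dA (h : IsPullback g' f' f g) (hV : IsAffineOpen V) (hW₀ : IsAffineOpen W₀) {O : X.Opens}
    (hO : O ≤ f ⁻¹ᵁ V) (hOa : IsAffineOpen O) :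
    IsAffineOpen (g' ⁻¹ᵁ O ⊓ f' ⁻¹ᵁ W₀) ∧ IsBC (dA hw hle halg O hO) := by
  let A := Γ(S, V)
  let B := Γ(S', W₀)
  let U' := g' ⁻¹ᵁ O ⊓ f' ⁻¹ᵁ W₀
  have hUY : U' = g' ⁻¹ᵁ O ⊓ f' ⁻¹ᵁ W₀ := rfl
  have hup : IsAffineOpen U' := by
    haveI : IsAffine (O : Scheme.{u}) := hOa
    haveI : IsAffine (V : Scheme.{u}) := hV
    haveI : IsAffine (W₀ : Scheme.{u}) := hW₀
    exact .of_isIso (Scheme.Hom.isPullback_resLE h hle hO hUY).isoPullback.hom
  refine ⟨hup, fun M hM => ?_⟩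
  have hpo := (isIso_pushoutSection_iff h hle hO hUY).1
    (isIso_pushoutSection_of_isAffineOpen h hle hO hUY hV hW₀ hOa)
  let P := (Scheme.Modules.pullback g').obj M
  have hcomm : ∀ a : A, g'.appLE O U' inf_le_left (f.appLE V O hO a) =
      f'.appLE W₀ U' inf_le_right (algebraMap A B a) := (dA hw hle halg O hO).compat
  letI : Algebra A Γ(X, O) := (f.appLE V O hO).hom.toAlgebra
  letI : Algebra B Γ(X', U') := (f'.appLE W₀ U' inf_le_right).hom.toAlgebra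
  letI : Algebra A Γ(X', U') := ((f'.appLE W₀ U' inf_le_right).hom.comp (algebraMap A B)).toAlgebra
  letI : Algebra Γ(X, O) Γ(X', U') := (g'.appLE O U' inf_le_left).hom.toAlgebra
  haveI : IsScalarTower A B Γ(X', U') := .of_algebraMap_eq' rfl
  haveI : IsScalarTower A Γ(X, O) Γ(X', U') := .of_algebraMap_eq fun a => (hcomm a).symm
  haveI : Algebra.IsPushout A B Γ(X, O) Γ(X', U') := by
    have e : CommRingCat.ofHom (algebraMap A B) = g.appLE V W₀ hle := CommRingCat.hom_ext (RingHom.ext halg)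
    have hp := hpo.flip
    rw [← e] at hp
    exact CommRingCat.isPushout_iff_isPushout.mp hp
  letI : Module A Γ(M, O) := Module.compHom _ (f.appLE V O hO).hom
  haveI : IsScalarTower A Γ(X, O) Γ(M, O) := .of_algebraMap_smul fun _ _ => rfl
  letI : Module B Γ(P, U') := Module.compHom _ (f'.appLE W₀ U' inf_le_right).hom
  letI : Module A Γ(P, U') := Module.compHom _ ((f'.appLE W₀ U' inf_le_right).hom.comp (algebraMap A B))
  haveI : IsScalarTower A B Γ(P, U') := .of_algebraMap_smul fun _ _ => rfl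
  haveI : IsScalarTower B Γ(X', U') Γ(P, U') := .of_algebraMap_smul fun _ _ => rfl
  letI : Module Γ(X, O) Γ(P, U') := Module.compHom _ (g'.appLE O U' inf_le_left).hom
  haveI : IsScalarTower Γ(X, O) Γ(X', U') Γ(P, U') := .of_algebraMap_smul fun _ _ => rfl
  let l₀ : Γ(M, O) →ₗ[Γ(X, O)] Γ(P, U') :=
    { toFun := pullSec g' M inf_le_left
      map_add' := pullSec_add g' M inf_le_left
      map_smul' := pullSec_smul g' M inf_le_left }
  let l : Γ(M, O) →ₗ[A] Γ(P, U') :=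
    { toFun := pullSec g' M inf_le_left
      map_add' := pullSec_add g' M inf_le_left
      map_smul' := fun a x => (pullSec_smul g' M inf_le_left _ x).trans
        (congrArg (· • pullSec g' M (inf_le_left : U' ≤ g' ⁻¹ᵁ O) x) (hcomm a)) }
  exact isBaseChange_of_isPushout l₀ (isBaseChange_pullback hOa g' hup hM inf_le_left (fun _ => rfl) l₀
    fun _ => rfl) l fun _ => rfl

variable {I : CochainComplex X.Modules ℤ} {J : CochainComplex X'.Modules ℤ} (s : (pullCx g').obj I ⟶ J)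

include hw hle halg in
/-- The Mayer-Vietoris step. -/
theorem qI_sup [Module.Flat Γ(S, V) Γ(S', W₀)] [∀ n, Injective (I.X n)] [∀ n, Injective (J.X n)]
    (O O₁ O₂ : X.Opens) (hO : O = O₁ ⊔ O₂) (h : O ≤ f ⁻¹ᵁ V) (h₁ : O₁ ≤ f ⁻¹ᵁ V) (h₂ : O₂ ≤ f ⁻¹ᵁ V)
    (q₁ : QI (dA hw hle halg O₁ h₁) s) (q₂ : QI (dA hw hle halg O₂ h₂) s)
    (q₃ : QI (dA hw hle halg (O₁ ⊓ O₂) (inf_le_left.trans h₁)) s) :
    QI (dA hw hle halg O h) s := by
  let h₃ : O₁ ⊓ O₂ ≤ f ⁻¹ᵁ V := inf_le_left.trans h₁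
  let D := dA hw hle halg O h
  let D₁ := dA hw hle halg O₁ h₁
  let D₂ := dA hw hle halg O₂ h₂
  let D₃ := dA hw hle halg (O₁ ⊓ O₂) h₃
  have l₁ : O₁ ≤ O := hO ▸ le_sup_left
  have l₂ : O₂ ≤ O := hO ▸ le_sup_right
  have l₃₁ : O₁ ⊓ O₂ ≤ O₁ := inf_le_left
  have l₃₂ : O₁ ⊓ O₂ ≤ O₂ := inf_le_right
  have up : ∀ {P Q : X.Opens}, P ≤ Q → g' ⁻¹ᵁ P ⊓ f' ⁻¹ᵁ W₀ ≤ g' ⁻¹ᵁ Q ⊓ f' ⁻¹ᵁ W₀ := fun hPQ =>
    inf_le_inf_right _ (g'.preimage_mono hPQ)
  let R : ∀ (P Q : X.Opens) (hP : P ≤ f ⁻¹ᵁ V) (hQ : Q ≤ f ⁻¹ᵁ V), P ≤ Q → ∀ M : X.Modules,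
      RSec (dA hw hle halg Q hQ).φ M →ₗ[Γ(S, V)] RSec (dA hw hle halg P hP).φ M :=
    fun P Q hP hQ hPQ => resR hPQ _ _ fun a => congr($(f.appLE_map hQ (homOfLE hPQ).op) a)
  let T : ∀ (P Q : X.Opens) (hP : P ≤ f ⁻¹ᵁ V) (hQ : Q ≤ f ⁻¹ᵁ V), P ≤ Q → ∀ N : X'.Modules,
      TSec Γ(S, V) (dA hw hle halg Q hQ).ψ N →ₗ[Γ(S', W₀)] TSec Γ(S, V) (dA hw hle halg P hP).ψ N :=
    fun P Q hP hQ hPQ => resT _ (up hPQ) _ _
      fun a => congr($(f'.appLE_map inf_le_right (homOfLE (up hPQ)).op) a)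
  have dR₂ : ∀ (D : Datum Γ(S, V) Γ(S', W₀) g') n z, dR D I (n + 1) (dR D I n z) = 0 := fun D n z => by
    rw [dR, dR, ← baseChange_mapR_comp, HomologicalComplex.d_comp_d, mapR_zero, LinearMap.baseChange_zero]
    rfl
  have dT₂ : ∀ (D : Datum Γ(S, V) Γ(S', W₀) g') n z, dT D J (n + 1) (dT D J n z) = 0 := fun D n z => by
    change (J.d n (n + 1) ≫ J.d (n + 1) (n + 1 + 1)).app D.W' z = _
    rw [HomologicalComplex.d_comp_d]
    rfl
  have cd : ∀ (P Q : X.Opens) (hP : P ≤ f ⁻¹ᵁ V) (hQ : Q ≤ f ⁻¹ᵁ V) (hPQ : P ≤ Q) (n : ℤ) z,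
      (R P Q hP hQ hPQ (I.X (n + 1))).baseChange _ (dR (dA hw hle halg Q hQ) I n z) =
        dR (dA hw hle halg P hP) I n ((R P Q hP hQ hPQ (I.X n)).baseChange _ z) :=
    fun P Q hP hQ hPQ n z => baseChange_comm (mapR (dA hw hle halg Q hQ).φ (I.d n (n + 1)))
      (R P Q hP hQ hPQ (I.X (n + 1))) (R P Q hP hQ hPQ (I.X n))
      (mapR (dA hw hle halg P hP).φ (I.d n (n + 1))) (fun x => (app_rs (I.d n (n + 1)) hPQ x).symm) z
  have cd' : ∀ (P Q : X.Opens) (hP : P ≤ f ⁻¹ᵁ V) (hQ : Q ≤ f ⁻¹ᵁ V) (hPQ : P ≤ Q) (n : ℤ) y,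
      T P Q hP hQ hPQ (J.X (n + 1)) (dT (dA hw hle halg Q hQ) J n y) =
        dT (dA hw hle halg P hP) J n (T P Q hP hQ hPQ (J.X n) y) :=
    fun P Q hP hQ hPQ n y => (app_rs (J.d n (n + 1)) (up hPQ) y).symm
  have cl : ∀ (P Q : X.Opens) (hP : P ≤ f ⁻¹ᵁ V) (hQ : Q ≤ f ⁻¹ᵁ V) (hPQ : P ≤ Q) (n : ℤ) z,
      T P Q hP hQ hPQ (J.X n) (lift (dA hw hle halg Q hQ) (s.f n) z) =
        lift (dA hw hle halg P hP) (s.f n) ((R P Q hP hQ hPQ (I.X n)).baseChange _ z) := by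
    intro P Q hP hQ hPQ n z
    induction z using TensorProduct.induction_on with
    | zero => simp
    | tmul b x =>
      simp only [lift, LinearMap.baseChange_tmul, LinearMap.liftBaseChange_tmul, map_smul]
      refine congrArg (b • ·) ?_
      let M := I.X n
      change rs (J.X n) (up hPQ) ((s.f n).app _ (pullSec g' M inf_le_left x)) =
        (s.f n).app _ (pullSec g' M inf_le_left (rs M hPQ x))
      rw [← app_rs]
      refine congrArg ((s.f n).app _) ?_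
      change rs _ (up hPQ) (rs _ (inf_le_left : g' ⁻¹ᵁ Q ⊓ f' ⁻¹ᵁ W₀ ≤ g' ⁻¹ᵁ Q)
          (((Scheme.Modules.pullbackPushforwardAdjunction g').unit.app M).app Q x)) =
        rs _ (inf_le_left : g' ⁻¹ᵁ P ⊓ f' ⁻¹ᵁ W₀ ≤ g' ⁻¹ᵁ P)
          (((Scheme.Modules.pullbackPushforwardAdjunction g').unit.app M).app P (rs M hPQ x))
      exact ((rs_rs _ _ _).trans (rs_rs (g'.preimage_mono hPQ) _ _).symm).trans
        (congrArg (rs _ inf_le_left)
          (app_rs ((Scheme.Modules.pullbackPushforwardAdjunction g').unit.app M) hPQ x).symm)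
    | add a b ha hb => simp only [map_add, ha, hb]
  have hmv : ∀ n, _ := fun n => baseChange_mv (B := Γ(S', W₀)) (R O₁ O h₁ h l₁ (I.X n)) (R O₂ O h₂ h l₂ (I.X n))
    (R (O₁ ⊓ O₂) O₁ h₃ h₁ l₃₁ (I.X n)) (R (O₁ ⊓ O₂) O₂ h₃ h₂ l₃₂ (I.X n))
    (fun x hx₁ hx₂ => eq_of_sup hO l₁ l₂ x 0 (hx₁.trans (rs_zero l₁).symm) (hx₂.trans (rs_zero l₂).symm))
    (fun x => (rs_rs l₁ l₃₁ x).trans (rs_rs l₂ l₃₂ x).symm)
    (fun a b hab => exists_glue_sup hO l₁ l₂ a b hab)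
    (fun y => (AddCommGrpCat.epi_iff_surjective _).1
      ((isFlasqueMod_of_injective (I.X n)).epi (homOfLE l₃₁).op) y)
  have hup : g' ⁻¹ᵁ O ⊓ f' ⁻¹ᵁ W₀ = (g' ⁻¹ᵁ O₁ ⊓ f' ⁻¹ᵁ W₀) ⊔ (g' ⁻¹ᵁ O₂ ⊓ f' ⁻¹ᵁ W₀) := by
    rw [hO]
    exact TopologicalSpace.Opens.ext (Set.union_inter_distrib_right _ _ _)
  have hup₃ : (g' ⁻¹ᵁ O₁ ⊓ f' ⁻¹ᵁ W₀) ⊓ (g' ⁻¹ᵁ O₂ ⊓ f' ⁻¹ᵁ W₀) ≤ g' ⁻¹ᵁ (O₁ ⊓ O₂) ⊓ f' ⁻¹ᵁ W₀ :=
    fun z hz => ⟨⟨hz.1.1, hz.2.1⟩, hz.1.2⟩
  refine secQI_five (B := Γ(S', W₀))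
    (M := fun n => (Γ(S', W₀) ⊗[Γ(S, V)] RSec D₁.φ (I.X n)) × (Γ(S', W₀) ⊗[Γ(S, V)] RSec D₂.φ (I.X n)))
    (M' := fun n => TSec Γ(S, V) D₁.ψ (J.X n) × TSec Γ(S, V) D₂.ψ (J.X n))
    (C := fun n => Γ(S', W₀) ⊗[Γ(S, V)] RSec D₃.φ (I.X n)) (C' := fun n => TSec Γ(S, V) D₃.ψ (J.X n))
    (dR D I) (dT D J) (fun n => (dR D₁ I n).prodMap (dR D₂ I n)) (fun n => (dT D₁ J n).prodMap (dT D₂ J n))
    (dR D₃ I) (dT D₃ J)
    (fun n => ((R O₁ O h₁ h l₁ (I.X n)).baseChange _).prod ((R O₂ O h₂ h l₂ (I.X n)).baseChange _))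
    (fun n => (T O₁ O h₁ h l₁ (J.X n)).prod (T O₂ O h₂ h l₂ (J.X n)))
    (fun n => ((R (O₁ ⊓ O₂) O₁ h₃ h₁ l₃₁ (I.X n)).baseChange _).comp (LinearMap.fst _ _ _) -
      ((R (O₁ ⊓ O₂) O₂ h₃ h₂ l₃₂ (I.X n)).baseChange _).comp (LinearMap.snd _ _ _))
    (fun n => (T (O₁ ⊓ O₂) O₁ h₃ h₁ l₃₁ (J.X n)).comp (LinearMap.fst _ _ _) -
      (T (O₁ ⊓ O₂) O₂ h₃ h₂ l₃₂ (J.X n)).comp (LinearMap.snd _ _ _))
    (fun n => lift D (s.f n)) (fun n => (lift D₁ (s.f n)).prodMap (lift D₂ (s.f n))) (fun n => lift D₃ (s.f n))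
    ?_ ?_ ?_ ?_ ?_ ?_ (fun n => (hmv n).1) ?_ (fun n => (hmv n).2.1) ?_ (fun n => (hmv n).2.2) ?_ ?_ ?_ ?_
    (secQI_prod _ _ _ _ _ _ q₁ q₂) q₃
  · exact fun n x => Prod.ext (dR₂ D₁ n x.1) (dR₂ D₂ n x.2)
  · exact fun n x => Prod.ext (dT₂ D₁ n x.1) (dT₂ D₂ n x.2)
  · exact fun n x => Prod.ext (cd _ _ h₁ h l₁ n x) (cd _ _ h₂ h l₂ n x)
  · exact fun n x => Prod.ext (cd' _ _ h₁ h l₁ n x) (cd' _ _ h₂ h l₂ n x)
  · intro n x
    exact (congrArg₂ (· - ·) (cd _ _ h₃ h₁ l₃₁ n x.1) (cd _ _ h₃ h₂ l₃₂ n x.2)).trans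
      (map_sub (dR D₃ I n) _ _).symm
  · intro n x
    exact (congrArg₂ (· - ·) (cd' _ _ h₃ h₁ l₃₁ n x.1) (cd' _ _ h₃ h₂ l₃₂ n x.2)).trans
      (map_sub (dT D₃ J n) _ _).symm
  · intro n a b hab
    exact eq_of_sup hup (up l₁) (up l₂) a b (congrArg Prod.fst hab) (congrArg Prod.snd hab)
  · intro n p
    refine ⟨fun hp => ?_, ?_⟩
    · obtain ⟨c, hc₁, hc₂⟩ := exists_glue_sup hup (up l₁) (up l₂) p.1 p.2 (by
        have e := congrArg (rs (J.X n) hup₃) (sub_eq_zero.1 hp)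
        exact ((rs_rs (up l₃₁) hup₃ p.1).symm.trans e).trans (rs_rs (up l₃₂) hup₃ p.2))
      exact ⟨c, Prod.ext hc₁ hc₂⟩
    · rintro ⟨x, rfl⟩
      exact sub_eq_zero.2 ((rs_rs (up l₁) (up l₃₁) x).trans (rs_rs (up l₂) (up l₃₂) x).symm)
  · intro n y
    obtain ⟨a, ha⟩ := (AddCommGrpCat.epi_iff_surjective _).1
      ((isFlasqueMod_of_injective (J.X n)).epi (homOfLE (up l₃₁)).op) y
    refine ⟨(a, 0), ?_⟩
    change T (O₁ ⊓ O₂) O₁ h₃ h₁ l₃₁ (J.X n) a - T (O₁ ⊓ O₂) O₂ h₃ h₂ l₃₂ (J.X n) 0 = y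
    rw [map_zero, sub_zero]
    exact ha
  · intro n x
    exact Prod.ext (lift_naturality D₁ _ _ _ _ (s.comm n (n + 1)).symm x.1)
      (lift_naturality D₂ _ _ _ _ (s.comm n (n + 1)).symm x.2)
  · exact fun n x => Prod.ext (cl _ _ h₁ h l₁ n x) (cl _ _ h₂ h l₂ n x)
  · intro n x
    exact (congrArg₂ (· - ·) (cl _ _ h₃ h₁ l₃₁ n x.1) (cl _ _ h₃ h₂ l₃₂ n x.2)).trans
      (map_sub (lift D₃ (s.f n)) _ _).symm

section Main

attribute [local instance] HasDerivedCategory.standard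

variable [I.IsKInjective] [J.IsKInjective]

include hw hle halg in
/-- Flat base change of the cohomology of sections. -/
theorem qI_dA (h : IsPullback g' f' f g) [QuasiCompact f] [QuasiSeparated f] [Flat g]
    (hV : IsAffineOpen V) (hW₀ : IsAffineOpen W₀)
    [∀ n, Injective (I.X n)] [∀ n, Injective (J.X n)] [QuasiIso s]
    (hI : DCoh.IsQCohD (DerivedCategory.Q.obj I)) (hJ : DCoh.IsQCohD (DerivedCategory.Q.obj J)) :
    QI (dA hw hle halg (f ⁻¹ᵁ V) le_rfl) s := by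
  haveI : Flat g' := MorphismProperty.of_isPullback (P := @Flat) h.flip inferInstance
  haveI : Module.Flat Γ(S, V) Γ(S', W₀) := by
    have hf : (g.appLE V W₀ hle).hom.Flat := g.flat_appLE hV hW₀ hle
    rwa [show (g.appLE V W₀ hle).hom = algebraMap Γ(S, V) Γ(S', W₀) from
      RingHom.ext fun a => (halg a).symm, RingHom.flat_algebraMap_iff] at hf
  let XV : Scheme.{u} := (f ⁻¹ᵁ V : X.Opens)
  let j : XV ⟶ X := (f ⁻¹ᵁ V).ι
  haveI : CompactSpace XV :=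
    isCompact_iff_compactSpace.1 (f.isCompact_preimage hV.isCompact)
  haveI : QuasiSeparatedSpace XV :=
    (isQuasiSeparated_iff_quasiSeparatedSpace _ (f ⁻¹ᵁ V).2).1
      (f.isQuasiSeparated_preimage hV.isQuasiSeparated)
  choose ζ ξ hζ hξ hiso using exists_xi g' s
  have himg : ∀ O' : XV.Opens, j ''ᵁ O' ≤ f ⁻¹ᵁ V := fun O' =>
    (Scheme.Hom.image_le_opensRange j O').trans_eq (Scheme.Opens.opensRange_ι _)
  let P : XV.Opens → Prop := fun O' =>
    ∀ (O : X.Opens) (hO : O ≤ f ⁻¹ᵁ V), O = j ''ᵁ O' → QI (dA hw hle halg O hO) s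
  have hP : P ⊤ := by
    refine qc_induction P ?_ ?_ ⊤ isCompact_univ
    · rintro O' hO' O hO rfl
      have hOa : IsAffineOpen (j ''ᵁ O') := hO'.image_of_isOpenImmersion j
      obtain ⟨hup, hbc⟩ := isBC_dA hw hle halg h hV hW₀ hO hOa
      refine qI_of_bijective _ s ζ ξ hζ hξ (secBQ_kInjective I hI hOa) (secBQ_kInjective J hJ hup) fun n => ?_
      haveI : IsIso (ξ n) := (hiso n).2 inferInstance
      have he : ∀ z, lift (dA hw hle halg _ hO) (ξ n) z =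
          mapT _ _ (ξ n) ((pullT (dA hw hle halg _ hO) (I.homology n)).liftBaseChange _ z) :=
        lift_eq _ _
      rw [funext he]
      exact ((ConcreteCategory.isIso_iff_bijective _).1
        ((Scheme.Modules.Hom.isIso_iff_isIso_app (φ := ξ n)).1 inferInstance _)).comp
          (hbc _ (isQCoh_homology_of_isQCohD hI n))
    · rintro O₁ O₂ - - p₁ p₂ p₃ O hO rfl
      exact qI_sup hw hle halg s _ (j ''ᵁ O₁) (j ''ᵁ O₂) (Opens.ext (Set.image_union _ _ _)) hO (himg O₁) (himg O₂)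
        (p₁ _ _ rfl) (p₂ _ _ rfl) (p₃ _ _ (Opens.ext (Set.image_inter j.isOpenEmbedding.injective)).symm)
  exact hP _ le_rfl (Scheme.Opens.ι_image_top _).symm

end Main

section Push

attribute [local instance] HasDerivedCategory.standard

omit [Algebra Γ(S, V) Γ(S', W₀)] in
/-- Flat base change for the direct image of a K-injective complex. -/
theorem quasiIso_bc (h : IsPullback g' f' f g) [QuasiCompact f] [QuasiSeparated f] [Flat g]
    (I : CochainComplex X.Modules ℤ) [I.IsKInjective] [∀ n, Injective (I.X n)]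
    (J : CochainComplex X'.Modules ℤ) [J.IsKInjective] [∀ n, Injective (J.X n)]
    (s : (pullCx g').obj I ⟶ J) [QuasiIso s] (hI : DCoh.IsQCohD (DerivedCategory.Q.obj I))
    (χ : (pullCx g).obj (((Scheme.Modules.pushforward f).mapHomologicalComplex (ComplexShape.up ℤ)).obj I) ⟶
      ((Scheme.Modules.pushforward f').mapHomologicalComplex (ComplexShape.up ℤ)).obj J)
    (hχ : ∀ (n : ℤ) (V : S.Opens) (W₀ : S'.Opens) (hle : W₀ ≤ g ⁻¹ᵁ V)
      (hle' : f' ⁻¹ᵁ W₀ ≤ g' ⁻¹ᵁ (f ⁻¹ᵁ V)) (x : Γ(I.X n, f ⁻¹ᵁ V)),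
      (χ.f n).app W₀ (pullSec g ((Scheme.Modules.pushforward f).obj (I.X n)) hle x) =
        (s.f n).app (f' ⁻¹ᵁ W₀) (pullSec g' (I.X n) hle' x)) :
    QuasiIso χ := by
  haveI : Flat g' := MorphismProperty.of_isPullback (P := @Flat) h.flip inferInstance
  haveI : QuasiCompact f' := MorphismProperty.of_isPullback (P := @QuasiCompact) h inferInstance
  haveI : QuasiSeparated f' := MorphismProperty.of_isPullback (P := @QuasiSeparated) h inferInstance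
  have hJ : DCoh.IsQCohD (DerivedCategory.Q.obj J) := fun i => by
    obtain ⟨-, ξ, -, -, hiso⟩ := exists_xi g' s i
    haveI : IsIso ξ := hiso.2 inferInstance
    exact isQCoh_of_iso (((DerivedCategory.homologyFunctorFactors X'.Modules i).app J).trans (asIso ξ).symm).symm
      (QCoh.isQCoh_pullback g' (isQCoh_homology_of_isQCohD hI i))
  let fI := ((Scheme.Modules.pushforward f).mapHomologicalComplex (ComplexShape.up ℤ)).obj I
  haveI := hasRpush_scheme f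
  obtain ⟨eI⟩ := nonempty_rpush_iso_of_kInjective f (Iso.refl (DerivedCategory.Q.obj I))
  have hfI : DCoh.IsQCohD (DerivedCategory.Q.obj fI) := isQCohD_of_iso eI (isQCohD_rpush f hI)
  choose ζ ξ hζ hξ hiso using exists_xi g χ
  refine ⟨fun n => (hiso n).1 ?_⟩
  let Bs : Set S'.Opens := {W | IsAffineOpen W ∧ ∃ V : S.Opens, IsAffineOpen V ∧ W ≤ g ⁻¹ᵁ V}
  have hBs : Opens.IsBasis Bs := Opens.isBasis_iff_nbhd.2 fun {U x} hx => by
    obtain ⟨_, ⟨V, hV, rfl⟩, hxV, -⟩ :=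
      S.isBasis_affineOpens.exists_subset_of_mem_open (Set.mem_univ (g x)) isOpen_univ
    obtain ⟨W, hW, hxW, hWle⟩ :=
      Opens.isBasis_iff_nbhd.1 S'.isBasis_affineOpens (show x ∈ U ⊓ g ⁻¹ᵁ V from ⟨hx, hxV⟩)
    exact ⟨W, ⟨hW, V, hV, hWle.trans inf_le_right⟩, hxW, hWle.trans inf_le_left⟩
  refine QCoh.isIso_of_isBasis (ξ n) hBs ?_
  rintro W₀ ⟨hW₀, V, hV, hle⟩
  letI : Algebra Γ(S, V) Γ(S', W₀) := (g.appLE V W₀ hle).hom.toAlgebra
  haveI : Module.Flat Γ(S, V) Γ(S', W₀) := g.flat_appLE hV hW₀ hle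
  have halg : ∀ a, algebraMap Γ(S, V) Γ(S', W₀) a = g.appLE V W₀ hle a := fun _ => rfl
  have hle' : f' ⁻¹ᵁ W₀ ≤ g' ⁻¹ᵁ (f ⁻¹ᵁ V) := by
    rw [← Scheme.Hom.comp_preimage, h.w, Scheme.Hom.comp_preimage]
    exact f'.preimage_mono hle
  have e : g' ⁻¹ᵁ (f ⁻¹ᵁ V) ⊓ f' ⁻¹ᵁ W₀ = f' ⁻¹ᵁ W₀ := inf_eq_right.2 hle'
  let D := dA h.w hle halg (f ⁻¹ᵁ V) le_rfl
  let G := dG hle halg
  have hA : ∀ a, f.appLE V (f ⁻¹ᵁ V) le_rfl a = f.app V a := fun a => by rw [Scheme.Hom.appLE_eq_app]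
  let p : ∀ m, RSec D.φ (I.X m) →ₗ[Γ(S, V)] RSec G.φ (fI.X m) := fun m =>
    { toFun := fun x => x
      map_add' := fun _ _ => rfl
      map_smul' := fun a x => congrArg (fun r : Γ(X, f ⁻¹ᵁ V) => r • (show Γ(I.X m, f ⁻¹ᵁ V) from x)) (hA a) }
  let fJ := ((Scheme.Modules.pushforward f').mapHomologicalComplex (ComplexShape.up ℤ)).obj J
  let q : ∀ m, TSec Γ(S, V) D.ψ (J.X m) →ₗ[Γ(S', W₀)] TSec Γ(S, V) G.ψ (fJ.X m) := fun m =>
    { toFun := fun x => rs (J.X m) e.ge x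
      map_add' := rs_add e.ge
      map_smul' := fun b x => (rs_smul e.ge (f'.appLE W₀ _ inf_le_right b) x).trans
        (congrArg (· • rs (J.X m) e.ge x)
          ((congr($(f'.appLE_map inf_le_right (homOfLE e.ge).op) b)).trans congr($(f'.appLE_eq_app) b))) }
  have hq : QI G χ := by
    refine secQI_of_equiv (dR D I) (dT D J) (fun m => lift D (s.f m)) (dR G fI) (dT G fJ)
      (fun m => lift G (χ.f m)) (fun m => (p m).baseChange Γ(S', W₀)) q ?_ ?_ ?_ ?_ ?_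
      (qI_dA h.w hle halg s h hV hW₀ hI hJ)
    · intro m
      rw [LinearMap.baseChange_eq_ltensor]
      exact ((LinearEquiv.ofBijective (p m) Function.bijective_id).lTensor Γ(S', W₀)).bijective
    · exact fun m => ⟨fun a b hab => (rs_self le_rfl a).symm.trans (((rs_rs e.ge e.le a).symm.trans
        ((congrArg (rs (J.X m) e.le) hab).trans (rs_rs e.ge e.le b))).trans (rs_self le_rfl b)),
        fun y => ⟨rs (J.X m) e.le y, (rs_rs e.le e.ge y).trans (rs_self le_rfl y)⟩⟩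
    · exact fun m x => baseChange_comm (mapR D.φ (I.d m (m + 1))) (p (m + 1)) (p m)
        (mapR G.φ (fI.d m (m + 1))) (fun _ => rfl) x
    · exact fun m x => (app_rs (J.d m (m + 1)) e.ge x).symm
    · intro m z
      induction z using TensorProduct.induction_on with
      | zero => simp
      | tmul b x =>
        simp only [lift, LinearMap.baseChange_tmul, LinearMap.liftBaseChange_tmul, map_smul]
        refine congrArg (b • ·) ?_
        refine Eq.trans ?_ (hχ m V W₀ hle hle' x).symm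
        change rs (J.X m) e.ge ((s.f m).app _ (pullSec g' (I.X m) inf_le_left x)) = _
        rw [← app_rs]
        exact congrArg ((s.f m).app _) (rs_rs _ _ _)
      | add a b ha hb => simp only [map_add, ha, hb]
  have hb := bijective_of_qI G χ ζ ξ hζ hξ (secBQ_pushforward f I hI hV)
    (secBQ_pushforward f' J hJ hW₀) hq n
  rw [show (lift G (ξ n) : _ → _) = mapT _ _ (ξ n) ∘ (pullT G (fI.homology n)).liftBaseChange _ from
    funext (lift_eq G (ξ n))] at hb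
  exact (Function.Bijective.of_comp_iff _ (isBC_dG hle halg hV hW₀ _ (isQCoh_homology_of_isQCohD hfI n))).1 hb

end Push

end Groth.Agent.KFlatLib.FlatBC
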