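import Groth.Agent.KFlatLib.Scheme.FlatBCDerived
import Mathlib.Algebra.Homology.DerivedCategory.Linear

/-!
# Global functions acting on `D(O_X)`

`Γ(X, ⊤)` acts linearly on `X.Modules`, hence on `D(O_X)`; direct and inverse images are semilinear.
-/

set_option linter.style.haveILetI false
set_option backward.isDefEq.respectTransparency false

universe u

open CategoryTheory CategoryTheory.Limits AlgebraicGeometry Opposite

attribute [local instance] HasDerivedCategory.standard

namespace Groth.Agent.KFlatLib.ScalarD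

variable {X Y : Scheme.{u}}

local notation "qq" X:max => HomotopyCategory.quotient (Scheme.Modules X) (ComplexShape.up ℤ)

/-- Restriction of a global function to an open. -/
noncomputable def res (r : Γ(X, ⊤)) (U : X.Opens) : Γ(X, U) :=
  X.presheaf.map (homOfLE (le_top : U ≤ ⊤)).op r

lemma res_map (r : Γ(X, ⊤)) {U V : X.Opens} (i : U ⟶ V) :
    X.presheaf.map i.op (res r V) = res r U := by
  simp only [res, ← CommRingCat.comp_apply, ← Functor.map_comp]
  rfl

/-- Multiplication by a global function, as a map of abelian presheaves. -/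
noncomputable def mulPre (r : Γ(X, ⊤)) (M : X.Modules) : M.presheaf ⟶ M.presheaf where
  app U := M.smul (res r U.unop)
  naturality := by
    rintro ⟨U⟩ ⟨V⟩ i
    ext x
    change res r V • M.presheaf.map i.unop.op x = M.presheaf.map i.unop.op (res r U • x)
    rw [Scheme.Modules.map_smul, res_map]

/-- Multiplication by a global function. -/
noncomputable def mulMod (r : Γ(X, ⊤)) (M : X.Modules) : M ⟶ M :=
  ⟨PresheafOfModules.homMk (M₁ := M.val) (M₂ := M.val) (mulPre r M)
    (fun U s x => by
      let a : Γ(X, U.unop) := s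
      let y : Γ(M, U.unop) := x
      change res r U.unop • (a • y) = a • (res r U.unop • y)
      rw [smul_smul, smul_smul, mul_comm])⟩

@[simp]
lemma mulMod_app (r : Γ(X, ⊤)) (M : X.Modules) (U : X.Opens) (x : Γ(M, U)) :
    (mulMod r M).app U x = res r U • x := rfl

lemma mulMod_natural (r : Γ(X, ⊤)) {M N : X.Modules} (φ : M ⟶ N) :
    φ ≫ mulMod r N = mulMod r M ≫ φ := by
  ext U x
  simp

lemma mulMod_one (M : X.Modules) : mulMod (1 : Γ(X, ⊤)) M = 𝟙 M := by
  ext U x
  simp [res]

lemma mulMod_add (r s : Γ(X, ⊤)) (M : X.Modules) : mulMod (r + s) M = mulMod r M + mulMod s M := by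
  ext U x
  simp [res, add_smul]

lemma mulMod_mul (r s : Γ(X, ⊤)) (M : X.Modules) : mulMod (r * s) M = mulMod s M ≫ mulMod r M := by
  ext U x
  simp [res, smul_smul, mul_comm]

lemma mulMod_zero (M : X.Modules) : mulMod (0 : Γ(X, ⊤)) M = 0 := by
  ext U x
  simp [res]

/-- `X.Modules` is linear over the global functions. -/
@[instance_reducible]
noncomputable def linMod (X : Scheme.{u}) : Linear Γ(X, ⊤) X.Modules where
  homModule M N :=
    { smul := fun r φ => φ ≫ mulMod r N
      one_smul := fun φ => show φ ≫ mulMod 1 N = φ by rw [mulMod_one, Category.comp_id]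
      mul_smul := fun r s φ => show φ ≫ mulMod (r * s) N = (φ ≫ mulMod s N) ≫ mulMod r N by
        rw [mulMod_mul, Category.assoc]
      smul_zero := fun r => zero_comp
      smul_add := fun r φ ψ => Preadditive.add_comp _ _ _ _ _ _
      add_smul := fun r s φ => show φ ≫ mulMod (r + s) N = φ ≫ mulMod r N + φ ≫ mulMod s N by
        rw [mulMod_add, Preadditive.comp_add]
      zero_smul := fun φ => show φ ≫ mulMod 0 N = 0 by rw [mulMod_zero, comp_zero] }
  smul_comp M N P r φ ψ := show (φ ≫ mulMod r N) ≫ ψ = (φ ≫ ψ) ≫ mulMod r P by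
    rw [Category.assoc, Category.assoc, mulMod_natural]
  comp_smul M N P φ r ψ := show φ ≫ ψ ≫ mulMod r P = (φ ≫ ψ) ≫ mulMod r P from
    (Category.assoc _ _ _).symm

attribute [local instance] linMod

lemma smul_id_eq (r : Γ(X, ⊤)) (M : X.Modules) : r • 𝟙 M = mulMod r M := Category.id_comp _

/-- Multiplication by a global function on `D(O_X)`. -/
noncomputable abbrev mu (r : Γ(X, ⊤)) (E : DCoh.D X) : E ⟶ E := r • 𝟙 E

lemma mu_natural (r : Γ(X, ⊤)) {E F : DCoh.D X} (φ : E ⟶ F) : φ ≫ mu r F = mu r E ≫ φ := by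
  simp [mu]

lemma mu_Q (r : Γ(X, ⊤)) (K : CochainComplex X.Modules ℤ) :
    mu r (DerivedCategory.Q.obj K) = DerivedCategory.Q.map (r • 𝟙 K) := by
  rw [Functor.map_smul, CategoryTheory.Functor.map_id]

lemma mu_single (r : Γ(X, ⊤)) (n : ℤ) (M : X.Modules) :
    mu r ((DerivedCategory.singleFunctor X.Modules n).obj M) =
      (DerivedCategory.singleFunctor X.Modules n).map (mulMod r M) := by
  rw [← smul_id_eq, Functor.map_smul, CategoryTheory.Functor.map_id]

/-- Multiplications commute with natural isomorphisms of objects. -/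
lemma mu_of_iso (r : Γ(X, ⊤)) {E F : DCoh.D X} (e : E ≅ F) : mu r E = e.hom ≫ mu r F ≫ e.inv := by
  rw [← Category.assoc, mu_natural, Category.assoc, e.hom_inv_id, Category.comp_id]

/-- An exact semilinear functor is semilinear on derived categories. -/
theorem mapDerived_mu (F : X.Modules ⥤ Y.Modules) [F.Additive] [PreservesFiniteLimits F]
    [PreservesFiniteColimits F] (r : Γ(X, ⊤)) (s : Γ(Y, ⊤))
    (h : ∀ M, F.map (mulMod r M) = mulMod s (F.obj M)) (E : DCoh.D X) :
    F.mapDerivedCategory.map (mu r E) = mu s (F.mapDerivedCategory.obj E) := by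
  let e : DerivedCategory.Q.obj (DerivedCategory.Q.objPreimage E) ≅ E :=
    DerivedCategory.Q.objObjPreimageIso E
  suffices key : ∀ K : CochainComplex X.Modules ℤ, F.mapDerivedCategory.map (mu r (DerivedCategory.Q.obj K)) =
      mu s (F.mapDerivedCategory.obj (DerivedCategory.Q.obj K)) by
    refine (cancel_epi (F.mapDerivedCategory.map e.hom)).1 ?_
    rw [← Functor.map_comp, mu_natural, Functor.map_comp, key, ← mu_natural]
  intro K
  let C := F.mapHomologicalComplex (ComplexShape.up ℤ)
  let φ : F.mapDerivedCategory.obj (DerivedCategory.Q.obj K) ≅ DerivedCategory.Q.obj (C.obj K) :=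
    F.mapDerivedCategoryFactors.app K
  have hC : C.map (r • 𝟙 K) = s • 𝟙 (C.obj K) := HomologicalComplex.hom_ext _ _ fun i => by
    change F.map (r • 𝟙 (K.X i)) = s • 𝟙 (F.obj (K.X i))
    rw [smul_id_eq, smul_id_eq, h]
  rw [mu_of_iso s φ]
  refine (cancel_mono φ.hom).1 ?_
  rw [mu_Q, Category.assoc, Category.assoc, φ.inv_hom_id, Category.comp_id]
  exact (F.mapDerivedCategoryFactors_hom_naturality _).trans
    (congrArg (φ.hom ≫ ·) ((congrArg DerivedCategory.Q.map hC).trans (mu_Q s _).symm))

/-- Direct images are semilinear. -/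
lemma pushforward_mulMod (f : X ⟶ Y) (r : Γ(Y, ⊤)) (M : X.Modules) :
    (Scheme.Modules.pushforward f).map (mulMod (f.appTop r) M) =
      mulMod r ((Scheme.Modules.pushforward f).obj M) := by
  ext U x
  change res (f.appTop r) (f ⁻¹ᵁ U) • (show Γ(M, f ⁻¹ᵁ U) from x) =
    f.app U (res r U) • (show Γ(M, f ⁻¹ᵁ U) from x)
  congr 1
  exact (ConcreteCategory.congr_hom (f.naturality (homOfLE (le_top : U ≤ ⊤)).op) r).symm

/-- Inverse images are semilinear. -/
lemma pullback_mulMod (f : X ⟶ Y) (r : Γ(Y, ⊤)) (M : Y.Modules) :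
    (Scheme.Modules.pullback f).map (mulMod r M) =
      mulMod (f.appTop r) ((Scheme.Modules.pullback f).obj M) := by
  let A := Scheme.Modules.pullbackPushforwardAdjunction f
  refine (A.homEquiv _ _).injective ?_
  rw [A.homEquiv_unit, A.homEquiv_unit, pushforward_mulMod]
  exact (A.unit.naturality (mulMod r M)).symm.trans (mulMod_natural r _).symm

/-- Restrictions are semilinear. -/
lemma restrict_mulMod (j : X ⟶ Y) [IsOpenImmersion j] (r : Γ(Y, ⊤)) (M : Y.Modules) :
    (Scheme.Modules.restrictFunctor j).map (mulMod r M) =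
      mulMod (j.appTop r) ((Scheme.Modules.restrictFunctor j).obj M) := by
  let e := Scheme.Modules.restrictFunctorIsoPullback j
  refine (cancel_mono (e.hom.app M)).1 ?_
  rw [e.hom.naturality, pullback_mulMod, mulMod_natural]

/-- Restriction to an open on derived categories is semilinear. -/
lemma rho_mu (j : X ⟶ Y) [IsOpenImmersion j] (r : Γ(Y, ⊤)) (E : DCoh.D Y) :
    (rho j).map (mu r E) = mu (j.appTop r) ((rho j).obj E) :=
  mapDerived_mu _ r _ (restrict_mulMod j r) E

/-- `Rf_*` is semilinear. -/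
theorem rpush_mu (f : X ⟶ Y) [DCoh.HasRpush f] (r : Γ(Y, ⊤)) (E : DCoh.D X) :
    (DCoh.Rpush f).map (mu (f.appTop r) E) = mu r ((DCoh.Rpush f).obj E) := by
  obtain ⟨I, hI, -, ⟨e⟩⟩ := FlatBC.exists_injective_rep E
  haveI := hI
  let t := f.appTop r
  suffices key : (DCoh.Rpush f).map (mu t (DerivedCategory.Qh.obj ((qq X).obj I))) =
      mu r ((DCoh.Rpush f).obj (DerivedCategory.Qh.obj ((qq X).obj I))) by
    refine (cancel_epi ((DCoh.Rpush f).map e.hom)).1 ?_
    rw [← Functor.map_comp, mu_natural, Functor.map_comp, key, ← mu_natural]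
  haveI : IsIso ((FlatBC.beta f).app ((qq X).obj I)) :=
    isIso_rightDerivedUnit_of_kInjective (DCoh.pushKh f) I
  let C := (Scheme.Modules.pushforward f).mapHomologicalComplex (ComplexShape.up ℤ)
  have hC : C.map (t • 𝟙 I) = r • 𝟙 (C.obj I) := HomologicalComplex.hom_ext _ _ fun i => by
    change (Scheme.Modules.pushforward f).map (t • 𝟙 (I.X i)) =
      r • 𝟙 ((Scheme.Modules.pushforward f).obj (I.X i))
    rw [smul_id_eq, smul_id_eq, pushforward_mulMod]
  have h1 : ∀ {Z : Scheme.{u}} (c : Γ(Z, ⊤)) (K : CochainComplex Z.Modules ℤ),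
      mu c (DerivedCategory.Qh.obj ((qq Z).obj K)) =
        DerivedCategory.Qh.map ((qq Z).map (c • 𝟙 K)) := fun c K => by
    rw [Functor.map_smul, Functor.map_smul, CategoryTheory.Functor.map_id, CategoryTheory.Functor.map_id]
  let β₀ : DerivedCategory.Qh.obj ((qq Y).obj (C.obj I)) ⟶
      (DCoh.Rpush f).obj (DerivedCategory.Qh.obj ((qq X).obj I)) :=
    (FlatBC.beta f).app ((qq X).obj I)
  haveI : IsIso β₀ := (inferInstance : IsIso ((FlatBC.beta f).app ((qq X).obj I)))
  refine (cancel_epi β₀).1 ?_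
  rw [mu_natural, h1]
  refine ((FlatBC.beta f).naturality ((qq X).map (t • 𝟙 I))).symm.trans ?_
  refine congrArg (· ≫ _) ?_
  refine Eq.trans ?_ (h1 r (C.obj I)).symm
  change DerivedCategory.Qh.map (((Scheme.Modules.pushforward f).mapHomotopyCategory _).map
    ((qq X).map (t • 𝟙 I))) = _
  exact congrArg (fun z => DerivedCategory.Qh.map ((qq Y).map z)) hC

end Groth.Agent.KFlatLib.ScalarD
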