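import Groth.Agent.KFlatLib.Scheme.AffineConservative
import Groth.Agent.KFlatLib.Scheme.FlatBCCore
import Groth.Agent.KFlatLib.Scheme.LpullComp
import Groth.Agent.KFlatLib.Scheme.ScalarD
import Groth.Agent.KFlatLib.PsiC
import Groth.Agent.QCoh.Pullback
import Mathlib.LinearAlgebra.TensorProduct.Finiteness

/-!
# Sections of cohomology over an affine open as morphisms, and their flat base change
-/

set_option linter.style.haveILetI false
set_option backward.isDefEq.respectTransparency false

universe u

open CategoryTheory CategoryTheory.Limits AlgebraicGeometry Opposite TopologicalSpace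
open scoped TensorProduct

attribute [local instance] HasDerivedCategory.standard

namespace Groth.Agent.KFlatLib.SecPoint

variable {X X' : Scheme.{u}}

/-- The object representing `H^k(W, -)`. -/
noncomputable abbrev pt (W : X.Opens) (k : ℤ) : DCoh.D X :=
  (DerivedCategory.singleFunctor X.Modules k).obj (secObj W)

/-- `Hom(j_! O_W, M) ≅ Γ(M, W)`. -/
noncomputable def secEq (W : X.Opens) (M : X.Modules) : (secObj W ⟶ M) ≃ Γ(M, W) :=
  (secEquiv W M).trans
    (M.presheaf.mapIso (eqToIso W.ι_image_top.symm).op).addCommGroupIsoToAddEquiv.toEquiv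

lemma secEq_comp (W : X.Opens) {M N : X.Modules} (φ : secObj W ⟶ M) (g : M ⟶ N) :
    secEq W N (φ ≫ g) = g.app W (secEq W M φ) := by
  change N.presheaf.map (eqToHom W.ι_image_top.symm).op (secEquiv W N (φ ≫ g)) =
    g.app W (M.presheaf.map (eqToHom W.ι_image_top.symm).op (secEquiv W M φ))
  rw [secEquiv_naturality]
  exact (ConcreteCategory.congr_hom (g.mapPresheaf.naturality (eqToHom W.ι_image_top.symm).op)
    (secEquiv W M φ)).symm

/-- The tautological section. -/
noncomputable def gen (W : X.Opens) : Γ(secObj W, W) := secEq W _ (𝟙 _)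

lemma secEq_eq (W : X.Opens) {M : X.Modules} (φ : secObj W ⟶ M) : secEq W M φ = φ.app W (gen W) := by
  rw [gen, ← secEq_comp, Category.id_comp]

lemma secEq_add (W : X.Opens) {M : X.Modules} (φ ψ : secObj W ⟶ M) :
    secEq W M (φ + ψ) = secEq W M φ + secEq W M ψ := by
  simp [secEq_eq]

/-- The cohomology class of a morphism out of `pt W k`. -/
noncomputable def el {W : X.Opens} {k : ℤ} {E : DCoh.D X} (t : pt W k ⟶ E) :
    Γ(DCoh.HD E k, W) :=
  secEq W _ (psiC k (secObj W) E t)

lemma el_comp {W : X.Opens} {k : ℤ} {E F : DCoh.D X} (t : pt W k ⟶ E) (h : E ⟶ F) :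
    el (t ≫ h) = ((DerivedCategory.homologyFunctor X.Modules k).map h).app W (el t) := by
  rw [el, psiC_comp, secEq_comp]
  rfl

lemma el_add {W : X.Opens} {k : ℤ} {E : DCoh.D X} (t s : pt W k ⟶ E) : el (t + s) = el t + el s := by
  simp only [el, psiC, Functor.map_add, Preadditive.comp_add]
  exact secEq_add W _ _

lemma el_zero (W : X.Opens) (k : ℤ) (E : DCoh.D X) : el (0 : pt W k ⟶ E) = 0 := by
  simp [el, psiC, secEq_eq]

/-- `el` as an additive map. -/
noncomputable def elHom (W : X.Opens) (k : ℤ) (E : DCoh.D X) : (pt W k ⟶ E) →+ Γ(DCoh.HD E k, W) where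
  toFun := el
  map_zero' := el_zero W k E
  map_add' := el_add

/-- `H^k(W, E) = Γ(W, H^k E)` for affine `W`. -/
theorem el_bijective {W : X.Opens} (hW : IsAffineOpen W) (k : ℤ) {E : DCoh.D X}
    (hE : DCoh.IsQCohD E) : Function.Bijective (el : (pt W k ⟶ E) → _) :=
  (secEq W _).bijective.comp
    (bijective_psiC_of_shift (bijH0_of_isQCohD (isQCohD_shift hE k) hW))

/-- Multiplication by a function on `W`. -/
noncomputable def sMul {W : X.Opens} (r : Γ(X, W)) : secObj W ⟶ secObj W :=
  (secEq W _).symm (r • gen W)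

/-- Multiplication by a function on `W`, in any degree. -/
noncomputable def ptMul {W : X.Opens} (k : ℤ) (r : Γ(X, W)) : pt W k ⟶ pt W k :=
  (DerivedCategory.singleFunctor X.Modules k).map (sMul r)

lemma secEq_sMul {W : X.Opens} (r : Γ(X, W)) {M : X.Modules} (h : secObj W ⟶ M) :
    secEq W M (sMul r ≫ h) = r • secEq W M h := by
  rw [secEq_comp, sMul, Equiv.apply_symm_apply, Scheme.Modules.Hom.app_smul, ← secEq_eq]

lemma el_ptMul {W : X.Opens} {k : ℤ} (r : Γ(X, W)) {E : DCoh.D X} (t : pt W k ⟶ E) :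
    el (ptMul k r ≫ t) = r • el t := by
  rw [el, ptMul, psiC_single_map, secEq_sMul]
  rfl

section Exact

variable {C : Type*} [Category C] [Abelian C] [HasDerivedCategory C]
  {C' : Type*} [Category C'] [Abelian C'] [HasDerivedCategory C']
  (F : C ⥤ C') [F.Additive] [PreservesFiniteLimits F] [PreservesFiniteColimits F]

/-- The comparison of `H^k` of `F (P[-k])` with `F P`. -/
noncomputable def twist (k : ℤ) (P : C) : F.obj P ≅ F.obj P :=
  (hSingle k (F.obj P)).symm ≪≫ (DerivedCategory.homologyFunctor C' k).mapIso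
      ((F.mapDerivedCategorySingleFunctor k).app P).symm ≪≫
    (mapDCHomologyIso F k).app _ ≪≫ F.mapIso (hSingle k P)

/-- An exact functor on morphisms out of `P[-k]`. -/
lemma psiC_map (k : ℤ) {P : C} {M : DerivedCategory C}
    (b : (DerivedCategory.singleFunctor C k).obj P ⟶ M) :
    psiC k (F.obj P) _ ((F.mapDerivedCategorySingleFunctor k).inv.app P ≫ F.mapDerivedCategory.map b) =
      (twist F k P).hom ≫ F.map (psiC k P M b) ≫ (mapDCHomologyIso F k).inv.app M := by
  have hΘ : (DerivedCategory.homologyFunctor C' k).map (F.mapDerivedCategory.map b) =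
      (mapDCHomologyIso F k).hom.app _ ≫ F.map ((DerivedCategory.homologyFunctor C k).map b) ≫
        (mapDCHomologyIso F k).inv.app M := by
    refine Eq.trans ?_ (Category.assoc _ _ _)
    exact (Iso.eq_comp_inv ((mapDCHomologyIso F k).app M)).2 ((mapDCHomologyIso F k).hom.naturality b)
  simp only [psiC, twist, Iso.trans_hom, Iso.symm_hom, Functor.mapIso_hom, Iso.app_hom, Iso.app_inv,
    Functor.map_comp, Category.assoc, Iso.map_hom_inv_id_assoc]
  exact congrArg (fun z => (hSingle k (F.obj P)).inv ≫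
    (DerivedCategory.homologyFunctor C' k).map ((F.mapDerivedCategorySingleFunctor k).inv.app P) ≫ z) hΘ

end Exact

variable (u : X' ⟶ X) [Flat u]

instance pull_lex : PreservesFiniteLimits (Scheme.Modules.pullback u) := by
  haveI := preservesHomology_pullback u
  exact Functor.preservesFiniteLimits_of_preservesHomology _

/-- `u^*` on derived categories, for flat `u`. -/
noncomputable abbrev pullD : DCoh.D X ⥤ DCoh.D X' := (Scheme.Modules.pullback u).mapDerivedCategory

/-- For flat `u`, `Lu^*` is `u^*`. -/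
noncomputable def lpullPullIso [DCoh.HasLpull u] : DCoh.Lpull u ≅ pullD u :=
  haveI := hasRpush_scheme u
  haveI : ∀ K, IsIso ((lpullComparison u).app K) := fun K => by
    haveI : IsIso ((Functor.whiskerLeft (HomotopyCategory.quotient X.Modules (ComplexShape.up ℤ))
        ((DCoh.pullKh u).totalLeftDerivedCounit DerivedCategory.Qh
          (HomotopyCategory.quasiIso X.Modules (ComplexShape.up ℤ)))).app K) :=
      FlatBC.isIso_alpha_of_flat _
    simp only [lpullComparison, NatTrans.comp_app]
    infer_instance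
  haveI := NatIso.isIso_of_isIso_app (lpullComparison u)
  Localization.liftNatIso DerivedCategory.Q (qisX X) (DerivedCategory.Q ⋙ DCoh.Lpull u)
    (DerivedCategory.Q ⋙ pullD u) _ _
    (asIso (lpullComparison u) ≪≫ (Scheme.Modules.pullback u).mapDerivedCategoryFactors.symm)

/-- Inverse images along flat maps keep cohomology quasi-coherent. -/
lemma isQCohD_pullD {E : DCoh.D X} (hE : DCoh.IsQCohD E) : DCoh.IsQCohD ((pullD u).obj E) := fun i =>
  isQCoh_of_iso ((mapDCHomologyIso (Scheme.Modules.pullback u) i).app E).symm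
    (QCoh.isQCoh_pullback u (hE i))

variable {W : X.Opens} {W' : X'.Opens} (hle : W' ≤ u ⁻¹ᵁ W)

/-- The comparison `j'_! O_{W'} ⟶ u^* j_! O_W`. -/
noncomputable def iota0 : secObj W' ⟶ (Scheme.Modules.pullback u).obj (secObj W) :=
  (secEq W' _).symm (QCoh.pullSec u _ hle (gen W))

/-- The comparison `pt W' k ⟶ u^* (pt W k)`. -/
noncomputable def iota (k : ℤ) : pt W' k ⟶ (pullD u).obj (pt W k) :=
  (DerivedCategory.singleFunctor X'.Modules k).map
      (iota0 u hle ≫ (twist (Scheme.Modules.pullback u) k (secObj W)).inv) ≫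
    ((Scheme.Modules.pullback u).mapDerivedCategorySingleFunctor k).inv.app (secObj W)

omit [Flat u] in
lemma pullSec_map {M N : X.Modules} (h : M ⟶ N) (x : Γ(M, W)) :
    QCoh.pullSec u N hle (h.app W x) =
      ((Scheme.Modules.pullback u).map h).app W' (QCoh.pullSec u M hle x) := by
  let A := Scheme.Modules.pullbackPushforwardAdjunction u
  let m := (Scheme.Modules.pullback u).map h
  have h1 := ConcreteCategory.congr_hom
    (congrArg (fun z : M ⟶ _ => z.app W) (A.unit.naturality h)) x
  change ((Scheme.Modules.pullback u).obj N).presheaf.map (homOfLE hle).op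
      (show Γ((Scheme.Modules.pullback u).obj N, u ⁻¹ᵁ W) from (A.unit.app N).app W (h.app W x)) = _
  exact (congrArg (fun z => ((Scheme.Modules.pullback u).obj N).presheaf.map (homOfLE hle).op z) h1).trans
    (ConcreteCategory.congr_hom (m.mapPresheaf.naturality (homOfLE hle).op) _).symm

/-- `H^k(W, E) ⟶ H^k(W', u^* E)` on classes. -/
theorem el_iota {k : ℤ} {E : DCoh.D X} (t : pt W k ⟶ E) :
    el (iota u hle k ≫ (pullD u).map t) =
      ((mapDCHomologyIso (Scheme.Modules.pullback u) k).inv.app E).app W'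
        (QCoh.pullSec u _ hle (el t)) := by
  rw [el, iota, Category.assoc, psiC_single_map, psiC_map, Category.assoc, Iso.inv_hom_id_assoc,
    ← Category.assoc, secEq_comp, secEq_comp, iota0, Equiv.apply_symm_apply, ← pullSec_map, ← secEq_eq]
  rfl

section Local

variable {U' : Scheme.{u}} (j : U' ⟶ X') [IsOpenImmersion j] (hj : j ⁻¹ᵁ (u ⁻¹ᵁ W) = j ⁻¹ᵁ W')

omit [Flat u] in
include hj in
/-- `j'_! O_{W'} ⟶ u^* j_! O_W` is invertible where `W'` agrees with `u⁻¹ W`. -/
lemma isIso_restrict_iota0 : IsIso ((Scheme.Modules.restrictFunctor j).map (iota0 u hle)) := by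
  refine isIso_iff_coyoneda_map_bijective _ |>.2 fun N => ?_
  let A := Scheme.Modules.restrictAdjunction j
  let M := (Scheme.Modules.pushforward j).obj N
  let P := Scheme.Modules.pullbackPushforwardAdjunction u
  haveI : IsIso (M.presheaf.map (homOfLE hle).op) := by
    have : (homOfLE (show j ⁻¹ᵁ W' ≤ j ⁻¹ᵁ (u ⁻¹ᵁ W) from (hj.ge))) = eqToHom hj.symm :=
      Subsingleton.elim _ _
    change IsIso (N.presheaf.map ((Opens.map j.base).map (homOfLE hle)).op)
    rw [show (Opens.map j.base).map (homOfLE hle) = eqToHom hj.symm from Subsingleton.elim _ _]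
    infer_instance
  have hres : Function.Bijective (M.presheaf.map (homOfLE hle).op) :=
    ConcreteCategory.bijective_of_isIso _
  have hpre : Function.Bijective
      (fun h : (Scheme.Modules.pullback u).obj (secObj W) ⟶ M => iota0 u hle ≫ h) := by
    have key : ∀ h : (Scheme.Modules.pullback u).obj (secObj W) ⟶ M,
        secEq W' M (iota0 u hle ≫ h) = M.presheaf.map (homOfLE hle).op
          (show Γ(M, u ⁻¹ᵁ W) from secEq W ((Scheme.Modules.pushforward u).obj M) (P.homEquiv _ _ h)) := fun h => by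
      rw [secEq_comp, iota0, Equiv.apply_symm_apply, secEq_eq, P.homEquiv_unit]
      exact ConcreteCategory.congr_hom (h.mapPresheaf.naturality (homOfLE hle).op).symm _ |>.symm
    refine (Function.Bijective.of_comp_iff' (secEq W' M).bijective _).1 ?_
    rw [show secEq W' M ∘ (fun h : (Scheme.Modules.pullback u).obj (secObj W) ⟶ M =>
      iota0 u hle ≫ h) = fun h => M.presheaf.map (homOfLE hle).op
        (show Γ(M, u ⁻¹ᵁ W) from secEq W ((Scheme.Modules.pushforward u).obj M) (P.homEquiv _ _ h)) from funext key]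
    exact hres.comp ((secEq W _).bijective.comp (P.homEquiv _ _).bijective)
  refine (Function.Bijective.of_comp_iff' (A.homEquiv _ _).bijective _).1 ?_
  have : (A.homEquiv (secObj W') N) ∘
      (fun x => (Scheme.Modules.restrictFunctor j).map (iota0 u hle) ≫ x) =
      (fun h => iota0 u hle ≫ h) ∘ (A.homEquiv _ N) :=
    funext fun x => A.homEquiv_naturality_left _ _
  rw [this]
  exact hpre.comp (A.homEquiv _ _).bijective

include hj in
/-- `pt W' k ⟶ u^* (pt W k)` is invertible where `W'` agrees with `u⁻¹ W`. -/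
theorem isIso_rho_iota (k : ℤ) : IsIso ((rho j).map (iota u hle k)) := by
  haveI := isIso_restrict_iota0 u hle j hj
  let a := iota0 u hle ≫ (twist (Scheme.Modules.pullback u) k (secObj W)).inv
  haveI : IsIso ((rho j).map ((DerivedCategory.singleFunctor X'.Modules k).map a)) := by
    haveI : IsIso ((Scheme.Modules.restrictFunctor j).map a) := by
      rw [Functor.map_comp]
      infer_instance
    exact (NatIso.isIso_map_iff
      ((Scheme.Modules.restrictFunctor j).mapDerivedCategorySingleFunctor k) a).2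
      (inferInstanceAs (IsIso ((DerivedCategory.singleFunctor U'.Modules k).map
        ((Scheme.Modules.restrictFunctor j).map a))))
  rw [iota, Functor.map_comp]
  infer_instance

end Local

variable {A B : Type u} [CommRing A] [CommRing B] [Algebra A B] {u}
  (D : FlatBC.Datum A B u)

/-- The additive map `B ⊗ H^k(W, E) ⟶ H^k(W', u^* E)`. -/
noncomputable def bcHom (k : ℤ) (E : DCoh.D X) :
    B ⊗[A] FlatBC.RSec D.φ (DCoh.HD E k) →ₗ[B]
      FlatBC.TSec A D.ψ (DCoh.HD ((pullD u).obj E) k) :=
  FlatBC.lift D ((mapDCHomologyIso (Scheme.Modules.pullback u) k).inv.app E)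

lemma bcHom_tmul (k : ℤ) {E : DCoh.D X} (b : B) (t : pt D.W k ⟶ E) :
    bcHom D k E (b ⊗ₜ (show FlatBC.RSec D.φ (DCoh.HD E k) from el t)) =
      el (ptMul k (D.ψ b) ≫ iota u D.hle k ≫ (pullD u).map t) := by
  rw [el_ptMul, el_iota]
  rfl

lemma bcHom_bijective (k : ℤ) {E : DCoh.D X} (hE : DCoh.IsQCohD E) (hBC : FlatBC.IsBC D) :
    Function.Bijective (bcHom D k E) := by
  have h : ⇑(bcHom D k E) = fun z => FlatBC.mapT A D.ψ
      ((mapDCHomologyIso (Scheme.Modules.pullback u) k).inv.app E)
      ((FlatBC.pullT D (DCoh.HD E k)).liftBaseChange B z) := funext (FlatBC.lift_eq D _)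
  rw [h]
  exact (ConcreteCategory.bijective_of_isIso
    (((mapDCHomologyIso (Scheme.Modules.pullback u) k).inv.app E).app D.W')).comp (hBC _ (hE k))

/-- Every class upstairs is a combination of classes from downstairs. -/
theorem exists_eq_sum (hBC : FlatBC.IsBC D) (hW : IsAffineOpen D.W) (hW' : IsAffineOpen D.W')
    (k : ℤ) {E : DCoh.D X} (hE : DCoh.IsQCohD E) (y : pt D.W' k ⟶ (pullD u).obj E) :
    ∃ (J : Type u) (_ : Fintype J) (b : J → B) (t : J → (pt D.W k ⟶ E)),
      y = ∑ i, ptMul k (D.ψ (b i)) ≫ iota u D.hle k ≫ (pullD u).map (t i) := by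
  obtain ⟨z, hz⟩ := (bcHom_bijective D k hE hBC).2 (el y)
  obtain ⟨S, hS⟩ := TensorProduct.exists_finset z
  choose t ht using fun i : S => (el_bijective hW k hE).2 i.1.2
  refine ⟨S, inferInstance, fun i => i.1.1, t, (el_bijective hW' k (isQCohD_pullD u hE)).1 ?_⟩
  change el y = elHom _ k _ (∑ i : S, _)
  rw [map_sum, ← hz, hS, map_sum, ← Finset.sum_coe_sort]
  refine Finset.sum_congr rfl fun i _ => ?_
  have h := bcHom_tmul D k i.1.1 (t i)
  rw [show (show FlatBC.RSec D.φ (DCoh.HD E k) from el (t i)) = i.1.2 from ht i] at h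
  exact h

/-- A relation downstairs gives a relation upstairs. -/
theorem sum_eq_zero (hW' : IsAffineOpen D.W') (k : ℤ) {E : DCoh.D X} (hE : DCoh.IsQCohD E)
    {J : Type u} [Fintype J] (b : J → B) (t : J → (pt D.W k ⟶ E))
    (h : ∑ i, b i ⊗ₜ[A] (show FlatBC.RSec D.φ (DCoh.HD E k) from el (t i)) = 0) :
    ∑ i, ptMul k (D.ψ (b i)) ≫ iota u D.hle k ≫ (pullD u).map (t i) = 0 := by
  refine (el_bijective hW' k (isQCohD_pullD u hE)).1 ?_
  change elHom _ k _ (∑ i, _) = el 0
  rw [el_zero, map_sum]
  refine (Finset.sum_congr rfl fun i _ => (bcHom_tmul D k (b i) (t i)).symm).trans ?_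
  rw [← map_sum, h, map_zero]

end Groth.Agent.KFlatLib.SecPoint
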