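import Groth.Agent.KFlatLib.Scheme.FlatBCCore
import Groth.Agent.KFlatLib.Scheme.RGammaPush
import Groth.Agent.KFlatLib.Scheme.Adjoint
import Groth.Agent.KFlatLib.Scheme.PushKInj
import Groth.Prelude.Def_DCoh3

/-!
# Flat base change of derived direct images
-/

set_option linter.style.haveILetI false
set_option backward.isDefEq.respectTransparency false

universe u w v

open CategoryTheory CategoryTheory.Limits AlgebraicGeometry Opposite

attribute [local instance] HasDerivedCategory.standard

namespace Groth.Agent.KFlatLib.FlatBC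

variable {X Y Z : Scheme.{u}}

local notation "Kh" X:max => HomotopyCategory (Scheme.Modules X) (ComplexShape.up ℤ)
local notation "qq" X:max => HomotopyCategory.quotient (Scheme.Modules X) (ComplexShape.up ℤ)
local notation "WW" X:max => HomotopyCategory.quasiIso (Scheme.Modules X) (ComplexShape.up ℤ)

/-- The unit of `Rf_*`. -/
noncomputable abbrev beta (f : X ⟶ Y) [DCoh.HasRpush f] :=
  (DCoh.pushKh f).totalRightDerivedUnit DerivedCategory.Qh (WW X)

/-- The counit of `Lf^*`. -/
noncomputable abbrev alpha (f : X ⟶ Y) [DCoh.HasLpull f] :=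
  (DCoh.pullKh f).totalLeftDerivedCounit DerivedCategory.Qh (WW Y)

/-- `f_*` on homotopy categories. -/
noncomputable abbrev pushH (f : X ⟶ Y) : Kh X ⥤ Kh Y :=
  (Scheme.Modules.pushforward f).mapHomotopyCategory (ComplexShape.up ℤ)

/-- `f^*` on homotopy categories. -/
noncomputable abbrev pullH (f : X ⟶ Y) : Kh Y ⥤ Kh X :=
  (Scheme.Modules.pullback f).mapHomotopyCategory (ComplexShape.up ℤ)

/-- The adjunction on homotopy categories. -/
noncomputable abbrev adjH (f : X ⟶ Y) : pullH f ⊣ pushH f :=
  adjHtpy (ComplexShape.up ℤ) (Scheme.Modules.pullbackPushforwardAdjunction f)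

/-- Every object of `D(X)` comes from a K-injective complex with injective terms. -/
lemma exists_injective_rep (E : DCoh.D X) :
    ∃ (I : CochainComplex X.Modules ℤ), I.IsKInjective ∧ (∀ n, Injective (I.X n)) ∧
      Nonempty (DerivedCategory.Qh.obj ((qq X).obj I) ≅ E) := by
  obtain ⟨I, t, hI, ht, -, hinj⟩ :=
    TriCat.exists_kInjective_resolution'.{u} (DerivedCategory.Q.objPreimage E)
  haveI := ht
  exact ⟨I, hI, hinj, ⟨(DerivedCategory.quotientCompQhIso X.Modules).app I ≪≫
    (asIso (DerivedCategory.Q.map t)).symm ≪≫ DerivedCategory.Q.objObjPreimageIso E⟩⟩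

/-- A functor on `D(X)` computed by K-injective complexes is a right derived functor. -/
theorem isRightDerived_of_kInjective {H : Type w} [Category.{v} H] (F : Kh X ⥤ H) (G : DCoh.D X ⥤ H)
    (ν : F ⟶ DerivedCategory.Qh ⋙ G)
    (hν : ∀ (I : CochainComplex X.Modules ℤ) [I.IsKInjective], IsIso (ν.app ((qq X).obj I))) :
    G.IsRightDerivedFunctor ν (WW X) := by
  haveI := TriCat.qh_isLeftAdjoint_of_exists_resolution (A := X.Modules) exists_kInjective_res
  let adjQ := Adjunction.ofIsLeftAdjoint (DerivedCategory.Qh (C := X.Modules))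
  let ρ := (DerivedCategory.Qh (C := X.Modules)).rightAdjoint
  haveI : (ρ ⋙ F).IsRightDerivedFunctor (Functor.whiskerRight adjQ.unit F) (WW X) :=
    TriCat.isRightDerivedFunctor_of_adjunction adjQ (WW X) F
  let γ := (ρ ⋙ F).rightDerivedDesc (Functor.whiskerRight adjQ.unit F) (WW X) G ν
  haveI : ∀ E, IsIso (γ.app E) := fun E => by
    obtain ⟨I, hI, -, ⟨e⟩⟩ := exists_injective_rep E
    haveI := hI
    haveI : IsIso (adjQ.unit.app ((qq X).obj I)) := by
      refine isIso_iff_yoneda_map_bijective _ |>.2 fun A => ?_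
      have h : (fun φ : A ⟶ (qq X).obj I => φ ≫ adjQ.unit.app ((qq X).obj I)) =
          (adjQ.homEquiv A (DerivedCategory.Qh.obj ((qq X).obj I))) ∘ DerivedCategory.Qh.map :=
        funext fun φ => (adjQ.unit.naturality φ).trans (adjQ.homEquiv_unit ..).symm
      exact h ▸ (adjQ.homEquiv A (DerivedCategory.Qh.obj ((qq X).obj I))).bijective.comp
        (CochainComplex.IsKInjective.Qh_map_bijective A I)
    haveI := hν I
    haveI : IsIso ((Functor.whiskerRight adjQ.unit F).app ((qq X).obj I)) :=
      inferInstanceAs (IsIso (F.map (adjQ.unit.app ((qq X).obj I))))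
    haveI : IsIso (γ.app (DerivedCategory.Qh.obj ((qq X).obj I))) :=
      IsIso.of_isIso_fac_left ((ρ ⋙ F).rightDerived_fac_app (Functor.whiskerRight adjQ.unit F) (WW X) G ν
        ((qq X).obj I))
    exact (NatTrans.isIso_app_iff_of_iso γ e).1 inferInstance
  haveI := NatIso.isIso_of_isIso_app γ
  refine (Functor.isRightDerivedFunctor_iff_of_iso (L := DerivedCategory.Qh) (RF := ρ ⋙ F) (RF' := G)
    (Functor.whiskerRight adjQ.unit F) ν (WW X) (asIso γ) ?_).1 (by assumption)
  exact (ρ ⋙ F).rightDerived_fac (Functor.whiskerRight adjQ.unit F) (WW X) G ν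

/-- The derived adjunction, compatible with the units. -/
theorem exists_adj (f : X ⟶ Y) [DCoh.HasLpull f] [DCoh.HasRpush f] :
    ∃ A : DCoh.Lpull f ⊣ DCoh.Rpush f, ∀ K : Kh Y,
      A.unit.app (DerivedCategory.Qh.obj K) ≫ (DCoh.Rpush f).map ((alpha f).app K) =
        DerivedCategory.Qh.map ((adjH f).unit.app K) ≫ (beta f).app ((pullH f).obj K) := by
  let WX := HomotopyCategory.quasiIso X.Modules (ComplexShape.up ℤ)
  let WY := HomotopyCategory.quasiIso Y.Modules (ComplexShape.up ℤ)
  let α := (DCoh.pullKh f).totalLeftDerivedCounit DerivedCategory.Qh WY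
  let β := (DCoh.pushKh f).totalRightDerivedUnit DerivedCategory.Qh WX
  haveI : (DCoh.Rpush f ⋙ DCoh.Lpull f).IsRightDerivedFunctor
      (Functor.whiskerRight β (DCoh.Lpull f) ≫ (Functor.associator _ _ _).hom) WX := by
    refine isRightDerived_of_kInjective _ _ _ fun I hI => ?_
    haveI : IsIso (β.app ((qq X).obj I)) := isIso_rightDerivedUnit_of_kInjective (DCoh.pushKh f) I
    simp only [NatTrans.comp_app, Functor.associator_hom_app, Functor.whiskerRight_app]
    erw [Category.comp_id]
    infer_instance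
  let q := HomotopyCategory.quotient Y.Modules (ComplexShape.up ℤ)
  haveI : (DCoh.Lpull f ⋙ DCoh.Rpush f).IsLeftDerivedFunctor
      ((Functor.associator _ _ _).inv ≫ Functor.whiskerRight α (DCoh.Rpush f)) WY := by
    refine isLeftDerivedFunctor_of_isIso (L := DerivedCategory.Q) (q := q)
      (HomologicalComplex.homotopyEquivalences Y.Modules (ComplexShape.up ℤ))
      (DerivedCategory.quotientCompQhIso Y.Modules)
      ((resOfFunctor (Scheme.Modules.pullback f)
        (fun _ _ a hP hQ ha => haveI := ha; quasiIso_pullback f a hP hQ)).postcomp (DCoh.Rpush f))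
      _ fun K hK => ?_
    haveI : IsIso (α.app (q.obj K)) := isIso_Lpull_counit f hK
    simp only [NatTrans.comp_app, Functor.associator_inv_app, Functor.whiskerRight_app]
    erw [Category.id_comp]
    infer_instance
  exact ⟨(adjH f).derived WY WX α β, fun K => (adjH f).derivedη_fac_app WY α β K⟩

variable {f : X ⟶ Y} [DCoh.HasLpull f] [DCoh.HasRpush f] {A : DCoh.Lpull f ⊣ DCoh.Rpush f}
  (hA : ∀ K : Kh Y, A.unit.app (DerivedCategory.Qh.obj K) ≫ (DCoh.Rpush f).map ((alpha f).app K) =
    DerivedCategory.Qh.map ((adjH f).unit.app K) ≫ (beta f).app ((pullH f).obj K))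

include hA in
/-- The derived adjunction on morphisms coming from the homotopy category. -/
theorem homEquiv_alpha {K : Kh Y} {M : Kh X} (φ : (pullH f).obj K ⟶ M) :
    A.homEquiv _ _ ((alpha f).app K ≫ DerivedCategory.Qh.map φ) =
      DerivedCategory.Qh.map ((adjH f).homEquiv K M φ) ≫ (beta f).app M := by
  rw [A.homEquiv_unit, (adjH f).homEquiv_unit, Functor.map_comp (DCoh.Rpush f), ← Category.assoc]
  refine (congrArg (· ≫ (DCoh.Rpush f).map (DerivedCategory.Qh.map φ)) (hA K)).trans ?_
  rw [Functor.map_comp DerivedCategory.Qh, Category.assoc, Category.assoc]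
  exact congrArg (DerivedCategory.Qh.map ((adjH f).unit.app K) ≫ ·) ((beta f).naturality φ).symm

/-- For flat `f` every complex computes `Lf^*`. -/
theorem isIso_alpha_of_flat [Flat f] (K : Kh Y) : IsIso ((alpha f).app K) := by
  obtain ⟨K⟩ := K
  haveI := preservesHomology_pullback f
  let t := (flatCover Y).ψ.app K
  haveI : QuasiIso t := (flatCover Y).quasiIso_ψ K
  let Lg := DCoh.Lpull f
  let qK : (qq Y).obj ((kRes Y).obj K) ⟶ (qq Y).obj K := (qq Y).map t
  haveI : IsIso (DerivedCategory.Qh.map qK) :=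
    Localization.inverts DerivedCategory.Qh (WW Y) _
      ((HomotopyCategory.quotient_map_mem_quasiIso_iff t).2 (show QuasiIso t from inferInstance))
  haveI : IsIso (DerivedCategory.Qh.map ((pullH f).map qK)) :=
    Localization.inverts DerivedCategory.Qh (WW X) _
      ((HomotopyCategory.quotient_map_mem_quasiIso_iff ((pullCx f).map t)).2
        (show QuasiIso ((pullCx f).map t) from inferInstance))
  haveI : IsIso ((alpha f).app ((qq Y).obj ((kRes Y).obj K))) := isIso_Lpull_counit f (isKFlat_kRes K)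
  have h := (alpha f).naturality qK
  dsimp only [Functor.comp_map] at h
  haveI : IsIso (Lg.map (DerivedCategory.Qh.map qK) ≫ (alpha f).app ((qq Y).obj K)) := by
    rw [h]
    exact IsIso.comp_isIso' inferInstance inferInstance
  change IsIso ((alpha f).app ((qq Y).obj K))
  exact IsIso.of_isIso_comp_left (Lg.map (DerivedCategory.Qh.map qK)) ((alpha f).app ((qq Y).obj K))

omit [DCoh.HasLpull f] [DCoh.HasRpush f] in
/-- The unit of `Rg_*` is invertible on direct images of K-injective complexes. -/
theorem isIso_beta_push (g : Y ⟶ Z) [DCoh.HasRpush g] [DCoh.HasLpull g]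
    (J : CochainComplex X.Modules ℤ) [J.IsKInjective] :
    IsIso ((beta g).app ((pushH f).obj ((qq X).obj J))) := by
  obtain ⟨A, hA⟩ := exists_adj g
  let T := (pushH f).obj ((qq X).obj J)
  let b := (beta g).app T
  let κ : (pushH (f ≫ g)).obj ((qq X).obj J) ≅ (pushH g).obj T :=
    (qq Z).mapIso (((NatIso.mapHomologicalComplex (Scheme.Modules.pushforwardComp f g)
      (ComplexShape.up ℤ)).app J).symm ≪≫
        (Functor.mapHomologicalComplexCompIso (Iso.refl _) (ComplexShape.up ℤ)).symm.app J)
  have key : ∀ P : CochainComplex Z.Modules ℤ, DCoh.IsKFlat P →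
      Function.Bijective (fun ψ : DerivedCategory.Qh.obj ((qq Z).obj P) ⟶
        DerivedCategory.Qh.obj ((pushH g).obj T) => ψ ≫ b) := by
    intro P hP
    haveI : IsIso ((alpha g).app ((qq Z).obj P)) := isIso_Lpull_counit g hP
    have h₁ : Function.Bijective (DerivedCategory.Qh.map :
        ((qq Z).obj P ⟶ (pushH g).obj T) → _) := by
      have h0 := Qh_map_bijective_push (f ≫ g) P hP J
      have : (DerivedCategory.Qh.map : ((qq Z).obj P ⟶ (pushH g).obj T) → _) =
          (fun x => x ≫ (DerivedCategory.Qh.mapIso κ).hom) ∘ DerivedCategory.Qh.map ∘ (fun x => x ≫ κ.inv) :=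
        funext fun x => by simp [← Functor.map_comp]
      rw [this]
      exact (Iso.homToEquiv (DerivedCategory.Qh.mapIso κ)).bijective.comp
        (h0.comp (Iso.homToEquiv κ.symm).bijective)
    have h₂ := Qh_map_bijective_push f ((pullCx g).obj P) (isKFlat_pullback g hP) J
    have : (fun ψ => ψ ≫ b) ∘ DerivedCategory.Qh.map =
        (A.homEquiv _ _) ∘ (fun x => (alpha g).app ((qq Z).obj P) ≫ x) ∘ DerivedCategory.Qh.map ∘
          ((adjH g).homEquiv ((qq Z).obj P) T).symm := funext fun x =>
      ((homEquiv_alpha hA _).trans (by rw [Equiv.apply_symm_apply]; rfl)).symm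
    have h₃ : Function.Bijective ((fun ψ => ψ ≫ b) ∘ DerivedCategory.Qh.map :
        ((qq Z).obj P ⟶ (pushH g).obj T) → _) := by
      rw [this]
      exact (A.homEquiv _ _).bijective.comp
        ((Iso.homFromEquiv (asIso ((alpha g).app ((qq Z).obj P))).symm).bijective.comp
          (h₂.comp (Equiv.bijective _)))
    exact (h₁.of_comp_iff _).1 h₃
  refine isIso_iff_yoneda_map_bijective _ |>.2 fun E => ?_
  let C := DerivedCategory.Q.objPreimage E
  let e : DerivedCategory.Qh.obj ((qq Z).obj ((kRes Z).obj C)) ≅ E :=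
    (DerivedCategory.quotientCompQhIso Z.Modules).app _ ≪≫ (resQIso Z).app C ≪≫
      DerivedCategory.Q.objObjPreimageIso E
  have h := key _ (isKFlat_kRes C)
  have : (fun x : E ⟶ _ => x ≫ b) = (fun x => e.inv ≫ x) ∘
      (fun ψ : DerivedCategory.Qh.obj ((qq Z).obj ((kRes Z).obj C)) ⟶ _ => ψ ≫ b) ∘ (fun x => e.hom ≫ x) :=
    funext fun x => by simp
  rw [this]
  exact (Iso.homFromEquiv e).bijective.comp (h.comp (Iso.homFromEquiv e.symm).bijective)

section BC

variable {X' S S' : Scheme.{u}} {f : X ⟶ S} {g : S' ⟶ S} {g' : X' ⟶ X} {f' : X' ⟶ S'}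
  (hw : g' ≫ f = f' ≫ g)

/-- `f_* g'_* = g_* f'_*`. -/
noncomputable def squareIso : Scheme.Modules.pushforward g' ⋙ Scheme.Modules.pushforward f ≅
    Scheme.Modules.pushforward f' ⋙ Scheme.Modules.pushforward g :=
  Scheme.Modules.pushforwardComp g' f ≪≫ Scheme.Modules.pushforwardCongr hw ≪≫
    (Scheme.Modules.pushforwardComp f' g).symm

/-- `f_* g'_* = g_* f'_*` on complexes. -/
noncomputable def squareCx (K : CochainComplex X'.Modules ℤ) :
    ((Scheme.Modules.pushforward f).mapHomologicalComplex (ComplexShape.up ℤ)).obj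
        (((Scheme.Modules.pushforward g').mapHomologicalComplex (ComplexShape.up ℤ)).obj K) ≅
      ((Scheme.Modules.pushforward g).mapHomologicalComplex (ComplexShape.up ℤ)).obj
        (((Scheme.Modules.pushforward f').mapHomologicalComplex (ComplexShape.up ℤ)).obj K) :=
  HomologicalComplex.Hom.isoOfComponents (fun n => (squareIso hw).app (K.X n))
    fun i j _ => ((squareIso hw).hom.naturality (K.d i j)).symm

/-- `f_* g'_* = g_* f'_*` on homotopy categories, followed by localization. -/
noncomputable def squareH : pushH g' ⋙ DCoh.pushKh f ≅ pushH f' ⋙ DCoh.pushKh g :=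
  NatIso.ofComponents (fun K => DerivedCategory.Qh.mapIso ((qq S).mapIso (squareCx hw K.as)))
    fun {K L} a => by
      obtain ⟨a, rfl⟩ := (qq X').map_surjective a
      change DerivedCategory.Qh.map ((qq S).map _) ≫ DerivedCategory.Qh.map ((qq S).map _) =
        DerivedCategory.Qh.map ((qq S).map _) ≫ DerivedCategory.Qh.map ((qq S).map _)
      rw [← Functor.map_comp, ← Functor.map_comp, ← Functor.map_comp, ← Functor.map_comp]
      exact congrArg _ (congrArg _
        (HomologicalComplex.hom_ext _ _ fun n => (squareIso hw).hom.naturality (a.f n)))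

/-- The base change map computed on a square. -/
theorem app_eq {M : X'.Modules} (V : S.Opens) :
    ((squareIso hw).hom.app M).app V = M.presheaf.map
      (eqToHom (show f' ⁻¹ᵁ (g ⁻¹ᵁ V) = g' ⁻¹ᵁ (f ⁻¹ᵁ V) by
        rw [← Scheme.Hom.comp_preimage, ← Scheme.Hom.comp_preimage, hw])).op := by
  simp [squareIso]

/-- The transpose of a morphism of complexes into a direct image. -/
noncomputable def transposeCx {u : Y ⟶ Z} {K : CochainComplex Z.Modules ℤ} {L : CochainComplex Y.Modules ℤ}
    (φ : K ⟶ ((Scheme.Modules.pushforward u).mapHomologicalComplex (ComplexShape.up ℤ)).obj L) :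
    (pullCx u).obj K ⟶ L where
  f i := ((Scheme.Modules.pullbackPushforwardAdjunction u).homEquiv _ _).symm (φ.f i)
  comm' i j _ := by
    change ((Scheme.Modules.pullbackPushforwardAdjunction u).homEquiv _ _).symm (φ.f i) ≫ L.d i j =
      (Scheme.Modules.pullback u).map (K.d i j) ≫
        ((Scheme.Modules.pullbackPushforwardAdjunction u).homEquiv _ _).symm (φ.f j)
    rw [← Adjunction.homEquiv_naturality_left_symm, ← Adjunction.homEquiv_naturality_right_symm]
    exact congrArg _ (φ.comm i j)

lemma homEquiv_transposeCx {u : Y ⟶ Z} {K : CochainComplex Z.Modules ℤ} {L : CochainComplex Y.Modules ℤ}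
    (φ : K ⟶ ((Scheme.Modules.pushforward u).mapHomologicalComplex (ComplexShape.up ℤ)).obj L) :
    (adjH u).homEquiv ((qq Z).obj K) ((qq Y).obj L) ((qq Y).map (transposeCx φ)) = (qq Z).map φ := by
  rw [Adjunction.homEquiv_unit]
  change (qq Z).map _ ≫ (qq Z).map _ = (qq Z).map φ
  rw [← Functor.map_comp]
  refine congrArg _ (HomologicalComplex.hom_ext _ _ fun i => ?_)
  exact ((Scheme.Modules.pullbackPushforwardAdjunction u).homEquiv_unit ..).symm.trans
    (((Scheme.Modules.pullbackPushforwardAdjunction u).homEquiv _ _).apply_symm_apply (φ.f i))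

/-- The unit of an adjunction read through another one. -/
lemma homEquiv_rightAdjointUniq {C D : Type*} [Category C] [Category D] {F : C ⥤ D} {G G' : D ⥤ C}
    (a₁ : F ⊣ G) (a₂ : F ⊣ G') {K : C} {L : D} (φ : F.obj K ⟶ L) :
    a₂.homEquiv K L φ = a₁.homEquiv K L φ ≫ (a₁.rightAdjointUniq a₂).hom.app L := by
  rw [a₁.homEquiv_unit, a₂.homEquiv_unit, Category.assoc, NatTrans.naturality, ← Category.assoc,
    Adjunction.unit_rightAdjointUniq_hom_app]

variable [DCoh.HasRpush f] [DCoh.HasRpush g] [DCoh.HasLpull g] [DCoh.HasRpush f'] [DCoh.HasRpush g']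
  [DCoh.HasLpull g']

/-- The composition isomorphism, on K-injective complexes. -/
theorem exists_square_derived :
    ∃ e : DCoh.Rpush g' ⋙ DCoh.Rpush f ≅ DCoh.Rpush f' ⋙ DCoh.Rpush g,
      ∀ M : Kh X', ((beta f).app ((pushH g').obj M) ≫ (DCoh.Rpush f).map ((beta g').app M)) ≫
          e.hom.app (DerivedCategory.Qh.obj M) =
        (squareH hw).hom.app M ≫ (beta g).app ((pushH f').obj M) ≫ (DCoh.Rpush g).map ((beta f').app M) := by
  let F₁ := pushH g' ⋙ DCoh.pushKh f
  let F₂ := pushH f' ⋙ DCoh.pushKh g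
  let ν₁ : F₁ ⟶ DerivedCategory.Qh ⋙ DCoh.Rpush g' ⋙ DCoh.Rpush f :=
    Functor.whiskerLeft (pushH g') (beta f) ≫ (Functor.associator _ _ _).inv ≫
      Functor.whiskerRight (beta g') (DCoh.Rpush f) ≫ (Functor.associator _ _ _).hom
  let ν₂ : F₂ ⟶ DerivedCategory.Qh ⋙ DCoh.Rpush f' ⋙ DCoh.Rpush g :=
    Functor.whiskerLeft (pushH f') (beta g) ≫ (Functor.associator _ _ _).inv ≫
      Functor.whiskerRight (beta f') (DCoh.Rpush g) ≫ (Functor.associator _ _ _).hom
  have a₁ : ∀ M, ν₁.app M = (beta f).app ((pushH g').obj M) ≫ (DCoh.Rpush f).map ((beta g').app M) :=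
    fun M => by simp [ν₁]
  have a₂ : ∀ M, ν₂.app M = (beta g).app ((pushH f').obj M) ≫ (DCoh.Rpush g).map ((beta f').app M) :=
    fun M => by simp [ν₂]
  haveI : (DCoh.Rpush g' ⋙ DCoh.Rpush f).IsRightDerivedFunctor ν₁ (WW X') := by
    refine isRightDerived_of_kInjective _ _ _ fun J hJ => ?_
    haveI := hasLpull f
    haveI := isIso_beta_push (f := g') f J
    haveI : IsIso ((beta g').app ((qq X').obj J)) := isIso_rightDerivedUnit_of_kInjective (DCoh.pushKh g') J
    rw [a₁]
    exact IsIso.comp_isIso' inferInstance inferInstance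
  haveI : (DCoh.Rpush f' ⋙ DCoh.Rpush g).IsRightDerivedFunctor ν₂ (WW X') := by
    refine isRightDerived_of_kInjective _ _ _ fun J hJ => ?_
    haveI := isIso_beta_push (f := f') g J
    haveI : IsIso ((beta f').app ((qq X').obj J)) := isIso_rightDerivedUnit_of_kInjective (DCoh.pushKh f') J
    rw [a₂]
    exact IsIso.comp_isIso' inferInstance inferInstance
  refine ⟨Functor.rightDerivedNatIso _ _ ν₁ ν₂ (WW X') (squareH hw), fun M => ?_⟩
  rw [← a₁, ← a₂]
  exact Functor.rightDerivedNatTrans_app _ _ ν₁ ν₂ (WW X') (squareH hw).hom M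

/-- Flat base change for derived direct images. -/
theorem exists_isIso_baseChangeApp (h : IsPullback g' f' f g) [QuasiCompact f] [QuasiSeparated f] [Flat g]
    (adjg : DCoh.Lpull g ⊣ DCoh.Rpush g) (adjg' : DCoh.Lpull g' ⊣ DCoh.Rpush g') :
    ∃ e : DCoh.Rpush g' ⋙ DCoh.Rpush f ≅ DCoh.Rpush f' ⋙ DCoh.Rpush g,
      ∀ E : DCoh.D X, DCoh.IsQCohD E → IsIso (DCoh.baseChangeApp adjg adjg' e E) := by
  haveI : Flat g' := MorphismProperty.of_isPullback (P := @Flat) h.flip inferInstance
  obtain ⟨A, hA⟩ := exists_adj g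
  obtain ⟨A', hA'⟩ := exists_adj g'
  obtain ⟨e₀, he₀⟩ := exists_square_derived (f := f) (g := g) (g' := g') (f' := f') h.w
  let a := A.rightAdjointUniq adjg
  let a' := A'.rightAdjointUniq adjg'
  let e := Functor.isoWhiskerRight a'.symm (DCoh.Rpush f) ≪≫ e₀ ≪≫ Functor.isoWhiskerLeft (DCoh.Rpush f') a
  refine ⟨e, fun E hE => ?_⟩
  -- naturality in the object
  have hnat : ∀ {E₁ E₂ : DCoh.D X} (i : E₁ ⟶ E₂),
      DCoh.baseChangeApp adjg adjg' e E₁ ≫ (DCoh.Rpush f').map ((DCoh.Lpull g').map i) =
        (DCoh.Lpull g).map ((DCoh.Rpush f).map i) ≫ DCoh.baseChangeApp adjg adjg' e E₂ := by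
    intro E₁ E₂ i
    dsimp only [DCoh.baseChangeApp]
    rw [← Adjunction.homEquiv_naturality_right_symm, ← Adjunction.homEquiv_naturality_left_symm]
    refine congrArg _ ?_
    rw [Category.assoc]
    erw [← e.hom.naturality ((DCoh.Lpull g').map i)]
    rw [← Category.assoc, ← Category.assoc]
    refine congrArg (· ≫ e.hom.app ((DCoh.Lpull g').obj E₂)) ?_
    erw [← Functor.map_comp, ← Functor.map_comp]
    exact congrArg _ (adjg'.unit.naturality i).symm
  obtain ⟨I, hI, hIinj, ⟨i⟩⟩ := exists_injective_rep E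
  suffices hmain : IsIso (DCoh.baseChangeApp adjg adjg' e (DerivedCategory.Qh.obj ((qq X).obj I))) by
    haveI := hmain
    haveI : IsIso ((DCoh.Lpull g).map ((DCoh.Rpush f).map i.hom) ≫ DCoh.baseChangeApp adjg adjg' e E) := by
      rw [← hnat i.hom]
      exact IsIso.comp_isIso' inferInstance inferInstance
    exact IsIso.of_isIso_comp_left ((DCoh.Lpull g).map ((DCoh.Rpush f).map i.hom)) _
  haveI := hI
  haveI := hIinj
  obtain ⟨J, s, hJ, hs, -, hJinj⟩ := TriCat.exists_kInjective_resolution'.{u} ((pullCx g').obj I)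
  haveI := hJ
  haveI := hJinj
  haveI := hs
  let P := DerivedCategory.Qh.obj ((qq X).obj I)
  let G := fun {W W' : Scheme.{u}} (u : W ⟶ W') =>
    (Scheme.Modules.pushforward u).mapHomologicalComplex (ComplexShape.up ℤ)
  let η : I ⟶ (G g').obj ((pullCx g').obj I) :=
    { f := fun n => (Scheme.Modules.pullbackPushforwardAdjunction g').unit.app (I.X n)
      comm' := fun i j _ => ((Scheme.Modules.pullbackPushforwardAdjunction g').unit.naturality (I.d i j)).symm }
  let m : I ⟶ (G g').obj J := η ≫ (G g').map s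
  let c : (G f).obj I ⟶ (G g).obj ((G f').obj J) := (G f).map m ≫ (squareCx h.w J).hom
  let χ := transposeCx c
  have hm : (adjH g').homEquiv ((qq X).obj I) ((qq X').obj J) ((qq X').map s) = (qq X).map m := by
    rw [Adjunction.homEquiv_unit]
    exact ((qq X).map_comp η ((G g').map s)).symm
  have hχ : QuasiIso χ := by
    refine quasiIso_bc h I J s ?_ χ ?_
    · exact isQCohD_of_iso (i.symm ≪≫ (DerivedCategory.quotientCompQhIso X.Modules).app I) hE
    · intro n V W₀ hle hle' x
      let adj := Scheme.Modules.pullbackPushforwardAdjunction g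
      have e₁ : adj.unit.app ((Scheme.Modules.pushforward f).obj (I.X n)) ≫
          (Scheme.Modules.pushforward g).map (χ.f n) = c.f n :=
        (adj.homEquiv_unit ..).symm.trans ((adj.homEquiv _ _).apply_symm_apply (c.f n))
      unfold QCoh.pullSec
      refine (QCoh.app_rs (χ.f n) hle _).trans ?_
      refine (congrArg (QCoh.rs _ hle) (congr(($e₁).app V x))).trans ?_
      change QCoh.rs (J.X n) (f'.preimage_mono hle) (((squareIso h.w).hom.app (J.X n)).app V
        ((s.f n).app (g' ⁻¹ᵁ (f ⁻¹ᵁ V))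
          (((Scheme.Modules.pullbackPushforwardAdjunction g').unit.app (I.X n)).app (f ⁻¹ᵁ V) x))) = _
      rw [app_eq]
      refine Eq.trans ?_ (QCoh.app_rs (s.f n) hle' _).symm
      exact QCoh.map_map _ _ _
  haveI : IsIso (DerivedCategory.Qh.map ((qq X').map s)) :=
    Localization.inverts DerivedCategory.Qh (WW X') _
      ((HomotopyCategory.quotient_map_mem_quasiIso_iff s).2 hs)
  haveI : IsIso (DerivedCategory.Qh.map ((qq S').map χ)) :=
    Localization.inverts DerivedCategory.Qh (WW S') _
      ((HomotopyCategory.quotient_map_mem_quasiIso_iff χ).2 hχ)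
  haveI := isIso_alpha_of_flat (f := g') ((qq X).obj I)
  haveI := isIso_alpha_of_flat (f := g) ((qq S).obj ((G f).obj I))
  haveI : IsIso ((beta f).app ((qq X).obj I)) := isIso_rightDerivedUnit_of_kInjective (DCoh.pushKh f) I
  haveI : IsIso ((beta f').app ((qq X').obj J)) := isIso_rightDerivedUnit_of_kInjective (DCoh.pushKh f') J
  let i' : (DCoh.Lpull g').obj P ⟶ DerivedCategory.Qh.obj ((qq X').obj J) :=
    (alpha g').app ((qq X).obj I) ≫ DerivedCategory.Qh.map ((qq X').map s)
  haveI : IsIso i' := IsIso.comp_isIso' inferInstance inferInstance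
  let qI := (qq X).obj I
  let qJ := (qq X').obj J
  have hu : adjg'.homEquiv P _ i' ≫ a'.inv.app (DerivedCategory.Qh.obj qJ) =
      DerivedCategory.Qh.map ((qq X).map m) ≫ (beta g').app qJ := by
    rw [homEquiv_rightAdjointUniq A' adjg']
    erw [Category.assoc, a'.hom_inv_id_app, Category.comp_id]
    exact (homEquiv_alpha hA' ((qq X').map s)).trans (congrArg (fun z => DerivedCategory.Qh.map z ≫ (beta g').app qJ) hm)
  let θ := DCoh.baseChangeApp adjg adjg' e P
  have key : (DCoh.Lpull g).map ((beta f).app qI) ≫ θ ≫ (DCoh.Rpush f').map i' =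
      (alpha g).app ((qq S).obj ((G f).obj I)) ≫ DerivedCategory.Qh.map ((qq S').map χ) ≫
        (beta f').app qJ := by
    dsimp only [θ, DCoh.baseChangeApp]
    rw [← Adjunction.homEquiv_naturality_right_symm]
    erw [← Adjunction.homEquiv_naturality_left_symm]
    rw [Equiv.symm_apply_eq, ← Category.assoc ((alpha g).app _)]
    erw [adjg.homEquiv_naturality_right]
    rw [homEquiv_rightAdjointUniq A adjg]
    erw [homEquiv_alpha hA, homEquiv_transposeCx]
    erw [Category.assoc, e.hom.naturality i' |>.symm]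
    have hsplit : e.hom.app (DerivedCategory.Qh.obj qJ) = (DCoh.Rpush f).map (a'.inv.app (DerivedCategory.Qh.obj qJ)) ≫
        e₀.hom.app (DerivedCategory.Qh.obj qJ) ≫ a.hom.app ((DCoh.Rpush f').obj (DerivedCategory.Qh.obj qJ)) := rfl
    rw [hsplit]
    erw [← Functor.map_comp_assoc, ← Functor.map_comp_assoc, ← adjg'.homEquiv_unit, hu]
    erw [Functor.map_comp]
    simp only [Category.assoc]
    erw [← (beta f).naturality_assoc ((qq X).map m), ← Category.assoc ((beta f).app _)]
    have h0 := he₀ qJ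
    erw [← Category.assoc ((beta f).app ((pushH g').obj qJ) ≫ _), h0]
    simp only [Category.assoc]
    erw [← (a.hom).naturality ((beta f').app qJ)]
    rw [← Category.assoc, ← Category.assoc]
    conv_rhs => rw [← Category.assoc]
    refine congrArg (· ≫ _) ?_
    refine congrArg (· ≫ (beta g).app ((pushH f').obj qJ)) ?_
    exact (DerivedCategory.Qh.map_comp _ _).symm.trans
      (congrArg DerivedCategory.Qh.map ((qq S).map_comp ((G f).map m) (squareCx h.w J).hom).symm)
  haveI : IsIso ((DCoh.Lpull g).map ((beta f).app qI) ≫ θ ≫ (DCoh.Rpush f').map i') := by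
    rw [key]
    exact IsIso.comp_isIso' inferInstance (IsIso.comp_isIso' inferInstance inferInstance)
  haveI : IsIso (θ ≫ (DCoh.Rpush f').map i') :=
    IsIso.of_isIso_comp_left ((DCoh.Lpull g).map ((beta f).app qI)) _
  exact IsIso.of_isIso_comp_right θ ((DCoh.Rpush f').map i')

end BC

end Groth.Agent.KFlatLib.FlatBC
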