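import Groth.Agent.KFlatLib.Scheme.RGammaPush

/-!
# Pushforwards of K-injective complexes are acyclic for global sections
-/

set_option linter.style.haveILetI false
set_option backward.isDefEq.respectTransparency false

universe u

open CategoryTheory CategoryTheory.Limits AlgebraicGeometry

attribute [local instance] HasDerivedCategory.standard

namespace Groth.Agent.KFlatLib

variable {X Y : Scheme.{u}} (f : X ⟶ Y)

/-- `RΓ` of the pushforward of a K-injective complex is computed by the complex of sections. -/
theorem isIso_gammaUnit_push [DCoh.HasRΓ Y] (I : CochainComplex X.Modules ℤ) [I.IsKInjective] :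
    IsIso (((DCoh.gammaKh Y).totalRightDerivedUnit DerivedCategory.Qh
      (HomotopyCategory.quasiIso Y.Modules (ComplexShape.up ℤ))).app
      ((HomotopyCategory.quotient Y.Modules (ComplexShape.up ℤ)).obj
        ((mapCx (Scheme.Modules.pushforward f)).obj I))) := by
  let c := ComplexShape.up ℤ
  let q := HomotopyCategory.quotient Y.Modules c
  obtain ⟨J, s, hJ, hs⟩ := exists_kInjective_res ((mapCx (Scheme.Modules.pushforward f)).obj I)
  haveI := hJ
  haveI := hs
  haveI := quasiIso_gamma_map f I s
  let β := (DCoh.gammaKh Y).totalRightDerivedUnit DerivedCategory.Qh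
    (HomotopyCategory.quasiIso Y.Modules c)
  have w := β.naturality (q.map s)
  haveI := isIso_rightDerivedUnit_of_kInjective (DCoh.gammaKh Y) J
  have h1 : IsIso ((DCoh.gammaKh Y).map (q.map s)) :=
    Localization.inverts DerivedCategory.Qh (HomotopyCategory.quasiIso AddCommGrpCat.{u} c)
      ((HomotopyCategory.quotient AddCommGrpCat.{u} c).map ((mapCx (DCoh.gammaAb Y)).map s))
      ((HomotopyCategory.quotient_map_mem_quasiIso_iff _).2
        (by rw [HomologicalComplex.mem_quasiIso_iff]; infer_instance))
  haveI : IsIso (DerivedCategory.Qh.map (q.map s)) :=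
    Localization.inverts DerivedCategory.Qh (HomotopyCategory.quasiIso Y.Modules c) _
      ((HomotopyCategory.quotient_map_mem_quasiIso_iff s).2
        (by rw [HomologicalComplex.mem_quasiIso_iff]; infer_instance))
  have h2 : IsIso (β.app (q.obj ((mapCx (Scheme.Modules.pushforward f)).obj I)) ≫
      (DCoh.RΓ Y).map (DerivedCategory.Qh.map (q.map s))) :=
    w ▸ IsIso.comp_isIso' h1 inferInstance
  exact IsIso.of_isIso_comp_right (β.app (q.obj ((mapCx (Scheme.Modules.pushforward f)).obj I)))
    ((DCoh.RΓ Y).map (DerivedCategory.Qh.map (q.map s)))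

/-- The same for the restriction of the pushforward to an open. -/
theorem isIso_gammaUnit_restrict_push (U : Y.Opens) [DCoh.HasRΓ (U : Scheme.{u})]
    (B : CochainComplex X.Modules ℤ) [B.IsKInjective] :
    IsIso (((DCoh.gammaKh (U : Scheme.{u})).totalRightDerivedUnit DerivedCategory.Qh
      (HomotopyCategory.quasiIso (U : Scheme.{u}).Modules (ComplexShape.up ℤ))).app
      ((HomotopyCategory.quotient (U : Scheme.{u}).Modules (ComplexShape.up ℤ)).obj
        ((DCoh.restrictCx U).obj ((mapCx (Scheme.Modules.pushforward f)).obj B)))) := by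
  haveI := isKInjective_rCx (f ⁻¹ᵁ U).ι B
  haveI : ∀ N, IsIso ((H23.PullPush.pushRestrict f U).app N) := fun N => inferInstance
  haveI := NatIso.isIso_of_isIso_app (H23.PullPush.pushRestrict f U)
  let α := asIso (H23.PullPush.pushRestrict f U)
  let e : (DCoh.restrictCx U).obj ((mapCx (Scheme.Modules.pushforward f)).obj B) ≅
      (mapCx (Scheme.Modules.pushforward (f ∣_ U))).obj ((rCx (f ⁻¹ᵁ U).ι).obj B) :=
    HomologicalComplex.Hom.isoOfComponents (fun n => α.app (B.X n))
      fun i j _ => (α.hom.naturality (B.d i j)).symm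
  exact (NatTrans.isIso_app_iff_of_iso _
    ((HomotopyCategory.quotient (U : Scheme.{u}).Modules (ComplexShape.up ℤ)).mapIso e)).2
      (isIso_gammaUnit_push (f ∣_ U) _)

end Groth.Agent.KFlatLib
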