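import Groth.Agent.KFlatLib.Scheme.RpushRestrict
import Groth.Agent.KFlatLib.Scheme.Adjoint
import Groth.Agent.KFlatLib.Perfect.Basic

/-!
# `Rj_*` of an open immersion is fully faithful
-/

set_option linter.style.haveILetI false
set_option backward.isDefEq.respectTransparency false

universe u

open CategoryTheory CategoryTheory.Limits AlgebraicGeometry

attribute [local instance] HasDerivedCategory.standard

namespace Groth.Agent.KFlatLib

variable {U X : Scheme.{u}} (j : U ⟶ X) [IsOpenImmersion j]
  [PreservesFiniteLimits (Scheme.Modules.restrictFunctor j)]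

/-- `j^*Rj_* ≅ id`. -/
theorem nonempty_rpush_restrictD_id [DCoh.HasRpush j] :
    Nonempty (DCoh.Rpush j ⋙ DCoh.restrictD j ≅ 𝟭 (DCoh.D U)) := by
  haveI := TriCat.qh_isLeftAdjoint_of_exists_resolution (A := U.Modules) exists_kInjective_res
  let adjQ := Adjunction.ofIsLeftAdjoint (DerivedCategory.Qh (C := U.Modules))
  let ρ := (DerivedCategory.Qh (C := U.Modules)).rightAdjoint
  let W := HomotopyCategory.quasiIso U.Modules (ComplexShape.up ℤ)
  haveI : (ρ ⋙ DCoh.pushKh j).IsRightDerivedFunctor
      (Functor.whiskerRight adjQ.unit (DCoh.pushKh j)) W :=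
    TriCat.isRightDerivedFunctor_of_adjunction adjQ W (DCoh.pushKh j)
  let e : ρ ⋙ DCoh.pushKh j ≅ DCoh.Rpush j :=
    Functor.rightDerivedUnique _ _ (Functor.whiskerRight adjQ.unit (DCoh.pushKh j))
      ((DCoh.pushKh j).totalRightDerivedUnit DerivedCategory.Qh W) W
  let c := ComplexShape.up ℤ
  haveI : ∀ E, IsIso (adjQ.counit.app E) := fun E => by
    obtain ⟨I, s, hI, hs⟩ := exists_kInjective_res (DerivedCategory.Q.objPreimage E)
    haveI := hs
    let qI := (HomotopyCategory.quotient U.Modules (ComplexShape.up ℤ)).obj I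
    let i : DerivedCategory.Qh.obj qI ≅ E :=
      (DerivedCategory.quotientCompQhIso U.Modules).app I ≪≫
        (asIso (DerivedCategory.Q.map s)).symm ≪≫ DerivedCategory.Q.objObjPreimageIso E
    refine (NatTrans.isIso_app_iff_of_iso adjQ.counit i).1 ?_
    haveI : IsIso (adjQ.unit.app qI) := by
      refine isIso_iff_yoneda_map_bijective _ |>.2 fun A => ?_
      have hb := ((adjQ.homEquiv A (DerivedCategory.Qh.obj qI)).bijective).comp
        (CochainComplex.IsKInjective.Qh_map_bijective A I)
      have h : (fun φ : A ⟶ qI => φ ≫ adjQ.unit.app qI) =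
          (adjQ.homEquiv A (DerivedCategory.Qh.obj qI)) ∘ DerivedCategory.Qh.map :=
        funext fun φ => (adjQ.unit.naturality φ).trans (adjQ.homEquiv_unit ..).symm
      exact h ▸ hb
    exact IsIso.of_isIso_fac_left (adjQ.left_triangle_components qI)
  haveI := NatIso.isIso_of_isIso_app adjQ.counit
  let p : Scheme.Modules.pushforward j ⋙ Scheme.Modules.restrictFunctor j ≅ 𝟭 U.Modules :=
    asIso (Scheme.Modules.restrictAdjunction j).counit
  let k : DCoh.pushKh j ⋙ DCoh.restrictD j ≅ DerivedCategory.Qh :=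
    Functor.associator _ _ _ ≪≫
      Functor.isoWhiskerLeft _ (Scheme.Modules.restrictFunctor j).mapDerivedCategoryFactorsh ≪≫
      (Functor.associator _ _ _).symm ≪≫
      Functor.isoWhiskerRight (Functor.mapHomotopyCategoryCompIso p c ≪≫
        (CategoryTheory.Quotient.natIsoLift _ (Functor.isoWhiskerRight (Functor.mapHomologicalComplexIdIso _ c)
          (HomotopyCategory.quotient U.Modules c)) : (𝟭 U.Modules).mapHomotopyCategory c ≅ 𝟭 _)) DerivedCategory.Qh ≪≫
      Functor.leftUnitor _
  exact ⟨Functor.isoWhiskerRight e.symm (DCoh.restrictD j) ≪≫ Functor.associator _ _ _ ≪≫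
    Functor.isoWhiskerLeft ρ k ≪≫ asIso adjQ.counit⟩

/-- The counit of `j^* ⊣ Rj_*` is invertible. -/
theorem isIso_restrictD_counit [DCoh.HasRpush j] (adj : DCoh.restrictD j ⊣ DCoh.Rpush j) :
    IsIso adj.counit :=
  adj.isIso_counit_of_iso (nonempty_rpush_restrictD_id j).some

end Groth.Agent.KFlatLib

namespace Groth.Agent.KFlatLib

variable {U X : Scheme.{u}} (j : U ⟶ X) [IsOpenImmersion j]

/-- Restriction is `Lj^*`, naturally. -/
theorem nonempty_rho_iso_lpull [DCoh.HasLpull j] : Nonempty (rho j ≅ DCoh.Lpull j) := by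
  let W := HomotopyCategory.quasiIso X.Modules (ComplexShape.up ℤ)
  let α := (DCoh.pullKh j).totalLeftDerivedCounit DerivedCategory.Qh W
  let β : DerivedCategory.Qh ⋙ rho j ≅ DCoh.pullKh j :=
    (Scheme.Modules.restrictFunctor j).mapDerivedCategoryFactorsh ≪≫
      Functor.isoWhiskerRight
        { hom := NatTrans.mapHomotopyCategory (Scheme.Modules.restrictFunctorIsoPullback j).hom _
          inv := NatTrans.mapHomotopyCategory (Scheme.Modules.restrictFunctorIsoPullback j).inv _
          hom_inv_id := by rw [← NatTrans.mapHomotopyCategory_comp, Iso.hom_inv_id, NatTrans.mapHomotopyCategory_id]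
          inv_hom_id := by rw [← NatTrans.mapHomotopyCategory_comp, Iso.inv_hom_id, NatTrans.mapHomotopyCategory_id] }
        DerivedCategory.Qh
  let γ := (DCoh.Lpull j).leftDerivedLift α W (rho j) β.hom
  haveI : ∀ E, IsIso (γ.app E) := fun E => by
    let K := (HomotopyCategory.quotient X.Modules (ComplexShape.up ℤ)).obj (repK E)
    let i : DerivedCategory.Qh.obj K ≅ E :=
      (DerivedCategory.quotientCompQhIso X.Modules).app (repK E) ≪≫ repKIso E
    refine (NatTrans.isIso_app_iff_of_iso γ i).1 ?_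
    haveI hα : IsIso (α.app K) := isIso_Lpull_counit j (isKFlat_repK E)
    haveI : IsIso (γ.app (DerivedCategory.Qh.obj K) ≫ α.app K) := by
      rw [show γ.app (DerivedCategory.Qh.obj K) ≫ α.app K = β.hom.app K from
        (DCoh.Lpull j).leftDerived_fac_app α W (rho j) β.hom K]
      exact (β.app K).isIso_hom
    exact IsIso.of_isIso_comp_right _ (α.app K)
  haveI := NatIso.isIso_of_isIso_app γ
  exact ⟨asIso γ⟩

/-- `j^* ⊣ Rj_*`. -/
theorem nonempty_rho_adj [DCoh.HasRpush j] : Nonempty (rho j ⊣ DCoh.Rpush j) := by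
  haveI := hasLpull j
  obtain ⟨adj⟩ := nonempty_lpull_rpush_adj j
  obtain ⟨e⟩ := nonempty_rho_iso_lpull j
  exact ⟨adj.ofNatIsoLeft e.symm⟩

end Groth.Agent.KFlatLib
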