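import Groth.Agent.KFlatLib.Scheme.RelPerfectSch
import Groth.Agent.KFlatLib.Scheme.EvalPerfect
import Groth.Agent.KFlatLib.Scheme.InnerHom

/-!
# Tensoring a relatively perfect object with a perfect one
-/

set_option linter.style.haveILetI false
set_option backward.isDefEq.respectTransparency false

universe u

open CategoryTheory CategoryTheory.Limits AlgebraicGeometry

attribute [local instance] HasDerivedCategory.standard

namespace Groth.Agent.KFlatLib.RelPerfectSch

open RelTor

variable {X S : Scheme.{u}}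

lemma relPerf_of_isZero (f : X ⟶ S) [Flat f] [LocallyOfFinitePresentation f] {E : DCoh.D X} (h : IsZero E) :
    RelPerf f E := by
  refine relPerf_of_perfect f ((isPerfect_iff E).2 (locSP_of_isZero h))

/-- Relative perfection is preserved by tensoring with a perfect object. -/
theorem relPerf_ltensor (f : X ⟶ S) [Flat f] [LocallyOfFinitePresentation f] {K : DCoh.D X}
    (hK : DCoh.IsPerfect K) (M : CochainComplex X.Modules ℤ) (hM : RelPerf f (DCoh.toD X M))
    [DCoh.HasLTensorCx M] : RelPerf f ((DCoh.LTensorCx M).obj K) := by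
  let R := (kRes X).obj M
  have hRk : DCoh.IsKFlat R := isKFlat_kRes M
  have hR' : ∀ p, FlatMod.IsFlat (R.X p) := isFlat_kRes M
  haveI : QuasiIso ((flatCover X).ψ.app M) := (flatCover X).quasiIso_ψ M
  haveI := hasLTensorCx R
  obtain ⟨c⟩ := nonempty_LTensorCx_congr (P := R) (E := M) ((flatCover X).ψ.app M)
  let e₀ : DerivedCategory.Q.obj ((DCoh.tensorCx.obj R).obj (repK K)) ≅ (DCoh.LTensorCx M).obj K :=
    DerivedCategory.Q.mapIso ((symmIso (tensorBiFlipIso X) R).app (repK K)).symm ≪≫
      (ltensorCxIso R (isKFlat_repK K)).symm ≪≫ (DCoh.LTensorCx R).mapIso (repKIso K) ≪≫ c.app K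
  refine RelPerf.of_iso e₀ (RelPerf.of_local fun x => ?_)
  obtain ⟨U, j, hj, hx, h⟩ := exists_devissage_of_isPerfect (repK K)
    (((isPerfect_iff _).2 (((isPerfect_iff K).1 hK).of_iso (repKIso K).symm))) x
  refine ⟨U, j, hj, hx, h (fun P => RelPerf (j ≫ f) ((rho j).obj (DerivedCategory.Q.obj ((DCoh.tensorCx.obj R).obj P))))
    (fun A B g hg => ?_) (fun P hP => ?_) (fun T hT hflat hl hr => ?_) (fun n => ?_)⟩
  · haveI := hg
    haveI := quasiIso_rCx_tensor j hRk g
    haveI := isIso_Q_map ((rCx j).map ((DCoh.tensorCx.obj R).map g)) inferInstance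
    let e := (rhoQ j).app _ ≪≫ asIso (DerivedCategory.Q.map ((rCx j).map ((DCoh.tensorCx.obj R).map g))) ≪≫
      ((rhoQ j).app _).symm
    exact ⟨fun hA => hA.of_iso e, fun hB => hB.of_iso e.symm⟩
  · exact relPerf_of_isZero _ ((rho j).map_isZero (DerivedCategory.Q.map_isZero
      ((DCoh.tensorCx.obj R).map_isZero hP)))
  · have hse : T.ShortExact := HomologicalComplex.shortExact_of_degreewise_shortExact T
      fun n => (hT n).some.shortExact
    exact relPerf_obj₂ _ _ ((rho j).map_distinguished _
      (DerivedCategory.triangleOfSES_distinguished (shortExact_tensorCx_of_flat R hR' hse))) hl hr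
  · let eT := Inner.tensorUnitShiftIso (DCoh.tensorBi (X := X)) (Coh.structureModule X) (tensorStructureIso X) n
    exact ((hM.shift (-n)).of_iso ((shiftFunctor (DCoh.D X) (-n)).mapIso
        (asIso (DerivedCategory.Q.map ((flatCover X).ψ.app M))).symm ≪≫
      ((DerivedCategory.Q.commShiftIso (-n)).app R).symm ≪≫ DerivedCategory.Q.mapIso (eT.app R).symm)).restrict j

end Groth.Agent.KFlatLib.RelPerfectSch
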