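import Groth.Agent.KFlatLib.Scheme.ApproxQcqs
import Groth.Agent.KFlatLib.Scheme.CohWindow
import Groth.Agent.KFlatLib.Scheme.RelPerfectTensor

/-!
# Pseudo-coherence of `Rπ_*(E ⊗ K)` is tested on perfect objects
-/

set_option linter.style.haveILetI false
set_option backward.isDefEq.respectTransparency false

universe u

open CategoryTheory CategoryTheory.Limits AlgebraicGeometry Pretriangulated TopologicalSpace

attribute [local instance] HasDerivedCategory.standard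

namespace Groth.Agent.KFlatLib.TensorTest

open Generator PerfectLift

variable {X Y : Scheme.{u}}

/-- The derived tensor product is right exact. -/
lemma isZero_hd_ltensor_of_isLE (K : CochainComplex X.Modules ℤ) [DCoh.HasLTensorCx K] (b : ℤ)
    (hK : (DCoh.toD X K).IsLE b) (C : DCoh.D X) (n : ℤ)
    (hn : ∀ j, n < j → IsZero (DCoh.HD C j)) (i : ℤ) (hi : n + b < i) :
    IsZero (DCoh.HD ((DCoh.LTensorCx K).obj C) i) := by
  let R := DerivedCategory.Q.objPreimage C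
  haveI : R.IsLE n := (DerivedCategory.isLE_Q_obj_iff R n).1 ((DerivedCategory.isLE_iff _ _).2 fun j hj =>
    (hn j hj).of_iso ((DerivedCategory.homologyFunctor X.Modules j).mapIso (repIso C)))
  haveI : K.IsLE b := (DerivedCategory.isLE_Q_obj_iff K b).1 hK
  obtain ⟨RK, ρ, hρ, hρle, hRK⟩ := exists_flat_rep K b
  obtain ⟨R', σ, hσ, hσle, hR'⟩ := exists_flat_rep R n
  haveI := hρ
  haveI := hσle
  haveI := hρle
  haveI := hσ
  haveI : QuasiIso ((DCoh.tensorCx.obj R').map ρ) := KFlat.quasiIso_map' (tensorBiFlipIso X) hR' ρ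
  haveI := isIso_Q_map ((DCoh.tensorCx.obj R').map ρ) inferInstance
  haveI := isIso_Q_map σ hσ
  refine IsZero.of_iso ?_ ((DerivedCategory.homologyFunctor X.Modules i).mapIso
    ((DCoh.LTensorCx K).mapIso ((repIso C).symm ≪≫ (asIso (DerivedCategory.Q.map σ)).symm) ≪≫ ltensorCxIso K hR' ≪≫
      (asIso (DerivedCategory.Q.map ((DCoh.tensorCx.obj R').map ρ))).symm))
  exact (ShortComplex.isZero_homology_of_isZero_X₂ _ (isZero_tensorCx_X R' RK n b i hi)).of_iso
    ((DerivedCategory.homologyFunctorFactors X.Modules i).app _)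

/-- A distinguished triangle with K-flat models. -/
lemma exists_kflat_model (T : Triangle (DCoh.D X)) (hT : T ∈ distTriang _) :
    ∃ (A B : CochainComplex X.Modules ℤ) (φ : A ⟶ B), DCoh.IsKFlat A ∧ DCoh.IsKFlat B ∧
      Nonempty (DCoh.toD X A ≅ T.obj₁) ∧ Nonempty (DCoh.toD X B ≅ T.obj₂) ∧
      Nonempty (DCoh.toD X (CochainComplex.mappingCone φ) ≅ T.obj₃) := by
  obtain ⟨A, B, φ, ⟨e⟩⟩ := (DerivedCategory.mem_distTriang_iff _).1 hT
  let φ' := (kRes X).map φ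
  let T' := DerivedCategory.Q.mapTriangle.obj (CochainComplex.mappingCone.triangle φ')
  have hT' : T' ∈ distinguishedTriangles :=
    (DerivedCategory.mem_distTriang_iff _).2 ⟨_, _, φ', ⟨Iso.refl _⟩⟩
  have hT₀ : DerivedCategory.Q.mapTriangle.obj (CochainComplex.mappingCone.triangle φ) ∈
      distinguishedTriangles (C := DCoh.D X) :=
    (DerivedCategory.mem_distTriang_iff _).2 ⟨_, _, φ, ⟨Iso.refl _⟩⟩
  let e' : T' ≅ T := isoTriangleOfIso₁₂ T'
    (DerivedCategory.Q.mapTriangle.obj (CochainComplex.mappingCone.triangle φ)) hT' hT₀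
    ((resQIso X).app A) ((resQIso X).app B) ((resQIso X).hom.naturality φ) ≪≫ e.symm
  exact ⟨_, _, φ', isKFlat_kRes A, isKFlat_kRes B, ⟨Triangle.π₁.mapIso e'⟩, ⟨Triangle.π₂.mapIso e'⟩,
    ⟨Triangle.π₃.mapIso e'⟩⟩

/-- The derived tensor product is exact, on objects. -/
lemma exists_ltensor_triangle (K : CochainComplex X.Modules ℤ) [DCoh.HasLTensorCx K] (T : Triangle (DCoh.D X))
    (hT : T ∈ distTriang _) : ∃ T' : Triangle (DCoh.D X), (T' ∈ distTriang _) ∧
      Nonempty (T'.obj₁ ≅ (DCoh.LTensorCx K).obj T.obj₂) ∧ Nonempty (T'.obj₂ ≅ (DCoh.LTensorCx K).obj T.obj₃) ∧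
      Nonempty (T'.obj₃ ≅ (DCoh.LTensorCx K).obj (T.obj₁⟦(1 : ℤ)⟧)) := by
  obtain ⟨A, B, φ, hA, hB, ⟨eA⟩, ⟨eB⟩, ⟨eC⟩⟩ := exists_kflat_model T hT
  have hC : DCoh.IsKFlat (CochainComplex.mappingCone φ) := kFlat_cone (T := DCoh.tensorBi) φ hA hB
  have hA1 : DCoh.IsKFlat (A⟦(1 : ℤ)⟧) := KFlat.shift (T := DCoh.tensorBi) hA 1
  have hS : ((coneSeq φ).map (DCoh.tensorCx.flip.obj K)).ShortExact :=
    shortExact₁_of_splitting K (coneSeq φ) fun n => ⟨coneSeqSplitting φ n⟩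
  exact ⟨_, DerivedCategory.triangleOfSES_distinguished hS,
    ⟨(ltensorCxIso K hB).symm ≪≫ (DCoh.LTensorCx K).mapIso eB⟩,
    ⟨(ltensorCxIso K hC).symm ≪≫ (DCoh.LTensorCx K).mapIso eC⟩,
    ⟨(ltensorCxIso K hA1).symm ≪≫ (DCoh.LTensorCx K).mapIso
      ((DerivedCategory.Q.commShiftIso (1 : ℤ)).app A ≪≫ (shiftFunctor _ (1 : ℤ)).mapIso eA)⟩⟩

/-- Pseudo-coherence of pushforwards of derived tensor products is tested on perfect objects. -/
theorem locPC_rpush_ltensor [CompactSpace X] [QuasiSeparatedSpace X] [CompactSpace Y] [QuasiSeparatedSpace Y]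
    (f : X ⟶ Y) [DCoh.HasRpush f] (K : CochainComplex X.Modules ℤ) (hK : DCoh.IsQCohD (DCoh.toD X K)) (b : ℤ)
    (hb : (DCoh.toD X K).IsLE b) [DCoh.HasLTensorCx K]
    (h : ∀ E : DCoh.D X, LocSP E → ∀ m : ℤ, LocPC m ((DCoh.Rpush f).obj ((DCoh.LTensorCx K).obj E)))
    (E : DCoh.D X) (hE : ∀ m : ℤ, LocPC m E) (m : ℤ) :
    LocPC m ((DCoh.Rpush f).obj ((DCoh.LTensorCx K).obj E)) := by
  haveI : QuasiCompact f := quasiCompact_of_compactSpace f
  haveI : QuasiSeparated f := QuasiSeparated.of_quasiSeparatedSpace f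
  obtain ⟨N, hN⟩ := Window.exists_rpush_window f
  obtain ⟨r, hr⟩ := Approx.hasApprox X Set.univ isClosed_univ (by rw [Set.compl_univ]; exact isCompact_empty)
  have hq : DCoh.IsQCohD E := fun i =>
    isQCoh_HD_of_pseudoCoherent ((isPseudoCoherentD_iff (i - 1) E).2 (hE _)) i (by omega)
  let n : ℤ := m - N - b - 2
  obtain ⟨P, α, hP, -, hα⟩ := hr n E hq (hE _) fun i _ => Set.subset_univ _
  obtain ⟨Z, g, δ, hT⟩ := distinguished_cocone_triangle α
  have hZ : DCoh.IsQCohD Z := isQCohD_obj₁ (rot_of_distTriang _ (rot_of_distTriang _ hT))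
    (isQCohD_shift (AffineLift.isQCohD_of_locSP hP) 1) (isQCohD_shift hq 1)
  obtain ⟨T', hT', ⟨e₁⟩, ⟨e₂⟩, ⟨e₃⟩⟩ := exists_ltensor_triangle K _ hT
  obtain ⟨c, hc⟩ := exists_rpush_triangle f _ hT'
  have h₂ : LocPC m ((DCoh.Rpush f).obj T'.obj₂) :=
    (locPC_of_isZero m _ fun i hi => hN _ (isQCohD_ltensor K hK hZ) i fun j hj _ =>
      isZero_hd_ltensor_of_isLE K b hb Z (n - 1)
        (fun k hk => Approx.isZero_cone_of_isPcMap _ hT hα k (by omega)) j (by omega)).of_iso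
      ((DCoh.Rpush f).mapIso e₂.symm)
  have h₃ : LocPC (m - 1) ((DCoh.Rpush f).obj T'.obj₃) :=
    (h _ (hP.shift 1) (m - 1)).of_iso ((DCoh.Rpush f).mapIso e₃.symm)
  have h₁ := (locPC_two_of_three (m - 1) _ hc).2.2 (h₂.mono (by omega)) h₃
  rw [show m - 1 + 1 = m by omega] at h₁
  exact h₁.of_iso ((DCoh.Rpush f).mapIso e₁)

end Groth.Agent.KFlatLib.TensorTest
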