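import Groth.Agent.KFlatLib.Scheme.TriNatTrans
import Groth.Agent.KFlatLib.Scheme.TensorPCTest

/-!
# Shifts and exactness for functors preserving distinguished triangles
-/

set_option linter.style.haveILetI false
set_option backward.isDefEq.respectTransparency false

universe u v₁ v₂ u₁ u₂

open CategoryTheory CategoryTheory.Limits CategoryTheory.Pretriangulated AlgebraicGeometry ZeroObject

namespace Groth.Agent.KFlatLib.TriNat

section Abstract

variable {C : Type u₁} [Category.{v₁} C] [Preadditive C] [HasZeroObject C] [HasShift C ℤ]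
  [∀ n : ℤ, (shiftFunctor C n).Additive] [Pretriangulated C]
  {D : Type u₂} [Category.{v₂} D] [Preadditive D] [HasZeroObject D] [HasShift D ℤ]
  [∀ n : ℤ, (shiftFunctor D n).Additive] [Pretriangulated D]

lemma PresTri.nonempty_shift_one {G : C ⥤ D} (hG : PresTri G) (A : C) :
    Nonempty (G.obj (A⟦(1 : ℤ)⟧) ≅ (G.obj A)⟦(1 : ℤ)⟧) := by
  have hT := rot_of_distTriang _ (contractible_distinguished A)
  obtain ⟨c, hc⟩ := hG _ hT
  haveI : IsIso c := (Triangle.isZero₂_iff_isIso₃ _ hc).1 (hG.isZero_obj (isZero_zero C))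
  exact ⟨asIso c⟩

/-- Functors preserving distinguished triangles commute with shifts, object by object. -/
lemma PresTri.nonempty_shift {G : C ⥤ D} (hG : PresTri G) (A : C) (n : ℤ) :
    Nonempty (G.obj (A⟦n⟧) ≅ (G.obj A)⟦n⟧) := by
  induction n using Int.induction_on with
  | zero => exact ⟨G.mapIso ((shiftFunctorZero C ℤ).app A) ≪≫ ((shiftFunctorZero D ℤ).app (G.obj A)).symm⟩
  | succ m hm =>
    obtain ⟨e⟩ := hm
    obtain ⟨e'⟩ := hG.nonempty_shift_one (A⟦(m : ℤ)⟧)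
    exact ⟨G.mapIso ((shiftFunctorAdd' C (m : ℤ) 1 ((m : ℤ) + 1) rfl).app A) ≪≫ e' ≪≫
      (shiftFunctor D (1 : ℤ)).mapIso e ≪≫ ((shiftFunctorAdd' D (m : ℤ) 1 ((m : ℤ) + 1) rfl).app (G.obj A)).symm⟩
  | pred m hm =>
    obtain ⟨e⟩ := hm
    obtain ⟨e'⟩ := hG.nonempty_shift_one (A⟦(-(m : ℤ) - 1)⟧)
    refine ⟨(shiftFunctor D (1 : ℤ)).preimageIso ?_⟩
    exact e'.symm ≪≫ G.mapIso ((shiftFunctorAdd' C (-(m : ℤ) - 1) 1 (-(m : ℤ)) (by omega)).app A).symm ≪≫ e ≪≫
      (shiftFunctorAdd' D (-(m : ℤ) - 1) 1 (-(m : ℤ)) (by omega)).app (G.obj A)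

end Abstract

section Derived

attribute [local instance] HasDerivedCategory.standard

local notation "qq" X:max => HomotopyCategory.quotient (Scheme.Modules X) (ComplexShape.up ℤ)

/-- Functors computed termwise on K-flat complexes preserve distinguished triangles. -/
theorem presTri_of_kflat {X Y : Scheme.{u}} (F : X.Modules ⥤ Y.Modules) [F.Additive]
    (L : DCoh.D X ⥤ DCoh.D Y)
    (α : DerivedCategory.Qh ⋙ L ⟶ F.mapHomotopyCategory (ComplexShape.up ℤ) ⋙ DerivedCategory.Qh)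
    (hα : ∀ K : CochainComplex X.Modules ℤ, DCoh.IsKFlat K → IsIso (α.app ((qq X).obj K))) : PresTri L := by
  intro T hT
  obtain ⟨A, B, φ, ⟨e⟩⟩ := (DerivedCategory.mem_distTriang_iff _).1 hT
  let φ' := (kRes X).map φ
  let Th := CochainComplex.mappingCone.triangleh φ'
  have hTh : Th ∈ distTriang (HomotopyCategory X.Modules (ComplexShape.up ℤ)) :=
    HomotopyCategory.mappingCone_triangleh_distinguished φ'
  let T' := DerivedCategory.Qh.mapTriangle.obj Th
  have hT' : T' ∈ distTriang (DCoh.D X) := DerivedCategory.Qh.map_distinguished Th hTh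
  have hT₀ : DerivedCategory.Q.mapTriangle.obj (CochainComplex.mappingCone.triangle φ) ∈
      distinguishedTriangles (C := DCoh.D X) :=
    (DerivedCategory.mem_distTriang_iff _).2 ⟨_, _, φ, ⟨Iso.refl _⟩⟩
  let e' : T' ≅ T := isoTriangleOfIso₁₂ T'
    (DerivedCategory.Q.mapTriangle.obj (CochainComplex.mappingCone.triangle φ)) hT' hT₀
    ((DerivedCategory.quotientCompQhIso X.Modules).app _ ≪≫ (resQIso X).app A)
    ((DerivedCategory.quotientCompQhIso X.Modules).app _ ≪≫ (resQIso X).app B)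
    (by
      have h1 := (DerivedCategory.quotientCompQhIso X.Modules).hom.naturality φ'
      have h2 := (resQIso X).hom.naturality φ
      dsimp [Functor.comp_map] at h1 h2 ⊢
      erw [reassoc_of% h1, Category.assoc, h2]
      rfl
      ) ≪≫ e.symm
  let G := F.mapHomotopyCategory (ComplexShape.up ℤ) ⋙ DerivedCategory.Qh
  have hG : G.mapTriangle.obj Th ∈ distTriang (DCoh.D Y) := G.map_distinguished Th hTh
  have hA : DCoh.IsKFlat ((kRes X).obj A) := isKFlat_kRes A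
  have hB : DCoh.IsKFlat ((kRes X).obj B) := isKFlat_kRes B
  have hC : DCoh.IsKFlat (CochainComplex.mappingCone φ') := kFlat_cone (T := DCoh.tensorBi) φ' hA hB
  haveI h₁ : IsIso (α.app Th.obj₁) := hα _ hA
  haveI h₂ : IsIso (α.app Th.obj₂) := hα _ hB
  haveI h₃ : IsIso (α.app Th.obj₃) := hα _ hC
  let i₁ : L.obj T.obj₁ ≅ (G.mapTriangle.obj Th).obj₁ :=
    L.mapIso (Triangle.π₁.mapIso e'.symm) ≪≫ @asIso _ _ _ _ (α.app Th.obj₁) h₁
  let i₂ : L.obj T.obj₂ ≅ (G.mapTriangle.obj Th).obj₂ :=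
    L.mapIso (Triangle.π₂.mapIso e'.symm) ≪≫ @asIso _ _ _ _ (α.app Th.obj₂) h₂
  let i₃ : L.obj T.obj₃ ≅ (G.mapTriangle.obj Th).obj₃ :=
    L.mapIso (Triangle.π₃.mapIso e'.symm) ≪≫ @asIso _ _ _ _ (α.app Th.obj₃) h₃
  refine ⟨i₃.hom ≫ (G.mapTriangle.obj Th).mor₃ ≫ i₁.inv⟦(1 : ℤ)⟧', isomorphic_distinguished _ hG _ ?_⟩
  refine Triangle.isoMk _ _ i₁ i₂ i₃ ?_ ?_ ?_
  · change L.map T.mor₁ ≫ L.map e'.inv.hom₂ ≫ α.app Th.obj₂ =
      (L.map e'.inv.hom₁ ≫ α.app Th.obj₁) ≫ G.map Th.mor₁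
    rw [Category.assoc, ← Functor.map_comp_assoc, e'.inv.comm₁, Functor.map_comp, Category.assoc]
    exact congrArg (L.map e'.inv.hom₁ ≫ ·) (α.naturality Th.mor₁)
  · change L.map T.mor₂ ≫ L.map e'.inv.hom₃ ≫ α.app Th.obj₃ =
      (L.map e'.inv.hom₂ ≫ α.app Th.obj₂) ≫ G.map Th.mor₂
    rw [Category.assoc, ← Functor.map_comp_assoc, e'.inv.comm₂, Functor.map_comp, Category.assoc]
    exact congrArg (L.map e'.inv.hom₂ ≫ ·) (α.naturality Th.mor₂)
  · change (i₃.hom ≫ (G.mapTriangle.obj Th).mor₃ ≫ i₁.inv⟦(1 : ℤ)⟧') ≫ i₁.hom⟦(1 : ℤ)⟧' = _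
    rw [Category.assoc, Category.assoc, ← Functor.map_comp, Iso.inv_hom_id, CategoryTheory.Functor.map_id]
    erw [Category.comp_id]

/-- `- ⊗^L M` preserves distinguished triangles. -/
lemma presTri_ltensorMod {X : Scheme.{u}} (M : X.Modules) [DCoh.HasLTensorMod M] : PresTri (DCoh.LTensorMod M) :=
  presTri_of_kflat (DCoh.tensorRightMod M) (DCoh.LTensorMod M)
    ((DCoh.tensorModKh M).totalLeftDerivedCounit DerivedCategory.Qh
      (HomotopyCategory.quasiIso X.Modules (ComplexShape.up ℤ)))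
    fun _ hK => isIso_LTensorMod_counit M hK

end Derived

end Groth.Agent.KFlatLib.TriNat
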