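import Groth.Agent.KFlatLib.Scheme.RpushTriangle
import Groth.Agent.KFlatLib.Scheme.Adjoint
import Groth.Agent.KFlatLib.Scheme.PushKInj
import Groth.Agent.KFlatLib.Scheme.RGammaPush
import Mathlib.CategoryTheory.Triangulated.Adjunction

/-!
# Natural transformations between functors preserving distinguished triangles

The objects on which such a transformation is invertible, in all shifts, form a thick subcategory.
-/

set_option linter.style.haveILetI false
set_option backward.isDefEq.respectTransparency false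

universe u v₁ v₂ u₁ u₂

open CategoryTheory CategoryTheory.Limits CategoryTheory.Pretriangulated AlgebraicGeometry ZeroObject

namespace Groth.Agent.KFlatLib.TriNat

section Abstract

variable {C : Type u₁} [Category.{v₁} C] [Preadditive C] [HasZeroObject C] [HasShift C ℤ]
  [∀ n : ℤ, (shiftFunctor C n).Additive] [Pretriangulated C]
  {D : Type u₂} [Category.{v₂} D] [Preadditive D] [HasZeroObject D] [HasShift D ℤ]
  [∀ n : ℤ, (shiftFunctor D n).Additive] [Pretriangulated D]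

/-- A functor sending distinguished triangles to distinguished triangles, the connecting morphism being
unspecified. -/
def PresTri (F : C ⥤ D) : Prop :=
  ∀ T : Triangle C, T ∈ distTriang C → ∃ c : F.obj T.obj₃ ⟶ (F.obj T.obj₁)⟦(1 : ℤ)⟧,
    Triangle.mk (F.map T.mor₁) (F.map T.mor₂) c ∈ distTriang D

variable {F F' : C ⥤ D}

lemma PresTri.map_comp_eq_zero (hF : PresTri F) (T : Triangle C) (hT : T ∈ distTriang C) :
    F.map T.mor₁ ≫ F.map T.mor₂ = 0 := by
  obtain ⟨c, hc⟩ := hF T hT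
  exact comp_distTriang_mor_zero₁₂ _ hc

lemma PresTri.exact (hF : PresTri F) (T : Triangle C) (hT : T ∈ distTriang C) {W : D}
    (φ : W ⟶ F.obj T.obj₂) (hφ : φ ≫ F.map T.mor₂ = 0) : ∃ ψ : W ⟶ F.obj T.obj₁, φ = ψ ≫ F.map T.mor₁ := by
  obtain ⟨c, hc⟩ := hF T hT
  exact Triangle.coyoneda_exact₂ _ hc φ hφ

lemma PresTri.isZero_obj (hF : PresTri F) {Z : C} (hZ : IsZero Z) : IsZero (F.obj Z) := by
  obtain ⟨c, hc⟩ := hF _ (contractible_distinguished Z)
  refine (IsZero.iff_id_eq_zero _).2 ?_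
  have h := comp_distTriang_mor_zero₁₂ _ hc
  change F.map (𝟙 Z) ≫ F.map (0 : Z ⟶ 0) = 0 at h
  rw [F.map_id, Category.id_comp] at h
  have e : (0 : Z ⟶ (0 : C)) ≫ (0 : (0 : C) ⟶ Z) = 𝟙 Z := hZ.eq_of_src _ _
  rw [← F.map_id, ← e, F.map_comp, h, zero_comp]

/-- The five lemma. -/
theorem isIso_app₂ (hF : PresTri F) (hF' : PresTri F') (τ : F ⟶ F') (T : Triangle C) (hT : T ∈ distTriang C)
    (h₀ : IsIso (τ.app (T.obj₃⟦(-1 : ℤ)⟧))) (h₁ : IsIso (τ.app T.obj₁)) (h₃ : IsIso (τ.app T.obj₃))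
    (h₄ : IsIso (τ.app (T.obj₁⟦(1 : ℤ)⟧))) : IsIso (τ.app T.obj₂) := by
  haveI := h₀
  haveI := h₁
  haveI := h₃
  haveI := h₄
  refine isIso_iff_yoneda_map_bijective _ |>.2 fun W => ⟨fun φ φ' h => ?_, fun φ' => ?_⟩
  · suffices ∀ φ : W ⟶ F.obj T.obj₂, φ ≫ τ.app T.obj₂ = 0 → φ = 0 from
      sub_eq_zero.1 (this _ (by rw [Preadditive.sub_comp, sub_eq_zero]; exact h))
    intro φ hφ
    have h2 : φ ≫ F.map T.mor₂ = 0 := by
      rw [← cancel_mono (τ.app T.obj₃), Category.assoc, τ.naturality, reassoc_of% hφ, zero_comp, zero_comp]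
    obtain ⟨ψ, rfl⟩ := hF.exact T hT φ h2
    have h3 : (ψ ≫ τ.app T.obj₁) ≫ F'.map T.mor₁ = 0 := by
      rw [Category.assoc, ← τ.naturality, ← Category.assoc]; exact hφ
    obtain ⟨χ, hχ⟩ := hF'.exact T.invRotate (inv_rot_of_distTriang T hT) (ψ ≫ τ.app T.obj₁) h3
    have h4 : ψ = (χ ≫ inv (τ.app (T.obj₃⟦(-1 : ℤ)⟧))) ≫ F.map T.invRotate.mor₁ := by
      rw [← cancel_mono (τ.app T.obj₁), hχ, Category.assoc, Category.assoc]
      erw [τ.naturality T.invRotate.mor₁, IsIso.inv_hom_id_assoc]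
    have h5 := hF.map_comp_eq_zero T.invRotate (inv_rot_of_distTriang T hT)
    change F.map T.invRotate.mor₁ ≫ F.map T.mor₁ = 0 at h5
    rw [h4, Category.assoc, Category.assoc]
    erw [h5]
    simp
  · have hr := rot_of_distTriang T hT
    let ψ := (φ' ≫ F'.map T.mor₂) ≫ inv (τ.app T.obj₃)
    have hψ : ψ ≫ F.map T.mor₃ = 0 := by
      rw [← cancel_mono (τ.app (T.obj₁⟦(1 : ℤ)⟧)), Category.assoc, τ.naturality, zero_comp]
      simp only [ψ, Category.assoc, IsIso.inv_hom_id_assoc]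
      have h5 := hF'.map_comp_eq_zero T.rotate hr
      change F'.map T.mor₂ ≫ F'.map T.mor₃ = 0 at h5
      rw [h5, comp_zero]
    obtain ⟨(φ : W ⟶ F.obj T.obj₂), hφ⟩ := hF.exact T.rotate hr ψ hψ
    change ψ = φ ≫ F.map T.mor₂ at hφ
    have h6 : (φ' - φ ≫ τ.app T.obj₂) ≫ F'.map T.mor₂ = 0 := by
      rw [Preadditive.sub_comp, Category.assoc, ← τ.naturality, ← Category.assoc φ, ← hφ]
      simp [ψ]
    obtain ⟨η, hη⟩ := hF'.exact T hT _ h6
    refine ⟨φ + (η ≫ inv (τ.app T.obj₁)) ≫ F.map T.mor₁, ?_⟩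
    change (φ + (η ≫ inv (τ.app T.obj₁)) ≫ F.map T.mor₁) ≫ τ.app T.obj₂ = φ'
    rw [Preadditive.add_comp, Category.assoc, Category.assoc, τ.naturality, IsIso.inv_hom_id_assoc, ← hη]
    abel

/-- The objects on which all shifts of `τ` are invertible. -/
def good (τ : F ⟶ F') : ObjectProperty C := fun K => ∀ k : ℤ, IsIso (τ.app (K⟦k⟧))

variable (τ : F ⟶ F')

instance : (good τ).IsClosedUnderIsomorphisms where
  of_iso e h k := (NatTrans.isIso_app_iff_of_iso τ ((shiftFunctor C k).mapIso e)).1 (h k)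

instance : (good τ).IsStableUnderRetracts where
  of_retract {K L} r h k := by
    haveI := h k
    let i := (shiftFunctor C k).map r.i
    let p := (shiftFunctor C k).map r.r
    have hip : i ≫ p = 𝟙 _ := by
      rw [← Functor.map_comp, r.retract, CategoryTheory.Functor.map_id]
    refine ⟨F'.map i ≫ inv (τ.app (L⟦k⟧)) ≫ F.map p, ?_, ?_⟩
    · rw [← τ.naturality_assoc, IsIso.hom_inv_id_assoc, ← F.map_comp, hip, F.map_id]
    · rw [Category.assoc, Category.assoc, τ.naturality, IsIso.inv_hom_id_assoc, ← F'.map_comp, hip, F'.map_id]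

theorem isTriangulated_good (hF : PresTri F) (hF' : PresTri F') : (good τ).IsTriangulated where
  exists_zero := ⟨0, isZero_zero C, fun k =>
    ⟨0, (hF.isZero_obj (Functor.map_isZero _ (isZero_zero C))).eq_of_src _ _,
      (hF'.isZero_obj (Functor.map_isZero _ (isZero_zero C))).eq_of_src _ _⟩⟩
  isStableUnderShiftBy n := ⟨fun K hK k =>
    (NatTrans.isIso_app_iff_of_iso τ ((shiftFunctorAdd C n k).app K)).1 (hK (n + k))⟩
  ext₂' T hT h₁ h₃ := ObjectProperty.le_isoClosure _ _ fun k => by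
    refine isIso_app₂ hF hF' τ ((Triangle.shiftFunctor C k).obj T) (Triangle.shift_distinguished T hT k)
      ?_ (h₁ k) (h₃ k) ?_
    · exact (NatTrans.isIso_app_iff_of_iso τ ((shiftFunctorAdd C k (-1)).app _)).1 (h₃ (k + -1))
    · exact (NatTrans.isIso_app_iff_of_iso τ ((shiftFunctorAdd C k 1).app _)).1 (h₁ (k + 1))

/-- The inverse image of a property along a functor. -/
def comap (Q : ObjectProperty D) (G : C ⥤ D) : ObjectProperty C := fun K => Q (G.obj K)

variable (Q : ObjectProperty D) [Q.IsClosedUnderIsomorphisms] (G : C ⥤ D)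

instance : (comap Q G).IsClosedUnderIsomorphisms where
  of_iso e h := Q.prop_of_iso (G.mapIso e) h

instance [Q.IsStableUnderRetracts] : (comap Q G).IsStableUnderRetracts where
  of_retract r h := Q.prop_of_retract (r.map G) h

theorem isTriangulated_comap [Q.IsTriangulated] (hG : PresTri G)
    (hs : ∀ (K : C) (n : ℤ), Nonempty (G.obj (K⟦n⟧) ≅ (G.obj K)⟦n⟧)) : (comap Q G).IsTriangulated where
  exists_zero := ⟨0, isZero_zero C,
    Q.prop_of_iso ((isZero_zero D).iso (hG.isZero_obj (isZero_zero C))) Q.prop_zero⟩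
  isStableUnderShiftBy n := ⟨fun K hK => by
    obtain ⟨e⟩ := hs K n
    exact Q.prop_of_iso e.symm (Q.le_shift n _ hK)⟩
  ext₂' T hT h₁ h₃ := by
    obtain ⟨c, hc⟩ := hG T hT
    exact ObjectProperty.le_isoClosure _ _ (ObjectProperty.ext_of_isTriangulatedClosed₂ Q _ hc h₁ h₃)

end Abstract

section Derived

attribute [local instance] HasDerivedCategory.standard

lemma presTri_rpush {X Y : Scheme.{u}} (f : X ⟶ Y) [DCoh.HasRpush f] : PresTri (DCoh.Rpush f) :=
  fun T hT => exists_rpush_triangle f T hT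

lemma presTri_lpull {X Y : Scheme.{u}} (f : X ⟶ Y) [DCoh.HasLpull f] : PresTri (DCoh.Lpull f) := by
  intro T hT
  haveI := hasRpush_scheme f
  haveI := TriCat.qh_isLeftAdjoint_of_exists_resolution (A := X.Modules) exists_kInjective_res
  let adjQ := Adjunction.ofIsLeftAdjoint (DerivedCategory.Qh (C := X.Modules))
  let ρ := (DerivedCategory.Qh (C := X.Modules)).rightAdjoint
  let W := HomotopyCategory.quasiIso X.Modules (ComplexShape.up ℤ)
  haveI : (ρ ⋙ DCoh.pushKh f).IsRightDerivedFunctor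
      (Functor.whiskerRight adjQ.unit (DCoh.pushKh f)) W :=
    TriCat.isRightDerivedFunctor_of_adjunction adjQ W (DCoh.pushKh f)
  let e : ρ ⋙ DCoh.pushKh f ≅ DCoh.Rpush f :=
    Functor.rightDerivedUnique _ _ (Functor.whiskerRight adjQ.unit (DCoh.pushKh f))
      ((DCoh.pushKh f).totalRightDerivedUnit DerivedCategory.Qh W) W
  letI := adjQ.rightAdjointCommShift ℤ
  haveI := adjQ.commShift_of_leftAdjoint ℤ
  haveI : ρ.IsTriangulated := adjQ.isTriangulated_rightAdjoint
  let A : DCoh.Lpull f ⊣ ρ ⋙ DCoh.pushKh f :=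
    (nonempty_lpull_rpush_adj f).some.ofNatIsoRight e.symm
  letI := A.leftAdjointCommShift ℤ
  haveI := A.commShift_of_rightAdjoint ℤ
  haveI : (DCoh.Lpull f).IsTriangulated := A.isTriangulated_leftAdjoint
  exact ⟨_, (DCoh.Lpull f).map_distinguished T hT⟩

lemma presTri_comp {X Y Z : Scheme.{u}} {F : DCoh.D X ⥤ DCoh.D Y} {G : DCoh.D Y ⥤ DCoh.D Z} (hF : PresTri F)
    (hG : PresTri G) : PresTri (F ⋙ G) := fun T hT => by
  obtain ⟨c, hc⟩ := hF T hT
  exact hG _ hc

end Derived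

end Groth.Agent.KFlatLib.TriNat
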