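import Groth.Agent.KFlatLib.Scheme.InnerHom
import Mathlib.CategoryTheory.Adjunction.PartialAdjoint

/-!
# The derived tensor product with a K-flat complex has a right adjoint
-/

set_option linter.style.haveILetI false
set_option backward.isDefEq.respectTransparency false

universe u

open CategoryTheory CategoryTheory.Limits AlgebraicGeometry Opposite

attribute [local instance] HasDerivedCategory.standard

namespace Groth.Agent.KFlatLib

variable {X : Scheme.{u}}

/-- `- ⊗^L P` has a right adjoint, computed by `iHom(P, J)`. -/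
theorem hasRSheafHom_of_isKFlat (P : CochainComplex X.Modules ℤ) (hP : DCoh.IsKFlat P)
    [DCoh.HasLTensorCx P] : DCoh.HasRSheafHom P := by
  refine Functor.isLeftAdjoint_of_rightAdjointObjIsDefined_eq_top ?_
  ext L
  simp only [Pi.top_apply, Prop.top_eq_true, iff_true]
  obtain ⟨J, hJ, hJi, ⟨eJ⟩⟩ := exists_kInjective_rep L
  let A := (iHom P).obj J
  let c := (DCoh.tensorCxQ P).totalLeftDerivedCounit DerivedCategory.Q (qisX X)
  haveI := fun N => isIso_LTensorCx_counit_of_isKFlat_right P hP N
  haveI := isKInjective_iHom hP J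
  let ev : (DCoh.LTensorCx P).obj (DerivedCategory.Q.obj A) ⟶ L :=
    c.app A ≫ DerivedCategory.Q.map ((iHomAdj P).counit.app J) ≫ eJ.inv
  have key : ∀ (N : CochainComplex X.Modules ℤ) (g : N ⟶ A),
      (DCoh.LTensorCx P).map (DerivedCategory.Q.map g) ≫ ev =
        c.app N ≫ DerivedCategory.Q.map (((iHomAdj P).homEquiv N J).symm g) ≫ eJ.inv := fun N g => by
    refine ((Category.assoc _ _ _).symm.trans (congrArg (· ≫ _) (c.naturality g))).trans ?_
    refine (Category.assoc _ _ _).trans (congrArg (c.app N ≫ ·) ?_)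
    refine ((Category.assoc _ _ _).symm.trans (congrArg (· ≫ eJ.inv) ?_))
    exact ((DerivedCategory.Q.map_comp _ _).symm.trans
      (congrArg DerivedCategory.Q.map ((iHomAdj P).homEquiv_counit N J g).symm))
  have bij : ∀ Z : DCoh.D X, Function.Bijective
      (fun a : Z ⟶ DerivedCategory.Q.obj A => (DCoh.LTensorCx P).map a ≫ ev) := by
    intro Z
    obtain ⟨N, _, ⟨e⟩⟩ := exists_kFlat_rep Z
    suffices h : Function.Bijective
        (fun a : DerivedCategory.Q.obj N ⟶ DerivedCategory.Q.obj A => (DCoh.LTensorCx P).map a ≫ ev) by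
      refine ⟨fun z z' hz => (cancel_epi e.hom).1 (h.1 ?_), fun y => ?_⟩
      · simp only [Functor.map_comp, Category.assoc] at hz ⊢
        exact congrArg (_ ≫ ·) hz
      · obtain ⟨z, hz⟩ := h.2 ((DCoh.LTensorCx P).map e.hom ≫ y)
        refine ⟨e.inv ≫ z, ?_⟩
        simp only [Functor.map_comp, Category.assoc] at hz ⊢
        rw [hz, ← Functor.map_comp_assoc, e.inv_hom_id, CategoryTheory.Functor.map_id]
        exact Category.id_comp y
    refine ⟨fun a a' h => ?_, fun y => ?_⟩
    · obtain ⟨g, rfl⟩ := exists_Q_map a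
      obtain ⟨g', rfl⟩ := exists_Q_map a'
      simp only [key] at h
      obtain ⟨H⟩ := (Inner.nonempty_homotopy_iff (DCoh.tensorBi (X := X)) g g').2
        (homotopy_of_Q_map_eq _ _ ((cancel_mono eJ.inv).1 ((cancel_epi (c.app N)).1 h)))
      exact DerivedCategory.Q_map_eq_of_homotopy _ H
    · obtain ⟨b, hb⟩ := exists_Q_map (inv (c.app N) ≫ y ≫ eJ.hom)
      refine ⟨DerivedCategory.Q.map ((iHomAdj P).homEquiv N J b), ?_⟩
      show (DCoh.LTensorCx P).map _ ≫ ev = y
      rw [key, Equiv.symm_apply_apply, hb]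
      simp
  exact ⟨DerivedCategory.Q.obj A, ⟨{
    homEquiv := fun {Z} => Equiv.ofBijective _ (bij Z)
    homEquiv_comp := fun f g => by
      show (DCoh.LTensorCx P).map (f ≫ g) ≫ ev = (DCoh.LTensorCx P).map f ≫ (DCoh.LTensorCx P).map g ≫ ev
      rw [Functor.map_comp, Category.assoc] }⟩⟩

end Groth.Agent.KFlatLib
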