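import Groth.Agent.KFlatLib.Scheme.PushCoprod
import Groth.Agent.KFlatLib.Scheme.Coproducts
import Groth.Agent.KFlatLib.Scheme.AcyclicPush
import Groth.Agent.KFlatLib.TotalMapFlip

/-!
# `Rf_*` commutes with coproducts of uniformly bounded below complexes
-/

set_option linter.style.haveILetI false
set_option backward.isDefEq.respectTransparency false

universe t v u v' u'

open CategoryTheory CategoryTheory.Limits AlgebraicGeometry

attribute [local instance] HasDerivedCategory.standard

namespace Groth.Agent.KFlatLib

/-- A functor computed by suitable complexes commutes with a coproduct of such. -/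
lemma isIso_sigmaDesc' {A : Type u} [Category.{v} A] [Abelian A] {B : Type u'} [Category.{v'} B]
    [Abelian B] {J : Type t}
    [HasColimitsOfShape (Discrete J) A] [HasExactColimitsOfShape (Discrete J) A]
    [HasColimitsOfShape (Discrete J) B] [HasExactColimitsOfShape (Discrete J) B]
    (F : DerivedCategory A ⥤ DerivedCategory B) (G : CochainComplex A ℤ ⥤ CochainComplex B ℤ)
    [PreservesColimitsOfShape (Discrete J) G]
    (η : G ⋙ DerivedCategory.Q ⟶ DerivedCategory.Q ⋙ F)
    (C : J → DerivedCategory A) [HasCoproduct C] [HasCoproduct fun j => F.obj (C j)]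
    (K : J → CochainComplex A ℤ) (e' : ∀ j, DerivedCategory.Q.obj (K j) ≅ C j)
    (hη : ∀ j, IsIso (η.app (K j))) (hη' : IsIso (η.app (∐ K))) :
    IsIso (Sigma.desc fun j => F.map (Sigma.ι C j)) := by
  haveI := preservesColimit_Q K
  haveI := preservesColimit_Q fun j => G.obj (K j)
  haveI : PreservesColimit (Discrete.functor K ⋙ G)
      (DerivedCategory.Q : CochainComplex B ℤ ⥤ DerivedCategory B) :=
    preservesColimit_of_iso_diagram (K₁ := Discrete.functor fun j => G.obj (K j)) _
      (Discrete.natIso fun j => Iso.refl _)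
  haveI : PreservesColimit (Discrete.functor K) (DerivedCategory.Q ⋙ F) := by
    refine preservesColimit_of_preserves_colimit_cocone (coproductIsCoproduct K) ?_
    refine IsColimit.equivOfNatIsoOfIso
      (NatIso.ofComponents (fun j => @asIso _ _ _ _ (η.app (K j.as)) (hη _))
        fun {i j} g => ?_) _ _ ?_
      (isColimitOfPreserves (G ⋙ DerivedCategory.Q) (coproductIsCoproduct K))
    · obtain rfl := Discrete.ext (Discrete.eq_of_hom g)
      simp
    · haveI := hη'
      refine Cocone.ext (asIso (η.app (∐ K))) fun j => ?_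
      haveI := hη j.as
      change (inv (η.app (K j.as)) ≫ _) ≫ η.app (∐ K) = _
      rw [Category.assoc, IsIso.inv_comp_eq]
      exact η.naturality _
  haveI : HasCoproduct fun j => DerivedCategory.Q.obj (K j) :=
    hasColimit_of_iso (Discrete.natIso fun j => e' j.as :
      Discrete.functor (fun j => DerivedCategory.Q.obj (K j)) ≅ Discrete.functor C)
  haveI : PreservesColimit (Discrete.functor fun j => DerivedCategory.Q.obj (K j)) F :=
    preservesColimit_of_preserves_colimit_cocone
      ((Cofan.isColimitMapCoconeEquiv (DerivedCategory.Q : CochainComplex A ℤ ⥤ DerivedCategory A)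
        _ _) (isColimitOfPreserves _ (coproductIsCoproduct K)))
      ((Cofan.isColimitMapCoconeEquiv F _ _).symm
        ((Cofan.isColimitMapCoconeEquiv (DerivedCategory.Q ⋙ F) _ _)
          (isColimitOfPreserves (DerivedCategory.Q ⋙ F) (coproductIsCoproduct K))))
  haveI : PreservesColimit (Discrete.functor C) F :=
    preservesColimit_of_iso_diagram F (Discrete.natIso fun j => e' j.as :
      Discrete.functor (fun j => DerivedCategory.Q.obj (K j)) ≅ Discrete.functor C)
  exact inferInstanceAs (IsIso (sigmaComparison F C))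

variable {X Y : Scheme.{u}} (f : X ⟶ Y) [QuasiCompact f] [QuasiSeparated f] [DCoh.HasRpush f]

/-- `Rf_*` commutes with uniformly bounded below coproducts. -/
theorem isIso_sigmaDesc_rpush_of_isGE {ι : Type u} (C : ι → DCoh.D X) (n : ℤ) (hC : ∀ i, (C i).IsGE n)
    [HasCoproduct C] [HasCoproduct fun i => (DCoh.Rpush f).obj (C i)] :
    IsIso (Sigma.desc (fun i => (DCoh.Rpush f).map (Sigma.ι C i))) := by
  haveI := preservesColimitsOfShape_push_discrete f (J := ι)
  haveI : PreservesColimitsOfShape (Discrete ι) (mapCx (Scheme.Modules.pushforward f)) :=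
    ⟨fun {K} => ⟨fun {c} hc => ⟨HomologicalComplex.isColimitOfEval _ _ fun m =>
      isColimitOfPreserves (HomologicalComplex.eval X.Modules (ComplexShape.up ℤ) m ⋙
        Scheme.Modules.pushforward f) hc⟩⟩⟩
  haveI := SpObjSS.enoughInjectives_of_hasInjectiveResolutions (C := X.Modules)
  have hres : ∀ i, ∃ (K : CochainComplex X.Modules ℤ), K.IsStrictlyGE n ∧ (∀ m, Injective (K.X m)) ∧
      Nonempty (DerivedCategory.Q.obj K ≅ C i) := fun i => by
    haveI := hC i
    obtain ⟨L, hL, ⟨e⟩⟩ := DerivedCategory.exists_iso_Q_obj_of_isGE (C i) n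
    haveI := hL
    obtain ⟨I, s, hI, hinj, -, hs⟩ := TriCat.exists_quasiIso_resolution (A := X.Modules) Injective
      ⟨_, isZero_zero X.Modules, IsZero.injective (isZero_zero _)⟩
      (fun M => ⟨Injective.under M, Injective.ι M, inferInstance, inferInstance⟩) L n
    haveI := hs
    exact ⟨I, hI, hinj, ⟨(asIso (DerivedCategory.Q.map s)).symm ≪≫ e.symm⟩⟩
  choose K hKge hKinj eK using hres
  refine isIso_sigmaDesc' (DCoh.Rpush f) (mapCx (Scheme.Modules.pushforward f)) (rpushUnit f) C K
    (fun i => (eK i).some) (fun i => ?_) ?_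
  · haveI := hKge i
    haveI := hKinj i
    haveI : (K i).IsKInjective := CochainComplex.isKInjective_of_injective _ n
    exact isIso_rpushUnit_of_kInjective f (K i)
  · let e : ∀ m, ∐ (fun i => (K i).X m) ≅ (∐ K).X m := fun m =>
      (PreservesCoproduct.iso (HomologicalComplex.eval X.Modules (ComplexShape.up ℤ) m) K).symm
    haveI : CochainComplex.IsStrictlyGE (∐ K) n := (CochainComplex.isStrictlyGE_iff _ n).2 fun m hm => by
      refine IsZero.of_iso ?_ (e m).symm
      rw [IsZero.iff_id_eq_zero]
      exact Sigma.hom_ext _ _ fun i => by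
        haveI := hKge i
        exact (CochainComplex.isZero_of_isStrictlyGE (K i) n m hm).eq_of_src _ _
    refine isIso_rpushUnit_of_isStrictlyGE f (∐ K) n fun m => ?_
    haveI : ∀ i, Injective ((K i).X m) := fun i => hKinj i m
    have hq : QcAcyclic ((∐ K).X m) :=
      qcAcyclic_of_retract (e m).inv (e m).hom (e m).inv_hom_id (qcAcyclic_sigma fun i => (K i).X m)
    intro k hk
    obtain ⟨k, rfl⟩ := Nat.exists_eq_succ_of_ne_zero (by omega : k ≠ 0)
    exact isZero_Rpush_of_qcAcyclic f _ hq k

end Groth.Agent.KFlatLib
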