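import Groth.Agent.KFlatLib.Scheme.Exact
import Groth.Agent.KFlatLib.Scheme.AffineSections
import Groth.Agent.QCoh.RpushGod
import Mathlib.CategoryTheory.Limits.Preserves.Shapes.Products

/-!
# Coproducts of modules and their sections over compact opens
-/

set_option linter.style.haveILetI false
set_option backward.isDefEq.respectTransparency false

universe u

open CategoryTheory CategoryTheory.Limits AlgebraicGeometry TopologicalSpace Opposite

namespace Groth.Agent.KFlatLib

open Groth.Agent.QCoh (abSheaf)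

variable {X Y : Scheme.{u}} {J : Type u}

/-- The projection of a coproduct onto a finite partial sum. -/
noncomputable def finProj (M : J → X.Modules) (F : Finset J) : ∐ M ⟶ ∐ (fun j : F => M j.1) :=
  haveI := Classical.decEq J
  Sigma.desc fun i => if h : i ∈ F then Sigma.ι (fun j : F => M j.1) ⟨i, h⟩ else 0

/-- The inclusion of a finite partial sum. -/
noncomputable def finIncl (M : J → X.Modules) (F : Finset J) : ∐ (fun j : F => M j.1) ⟶ ∐ M :=
  Sigma.desc fun j => Sigma.ι M j.1

lemma finIncl_finProj (M : J → X.Modules) (F : Finset J) : finIncl M F ≫ finProj M F = 𝟙 _ := by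
  refine Sigma.hom_ext _ _ fun j => ?_
  simp [finIncl, finProj, j.2]

lemma ι_finProj_finIncl (M : J → X.Modules) (F : Finset J) (i : J) (h : i ∈ F) :
    Sigma.ι M i ≫ finProj M F ≫ finIncl M F = Sigma.ι M i := by
  simp [finIncl, finProj, h]

lemma finProj_mul_of_le (M : J → X.Modules) {F G : Finset J} (h : F ⊆ G) :
    (finProj M F ≫ finIncl M F) ≫ finProj M G ≫ finIncl M G = finProj M F ≫ finIncl M F := by
  refine Sigma.hom_ext _ _ fun i => ?_
  by_cases hi : i ∈ F
  · rw [← Category.assoc, ι_finProj_finIncl M F i hi, ι_finProj_finIncl M G i (h hi)]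
  · simp [finProj, hi]

/-- Germs of a coproduct come from finite partial sums. -/
lemma exists_fix_stalk (M : J → X.Modules) (x : X) (t : (DerSch.stalkFunctor X x).obj (∐ M)) :
    ∃ F : Finset J, (DerSch.stalkFunctor X x).map (finProj M F ≫ finIncl M F) t = t := by
  classical
  let S := DerSch.stalkFunctor X x
  let e : Finset J → (∐ M ⟶ ∐ M) := fun F => finProj M F ≫ finIncl M F
  have mono : ∀ {F G : Finset J}, F ⊆ G → ∀ s, S.map (e F) s = s → S.map (e G) s = s := by
    intro F G h s hs
    rw [← hs]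
    exact (ConcreteCategory.congr_hom (S.map_comp (e F) (e G)).symm s).trans
      (ConcreteCategory.congr_hom (congrArg S.map (finProj_mul_of_le M h)) s)
  let N : Submodule (X.presheaf.stalk x) (S.obj (∐ M)) :=
    { carrier := {s | ∃ F, S.map (e F) s = s}
      add_mem' := by
        rintro a b ⟨F, hF⟩ ⟨G, hG⟩
        exact ⟨F ∪ G, by rw [map_add, mono Finset.subset_union_left a hF, mono Finset.subset_union_right b hG]⟩
      zero_mem' := ⟨∅, map_zero _⟩
      smul_mem' := by
        rintro r a ⟨F, hF⟩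
        exact ⟨F, by rw [map_smul, hF]⟩ }
  have hq : ModuleCat.ofHom N.mkQ = (0 : S.obj (∐ M) ⟶ ModuleCat.of _ (_ ⧸ N)) := by
    refine (isColimitOfPreserves S (coproductIsCoproduct M)).hom_ext fun ⟨i⟩ => ?_
    rw [comp_zero]
    refine ModuleCat.hom_ext (LinearMap.ext fun a => ?_)
    refine (Submodule.Quotient.mk_eq_zero N).2 ⟨{i}, ?_⟩
    exact (ConcreteCategory.congr_hom (S.map_comp (Sigma.ι M i) (e {i})).symm a).trans
      (ConcreteCategory.congr_hom
        (congrArg S.map (ι_finProj_finIncl M {i} i (Finset.mem_singleton_self i))) a)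
  exact (Submodule.Quotient.mk_eq_zero N).1 (ConcreteCategory.congr_hom hq t)

/-- Sections of a coproduct on a compact open come from finite partial sums. -/
lemma exists_fix_section (M : J → X.Modules) {W : X.Opens} (hW : IsCompact (W : Set X))
    (s : Γ(∐ M, W)) : ∃ F : Finset J, ∀ G, F ⊆ G → (finProj M G ≫ finIncl M G).app W s = s := by
  classical
  let P := (∐ M).presheaf
  let e : Finset J → (∐ M ⟶ ∐ M) := fun F => finProj M F ≫ finIncl M F
  have key : ∀ x : W, ∃ (F : Finset J) (V : X.Opens) (i : V ⟶ W), x.1 ∈ V ∧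
      (e F).app V (P.map i.op s) = P.map i.op s := by
    intro x
    obtain ⟨F, hF⟩ := exists_fix_stalk M x.1 (P.germ W x.1 x.2 s)
    have hF' : P.germ W x.1 x.2 ((e F).app W s) = P.germ W x.1 x.2 s :=
      (TopCat.Presheaf.stalkFunctor_map_germ_apply W x.1 x.2 (e F).mapPresheaf s).symm.trans hF
    obtain ⟨V, hxV, i₁, i₂, hV⟩ := TopCat.Presheaf.germ_eq P x.1 x.2 x.2 _ _ hF'
    obtain rfl : i₁ = i₂ := Subsingleton.elim _ _
    exact ⟨F, V, i₁, hxV, (ConcreteCategory.congr_hom ((e F).mapPresheaf.naturality i₁.op) s).trans hV⟩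
  choose F V i hxV hfix using key
  obtain ⟨T, hT⟩ := hW.elim_finite_subcover (fun x : W => (V x : Set X)) (fun x => (V x).2)
    fun y hy => Set.mem_iUnion.2 ⟨⟨y, hy⟩, hxV ⟨y, hy⟩⟩
  refine ⟨T.biUnion F, fun G hG => sub_eq_zero.1 (QCoh.eq_zero_of_locally W _ fun y hy => ?_)⟩
  obtain ⟨x, hx⟩ := Set.mem_iUnion.1 (hT hy)
  obtain ⟨hxT, hyV⟩ := Set.mem_iUnion.1 hx
  refine ⟨V x, i x, hyV, ?_⟩
  rw [map_sub, sub_eq_zero]
  refine (ConcreteCategory.congr_hom ((e G).mapPresheaf.naturality (i x).op) s).symm.trans ?_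
  change (e G).app (V x) (P.map (i x).op s) = P.map (i x).op s
  have h := finProj_mul_of_le M ((Finset.subset_biUnion_of_mem F hxT).trans hG)
  conv_lhs => rw [← hfix x]
  conv_rhs => rw [← hfix x]
  exact ConcreteCategory.congr_hom (congr_arg (fun φ : ∐ M ⟶ ∐ M => φ.app (V x)) h) _

/-- Compact quasi-separated opens and their finite coverings. -/
def qcCovers (X : Scheme.{u}) : QCoh.Ab.CoverSystem X.toPresheafedSpace.carrier where
  Good V := IsCompact (V : Set X) ∧ IsQuasiSeparated (V : Set X)
  Cov V {ι} U := (IsCompact (V : Set X) ∧ IsQuasiSeparated (V : Set X)) ∧ Finite ι ∧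
    (∀ i, IsCompact (U i : Set X) ∧ U i ≤ V) ∧ V ≤ ⨆ i, U i
  le := fun h i => (h.2.2.1 i).2
  covers := fun h => h.2.2.2
  inter := fun {V ι U} h {p} σ => by
    have hc : IsCompact (((⨅ a, U (σ a) : X.Opens) : Set X)) := by
      have key : ∀ (q : ℕ) (τ : Fin (q + 1) → ι), IsCompact (((⨅ a, U (τ a) : X.Opens) : Set X)) := by
        intro q
        induction q with
        | zero =>
          intro τ
          have e : (⨅ a, U (τ a) : X.Opens) = U (τ 0) :=
            le_antisymm (iInf_le _ 0) (le_iInf fun a => le_of_eq (by rw [Fin.fin_one_eq_zero a]))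
          rw [e]
          exact (h.2.2.1 _).1
        | succ q ih =>
          intro τ
          have e : (⨅ a, U (τ a) : X.Opens) = U (τ 0) ⊓ ⨅ a : Fin (q + 1), U (τ a.succ) :=
            le_antisymm (le_inf (iInf_le _ 0) (le_iInf fun a => iInf_le _ a.succ))
              (le_iInf fun a => Fin.cases inf_le_left (fun b => inf_le_right.trans (iInf_le _ b)) a)
          rw [e]
          exact h.1.2 _ _ (h.2.2.1 _).2 (U (τ 0)).2 (h.2.2.1 _).1
            ((iInf_le (fun a : Fin (q + 1) => U (τ a.succ)) 0).trans (h.2.2.1 _).2) (⨅ a : Fin (q + 1), U (τ a.succ) : X.Opens).2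
            (ih fun a => τ a.succ)
      exact key p σ
    exact ⟨hc, h.1.2.of_subset ((iInf_le (fun a => U (σ a)) 0).trans (h.2.2.1 (σ 0)).2)⟩
  exists_refinement {V} hV N hN := by
    have hex : ∀ x : V, ∃ W : X.Opens, IsAffineOpen W ∧ x.1 ∈ W ∧ W ≤ N x ⊓ V := fun x => by
      obtain ⟨_, ⟨W, hW, rfl⟩, hxW, hWN⟩ := X.isBasis_affineOpens.exists_subset_of_mem_open
        (show x.1 ∈ ((N x ⊓ V : X.Opens) : Set X) from ⟨hN x, x.2⟩) (N x ⊓ V : X.Opens).2
      exact ⟨W, hW, hxW, hWN⟩
    choose W hW hxW hWN using hex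
    obtain ⟨s, hs⟩ := hV.1.elim_finite_subcover (fun x : V => (W x : Set X)) (fun x => (W x).2)
      fun x hx => Set.mem_iUnion.2 ⟨⟨x, hx⟩, hxW ⟨x, hx⟩⟩
    refine ⟨s, fun i => W i.1, ⟨hV, inferInstance,
      fun i => ⟨(hW i.1).isCompact, (hWN i.1).trans inf_le_right⟩, fun x hx => ?_⟩,
      fun i => ⟨i.1, (hWN i.1).trans inf_le_left⟩⟩
    obtain ⟨y, hy⟩ := Set.mem_iUnion.1 (hs hx)
    obtain ⟨hys, hy⟩ := Set.mem_iUnion.1 hy
    exact Opens.mem_iSup.2 ⟨⟨y, hys⟩, hy⟩

/-- Modules without Cech cohomology on finite coverings of compact quasi-separated opens. -/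
def QcAcyclic (M : X.Modules) : Prop := (qcCovers X).Acyclic (abSheaf M)

lemma qcAcyclic_of_retract {M N : X.Modules} (i : M ⟶ N) (r : N ⟶ M) (h : i ≫ r = 𝟙 M)
    (hN : QcAcyclic N) : QcAcyclic M := fun V hV _ U hU =>
  QCoh.Ab.Acyclic.of_retract (P := (abSheaf N).presheaf) (hN V hV U hU)
    ((QCoh.toAbFunctor X).map i).hom ((QCoh.toAbFunctor X).map r).hom
    (congrArg (fun φ : abSheaf M ⟶ abSheaf M => φ.hom)
      (((QCoh.toAbFunctor X).map_comp i r).symm.trans
        ((congrArg (QCoh.toAbFunctor X).map h).trans ((QCoh.toAbFunctor X).map_id M))))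

lemma qcAcyclic_of_injective (I : X.Modules) [Injective I] : QcAcyclic I := fun V hV _ U hU => by
  let r := Injective.factorThru (𝟙 I) (QCoh.toGod I)
  refine QCoh.Ab.Acyclic.of_retract (P := (abSheaf (QCoh.God I)).presheaf) ?_
    ((QCoh.toAbFunctor X).map (QCoh.toGod I)).hom ((QCoh.toAbFunctor X).map r).hom ?_
  · exact QCoh.Ab.pointwise_acyclic (fun x => AddCommGrpCat.of (QCoh.stk I x : Type u)) U
  · exact congrArg (fun φ : abSheaf I ⟶ abSheaf I => φ.hom)
      (((QCoh.toAbFunctor X).map_comp _ r).symm.trans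
        ((congrArg (QCoh.toAbFunctor X).map (Injective.comp_factorThru (𝟙 I) (QCoh.toGod I))).trans
          ((QCoh.toAbFunctor X).map_id I)))

/-- A finite sum of injective modules is injective. -/
lemma injective_finset_sigma (I : J → X.Modules) [∀ i, Injective (I i)] (F : Finset J) :
    Injective (∐ fun j : F => I j.1) :=
  haveI := Abelian.hasFiniteBiproducts (C := X.Modules)
  Injective.of_iso (biproduct.isoCoproduct fun j : F => I j.1) inferInstance

open QCoh.Ab in
/-- Coproducts of injective modules are acyclic. -/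
theorem qcAcyclic_sigma (I : J → X.Modules) [∀ i, Injective (I i)] : QcAcyclic (∐ I) := by
  classical
  intro V hV ι U hU p q hqn hdq
  haveI : Finite ι := hU.2.1
  haveI : Fintype ι := Fintype.ofFinite ι
  choose F hF using fun σ : Fin (p + 2) → ι =>
    exists_fix_section I ((qcCovers X).inter hU σ).1 (q σ ⟨⨅ a, U (σ a), fun a => iInf_le _ a⟩)
  let G := Finset.univ.biUnion F
  let r := ((QCoh.toAbFunctor X).map (finProj I G)).hom
  let i := ((QCoh.toAbFunctor X).map (finIncl I G)).hom
  have hri : push i (push r q) = q := by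
    funext σ W
    let B : X.Opens := ⨅ a, U (σ a)
    have hWB : (W.1 : X.Opens) ≤ B := le_iInf W.2
    have h1 := hqn σ B W.1 (fun a => iInf_le _ a) W.2 (homOfLE hWB)
    have h2 := hF σ G (Finset.subset_biUnion_of_mem F (Finset.mem_univ σ))
    change (finProj I G ≫ finIncl I G).app W.1 (q σ W) = q σ W
    refine ((congrArg _ h1.symm).trans ?_).trans h1
    exact (ConcreteCategory.congr_hom
      ((finProj I G ≫ finIncl I G).mapPresheaf.naturality (homOfLE hWB).op) _).trans
      (congrArg ((∐ I).presheaf.map (homOfLE hWB).op) h2)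
  haveI := injective_finset_sigma I G
  obtain ⟨b, hb, hdb⟩ := qcAcyclic_of_injective (∐ fun j : G => I j.1) V hV U hU p (push r q)
    (push_natural r hqn) (by rw [d_push, hdq]; funext σ W; exact map_zero _)
  exact ⟨push i b, push_natural i hb, by rw [d_push, hdb, hri]⟩

variable (f : X ⟶ Y) [QuasiCompact f] [QuasiSeparated f]

lemma epi_push_of_qcAcyclic {S : ShortComplex X.Modules} (hS : S.ShortExact) (h₁ : QcAcyclic S.X₁) :
    Epi ((Scheme.Modules.pushforward f).map S.g) := by
  refine ⟨fun {L} a b e => sub_eq_zero.1 (Scheme.Modules.hom_ext _ _ fun O => ?_)⟩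
  ext x
  refine QCoh.eq_zero_of_locally O _ fun y hy => ?_
  obtain ⟨_, ⟨V, hV, rfl⟩, hyV, hVO⟩ := Y.isBasis_affineOpens.exists_subset_of_mem_open hy O.2
  refine ⟨V, homOfLE hVO, hyV, ?_⟩
  let T := S.map (QCoh.toAbFunctor X)
  obtain ⟨z, hz⟩ := QCoh.Ab.sections_surjective (T := T) (qcCovers X)
    (shortExact_toAb hS) h₁ (V := f ⁻¹ᵁ V)
    ⟨f.isCompact_preimage hV.isCompact, f.isQuasiSeparated_preimage hV.isQuasiSeparated⟩
    (((Scheme.Modules.pushforward f).obj S.X₃).presheaf.map (homOfLE hVO).op x)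
  refine (ConcreteCategory.congr_hom ((a - b).mapPresheaf.naturality (homOfLE hVO).op) x).symm.trans ?_
  change (a - b).app V _ = 0
  have e' : (Scheme.Modules.pushforward f).map S.g ≫ (a - b) = 0 := by
    rw [Preadditive.comp_sub, e, sub_self]
  exact (congrArg ((a - b).app V) hz.symm).trans congr(($e').app V z)

/-- Qc-acyclic modules are acyclic for pushforwards along qcqs morphisms. -/
theorem isZero_Rpush_of_qcAcyclic [HasInjectiveResolutions X.Modules] (M : X.Modules) (hM : QcAcyclic M)
    (i : ℕ) : IsZero ((Coh.Rpush f (i + 1)).obj M) := by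
  haveI := SpObjSS.enoughInjectives_of_hasInjectiveResolutions (C := X.Modules)
  haveI := QCoh.preservesFiniteLimits_push f
  exact QCoh.isZero_rightDerived_of_class (Scheme.Modules.pushforward f) QcAcyclic
    (fun {S} hS h₁ h₂ => let T := S.map (QCoh.toAbFunctor X)
      QCoh.Ab.Acyclic_X₃ (T := T) (qcCovers X)
      (shortExact_toAb hS) h₁ (haveI := h₂; qcAcyclic_of_injective S.X₂))
    (fun hS h₁ _ => epi_push_of_qcAcyclic f hS h₁) M hM i

omit [QuasiSeparated f] in
/-- Pushforward along a quasi-compact morphism commutes with coproducts of modules. -/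
theorem preservesColimitsOfShape_push_discrete :
    PreservesColimitsOfShape (Discrete J) (Scheme.Modules.pushforward f) := by
  classical
  suffices h : ∀ M : J → X.Modules, PreservesColimit (Discrete.functor M) (Scheme.Modules.pushforward f) from
    ⟨fun {K} => haveI := h (fun j => K.obj ⟨j⟩); preservesColimit_of_iso_diagram _ Discrete.natIsoFunctor.symm⟩
  intro M
  let P := Scheme.Modules.pushforward f
  let c := sigmaComparison P M
  have hnat : ∀ G : Finset J, c ≫ P.map (finProj M G) =
      finProj (fun j => P.obj (M j)) G ≫ sigmaComparison P (fun j : G => M j.1) := fun G => by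
    refine Sigma.hom_ext _ _ fun j => ?_
    rw [ι_comp_sigmaComparison_assoc, ← P.map_comp, finProj, finProj, Sigma.ι_desc, Sigma.ι_desc_assoc]
    by_cases hj : j ∈ G
    · rw [dif_pos hj, dif_pos hj, ι_comp_sigmaComparison]
    · rw [dif_neg hj, dif_neg hj, P.map_zero, zero_comp]
  have hnat' : ∀ G : Finset J, finIncl (fun j => P.obj (M j)) G ≫ c =
      sigmaComparison P (fun j : G => M j.1) ≫ P.map (finIncl M G) := fun G => by
    refine Sigma.hom_ext _ _ fun j => ?_
    rw [finIncl, finIncl, Sigma.ι_desc_assoc, ι_comp_sigmaComparison, ι_comp_sigmaComparison_assoc,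
      ← P.map_comp, Sigma.ι_desc]
  haveI : ∀ G : Finset J, IsIso (sigmaComparison P (fun j : G => M j.1)) := fun G => inferInstance
  have hV : ∀ {V : Y.Opens}, IsAffineOpen V → Function.Bijective (c.app V) := by
    intro V hV
    refine ⟨(injective_iff_map_eq_zero _).2 fun s hs => ?_, fun t => ?_⟩
    · obtain ⟨G, hG⟩ := exists_fix_section (fun j => P.obj (M j)) hV.isCompact s
      rw [← hG G subset_rfl]
      have h1 : (sigmaComparison P (fun j : G => M j.1)).app V
          ((finProj (fun j => P.obj (M j)) G).app V s) = 0 :=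
        (congr(($(hnat G)).app V s)).symm.trans ((congrArg ((P.map (finProj M G)).app V) hs).trans (map_zero _))
      have h2 : (finProj (fun j => P.obj (M j)) G).app V s = 0 :=
        (injective_iff_map_eq_zero _).1 (ConcreteCategory.bijective_of_isIso
          ((sigmaComparison P (fun j : G => M j.1)).app V)).1 _ h1
      exact (congrArg ((finIncl (fun j => P.obj (M j)) G).app V) h2).trans (map_zero _)
    · obtain ⟨G, hG⟩ := exists_fix_section M (W := f ⁻¹ᵁ V) (f.isCompact_preimage hV.isCompact) t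
      obtain ⟨u, hu⟩ := (ConcreteCategory.bijective_of_isIso
        ((sigmaComparison P (fun j : G => M j.1)).app V)).2 ((finProj M G).app (f ⁻¹ᵁ V) t)
      refine ⟨(finIncl (fun j => P.obj (M j)) G).app V u, (congr(($(hnat' G)).app V u)).trans ?_⟩
      exact (congrArg _ hu).trans (hG G subset_rfl)
  haveI : IsIso c := by
    refine Scheme.Modules.Hom.isIso_iff_isIso_app.2 fun O =>
      (ConcreteCategory.isIso_iff_bijective _).2 ?_
    have inj : ∀ O : Y.Opens, Function.Injective (c.app O) := fun O =>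
      (injective_iff_map_eq_zero _).2 fun s hs => QCoh.eq_zero_of_locally O s fun y hy => by
        obtain ⟨_, ⟨V, hVa, rfl⟩, hyV, hVO⟩ := Y.isBasis_affineOpens.exists_subset_of_mem_open hy O.2
        refine ⟨V, homOfLE hVO, hyV, (injective_iff_map_eq_zero _).1 (hV hVa).1 _ ?_⟩
        exact (ConcreteCategory.congr_hom (c.mapPresheaf.naturality (homOfLE hVO).op) s).trans
          ((congrArg ((P.obj (∐ M)).presheaf.map (homOfLE hVO).op) hs).trans (map_zero _))
    refine ⟨inj O, fun t => ?_⟩
    have hex : ∀ y : O, ∃ V : Y.Opens, IsAffineOpen V ∧ y.1 ∈ V ∧ V ≤ O := fun y => by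
      obtain ⟨_, ⟨V, hVa, rfl⟩, hyV, hVO⟩ := Y.isBasis_affineOpens.exists_subset_of_mem_open y.2 O.2
      exact ⟨V, hVa, hyV, hVO⟩
    choose V hVa hyV hVO using hex
    choose u hu using fun y => (hV (hVa y)).2 ((P.obj (∐ M)).presheaf.map (homOfLE (hVO y)).op t)
    obtain ⟨s, hs, -⟩ := TopCat.Sheaf.existsUnique_gluing' (abSheaf (∐ fun j => P.obj (M j))) V O
      (fun y => homOfLE (hVO y)) (fun y hy => Opens.mem_iSup.2 ⟨⟨y, hy⟩, hyV ⟨y, hy⟩⟩) u (fun a b => by
        refine inj (V a ⊓ V b) ?_
        refine (ConcreteCategory.congr_hom (c.mapPresheaf.naturality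
          (homOfLE (inf_le_left : V a ⊓ V b ≤ V a)).op) (u a)).trans ?_
        refine Eq.trans ?_ (ConcreteCategory.congr_hom (c.mapPresheaf.naturality
          (homOfLE (inf_le_right : V a ⊓ V b ≤ V b)).op) (u b)).symm
        refine (congrArg _ (hu a)).trans (Eq.trans ?_ (congrArg _ (hu b)).symm)
        exact (ConcreteCategory.congr_hom ((P.obj (∐ M)).presheaf.map_comp (homOfLE (hVO a)).op
            (homOfLE (inf_le_left : V a ⊓ V b ≤ V a)).op).symm t).trans
          (ConcreteCategory.congr_hom ((P.obj (∐ M)).presheaf.map_comp (homOfLE (hVO b)).op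
            (homOfLE (inf_le_right : V a ⊓ V b ≤ V b)).op).symm t).symm)
    refine ⟨s, TopCat.Sheaf.eq_of_locally_eq' (abSheaf (P.obj (∐ M))) V O
      (fun y => homOfLE (hVO y)) (fun y hy => Opens.mem_iSup.2 ⟨⟨y, hy⟩, hyV ⟨y, hy⟩⟩) _ _ fun y => ?_⟩
    exact (ConcreteCategory.congr_hom (c.mapPresheaf.naturality (homOfLE (hVO y)).op) s).symm.trans
      ((congrArg _ (hs y)).trans (hu y))
  exact PreservesCoproduct.of_iso_comparison P M

end Groth.Agent.KFlatLib
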