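import Groth.Agent.KFlatLib.Scheme.Coproducts
import Groth.Agent.FlatCxLib.HomologyColim
import Groth.Agent.QCoh.Tilde
import Groth.Agent.QCoh.Extension
import Mathlib.Algebra.Homology.DerivedCategory.HomologySequence

/-!
# Complexes with quasi-coherent cohomology
-/

set_option linter.style.haveILetI false

universe u

open CategoryTheory CategoryTheory.Limits AlgebraicGeometry Pretriangulated

attribute [local instance] HasDerivedCategory.standard

namespace Groth.Agent.KFlatLib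

variable {X : Scheme.{u}}

lemma isQCoh_of_iso {M N : X.Modules} (e : M ≅ N) (h : Coh.IsQCoh M) : Coh.IsQCoh N :=
  (QCoh.isQCoh_iff_iso e).1 h

lemma isQCoh_of_isZero {M : X.Modules} (hM : IsZero M) : Coh.IsQCoh M := by
  have h : Coh.IsQCoh (∐ fun i : PEmpty.{u + 1} => (PEmpty.elim i : X.Modules)) :=
    QCoh.isQCoh_colimit _ fun j => PEmpty.elim j.as
  exact isQCoh_of_iso ((IsInitial.isZero (isColimitEquivIsInitialOfIsEmpty _ _ (coproductIsCoproduct _))).iso hM) h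

/-- A module in the middle of an exact sequence of five with quasi-coherent outer terms. -/
lemma isQCoh_of_exact {A B C D E : X.Modules} {f : A ⟶ B} {g : B ⟶ C} {h : C ⟶ D} {k : D ⟶ E}
    (w₁ : f ≫ g = 0) (w₂ : g ≫ h = 0) (w₃ : h ≫ k = 0)
    (h₁ : (ShortComplex.mk f g w₁).Exact) (h₂ : (ShortComplex.mk g h w₂).Exact)
    (h₃ : (ShortComplex.mk h k w₃).Exact)
    (hA : Coh.IsQCoh A) (hB : Coh.IsQCoh B) (hD : Coh.IsQCoh D) (hE : Coh.IsQCoh E) :
    Coh.IsQCoh C := by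
  haveI : Mono (cokernel.desc f g w₁) := h₁.mono_cokernelDesc
  haveI : Epi (kernel.lift k h w₃) := h₃.epi_kernelLift
  let S : ShortComplex X.Modules := ShortComplex.mk (cokernel.desc f g w₁) (kernel.lift k h w₃) (by
    refine (cancel_mono (kernel.ι k)).1 ((cancel_epi (cokernel.π f)).1 ?_)
    simp [w₂])
  have hS : S.ShortExact := by
    refine ⟨?_⟩
    let S₀ : ShortComplex X.Modules := ShortComplex.mk g (kernel.lift k h w₃) (by rw [← cancel_mono (kernel.ι k)]; simp [w₂])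
    let φ : S₀ ⟶ ShortComplex.mk g h w₂ :=
      { τ₁ := 𝟙 _, τ₂ := 𝟙 _, τ₃ := kernel.ι k, comm₁₂ := by simp [S₀], comm₂₃ := by simp [S₀] }
    let ψ : S₀ ⟶ S :=
      { τ₁ := cokernel.π f, τ₂ := 𝟙 _, τ₃ := 𝟙 _, comm₁₂ := by simp [S₀, S],
        comm₂₃ := by simp [S₀, S] }
    haveI : Epi φ.τ₁ := inferInstanceAs (Epi (𝟙 B))
    haveI : IsIso φ.τ₂ := inferInstanceAs (IsIso (𝟙 C))
    haveI : Mono φ.τ₃ := inferInstanceAs (Mono (kernel.ι k))
    haveI : Epi ψ.τ₁ := inferInstanceAs (Epi (cokernel.π f))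
    haveI : IsIso ψ.τ₂ := inferInstanceAs (IsIso (𝟙 C))
    haveI : Mono ψ.τ₃ := inferInstanceAs (Mono (𝟙 (kernel k)))
    exact (ShortComplex.exact_iff_of_epi_of_isIso_of_mono ψ).1
      ((ShortComplex.exact_iff_of_epi_of_isIso_of_mono φ).2 h₂)
  exact QCoh.isQCoh_X₂ hS (QCoh.isQCoh_cokernel hA hB f) (QCoh.isQCoh_kernel hD hE k)

lemma isQCohD_of_iso {K L : DCoh.D X} (e : K ≅ L) (h : DCoh.IsQCohD K) : DCoh.IsQCohD L := fun i =>
  isQCoh_of_iso ((DerivedCategory.homologyFunctor X.Modules i).mapIso e) (h i)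

lemma isQCohD_shift {K : DCoh.D X} (h : DCoh.IsQCohD K) (n : ℤ) : DCoh.IsQCohD (K⟦n⟧) := fun i =>
  isQCoh_of_iso ((((DerivedCategory.homologyFunctor X.Modules 0).shiftIso n i (n + i) rfl).app
    K).symm) (h (n + i))

lemma isQCohD_obj₂ {T : Triangle (DCoh.D X)} (hT : T ∈ distTriang _)
    (h₁ : DCoh.IsQCohD T.obj₁) (h₃ : DCoh.IsQCohD T.obj₃) : DCoh.IsQCohD T.obj₂ := fun n =>
  isQCoh_of_exact _ _ _
    (DerivedCategory.HomologySequence.exact₁ T hT (n - 1) n (by omega))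
    (DerivedCategory.HomologySequence.exact₂ T hT n)
    (DerivedCategory.HomologySequence.exact₃ T hT n (n + 1) rfl)
    (h₃ (n - 1)) (h₁ n) (h₃ n) (h₁ (n + 1))

lemma isQCohD_obj₁ {T : Triangle (DCoh.D X)} (hT : T ∈ distTriang _)
    (h₂ : DCoh.IsQCohD T.obj₂) (h₃ : DCoh.IsQCohD T.obj₃) : DCoh.IsQCohD T.obj₁ :=
  isQCohD_obj₂ (inv_rot_of_distTriang _ hT) (isQCohD_shift h₃ (-1)) h₂

lemma isQCohD_obj₃ {T : Triangle (DCoh.D X)} (hT : T ∈ distTriang _)
    (h₁ : DCoh.IsQCohD T.obj₁) (h₂ : DCoh.IsQCohD T.obj₂) : DCoh.IsQCohD T.obj₃ :=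
  isQCohD_obj₂ (rot_of_distTriang _ hT) h₂ (isQCohD_shift h₁ 1)

lemma isQCohD_Q_sigma {ι : Type u} (K : ι → CochainComplex X.Modules ℤ)
    (h : ∀ j, DCoh.IsQCohD (DerivedCategory.Q.obj (K j))) :
    DCoh.IsQCohD (DerivedCategory.Q.obj (∐ K)) := fun i => by
  let H := HomologicalComplex.homologyFunctor X.Modules (ComplexShape.up ℤ) i
  haveI := FlatCxLib.preservesColimitsOfShape_complexHomology (C := X.Modules)
    (J := Discrete ι) (ComplexShape.up ℤ) i
  refine isQCoh_of_iso ((PreservesCoproduct.iso H K).symm ≪≫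
    ((DerivedCategory.homologyFunctorFactors X.Modules i).app _).symm) ?_
  exact QCoh.isQCoh_colimit _ fun j =>
    isQCoh_of_iso ((DerivedCategory.homologyFunctorFactors X.Modules i).app _) (h j.as i)

lemma isQCohD_sigma {ι : Type u} (C : ι → DCoh.D X) [HasCoproduct C]
    (h : ∀ j, DCoh.IsQCohD (C j)) : DCoh.IsQCohD (∐ C) := by
  let K := fun j => DerivedCategory.Q.objPreimage (C j)
  let e := fun j => DerivedCategory.Q.objObjPreimageIso (C j)
  haveI := preservesColimit_Q K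
  haveI : HasCoproduct fun j => DerivedCategory.Q.obj (K j) :=
    hasColimit_of_iso (Discrete.natIso fun j => e j.as :
      Discrete.functor (fun j => DerivedCategory.Q.obj (K j)) ≅ Discrete.functor C)
  exact isQCohD_of_iso (PreservesCoproduct.iso DerivedCategory.Q K ≪≫ HasColimit.isoOfNatIso (Discrete.natIso fun j => e j.as :
      Discrete.functor (fun j => DerivedCategory.Q.obj (K j)) ≅ Discrete.functor C))
    (isQCohD_Q_sigma K fun j => isQCohD_of_iso (e j).symm (h j))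

end Groth.Agent.KFlatLib
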