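import Groth.Agent.KFlatLib.Scheme.DQCohLimit
import Groth.Agent.KFlatLib.Scheme.AffinePush
import Groth.Agent.KFlatLib.Scheme.LocalDevissage
import Groth.Agent.KFlatLib.Scheme.Adjoint
import Groth.Agent.KFlatLib.Scheme.QCohD
import Groth.Agent.KFlatLib.Scheme.RpushQCoh
import Groth.Agent.KFlatLib.Scheme.RGammaPush
import Groth.Agent.KFlatLib.Scheme.RpushTriangle
import Groth.Agent.KFlatLib.Scheme.MVPush
import Groth.Agent.KFlatLib.Perfect.Basic
import Groth.Agent.QCoh.Qcqs

/-!
# `Rf_*` is conservative for affine morphisms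
-/

set_option linter.style.haveILetI false
set_option backward.isDefEq.respectTransparency false

universe u

open CategoryTheory CategoryTheory.Limits AlgebraicGeometry TopologicalSpace Pretriangulated Opposite ZeroObject

attribute [local instance] HasDerivedCategory.standard

namespace Groth.Agent.KFlatLib

variable {X Y : Scheme.{u}} (f : X ⟶ Y)

/-- `f^* (j_! O_V) = j_! O_{f⁻¹ V}`. -/
theorem nonempty_pullback_secObj (V : Y.Opens) :
    Nonempty ((Scheme.Modules.pullback f).obj (secObj V) ≅ secObj (f ⁻¹ᵁ V)) := by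
  let adj := Scheme.Modules.pullbackPushforwardAdjunction f
  let φ := (adj.homEquiv _ _).symm ((secPushEquiv f V (secObj (f ⁻¹ᵁ V))).symm (𝟙 _))
  let ψ := secPushEquiv f V _ (adj.unit.app (secObj V))
  refine ⟨⟨φ, ψ, ?_, ?_⟩⟩
  · apply (adj.homEquiv _ _).injective
    apply (secPushEquiv f V _).injective
    rw [adj.homEquiv_naturality_right, secPushEquiv_naturality]
    simp only [φ, ψ, Equiv.apply_symm_apply, Category.id_comp]
    rw [adj.homEquiv_unit]
    simp
  · rw [← secPushEquiv_naturality, ← adj.homEquiv_unit]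
    simp only [φ, Equiv.apply_symm_apply]

/-- A quasi-coherent module without sections on the members of an affine cover vanishes. -/
theorem isZero_of_sections {M : X.Modules} (hM : Coh.IsQCoh M)
    (h : ∀ x : X, ∃ W : X.Opens, x ∈ W ∧ IsAffineOpen W ∧ Subsingleton Γ(M, W)) : IsZero M := by
  rw [IsZero.iff_id_eq_zero]
  refine Scheme.Modules.hom_ext _ _ fun O => ?_
  ext a
  refine QCoh.eq_zero_of_locally O _ fun y hy => ?_
  obtain ⟨W, hyW, hW, hs⟩ := h y
  obtain ⟨r, hr, hyr⟩ := hW.exists_basicOpen_le (V := O) ⟨y, hy⟩ hyW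
  refine ⟨X.basicOpen r, homOfLE hr, hyr, ?_⟩
  obtain ⟨n, t, ht⟩ := QCoh.exists_pow_smul_eq_map_of_isQuasiSeparated hM hW.isCompact
    hW.isQuasiSeparated r (M.presheaf.map (homOfLE hr).op a)
  rw [hs.elim t 0, map_zero] at ht
  have hu : IsUnit (X.presheaf.map (homOfLE (X.basicOpen_le r)).op r) :=
    RingedSpace.isUnit_res_basicOpen X.toRingedSpace r
  exact (hu.pow n).smul_eq_zero.1 ht.symm

lemma isFlat_secObj (V : Y.Opens) : FlatMod.IsFlat (secObj V) :=
  IsFlat.of_iso (((lshAdj V.ι).leftAdjointUniq (CxOX.extZeroAdj V.ι)).app _)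
    (isFlat_lsh V.ι isFlat_structureModule)

variable [DCoh.HasRpush f]

/-- An object of `D_QCoh` killed by the pushforward along an affine morphism vanishes. -/
theorem isZero_of_rpush_isZero [IsAffineHom f] {C : DCoh.D X} (hC : DCoh.IsQCohD C)
    (h : IsZero ((DCoh.Rpush f).obj C)) : IsZero C := by
  haveI := hasLpull f
  obtain ⟨adj⟩ := nonempty_lpull_rpush_adj f
  haveI : (DCoh.Rpush f).Additive :=
    (exists_rightDerived_triangle (Scheme.Modules.pushforward f) _ (contractible_distinguished C)).1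
  have hH : ∀ i : ℤ, IsZero (DCoh.HD C i) := fun i => by
    have hq := hC i
    refine isZero_of_sections hq fun x => ?_
    obtain ⟨_, ⟨V, hV, rfl⟩, hxV, -⟩ :=
      Y.isBasis_affineOpens.exists_subset_of_mem_open (Set.mem_univ (f.base x)) isOpen_univ
    let W : X.Opens := f ⁻¹ᵁ V
    refine ⟨W, hxV, hV.preimage f, ?_⟩
    let P : CochainComplex Y.Modules ℤ := (HomologicalComplex.single Y.Modules _ 0).obj (secObj V)
    haveI : CochainComplex.IsStrictlyLE P 0 := (CochainComplex.isStrictlyLE_iff _ 0).2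
      fun j hj => HomologicalComplex.isZero_single_obj_X (ComplexShape.up ℤ) 0 _ j (by omega)
    have hP : DCoh.IsKFlat P := isKFlat_of_isStrictlyLE P 0 (isFlat_single 0 (isFlat_secObj V))
    obtain ⟨eS⟩ := nonempty_pullback_secObj f V
    let e : (DCoh.Lpull f).obj (DerivedCategory.Q.obj P) ≅ DCoh.inD X (secObj W) :=
      lpullIso f hP ≪≫ DerivedCategory.Q.mapIso
        ((HomologicalComplex.singleMapHomologicalComplex (Scheme.Modules.pullback f) _ 0).app _ ≪≫
          (HomologicalComplex.single X.Modules _ 0).mapIso eS) ≪≫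
        ((DerivedCategory.singleFunctorIsoCompQ X.Modules 0).app _).symm
    obtain ⟨es⟩ := nonempty_rpush_shift f C i
    have hz : IsZero ((DCoh.Rpush f).obj (C⟦i⟧)) :=
      (Functor.map_isZero (shiftFunctor (DCoh.D Y) i) h).of_iso es
    have h0 : ∀ φ : DCoh.inD X (secObj W) ⟶ C⟦i⟧, φ = 0 := fun φ => by
      rw [← cancel_epi e.hom, comp_zero]
      have := hz.eq_of_tgt ((adj.homEquiv _ _) (e.hom ≫ φ)) ((adj.homEquiv _ _) 0)
      exact (adj.homEquiv _ _).injective this
    have hb := bijH0_of_isQCohD (isQCohD_shift hC i) (hV.preimage f)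
    have hs : ∀ s : secObj W ⟶ DCoh.HD C i, s = 0 := fun s => by
      let eH : DCoh.HD (C⟦i⟧) 0 ≅ DCoh.HD C i :=
        ((DerivedCategory.homologyFunctor X.Modules 0).shiftIso i 0 i (add_zero i)).app C
      obtain ⟨φ, hφ⟩ := hb.2 (s ≫ eH.inv)
      rw [← cancel_mono eH.inv, zero_comp, ← hφ, h0 φ, psi_zero]
    refine ⟨fun a b => ?_⟩
    have hW := W.ι_image_top
    have key : Subsingleton Γ(DCoh.HD C i, W.ι ''ᵁ ⊤) :=
      ⟨fun a b => (secEquiv W _).symm.injective ((hs _).trans (hs _).symm)⟩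
    rw [hW] at key
    exact key.elim a b
  let K := DerivedCategory.Q.objPreimage C
  let eC : DerivedCategory.Q.obj K ≅ C := DerivedCategory.Q.objObjPreimageIso C
  let Z : CochainComplex X.Modules ℤ := (HomologicalComplex.single X.Modules _ 0).obj (0 : X.Modules)
  have hac : K.Acyclic := fun i => by
    rw [HomologicalComplex.exactAt_iff_isZero_homology]
    exact (hH i).of_iso (((DerivedCategory.homologyFunctorFactors _ i).app K).symm ≪≫
      (DerivedCategory.homologyFunctor _ i).mapIso eC)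
  haveI := isIso_Q_map (0 : Z ⟶ K) (quasiIso_zero_of_acyclic _ (Functor.map_isZero _ (isZero_zero _)) hac)
  exact (Functor.map_isZero DerivedCategory.Q
    (show IsZero Z from Functor.map_isZero _ (isZero_zero _))).of_iso
      (eC.symm ≪≫ (asIso (DerivedCategory.Q.map (0 : Z ⟶ K))).symm)

/-- `Rf_*` reflects isomorphisms in `D_QCoh` for affine `f`. -/
theorem isIso_of_isIso_rpush [IsAffineHom f] {E F : DCoh.D X} (hE : DCoh.IsQCohD E) (hF : DCoh.IsQCohD F)
    (α : E ⟶ F) (hα : IsIso ((DCoh.Rpush f).map α)) : IsIso α := by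
  obtain ⟨C, g, h, hT⟩ := distinguished_cocone_triangle α
  refine (Triangle.isZero₃_iff_isIso₁ _ hT).1 (isZero_of_rpush_isZero f (isQCohD_obj₃ hT hE hF) ?_)
  obtain ⟨c, hc⟩ := exists_rpush_triangle f _ hT
  exact (Triangle.isZero₃_iff_isIso₁ _ hc).2 hα

end Groth.Agent.KFlatLib
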