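import Groth.Agent.KFlatLib.Scheme.TorBCTensorSupport
import Groth.Agent.CohPullX.FpExchange
import Groth.Agent.QCoh.RpushClosed
import Groth.Agent.S2446
import Groth.Agent.S2440

/-!
# Direct images with vanishing higher direct images are locally free
-/

set_option linter.style.haveILetI false
set_option backward.isDefEq.respectTransparency false

universe u

open CategoryTheory CategoryTheory.Limits AlgebraicGeometry TopologicalSpace

namespace Groth.Agent.KFlatLib.VanishLocFree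

variable {X S : Scheme.{u}} {f : X ⟶ S} {M : X.Modules}

/-- If the higher direct images vanish, so does the higher cohomology of the fibres. -/
theorem subsingleton_fiberH_of_vanish [IsProper f] [LocallyOfFinitePresentation f] [HasInjectiveResolutions X.Modules]
    (hfp : CohB1.IsFP M) (hfl : FlatMod.IsFlatOver f M)
    (hvan : ∀ i : ℕ, 0 < i → IsZero ((Coh.Rpush f i).obj M)) (y : S) (p : ℕ) (hp : 0 < p) :
    Subsingleton (CohIII.fiberH f M y p) := by
  obtain ⟨_, ⟨V, hV, rfl⟩, hy, -⟩ :=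
    S.isBasis_affineOpens.exists_subset_of_mem_open (Set.mem_univ y) isOpen_univ
  have hV' : IsAffineOpen V := hV
  obtain ⟨A₀, _, hA, φ, P, hP⟩ := CohPullX.exists_isFpModel hfp hfl hV'
  haveI := hA
  haveI := (hP.2.2.2.2.2 p y hy).2
  refine Module.finrank_zero_iff.1 (Eq.trans (show _ = CohIII.fiberRank f M p y from rfl) ?_)
  rw [(hP.2.2.2.2.2 p y hy).1]
  letI : Algebra A₀ Γ(S, V) := φ.toAlgebra
  let Q := CohIII.bcCx (algebraMap A₀ Γ(S, V)) P
  have hQfl : ∀ i, Module.Flat Γ(S, V) (Q.X i) := FlatCxLib.flat_bcCx_X P hP.flat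
  obtain ⟨c, hc⟩ := hP.2.2.1
  have hT : ∀ q : ℤ, q < 0 → Subsingleton ((CohIII.TFun Q q).obj (ModuleCat.of Γ(S, V) Γ(S, V))) := fun q hq => by
    obtain ⟨i, rfl⟩ : ∃ i : ℕ, q = -(i : ℤ) := ⟨(-q).toNat, by omega⟩
    have e0 := hP.2.2.2.2.1 V le_rfl hV' i
    have hid : (S.presheaf.map (homOfLE (le_refl V)).op).hom.comp φ = φ := by
      rw [show (homOfLE (le_refl V)).op = 𝟙 (Opposite.op V) from rfl, CategoryTheory.Functor.map_id]
      exact RingHom.id_comp φ
    replace e0 := (show ∀ φ', φ' = φ → Nonempty (Γ((Coh.Rpush f i).obj M, V) ≃ₗ[Γ(S, V)]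
        (CohIII.bcCx φ' P).homology (-(i : ℤ))) → Nonempty (Γ((Coh.Rpush f i).obj M, V) ≃ₗ[Γ(S, V)]
        (CohIII.bcCx φ P).homology (-(i : ℤ))) by rintro _ rfl h; exact h) _ hid e0
    obtain ⟨e⟩ := e0
    haveI : Subsingleton Γ((Coh.Rpush f i).obj M, V) :=
      QCoh.subsingleton_Γ_of_isZero (hvan i (by omega)) V
    haveI : Subsingleton (Q.homology (-(i : ℤ))) := e.symm.toEquiv.subsingleton
    exact ((FlatCxLib.tUnitIso (P := Q) (-(i : ℤ))).toLinearEquiv).toEquiv.subsingleton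
  have hbd : ∀ i < c, IsZero (Q.X i) := fun i hi => by
    haveI : Subsingleton (P.X i) := ModuleCat.isZero_iff_subsingleton.1 (hc i hi)
    exact ModuleCat.isZero_iff_subsingleton.2
      (inferInstanceAs (Subsingleton (TensorProduct A₀ Γ(S, V) (P.X i))))
  have hex := (S2446.result Q hQfl c hbd (-1)).2 fun q hq => by
    haveI := hT q (by omega)
    infer_instance
  have h1 : -(p : ℤ) + 1 = -(p : ℤ) + 1 := rfl
  have h0 : -(p : ℤ) - 1 + 1 = -(p : ℤ) := by omega
  obtain ⟨he, hflT⟩ := (FlatCxLib.exact_iff hQfl h1 h0).1 (hex (-(p : ℤ)) (by omega))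
  haveI := (FlatCxLib.preservesEpi_iff hQfl h0).1 he
  let e := FlatCxLib.hom'EquivT (P := Q) h1 h0
  haveI : Subsingleton (CohIII.T Q (-(p : ℤ)) (ModuleCat.of Γ(S, V) Γ(S, V))) := hT (-(p : ℤ)) (by omega)
  haveI : Subsingleton (FlatCxLib.Hom' Q (-(p : ℤ) + 1) (-(p : ℤ)) (-(p : ℤ) - 1)) := e.toEquiv.subsingleton
  have hz : CohIII.dRank Q (-(p : ℤ)) (hV'.primeIdealOf ⟨y, hy⟩) = 0 := by
    rw [FlatCxLib.dRank_eq_fibreRank Q hQfl h1 h0]
    exact Module.finrank_zero_of_subsingleton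
  exact (Groth.Agent.S2440.result P hP.flat (-(p : ℤ)) (hV'.primeIdealOf ⟨y, hy⟩)).symm.trans hz

/-- The proper case. -/
theorem isFinLocFree_push_proper [IsProper f] [LocallyOfFinitePresentation f] [HasInjectiveResolutions X.Modules]
    (hfp : CohB1.IsFP M) (hfl : FlatMod.IsFlatOver f M)
    (hvan : ∀ i : ℕ, 0 < i → IsZero ((Coh.Rpush f i).obj M)) :
    FlatMod.IsFinLocFree ((Coh.Rpush f 0).obj M) := fun y => by
  obtain ⟨U, hU, e⟩ := CohPullX.exists_free_of_neighbours hfp hfl y 0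
    (subsingleton_fiberH_of_vanish hfp hfl hvan y 1 one_pos) (fun j hj => absurd hj (by omega))
  exact ⟨U, _, hU, e⟩

/-- Higher direct images vanishing for a module with proper support give a locally free direct image. -/
theorem isFinLocFree_push (f : X ⟶ S) [LocallyOfFinitePresentation f] [HasInjectiveResolutions X.Modules]
    (hfp : CohB1.IsFP M) (hfl : FlatMod.IsFlatOver f M) (hsupp : ClSub.IsProperOver f (CohB1.support M))
    (hvan : ∀ i : ℕ, 0 < i → IsZero ((Coh.Rpush f i).obj M)) :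
    FlatMod.IsFinLocFree ((Coh.push f).obj M) := by
  have hq := QCoh.isQCoh_of_isFP hfp
  obtain ⟨Z, i, _, _, hr, hfpN, hu⟩ := TorBC.exists_fitting_model hfp
  haveI : IsProper (i ≫ f) := (QCoh.isProperOver_iff i).1 (hr ▸ hsupp)
  let N := (Scheme.Modules.pullback i).obj M
  have hN : Coh.IsQCoh N := QCoh.isQCoh_pullback i hq
  let u : M ≅ (Scheme.Modules.pushforward i).obj N :=
    @asIso _ _ _ _ ((Scheme.Modules.pullbackPushforwardAdjunction i).unit.app M) hu
  have hflN : FlatMod.IsFlatOver (i ≫ f) N :=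
    TorBC.isFlatOver_of_push i f hN (fun x => RelTor.flatOverAt_of_iso u (hfl x))
  haveI : HasInjectiveResolutions Z.Modules := hasInjectiveResolutions_modules
  have hvanN : ∀ p : ℕ, 0 < p → IsZero ((Coh.Rpush (i ≫ f) p).obj N) := fun p hp => by
    obtain ⟨e⟩ := QCoh.nonempty_Rpush_affine_push i f hN p
    exact (hvan p hp).of_iso (e.symm ≪≫ (Coh.Rpush f p).mapIso u.symm)
  haveI := SpObjSS.enoughInjectives_of_hasInjectiveResolutions (C := Z.Modules)
  haveI := QCoh.preservesFiniteLimits_push (i ≫ f)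
  exact H23.PullPush.isFinLocFree_of_iso
    ((Scheme.Modules.pushforward (i ≫ f)).rightDerivedZeroIsoSelf.app N ≪≫
      ((Scheme.Modules.pushforwardComp i f).app N).symm ≪≫ (Scheme.Modules.pushforward f).mapIso u.symm)
    (isFinLocFree_push_proper hfpN hflN hvanN)

end Groth.Agent.KFlatLib.VanishLocFree
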