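import Groth.Agent.CohPullX.Semicont
import Groth.Agent.KFlatLib.Scheme.FibreEuler
import Groth.Agent.KFlatLib.Scheme.RpushQCoh
import Groth.Agent.KFlatLib.Scheme.VanishLocFree
import Groth.Agent.KFlatLib.Perfect.Top
import Groth.Agent.MorLib.FlatBC

/-!
# The locus where the direct image is locally free of given rank in a single degree
-/

set_option linter.style.haveILetI false
set_option backward.isDefEq.respectTransparency false
set_option maxHeartbeats 800000

universe u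

open CategoryTheory CategoryTheory.Limits AlgebraicGeometry TopologicalSpace Topology

attribute [local instance] HasDerivedCategory.standard

namespace Groth.Agent.KFlatLib.Locus

variable {X S : Scheme.{u}} {f : X ⟶ S} {M : X.Modules} [IsProper f] [LocallyOfFinitePresentation f]
  (hfp : CohB1.IsFP M) (hfl : FlatMod.IsFlatOver f M)

include hfp hfl

/-- Fibre ranks are unchanged by base change. -/
theorem fiberRank_baseChange {X' T : Scheme.{u}} {f' : X' ⟶ T} {g : T ⟶ S} {g' : X' ⟶ X}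
    (sq : IsPullback g' f' f g) (p : ℕ) (t : T) :
    CohIII.fiberRank f' ((Scheme.Modules.pullback g').obj M) p t = CohIII.fiberRank f M p (g t) := by
  haveI := hasInjectiveResolutions_modules (X := X)
  obtain ⟨_, ⟨V, hV, rfl⟩, hy, -⟩ :=
    S.isBasis_affineOpens.exists_subset_of_mem_open (Set.mem_univ (g t)) isOpen_univ
  have hV' : IsAffineOpen V := hV
  obtain ⟨A₀, _, hA, φ, P, hm, X₀, _, F₀, gV, -, -, hP, hsq, ⟨e⟩⟩ :=
    CohPullX.exists_isFpModel_data hfp hfl hV'
  haveI := hA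
  rw [(hm.2.2.2.2.2 p (g t) hy).1]
  let r := g.residueFieldMap t
  let ψ : Γ(S, V) →+* T.residueField t := r.hom.comp (QCoh.evalV (g t) hy)
  let ι := f'.fiberι t ≫ g'
  have hw : Spec.map (CommRingCat.ofHom ψ) ≫ hV'.fromSpec = T.fromSpecResidueField t ≫ g := by
    rw [← Scheme.Hom.SpecMap_residueFieldMap_fromSpecResidueField]
    show Spec.map ((S.presheaf.germ V (g t) hy ≫ S.residue (g t)) ≫ r) ≫ _ = _
    rw [Spec.map_comp, Category.assoc, Spec.map_comp, Category.assoc]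
    refine congrArg (Spec.map r ≫ ·) ?_
    rw [Scheme.fromSpecResidueField]
    exact congrArg (Spec.map (S.residue (g t)) ≫ ·) (hV'.fromSpecStalk_eq_fromSpecStalk hy)
  have hbig : IsPullback ι (f'.fiberToSpecResidueField t) f (Spec.map (CommRingCat.ofHom ψ) ≫ hV'.fromSpec) := by
    rw [hw]
    exact (IsPullback.of_hasPullback f' (T.fromSpecResidueField t)).paste_horiz sq
  obtain ⟨e₂⟩ := CohPullX.nonempty_bc_equiv hP hsq e (T.residueField t) ψ ι (f'.fiberToSpecResidueField t) hbig p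
  letI := QCoh.modHH (Coh.toGlobal (A := T.residueField t) (f'.fiberToSpecResidueField t))
    ((Scheme.Modules.pullback g' ⋙ Scheme.Modules.pullback (f'.fiberι t)).obj M) p
  have e₁ := (QCoh.HHcongr (A := T.residueField t) (Coh.toGlobal (A := T.residueField t) (f'.fiberToSpecResidueField t))
    ((Scheme.Modules.pullbackComp (f'.fiberι t) g').app M) p)
  refine (LinearEquiv.finrank_eq (e₁.trans e₂)).trans (QCoh.finrank_bc_eq_dRank (ψ.comp φ) P _ ?_ _)
  have hker : RingHom.ker ψ = (hV'.primeIdealOf ⟨g t, hy⟩).asIdeal := by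
    rw [← QCoh.ker_evalV hV' hy]
    ext a
    rw [RingHom.mem_ker, RingHom.mem_ker]
    show r.hom (QCoh.evalV (g t) hy a) = 0 ↔ _
    exact map_eq_zero_iff r.hom r.hom.injective
  ext a
  exact (RingHom.mem_ker).trans ((RingHom.mem_ker (f := ψ)).symm.trans (by rw [hker]; rfl))

variable [HasInjectiveResolutions X.Modules]

/-- When all higher direct images are zero or locally free, the fibre ranks are their ranks. -/
theorem fiberRank_of_free {y : S} {V : S.Opens} (hV : IsAffineOpen V) (hy : y ∈ V) (n : ℕ → ℕ)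
    (hfree : ∀ p : ℕ, Nonempty (Γ((Coh.Rpush f p).obj M, V) ≃ₗ[Γ(S, V)] (ULift.{u} (Fin (n p)) →₀ Γ(S, V))))
    (p : ℕ) : CohIII.fiberRank f M p y = n p := by
  obtain ⟨A₀, _, hA, φ, P, hP⟩ := CohPullX.exists_isFpModel hfp hfl hV
  haveI := hA
  letI : Algebra A₀ Γ(S, V) := φ.toAlgebra
  let Q := CohIII.bcCx (algebraMap A₀ Γ(S, V)) P
  have hQfl : ∀ i, Module.Flat Γ(S, V) (Q.X i) := FlatCxLib.flat_bcCx_X P hP.flat
  obtain ⟨c, hc⟩ := hP.2.2.1
  have hT : ∀ i : ℕ, Nonempty ((CohIII.TFun Q (-(i : ℤ))).obj (ModuleCat.of Γ(S, V) Γ(S, V)) ≃ₗ[Γ(S, V)]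
      (ULift.{u} (Fin (n i)) →₀ Γ(S, V))) := fun i => by
    have e0 := hP.2.2.2.2.1 V le_rfl hV i
    have hid : (S.presheaf.map (homOfLE (le_refl V)).op).hom.comp φ = φ := by
      rw [show (homOfLE (le_refl V)).op = 𝟙 (Opposite.op V) from rfl, CategoryTheory.Functor.map_id]
      exact RingHom.id_comp φ
    replace e0 := (show ∀ φ', φ' = φ → Nonempty (Γ((Coh.Rpush f i).obj M, V) ≃ₗ[Γ(S, V)]
        (CohIII.bcCx φ' P).homology (-(i : ℤ))) → Nonempty (Γ((Coh.Rpush f i).obj M, V) ≃ₗ[Γ(S, V)]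
        (CohIII.bcCx φ P).homology (-(i : ℤ))) by rintro _ rfl h; exact h) _ hid e0
    obtain ⟨e⟩ := e0
    obtain ⟨l⟩ := hfree i
    exact ⟨(FlatCxLib.tUnitIso (P := Q) (-(i : ℤ))).toLinearEquiv.trans (e.symm.trans l)⟩
  have hbd : ∀ i < c, IsZero (Q.X i) := fun i hi => by
    haveI : Subsingleton (P.X i) := ModuleCat.isZero_iff_subsingleton.1 (hc i hi)
    exact ModuleCat.isZero_iff_subsingleton.2
      (inferInstanceAs (Subsingleton (TensorProduct A₀ Γ(S, V) (P.X i))))
  have hex := (S2446.result Q hQfl c hbd 0).2 fun q hq => by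
    obtain ⟨i, rfl⟩ : ∃ i : ℕ, q = -(i : ℤ) := ⟨(-q).toNat, by omega⟩
    obtain ⟨l⟩ := hT i
    exact Module.Flat.of_linearEquiv l
  have h1 : -(p : ℤ) + 1 = -(p : ℤ) + 1 := rfl
  have h0 : -(p : ℤ) - 1 + 1 = -(p : ℤ) := by omega
  obtain ⟨he, -⟩ := (FlatCxLib.exact_iff hQfl h1 h0).1 (hex (-(p : ℤ)) (by omega))
  haveI := (FlatCxLib.preservesEpi_iff hQfl h0).1 he
  let e := FlatCxLib.hom'EquivT (P := Q) h1 h0
  obtain ⟨l⟩ := hT p
  haveI : Module.Flat Γ(S, V) (FlatCxLib.Hom' Q (-(p : ℤ) + 1) (-(p : ℤ)) (-(p : ℤ) - 1)) :=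
    Module.Flat.of_linearEquiv (e.trans l)
  rw [(hP.2.2.2.2.2 p y hy).1]
  refine (Groth.Agent.S2440.result P hP.flat (-(p : ℤ)) (hV.primeIdealOf ⟨y, hy⟩)).symm.trans ?_
  rw [FlatCxLib.dRank_eq_fibreRank Q hQfl h1 h0]
  let x := hV.primeIdealOf ⟨y, hy⟩
  refine (LinearEquiv.finrank_eq ((e.trans l).baseChange Γ(S, V) x.asIdeal.ResidueField _ _)).trans ?_
  haveI : Nontrivial Γ(S, V) := (S.presheaf.germ V y hy).hom.domain_nontrivial
  rw [Module.finrank_baseChange, Module.finrank_finsupp_self]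
  simp

omit [HasInjectiveResolutions X.Modules] in
/-- The fibre cohomology is concentrated in one degree, of given rank, on an open set. -/
theorem isOpen_locus (i : ℤ) (r : ℕ) :
    IsOpen {s : S | (∀ p : ℕ, CohIII.fiberRank f M p s = if (p : ℤ) = i then r else 0) ∧ (i < 0 → r = 0)} := by
  haveI := hasInjectiveResolutions_modules (X := X)
  refine isOpen_iff_eventually.2 fun y hy => ?_
  obtain ⟨hy, hr⟩ := hy
  obtain ⟨_, ⟨V, hV, rfl⟩, hyV, -⟩ :=
    S.isBasis_affineOpens.exists_subset_of_mem_open (Set.mem_univ y) isOpen_univ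
  have hV' : IsAffineOpen V := hV
  obtain ⟨A₀, _, hA, φ, P, hP⟩ := CohPullX.exists_isFpModel hfp hfl hV'
  haveI := hA
  obtain ⟨c, hc⟩ := hP.2.2.1
  let N : ℕ := (-c).toNat + i.toNat + 2
  have hbig : ∀ z ∈ V, ∀ p : ℕ, N ≤ p → CohIII.fiberRank f M p z = 0 := fun z hz p hp => by
    have h1 : -(p : ℤ) + 1 = -(p : ℤ) + 1 := rfl
    have h0 : -(p : ℤ) - 1 + 1 = -(p : ℤ) := by omega
    haveI : Subsingleton (P.X (-(p : ℤ))) := ModuleCat.isZero_iff_subsingleton.1 (hc _ (by omega))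
    haveI : Subsingleton (P.X (-(p : ℤ) - 1)) := ModuleCat.isZero_iff_subsingleton.1 (hc _ (by omega))
    haveI : Subsingleton (FlatCxLib.Coker P (-(p : ℤ) + 1) (-(p : ℤ))) := (Submodule.mkQ_surjective _).subsingleton
    haveI : Subsingleton (FlatCxLib.Coker P (-(p : ℤ)) (-(p : ℤ) - 1)) := (Submodule.mkQ_surjective _).subsingleton
    rw [(hP.2.2.2.2.2 p z hz).1]
    have h := FlatCxLib.dRank_add P hP.1 h1 h0 (PrimeSpectrum.comap φ (hV'.primeIdealOf ⟨z, hz⟩))
    simp only [FibreEuler.fibreRank_eq_zero_of_subsingleton] at h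
    simpa using h
  have hsmall : ∀ p ∈ Finset.range N, ∀ᶠ z in 𝓝 y, CohIII.fiberRank f M p z = if (p : ℤ) = i then r else 0 := by
    intro p _
    by_cases hp : (p : ℤ) = i
    · rw [if_pos hp]
      have hz : ∀ q : ℕ, q ≠ p → Subsingleton (CohIII.fiberH f M y q) := fun q hq => by
        haveI := (hP.2.2.2.2.2 q y hyV).2
        exact Module.finrank_zero_iff.1 ((hy q).trans (if_neg (by omega)))
      obtain ⟨U, hyU, hU⟩ := hP.exists_rank_nhd p hyV
        (hP.isExactT_of_neighbours p hyV (hz (p + 1) (by omega)) (fun j hj => hz j (by omega)))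
      refine Filter.eventually_of_mem (U.isOpen.mem_nhds hyU) fun z hz' => ?_
      exact (hU z hz').trans ((hy p).trans (if_pos hp))
    · rw [if_neg hp]
      refine ((FibreEuler.isOpen_fiberRank_lt hfp hfl p 1).eventually_mem
        (show CohIII.fiberRank f M p y < 1 by rw [hy p, if_neg hp]; omega)).mono fun z hz => ?_
      exact Nat.lt_one_iff.1 hz
  filter_upwards [(Finset.range N).eventually_all.2 hsmall, V.isOpen.mem_nhds hyV] with z hz hzV
  refine ⟨fun p => ?_, hr⟩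
  by_cases hp : p < N
  · exact hz p (Finset.mem_range.2 hp)
  · rw [hbig z hzV p (not_lt.1 hp), if_neg (by omega)]

end Groth.Agent.KFlatLib.Locus
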