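import Groth.Agent.KFlatLib.Scheme.Generator

/-!
# Lifting morphisms out of perfect objects on a quasi-compact open, with supports
-/

set_option linter.style.haveILetI false
set_option backward.isDefEq.respectTransparency false

universe u

open CategoryTheory CategoryTheory.Limits AlgebraicGeometry Pretriangulated TopologicalSpace ZeroObject

attribute [local instance] HasDerivedCategory.standard

namespace Groth.Agent.KFlatLib.PerfectLift

variable {X : Scheme.{u}}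

/-- The preimage of a quasi-compact open in another one is quasi-compact. -/
lemma isCompact_preimage [QuasiSeparatedSpace X] (U W : X.Opens) (hU : IsCompact (U : Set X))
    (hW : IsCompact (W : Set X)) : IsCompact ((W.ι ⁻¹ᵁ U : (W : Scheme.{u}).Opens) : Set (W : Scheme.{u})) := by
  refine W.ι.isOpenEmbedding.isInducing.isCompact_iff.2 ?_
  have h : W.ι.base '' (W.ι.base ⁻¹' (U : Set X)) = (U : Set X) ∩ (W : Set X) := by
    rw [Set.image_preimage_eq_inter_range, Scheme.Opens.range_ι]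
  exact h ▸ QuasiSeparatedSpace.inter_isCompact _ _ U.2 hU W.2 hW

/-- An object which is zero on an open is supported in its complement. -/
lemma support_subset_compl {E : DCoh.D X} (U : X.Opens) (h : IsZero ((rho U.ι).obj E)) (m : ℤ) :
    CohB1.support (DCoh.HD E m) ⊆ (U : Set X)ᶜ := fun x hx hxU =>
  hx (Generator.subsingleton_stalk_of_isZero_rho U.ι h m ⟨x, hxU⟩)

/-- Maps into an object supported off an open factor through perfect objects supported off it, if the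
complement lies in an affine open. -/
theorem exists_factor_cover [QuasiSeparatedSpace X] (U W : X.Opens) (hU : IsCompact (U : Set X))
    (hW : IsAffineOpen W) (hUW : U ⊔ W = ⊤) {E N : DCoh.D X} (hE : LocSP E) (hN : DCoh.IsQCohD N)
    (hz : IsZero ((rho U.ι).obj N)) (φ : E ⟶ N) :
    ∃ (E' : DCoh.D X) (q : E ⟶ E') (ψ : E' ⟶ N),
      LocSP E' ∧ q ≫ ψ = φ ∧ IsZero ((rho U.ι).obj E') := by
  haveI : IsAffine (W : Scheme.{u}) := hW
  haveI := hasRpush_scheme W.ι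
  obtain ⟨adj⟩ := nonempty_rho_adj W.ι
  haveI := adj.right_adjoint_additive
  let W' : (W : Scheme.{u}).Opens := W.ι ⁻¹ᵁ U
  let l : (W' : Scheme.{u}) ⟶ (U : Scheme.{u}) := W.ι ∣_ U
  haveI : IsOpenImmersion l := inferInstance
  obtain ⟨eN⟩ := nonempty_iso_rpush_restrict W (U : Set X)ᶜ U.2.isClosed_compl
    (fun x hx => ((Opens.mem_sup).1 (hUW ▸ trivial : x ∈ U ⊔ W)).resolve_left hx) N
    (support_subset_compl U hz)
  have hzW : IsZero ((rho W'.ι).obj ((rho W.ι).obj N)) :=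
    ((rho l).map_isZero hz).of_iso
      (rhoComp W'.ι W.ι (W'.ι ≫ W.ι) rfl N ≪≫
        (rhoComp l U.ι (W'.ι ≫ W.ι) (morphismRestrict_ι _ _) N).symm)
  obtain ⟨E₀, q, ψ, hE₀, hqψ, hE₀z⟩ := AffineLift.exists_factor W' (isCompact_preimage U W hU hW.isCompact)
    (hE.restrict' W.ι) (isQCohD_rho W.ι hN) hzW ((adj.homEquiv _ _).symm (φ ≫ eN.hom))
  let T : Set (W : Scheme.{u}) := W.ι.base ⁻¹' (U : Set X)ᶜ
  have hT : W.ι.base '' T = (U : Set X)ᶜ := by
    rw [Set.image_preimage_eq_inter_range, Scheme.Opens.range_ι]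
    exact Set.inter_eq_left.2 fun x hx => ((Opens.mem_sup).1 (hUW ▸ trivial : x ∈ U ⊔ W)).resolve_left hx
  have hE₀s : ∀ i : ℤ, CohB1.support (DCoh.HD E₀ i) ⊆ T := fun i x hx hxU =>
    hx (Generator.subsingleton_stalk_of_isZero_rho W'.ι hE₀z i ⟨x, hxU⟩)
  refine ⟨(DCoh.Rpush W.ι).obj E₀, adj.homEquiv _ _ q, (DCoh.Rpush W.ι).map ψ ≫ eN.inv,
    (isPerfect_iff _).1 (isPerfect_rpush_of_support W E₀ ((isPerfect_iff _).2 hE₀) T
      (by rw [hT]; exact U.2.isClosed_compl) hE₀s), ?_, ?_⟩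
  · rw [← Category.assoc, ← adj.homEquiv_naturality_right, hqψ, Equiv.apply_symm_apply, Category.assoc,
      eN.hom_inv_id, Category.comp_id]
  · haveI := hasRpush_scheme l
    obtain ⟨iR⟩ := nonempty_rpush_restrictD_iso W.ι U
    obtain ⟨adj'⟩ := nonempty_rho_adj l
    haveI := adj'.right_adjoint_additive
    exact ((DCoh.Rpush l).map_isZero hE₀z).of_iso (iR.app E₀)

/-- The obstruction to extending a map from an open is a map to an object supported off it. -/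
theorem exists_obstruction (U : X.Opens) (hU : IsCompact (U : Set X)) {E' : DCoh.D X}
    (hE' : DCoh.IsQCohD E') [QuasiSeparatedSpace X] :
    ∀ {E : DCoh.D X} (α : (rho U.ι).obj E ⟶ (rho U.ι).obj E'),
      ∃ (N : DCoh.D X) (φ : E ⟶ N), DCoh.IsQCohD N ∧ IsZero ((rho U.ι).obj N) ∧
        ∀ {E₁ : DCoh.D X} (β : E₁ ⟶ E), β ≫ φ = 0 →
          ∃ γ : E₁ ⟶ E', (rho U.ι).map β ≫ α = (rho U.ι).map γ := by
  intro E α
  haveI := hasRpush_scheme U.ι
  haveI : QuasiCompact U.ι := by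
    haveI : CompactSpace U := isCompact_iff_compactSpace.1 hU
    exact quasiCompact_of_compactSpace _
  obtain ⟨adj⟩ := nonempty_rho_adj U.ι
  obtain ⟨G, i, δ, hT⟩ := distinguished_cocone_triangle₁ (adj.unit.app E')
  haveI := isIso_restrictD_counit U.ι adj
  haveI : IsIso ((rho U.ι).map (adj.unit.app E')) := by
    haveI : IsIso ((rho U.ι).map (adj.unit.app E') ≫ adj.counit.app ((rho U.ι).obj E')) := by
      rw [adj.left_triangle_components E']
      exact (Iso.refl _).isIso_hom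
    exact IsIso.of_isIso_comp_right _ (adj.counit.app ((rho U.ι).obj E'))
  have hG : IsZero ((rho U.ι).obj G) :=
    (Triangle.isZero₁_iff_isIso₂ _ ((rho U.ι).map_distinguished _ hT)).2
      (show IsIso ((rho U.ι).map (adj.unit.app E')) from inferInstance)
  refine ⟨G⟦(1 : ℤ)⟧, adj.homEquiv _ _ α ≫ δ,
    isQCohD_shift (isQCohD_obj₁ hT hE' (isQCohD_rpush U.ι (isQCohD_rho U.ι hE'))) 1,
    ((shiftFunctor _ (1 : ℤ)).map_isZero hG).of_iso (((rho U.ι).commShiftIso (1 : ℤ)).app G),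
    fun {E₁} β hβ => ?_⟩
  obtain ⟨γ, hγ⟩ := Triangle.coyoneda_exact₃ _ hT (β ≫ adj.homEquiv _ _ α)
    ((Category.assoc _ _ _).trans hβ)
  refine ⟨γ, (adj.homEquiv _ _).injective ?_⟩
  rw [adj.homEquiv_naturality_left]
  exact hγ.trans ((congrArg (γ ≫ ·) rfl).trans ((adj.unit.naturality γ).symm ▸ rfl))

/-- Lifting a map out of a perfect object, if obstructions factor through perfect objects. -/
theorem exists_lift_of_cover [QuasiSeparatedSpace X] (U W : X.Opens) (hU : IsCompact (U : Set X))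
    (hW : IsAffineOpen W) (hUW : U ⊔ W = ⊤) {E E' : DCoh.D X} (hE : LocSP E) (hE' : DCoh.IsQCohD E')
    (α : (rho U.ι).obj E ⟶ (rho U.ι).obj E') :
    ∃ (E₁ : DCoh.D X) (β : E₁ ⟶ E) (γ : E₁ ⟶ E'),
      LocSP E₁ ∧ IsIso ((rho U.ι).map β) ∧ (rho U.ι).map β ≫ α = (rho U.ι).map γ := by
  obtain ⟨N, φ, hN, hNz, hφ⟩ := exists_obstruction U hU hE' α
  obtain ⟨P, q, ψ, hP, hqψ, hPz⟩ := exists_factor_cover U W hU hW hUW hE hN hNz φ
  obtain ⟨E₁, β, d, hT⟩ := distinguished_cocone_triangle₁ q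
  have hβ : IsIso ((rho U.ι).map β) :=
    (Triangle.isZero₃_iff_isIso₁ _ ((rho U.ι).map_distinguished _ hT)).1 hPz
  obtain ⟨γ, hγ⟩ := hφ β (by
    rw [← hqψ, ← Category.assoc]
    exact (congrArg (· ≫ ψ) (comp_distTriang_mor_zero₁₂ _ hT)).trans zero_comp)
  exact ⟨E₁, β, γ, (locSP_two_of_three _ hT).2.2 hE hP, hβ, hγ⟩

/-- Perfectness is local on a cover by two opens. -/
lemma locSP_of_sup {U V : X.Opens} (hUV : U ⊔ V = ⊤) {R : DCoh.D X} (hU : LocSP ((rho U.ι).obj R))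
    (hV : LocSP ((rho V.ι).obj R)) : LocSP R := by
  intro x
  rcases (Opens.mem_sup).1 (hUV ▸ trivial : x ∈ U ⊔ V) with hx | hx
  · obtain ⟨W, j, hj, ⟨w, hw⟩, P, hP, ⟨eP⟩⟩ := hU ⟨x, hx⟩
    exact ⟨W, j ≫ U.ι, inferInstance, ⟨w, by simp [hw]⟩, P, hP, ⟨eP ≪≫ rhoComp j U.ι (j ≫ U.ι) rfl R⟩⟩
  · obtain ⟨W, j, hj, ⟨w, hw⟩, P, hP, ⟨eP⟩⟩ := hV ⟨x, hx⟩
    exact ⟨W, j ≫ V.ι, inferInstance, ⟨w, by simp [hw]⟩, P, hP, ⟨eP ≪≫ rhoComp j V.ι (j ≫ V.ι) rfl R⟩⟩

/-- Adding one affine open: `R ⊕ R[1]` and a map out of `R` extend. -/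
theorem exists_step [QuasiSeparatedSpace X] (U V : X.Opens) (hU : IsCompact (U : Set X))
    (hV : IsAffineOpen V) (hUV : U ⊔ V = ⊤) (Q : DCoh.D (U : Scheme.{u})) (hQ : LocSP Q)
    {E : DCoh.D X} (hE : DCoh.IsQCohD E) (α : Q ⟶ (rho U.ι).obj E) :
    ∃ (R : DCoh.D X) (β : R ⟶ E) (e : (rho U.ι).obj R ≅ Q ⊞ Q⟦(1 : ℤ)⟧),
      LocSP R ∧ biprod.inl ≫ e.inv ≫ (rho U.ι).map β = α := by
  haveI : IsAffine (V : Scheme.{u}) := hV
  let W' : (V : Scheme.{u}).Opens := V.ι ⁻¹ᵁ U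
  let B₀ := Q ⊞ Q⟦(1 : ℤ)⟧
  let l : (W' : Scheme.{u}) ⟶ (U : Scheme.{u}) := V.ι ∣_ U
  haveI : IsOpenImmersion l := inferInstance
  obtain ⟨RV, hRV, ⟨eRV⟩⟩ := ExtendPerfect.exists_extend W' (isCompact_preimage U V hU hV.isCompact)
    ((rho l).obj Q) (hQ.restrict' l)
  have hr : Set.range (X.homOfLE (inf_le_right : U ⊓ V ≤ V)).base ⊆ Set.range W'.ι.base := by
    rintro _ ⟨x, rfl⟩
    rw [Scheme.Opens.range_ι]
    show V.ι.base ((X.homOfLE (inf_le_right : U ⊓ V ≤ V)).base x) ∈ U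
    rw [← Scheme.Hom.comp_apply, Scheme.homOfLE_ι]
    exact x.2.1
  let k := IsOpenImmersion.lift W'.ι (X.homOfLE (inf_le_right : U ⊓ V ≤ V)) hr
  have hk : k ≫ W'.ι = X.homOfLE (inf_le_right : U ⊓ V ≤ V) := IsOpenImmersion.lift_fac _ _ _
  haveI : IsOpenImmersion k := by
    haveI : IsOpenImmersion (k ≫ W'.ι) := by rw [hk]; infer_instance
    exact IsOpenImmersion.of_comp k W'.ι
  have hkl : k ≫ l = X.homOfLE (inf_le_left : U ⊓ V ≤ U) := by
    rw [← cancel_mono U.ι, Category.assoc, morphismRestrict_ι, ← Category.assoc, hk,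
      Scheme.homOfLE_ι, Scheme.homOfLE_ι]
  haveI := preservesBinaryBiproducts_of_preservesBiproducts (rho l)
  let cB : (rho l).obj B₀ ≅ (rho W'.ι).obj RV :=
    (rho l).mapBiprod _ _ ≪≫
      biprod.mapIso (Iso.refl _) (((rho l).commShiftIso (1 : ℤ)).app Q) ≪≫ eRV.symm
  obtain ⟨R₀, ⟨eU⟩, ⟨eV⟩⟩ := exists_glue U V hUV B₀ RV
    ((rhoComp k l _ hkl B₀).symm ≪≫ (rho k).mapIso cB ≪≫ rhoComp k W'.ι _ hk RV)
  have hR₀ : LocSP R₀ := locSP_of_sup hUV
    ((locSP_obj₂ _ (binaryBiproductTriangle_distinguished _ _) hQ (hQ.shift 1)).of_iso eU.symm)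
    (hRV.of_iso eV.symm)
  obtain ⟨R, b, γ, hR, hb, hbγ⟩ := exists_lift_of_cover U V hU hV hUV hR₀ hE
    (eU.hom ≫ biprod.desc α 0)
  haveI := hb
  refine ⟨R, γ, @asIso _ _ _ _ ((rho U.ι).map b) hb ≪≫ eU, hR, ?_⟩
  rw [Iso.trans_inv, asIso_inv, Category.assoc, ← hbγ, IsIso.inv_hom_id_assoc, eU.inv_hom_id_assoc,
    biprod.inl_desc]

/-- An open contained in another is its restriction. -/
lemma isIso_morphismRestrict_of_le (U V : X.Opens) (h : U ≤ V) : IsIso (V.ι ∣_ U) := by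
  haveI : Epi (V.ι ∣_ U).base := (TopCat.epi_iff_surjective _).2 fun x =>
    ⟨⟨⟨x.1, h x.2⟩, x.2⟩, Subtype.ext (morphismRestrict_base_coe _ _ _)⟩
  exact IsOpenImmersion.isIso _

/-- A perfect object on an open, zero on the overlap with another, extends by zero, and maps out of it
extend. -/
theorem exists_zero_extend [QuasiSeparatedSpace X] (U O : X.Opens) (hU : IsCompact (U : Set X))
    (hUO : U ⊔ O = ⊤) (P : DCoh.D (U : Scheme.{u})) (hP : LocSP P)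
    (hz : IsZero ((rho (X.homOfLE (inf_le_left : U ⊓ O ≤ U))).obj P))
    {E : DCoh.D X} (hE : DCoh.IsQCohD E) (α : P ⟶ (rho U.ι).obj E) :
    ∃ (R : DCoh.D X) (e : (rho U.ι).obj R ≅ P) (γ : R ⟶ E),
      LocSP R ∧ IsZero ((rho O.ι).obj R) ∧ e.inv ≫ (rho U.ι).map γ = α := by
  obtain ⟨R, ⟨e⟩, ⟨eO⟩⟩ := exists_glue U O hUO P 0
    (hz.iso ((rho (X.homOfLE (inf_le_right : U ⊓ O ≤ O))).map_isZero (isZero_zero _)))
  have hRO : IsZero ((rho O.ι).obj R) := (isZero_zero _).of_iso eO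
  obtain ⟨N, φ, _, hNz, hφ⟩ := exists_obstruction U hU hE (e.hom ≫ α)
  haveI := hasRpush_scheme O.ι
  obtain ⟨adj⟩ := nonempty_rho_adj O.ι
  haveI := adj.right_adjoint_additive
  obtain ⟨eN⟩ := nonempty_iso_rpush_restrict O (U : Set X)ᶜ U.2.isClosed_compl
    (fun x hx => ((Opens.mem_sup).1 (hUO ▸ trivial : x ∈ U ⊔ O)).resolve_left hx) N
    (support_subset_compl U hNz)
  have h0 : φ = 0 := by
    refine (cancel_mono eN.hom).1 ((adj.homEquiv _ _).symm.injective ?_)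
    exact hRO.eq_of_src _ _
  obtain ⟨γ, hγ⟩ := hφ (𝟙 R) (by rw [h0, comp_zero])
  rw [CategoryTheory.Functor.map_id, Category.id_comp] at hγ
  refine ⟨R, e, γ, locSP_of_sup hUO (hP.of_iso e.symm) (locSP_of_isZero hRO), hRO, ?_⟩
  rw [← hγ, e.inv_hom_id_assoc]

/-- Perfect objects over a quasi-compact open with maps to a global object: the induction over an affine
cover of the complement. -/
theorem exists_lift_cover : ∀ (n : ℕ) (X : Scheme.{u}) [CompactSpace X] [QuasiSeparatedSpace X]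
    (U : X.Opens) (_ : IsCompact (U : Set X)) (W : Fin n → X.Opens) (_ : ∀ k, IsAffineOpen (W k))
    (_ : (U ⊔ ⨆ k, W k) = ⊤) (E : DCoh.D X) (_ : DCoh.IsQCohD E) (P : DCoh.D (U : Scheme.{u}))
    (_ : LocSP P) (α : P ⟶ (rho U.ι).obj E),
    ∃ (R : DCoh.D X) (β : R ⟶ E) (i : P ⟶ (rho U.ι).obj R) (p : (rho U.ι).obj R ⟶ P),
      LocSP R ∧ i ≫ p = 𝟙 P ∧ i ≫ (rho U.ι).map β = α ∧
        ∀ (Z : Scheme.{u}) (k : Z ⟶ U) [IsOpenImmersion k], IsZero ((rho k).obj P) →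
          IsZero ((rho k).obj ((rho U.ι).obj R)) := by
  intro n
  induction n with
  | zero =>
    intro X _ _ U _ W _ hsup E _ P hP α
    have hU : U = ⊤ := by
      rw [← hsup]; simp
    subst hU
    haveI : IsIso (⊤ : X.Opens).ι := inferInstanceAs (IsIso X.topIso.hom)
    haveI := AffineLift.isEquivalence_rho (⊤ : X.Opens).ι
    let R := (rho (⊤ : X.Opens).ι).objPreimage P
    let e : (rho (⊤ : X.Opens).ι).obj R ≅ P := (rho (⊤ : X.Opens).ι).objObjPreimageIso P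
    obtain ⟨β, hβ⟩ := (rho (⊤ : X.Opens).ι).map_surjective (e.hom ≫ α)
    refine ⟨R, β, e.inv, e.hom, ?_, e.inv_hom_id, by rw [hβ, e.inv_hom_id_assoc],
      fun Z k _ hk => hk.of_iso ((rho k).mapIso e)⟩
    exact locSP_of_sup (U := ⊤) (V := ⊤) (by simp) (hP.of_iso e.symm) (hP.of_iso e.symm)
  | succ n ih =>
    intro X _ _ U hU W hW hsup E hE P hP α
    let X₁ : X.Opens := U ⊔ W 0
    have hX₁ : IsCompact (X₁ : Set X) := hU.union (hW 0).isCompact
    haveI : CompactSpace X₁ := isCompact_iff_compactSpace.1 hX₁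
    haveI : QuasiSeparatedSpace X₁ := quasiSeparatedSpace_of_quasiSeparated X₁.ι
    let U' : (X₁ : Scheme.{u}).Opens := X₁.ι ⁻¹ᵁ U
    let l : (U' : Scheme.{u}) ⟶ (U : Scheme.{u}) := X₁.ι ∣_ U
    haveI : IsIso l := isIso_morphismRestrict_of_le U X₁ le_sup_left
    haveI := AffineLift.isEquivalence_rho l
    obtain ⟨N₁⟩ := AffineLift.nonempty_rhoCompNat U'.ι X₁.ι (U'.ι ≫ X₁.ι) rfl
    obtain ⟨N₂⟩ := AffineLift.nonempty_rhoCompNat l U.ι (U'.ι ≫ X₁.ι) (morphismRestrict_ι _ _)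
    let N : rho X₁.ι ⋙ rho U'.ι ≅ rho U.ι ⋙ rho l := N₁ ≪≫ N₂.symm
    have hU' : IsCompact (U' : Set (X₁ : Scheme.{u})) := isCompact_preimage U X₁ hU hX₁
    have hW' : IsAffineOpen (X₁.ι ⁻¹ᵁ W 0) := (hW 0).preimage_of_isOpenImmersion X₁.ι (by
      rw [Scheme.Opens.opensRange_ι]; exact le_sup_right)
    have hUW : U' ⊔ X₁.ι ⁻¹ᵁ W 0 = ⊤ := top_le_iff.1 fun y _ => y.2
    let α' : (rho l).obj P ⟶ (rho U'.ι).obj ((rho X₁.ι).obj E) := (rho l).map α ≫ N.inv.app E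
    obtain ⟨R₁, β₁, e₁, hR₁, h₁⟩ := exists_step U' (X₁.ι ⁻¹ᵁ W 0) hU' hW' hUW ((rho l).obj P)
      (hP.restrict' l) (isQCohD_rho X₁.ι hE) α'
    have hcov : (X₁ ⊔ ⨆ k : Fin n, W k.succ) = ⊤ := top_le_iff.1 fun x _ => by
      rcases (Opens.mem_sup).1 (hsup ▸ trivial : x ∈ U ⊔ ⨆ k, W k) with hx | hx
      · exact Opens.mem_sup.2 (Or.inl (Opens.mem_sup.2 (Or.inl hx)))
      · obtain ⟨k, hk⟩ := Opens.mem_iSup.1 hx
        rcases Fin.eq_zero_or_eq_succ k with rfl | ⟨k', rfl⟩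
        · exact Opens.mem_sup.2 (Or.inl (Opens.mem_sup.2 (Or.inr hk)))
        · exact Opens.mem_sup.2 (Or.inr (Opens.mem_iSup.2 ⟨k', hk⟩))
    obtain ⟨R, β, i₂, p₂, hR, hip, hiβ, hz⟩ := ih X X₁ hX₁ (fun k => W k.succ) (fun k => hW k.succ)
      hcov E hE R₁ hR₁ β₁
    obtain ⟨i, hi⟩ := (rho l).map_surjective
      (biprod.inl ≫ e₁.inv ≫ (rho U'.ι).map i₂ ≫ N.hom.app R)
    obtain ⟨p, hp⟩ := (rho l).map_surjective
      (N.inv.app R ≫ (rho U'.ι).map p₂ ≫ e₁.hom ≫ biprod.fst)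
    refine ⟨R, β, i, p, hR, (rho l).map_injective ?_, (rho l).map_injective ?_, fun Z k _ hk => ?_⟩
    · simp only [Functor.map_comp, hi, hp, Category.assoc, CategoryTheory.Functor.map_id]
      rw [N.hom_inv_id_app_assoc, ← Functor.map_comp_assoc, hip]
      simp
    · have hn := N.hom.naturality β
      simp only [Functor.comp_map] at hn
      rw [Functor.map_comp, hi, Category.assoc, Category.assoc, Category.assoc, ← hn,
        ← Functor.map_comp_assoc, hiβ, ← Category.assoc e₁.inv, ← Category.assoc biprod.inl, h₁,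
        Category.assoc, N.inv_hom_id_app]
      exact Category.comp_id _
    · let k' : Z ⟶ (U' : Scheme.{u}) := k ≫ inv l
      have hk' : IsZero ((rho k').obj ((rho l).obj P)) :=
        hk.of_iso (rhoComp k' l k (by simp [k']) P)
      haveI := preservesBinaryBiproducts_of_preservesBiproducts (rho k')
      have hB : IsZero ((rho k').obj ((rho U'.ι).obj R₁)) := by
        refine IsZero.of_iso ?_ ((rho k').mapIso e₁ ≪≫ (rho k').mapBiprod _ _)
        rw [biprod_isZero_iff]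
        exact ⟨hk', ((shiftFunctor _ (1 : ℤ)).map_isZero hk').of_iso
          (((rho k').commShiftIso (1 : ℤ)).app _)⟩
      have hR₁z : IsZero ((rho (k' ≫ U'.ι)).obj R₁) :=
        hB.of_iso (rhoComp k' U'.ι (k' ≫ U'.ι) rfl R₁).symm
      refine (hz Z (k' ≫ U'.ι) hR₁z).of_iso ?_
      exact rhoComp k U.ι (k ≫ U.ι) rfl R ≪≫
        (rhoComp (k' ≫ U'.ι) X₁.ι (k ≫ U.ι) (by simp only [k', Category.assoc]; rw [← morphismRestrict_ι, IsIso.inv_hom_id_assoc]) R).symm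

/-- Lifting maps out of perfect objects on a quasi-compact open, with support in a closed subset with
quasi-compact complement. -/
theorem exists_lift [CompactSpace X] [QuasiSeparatedSpace X] (U : X.Opens) (hU : IsCompact (U : Set X))
    (T : Set X) (hT : IsClosed T) (hTc : IsCompact Tᶜ) {E : DCoh.D X} (hE : DCoh.IsQCohD E)
    (P : DCoh.D (U : Scheme.{u})) (hP : LocSP P)
    (hPT : ∀ (Z : Scheme.{u}) (k : Z ⟶ U) [IsOpenImmersion k], (∀ z, U.ι.base (k.base z) ∉ T) →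
      IsZero ((rho k).obj P))
    (α : P ⟶ (rho U.ι).obj E) :
    ∃ (R : DCoh.D X) (β : R ⟶ E) (i : P ⟶ (rho U.ι).obj R) (p : (rho U.ι).obj R ⟶ P),
      LocSP R ∧ (∀ m : ℤ, CohB1.support (DCoh.HD R m) ⊆ T) ∧ i ≫ p = 𝟙 P ∧
        i ≫ (rho U.ι).map β = α := by
  let O : X.Opens := ⟨Tᶜ, hT.isOpen_compl⟩
  let X₂ : X.Opens := U ⊔ O
  have hX₂ : IsCompact (X₂ : Set X) := hU.union hTc
  haveI : CompactSpace X₂ := isCompact_iff_compactSpace.1 hX₂
  haveI : QuasiSeparatedSpace X₂ := quasiSeparatedSpace_of_quasiSeparated X₂.ι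
  let U' : (X₂ : Scheme.{u}).Opens := X₂.ι ⁻¹ᵁ U
  let O' : (X₂ : Scheme.{u}).Opens := X₂.ι ⁻¹ᵁ O
  let l : (U' : Scheme.{u}) ⟶ (U : Scheme.{u}) := X₂.ι ∣_ U
  haveI : IsIso l := isIso_morphismRestrict_of_le U X₂ le_sup_left
  haveI := AffineLift.isEquivalence_rho l
  obtain ⟨N₁⟩ := AffineLift.nonempty_rhoCompNat U'.ι X₂.ι (U'.ι ≫ X₂.ι) rfl
  obtain ⟨N₂⟩ := AffineLift.nonempty_rhoCompNat l U.ι (U'.ι ≫ X₂.ι) (morphismRestrict_ι _ _)
  let N : rho X₂.ι ⋙ rho U'.ι ≅ rho U.ι ⋙ rho l := N₁ ≪≫ N₂.symm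
  let w : (U' ⊓ O' : (X₂ : Scheme.{u}).Opens) ≤ U' := inf_le_left
  haveI : IsOpenImmersion ((X₂ : Scheme.{u}).homOfLE w ≫ l) := inferInstance
  have hP' : IsZero ((rho ((X₂ : Scheme.{u}).homOfLE w)).obj ((rho l).obj P)) := by
    refine (hPT _ ((X₂ : Scheme.{u}).homOfLE w ≫ l) fun z => ?_).of_iso (rhoComp _ l _ rfl P)
    rw [← Scheme.Hom.comp_apply, Category.assoc, morphismRestrict_ι, Scheme.homOfLE_ι_assoc]
    exact z.2.2
  obtain ⟨R₂, e, γ, hR₂, hR₂O, hγ⟩ := exists_zero_extend U' O' (isCompact_preimage U X₂ hU hX₂)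
    (top_le_iff.1 fun y _ => y.2) ((rho l).obj P) (hP.restrict' l) hP' (isQCohD_rho X₂.ι hE)
    ((rho l).map α ≫ N.inv.app E)
  have hex : ∀ x : X, ∃ V : X.Opens, IsAffineOpen V ∧ x ∈ V := fun x => by
    obtain ⟨_, ⟨V, hV, rfl⟩, hxV, -⟩ :=
      X.isBasis_affineOpens.exists_subset_of_mem_open (Set.mem_univ x) isOpen_univ
    exact ⟨V, hV, hxV⟩
  choose V hV hxV using hex
  obtain ⟨t, ht⟩ := isCompact_univ.elim_finite_subcover (fun x : X => (V x : Set X)) (fun x => (V x).2)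
    (fun x _ => Set.mem_iUnion.2 ⟨x, hxV x⟩)
  obtain ⟨R, β, i₂, p₂, hR, hip, hiβ, hz⟩ := exists_lift_cover t.card X X₂ hX₂
    (fun k => V (t.equivFin.symm k)) (fun k => hV _)
    (top_le_iff.1 fun x _ => by
      obtain ⟨y, hy, hxy⟩ := Set.mem_iUnion₂.1 (ht (Set.mem_univ x))
      exact Opens.mem_sup.2 (Or.inr (Opens.mem_iSup.2 ⟨t.equivFin ⟨y, hy⟩, by simpa using hxy⟩)))
    E hE R₂ hR₂ γ
  obtain ⟨i, hi⟩ := (rho l).map_surjective (e.inv ≫ (rho U'.ι).map i₂ ≫ N.hom.app R)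
  obtain ⟨p, hp⟩ := (rho l).map_surjective (N.inv.app R ≫ (rho U'.ι).map p₂ ≫ e.hom)
  refine ⟨R, β, i, p, hR, fun m x hx => ?_, (rho l).map_injective ?_, (rho l).map_injective ?_⟩
  · by_contra hxT
    refine hx ?_
    have h := hz _ O'.ι hR₂O
    have h' : IsZero ((rho (O'.ι ≫ X₂.ι)).obj R) :=
      h.of_iso (rhoComp O'.ι X₂.ι (O'.ι ≫ X₂.ι) rfl R).symm
    exact Generator.subsingleton_stalk_of_isZero_rho (O'.ι ≫ X₂.ι) h' m
      ⟨⟨x, (le_sup_right : O ≤ X₂) hxT⟩, hxT⟩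
  · simp only [Functor.map_comp, hi, hp, Category.assoc, CategoryTheory.Functor.map_id]
    rw [N.hom_inv_id_app_assoc, ← Functor.map_comp_assoc, hip]
    simp
  · have hn := N.hom.naturality β
    simp only [Functor.comp_map] at hn
    rw [Functor.map_comp, hi, Category.assoc, Category.assoc, ← hn, ← Functor.map_comp_assoc, hiβ,
      ← Category.assoc, hγ, Category.assoc, N.inv_hom_id_app]
    exact Category.comp_id _

end Groth.Agent.KFlatLib.PerfectLift
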