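import Groth.Agent.KFlatLib.Scheme.AffineHomBC
import Groth.Agent.KFlatLib.Scheme.PerfectLift
import Groth.Agent.H9Misc.TelLocal

/-!
# Local tools for the base change map of the right adjoint of pushforward
-/

set_option linter.style.haveILetI false
set_option backward.isDefEq.respectTransparency false

universe u

open CategoryTheory CategoryTheory.Limits AlgebraicGeometry Opposite TopologicalSpace Pretriangulated

attribute [local instance] HasDerivedCategory.standard

namespace Groth.Agent.KFlatLib.BCLoc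

open SecPoint

variable {X X' : Scheme.{u}}

/-- A morphism of quasi-coherent modules bijective on the sections over an affine open is invertible there. -/
theorem isIso_restrict_of_app_bijective {M N : X.Modules} (hM : Coh.IsQCoh M) (hN : Coh.IsQCoh N)
    (g : M ⟶ N) {W : X.Opens} (hW : IsAffineOpen W) (hb : Function.Bijective (g.app W)) :
    IsIso ((Scheme.Modules.restrictFunctor W.ι).map g) := by
  let ψ := hW.fromSpec
  let G := (Scheme.Modules.restrictFunctor ψ).map g
  have hG : Function.Bijective (G.app ⊤) := by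
    have e : ψ ''ᵁ ⊤ = W := by
      rw [ψ.image_top_eq_opensRange]
      exact hW.opensRange_fromSpec
    change Function.Bijective (g.app (ψ ''ᵁ ⊤))
    exact e.symm ▸ hb
  haveI : IsIso G := by
    refine isIso_of_bijective_comp_qcoh (QCoh.isQCoh_restrict ψ hM) (QCoh.isQCoh_restrict ψ hN) G ?_
    refine (Function.Bijective.of_comp_iff' (tildeREquiv _).bijective _).1 ?_
    rw [show (tildeREquiv _) ∘ (fun φ => φ ≫ G) = (G.app ⊤ : _ → _) ∘ (tildeREquiv _) from
      funext fun φ => tildeREquiv_naturality φ G]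
    exact hG.comp (tildeREquiv _).bijective
  have hh : hW.isoSpec.hom ≫ ψ = W.ι := hW.isoSpec_hom_fromSpec
  refine (NatIso.isIso_map_iff (Scheme.Modules.restrictFunctorCongr hh.symm ≪≫
    Scheme.Modules.restrictFunctorComp _ _) g).2 ?_
  exact inferInstanceAs (IsIso ((Scheme.Modules.restrictFunctor hW.isoSpec.hom).map G))

/-- A morphism in `D_QCoh` bijective on `H^k(W, -)` for affine `W` is invertible on `W`. -/
theorem isIso_rho_of_el {E F : DCoh.D X} (hE : DCoh.IsQCohD E) (hF : DCoh.IsQCohD F) (α : E ⟶ F)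
    {W : X.Opens} (hW : IsAffineOpen W)
    (h : ∀ k, Function.Bijective (fun t : pt W k ⟶ E => t ≫ α)) : IsIso ((rho W.ι).map α) := by
  refine (DerivedCategory.isIso_iff _ _).2 fun n => ?_
  refine (NatIso.isIso_map_iff (mapDCHomologyIso (Scheme.Modules.restrictFunctor W.ι) n) α).2 ?_
  refine isIso_restrict_of_app_bijective (hE n) (hF n) _ hW ?_
  refine (Function.Bijective.of_comp_iff _ (el_bijective hW n hE)).1 ?_
  rw [show (((DerivedCategory.homologyFunctor X.Modules n).map α).app W : _ → _) ∘ el =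
    el ∘ (fun t : pt W n ⟶ E => t ≫ α) from funext fun t => (el_comp t α).symm]
  exact (el_bijective hW n hF).comp (h n)

/-- Invertibility passes to smaller opens. -/
theorem isIso_rho_of_le {E F : DCoh.D X} (α : E ⟶ F) {V U : X.Opens} (hVU : V ≤ U)
    [IsIso ((rho U.ι).map α)] : IsIso ((rho V.ι).map α) := by
  obtain ⟨r⟩ := AffineLift.nonempty_rhoCompNat (X.homOfLE hVU) U.ι V.ι (X.homOfLE_ι hVU)
  exact (NatIso.isIso_map_iff r α).1 (inferInstanceAs (IsIso ((rho (X.homOfLE hVU)).map ((rho U.ι).map α))))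

/-- Restriction commutes with flat inverse image. -/
theorem nonempty_rho_pullD {U U' : Scheme.{u}} (g : X' ⟶ X) [Flat g] (j : U ⟶ X) [IsOpenImmersion j]
    (j' : U' ⟶ X') [IsOpenImmersion j'] (h : U' ⟶ U) [Flat h] (w : h ≫ j = j' ≫ g) :
    Nonempty (pullD g ⋙ rho j' ≅ rho j ⋙ pullD h) := by
  let c := ComplexShape.up ℤ
  let Pg := Scheme.Modules.pullback g
  let Ph := Scheme.Modules.pullback h
  let Rj := Scheme.Modules.restrictFunctor j
  let Rj' := Scheme.Modules.restrictFunctor j'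
  let e0 : Pg ⋙ Rj' ≅ Rj ⋙ Ph :=
    Functor.isoWhiskerLeft _ (Scheme.Modules.restrictFunctorIsoPullback j') ≪≫
      Scheme.Modules.pullbackComp j' g ≪≫ Scheme.Modules.pullbackCongr w.symm ≪≫
      (Scheme.Modules.pullbackComp h j).symm ≪≫
      Functor.isoWhiskerRight (Scheme.Modules.restrictFunctorIsoPullback j).symm _
  let m : Pg.mapHomologicalComplex c ⋙ Rj'.mapHomologicalComplex c ≅
      Rj.mapHomologicalComplex c ⋙ Ph.mapHomologicalComplex c :=
    Functor.mapHomologicalComplexCompIso e0 c ≪≫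
      (Functor.mapHomologicalComplexCompIso (Iso.refl (Rj ⋙ Ph)) c).symm
  exact ⟨Localization.liftNatIso DerivedCategory.Q (qisX X)
    (DerivedCategory.Q ⋙ pullD g ⋙ rho j') (DerivedCategory.Q ⋙ rho j ⋙ pullD h) _ _
    ((Functor.associator _ _ _).symm ≪≫ Functor.isoWhiskerRight Pg.mapDerivedCategoryFactors _ ≪≫
      Functor.associator _ _ _ ≪≫ Functor.isoWhiskerLeft _ Rj'.mapDerivedCategoryFactors ≪≫
      (Functor.associator _ _ _).symm ≪≫ Functor.isoWhiskerRight m _ ≪≫
      Functor.associator _ _ _ ≪≫ Functor.isoWhiskerLeft _ Ph.mapDerivedCategoryFactors.symm ≪≫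
      (Functor.associator _ _ _).symm ≪≫ Functor.isoWhiskerRight Rj.mapDerivedCategoryFactors.symm _ ≪≫
      Functor.associator _ _ _)⟩

/-- A shift of the structure sheaf on `W`, extended by zero, is `pt W k`. -/
lemma exists_pt_model (W : X.Opens) (k : ℤ) :
    ∃ (P₀ : DCoh.D (W : Scheme.{u})) (_ : LocSP P₀) (L : DCoh.D (W : Scheme.{u}) ⥤ DCoh.D X)
      (_ : L ⊣ rho W.ι), Nonempty (pt W k ≅ L.obj P₀) := by
  let M := Coh.structureModule (W : Scheme.{u})
  refine ⟨(DerivedCategory.singleFunctor (W : Scheme.{u}).Modules k).obj M, ?_, (lsh W.ι).mapDerivedCategory,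
    H9Misc.TelLocal.derivedAdjunction (lshAdj W.ι), ⟨?_⟩⟩
  · exact ((locSP_structure.of_iso
      ((DerivedCategory.singleFunctorIsoCompQ (W : Scheme.{u}).Modules 0).app M).symm).shift (-k)).of_iso
      (((DerivedCategory.singleFunctors (W : Scheme.{u}).Modules).shiftIso (-k) k 0 (by omega)).app M)
  · exact (DerivedCategory.singleFunctor X.Modules k).mapIso
        (((CxOX.extZeroAdj W.ι).leftAdjointUniq (lshAdj W.ι)).app M) ≪≫
      (((lsh W.ι).mapDerivedCategorySingleFunctor k).app M).symm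

/-- Morphisms out of `pt W k` factor through perfect objects. -/
theorem exists_lift_pt [CompactSpace X] [QuasiSeparatedSpace X] {W : X.Opens} (hW : IsAffineOpen W)
    (k : ℤ) {E : DCoh.D X} (hE : DCoh.IsQCohD E) (t : pt W k ⟶ E) :
    ∃ (R : DCoh.D X) (i : pt W k ⟶ R) (β : R ⟶ E), LocSP R ∧ i ≫ β = t := by
  obtain ⟨P₀, hP₀, L, A, ⟨e⟩⟩ := exists_pt_model W k
  obtain ⟨R, β, i, p, hR, -, -, hiβ⟩ := PerfectLift.exists_lift W hW.isCompact Set.univ isClosed_univ
    (by simp) hE P₀ hP₀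
    (fun Z l _ hl => Generator.isZero_of_subsingleton_stalk fun m z => absurd (Set.mem_univ _) (hl z))
    (A.homEquiv _ _ (e.inv ≫ t))
  refine ⟨R, e.hom ≫ (A.homEquiv _ _).symm i, β, hR, ?_⟩
  rw [Category.assoc, ← A.homEquiv_naturality_right_symm, hiβ, Equiv.symm_apply_apply,
    Iso.hom_inv_id_assoc]

/-- A relation on `pt W k` comes from a relation on a perfect object. -/
theorem exists_kill [CompactSpace X] [QuasiSeparatedSpace X] {W : X.Opens} (hW : IsAffineOpen W)
    (k : ℤ) {R N : DCoh.D X} (hR : DCoh.IsQCohD R) (hN : DCoh.IsQCohD N) (i : pt W k ⟶ R) (ψ : R ⟶ N)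
    (h : i ≫ ψ = 0) :
    ∃ (R' : DCoh.D X) (i' : pt W k ⟶ R') (γ : R' ⟶ R), LocSP R' ∧ i' ≫ γ = i ∧ γ ≫ ψ = 0 := by
  obtain ⟨F, a, d, hT⟩ := distinguished_cocone_triangle₁ ψ
  obtain ⟨s, hs⟩ := Triangle.coyoneda_exact₂ _ hT i h
  obtain ⟨R', i', γ, hR', hiγ⟩ := exists_lift_pt hW k
    (isQCohD_obj₂ (inv_rot_of_distTriang _ hT) (isQCohD_shift hN (-1)) hR) s
  refine ⟨R', i', γ ≫ a, hR', ?_, ?_⟩
  · rw [← Category.assoc, hiγ]; exact hs.symm
  · have h0 : a ≫ ψ = 0 := comp_distTriang_mor_zero₁₂ _ hT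
    rw [Category.assoc, h0, comp_zero]

/-- Finitely many morphisms out of `pt W k` factor through one perfect object. -/
theorem exists_lift_pt_family [CompactSpace X] [QuasiSeparatedSpace X] {W : X.Opens} (hW : IsAffineOpen W)
    (k : ℤ) {E : DCoh.D X} (hE : DCoh.IsQCohD E) {J : Type u} [Fintype J] (t : J → (pt W k ⟶ E)) :
    ∃ (R : DCoh.D X) (i : pt W k ⟶ R) (β : J → (R ⟶ E)), LocSP R ∧ ∀ j, i ≫ β j = t j := by
  classical
  suffices ∀ s : Finset J, ∃ (R : DCoh.D X) (i : pt W k ⟶ R) (β : J → (R ⟶ E)), LocSP R ∧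
      ∀ j ∈ s, i ≫ β j = t j by
    obtain ⟨R, i, β, hR, hβ⟩ := this Finset.univ
    exact ⟨R, i, β, hR, fun j => hβ j (Finset.mem_univ j)⟩
  intro s
  induction s using Finset.induction_on with
  | empty =>
    obtain ⟨R, i, β, hR, -⟩ := exists_lift_pt hW k hE (0 : pt W k ⟶ E)
    exact ⟨R, i, fun _ => β, hR, fun j hj => absurd hj (Finset.notMem_empty j)⟩
  | insert a s ha ih =>
    obtain ⟨R, i, β, hR, hβ⟩ := ih
    obtain ⟨Ra, ia, βa, hRa, hia⟩ := exists_lift_pt hW k hE (t a)
    refine ⟨R ⊞ Ra, biprod.lift i ia, fun j => if j = a then biprod.snd ≫ βa else biprod.fst ≫ β j,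
      locSP_obj₂ _ (binaryBiproductTriangle_distinguished R Ra) hR hRa, fun j hj => ?_⟩
    by_cases hja : j = a
    · subst hja
      simp [hia]
    · simp [hja, hβ j ((Finset.mem_insert.1 hj).resolve_left hja)]

end Groth.Agent.KFlatLib.BCLoc
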