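import Groth.Agent.KFlatLib.Scheme.FlatBCDerived
import Groth.Agent.KFlatLib.Scheme.MVPush
import Groth.Agent.KFlatLib.Scheme.BCLocTools
import Groth.Agent.KFlatLib.Scheme.TildeAmp
import Groth.Agent.QCoh.FlatOver
import Groth.Agent.QCoh.Qcqs

/-!
# Base change of modules pushed forward from affine opens, without flatness of the base change
-/

set_option linter.style.haveILetI false
set_option backward.isDefEq.respectTransparency false
set_option backward.isDefEq.respectTransparency.types false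

universe u

open CategoryTheory CategoryTheory.Limits AlgebraicGeometry TopologicalSpace Opposite
open scoped TensorProduct

namespace Groth.Agent.KFlatLib.TorBC

open Groth.Agent.QCoh FlatBC

variable {X X' S S' : Scheme.{u}} {f : X ⟶ S} {g : S' ⟶ S} {g' : X' ⟶ X} {f' : X' ⟶ S'}

/-- The base change map of modules `g^* f_* M ⟶ f'_* g'^* M`. -/
noncomputable def bcMod (hw : g' ≫ f = f' ≫ g) (M : X.Modules) :
    (Scheme.Modules.pullback g).obj ((Scheme.Modules.pushforward f).obj M) ⟶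
      (Scheme.Modules.pushforward f').obj ((Scheme.Modules.pullback g').obj M) :=
  ((Scheme.Modules.pullbackPushforwardAdjunction g).homEquiv _ _).symm
    ((Scheme.Modules.pushforward f).map ((Scheme.Modules.pullbackPushforwardAdjunction g').unit.app M) ≫
      (squareIso hw).hom.app ((Scheme.Modules.pullback g').obj M))

lemma bcMod_pullSec (hw : g' ≫ f = f' ≫ g) (M : X.Modules) {V : S.Opens} {W₀ : S'.Opens} (hle : W₀ ≤ g ⁻¹ᵁ V)
    (hle' : f' ⁻¹ᵁ W₀ ≤ g' ⁻¹ᵁ (f ⁻¹ᵁ V)) (x : Γ(M, f ⁻¹ᵁ V)) :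
    (bcMod hw M).app W₀ (pullSec g ((Scheme.Modules.pushforward f).obj M) hle x) =
      pullSec g' M hle' x := by
  let adj := Scheme.Modules.pullbackPushforwardAdjunction g
  let c := (Scheme.Modules.pushforward f).map ((Scheme.Modules.pullbackPushforwardAdjunction g').unit.app M) ≫
    (squareIso hw).hom.app ((Scheme.Modules.pullback g').obj M)
  have e₁ : adj.unit.app ((Scheme.Modules.pushforward f).obj M) ≫
      (Scheme.Modules.pushforward g).map (bcMod hw M) = c :=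
    (adj.homEquiv_unit ..).symm.trans ((adj.homEquiv _ _).apply_symm_apply c)
  unfold pullSec
  refine (app_rs (bcMod hw M) hle _).trans ?_
  refine (congrArg (rs _ hle) (congr(($e₁).app V x))).trans ?_
  change rs ((Scheme.Modules.pullback g').obj M) (f'.preimage_mono hle)
    (((squareIso hw).hom.app ((Scheme.Modules.pullback g').obj M)).app V
      (((Scheme.Modules.pullbackPushforwardAdjunction g').unit.app M).app (f ⁻¹ᵁ V) x)) = _
  rw [app_eq]
  exact QCoh.map_map _ _ _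

lemma bijective_rs_of_eq (M : X.Modules) {U W : X.Opens} (e : W = U) :
    Function.Bijective (rs M e.le : Γ(M, U) → Γ(M, W)) := by
  subst e
  have h : (rs M le_rfl : Γ(M, W) → Γ(M, W)) = id := funext fun x => rs_self le_rfl x
  rw [h]
  exact Function.bijective_id

/-- If sections of `M` over an affine `O` are those over `O ⊓ V`, so are those of the inverse image. -/
theorem bijective_restrict_pullback [IsAffine S] [IsAffine S'] (h : IsPullback g' f' f g) {M : X.Modules}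
    (hM : Coh.IsQCoh M) (V O : X.Opens) (hO : IsAffineOpen O) (hOV : IsAffineOpen (O ⊓ V))
    (hb : Function.Bijective (rs M (inf_le_left : O ⊓ V ≤ O))) :
    Function.Bijective (rs ((Scheme.Modules.pullback g').obj M)
      (inf_le_left : g' ⁻¹ᵁ O ⊓ g' ⁻¹ᵁ V ≤ g' ⁻¹ᵁ O)) := by
  have hle : (⊤ : S'.Opens) ≤ g ⁻¹ᵁ ⊤ := le_top
  letI : Algebra Γ(S, ⊤) Γ(S', ⊤) := (g.appLE ⊤ ⊤ hle).hom.toAlgebra
  have halg : ∀ a, algebraMap Γ(S, ⊤) Γ(S', ⊤) a = g.appLE ⊤ ⊤ hle a := fun _ => rfl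
  let D₁ := dA h.w hle halg O le_top
  let D₂ := dA h.w hle halg (O ⊓ V) le_top
  let H := (Scheme.Modules.pullback g').obj M
  have up : g' ⁻¹ᵁ (O ⊓ V) ⊓ f' ⁻¹ᵁ ⊤ ≤ g' ⁻¹ᵁ O ⊓ f' ⁻¹ᵁ ⊤ :=
    inf_le_inf_right _ (g'.preimage_mono inf_le_left)
  let R : RSec D₁.φ M →ₗ[Γ(S, ⊤)] RSec D₂.φ M :=
    resR (inf_le_left : O ⊓ V ≤ O) D₁.φ D₂.φ (fun a => by
      exact congr($(f.appLE_map (le_top : O ≤ f ⁻¹ᵁ ⊤) (homOfLE (inf_le_left : O ⊓ V ≤ O)).op) a)) M
  let T : TSec Γ(S, ⊤) D₁.ψ H →ₗ[Γ(S', ⊤)] TSec Γ(S, ⊤) D₂.ψ H :=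
    resT _ up D₁.ψ D₂.ψ (fun a => by
      exact congr($(f'.appLE_map inf_le_right (homOfLE up).op) a)) H
  have key : ∀ z, T ((pullT D₁ M).liftBaseChange Γ(S', ⊤) z) =
      (pullT D₂ M).liftBaseChange Γ(S', ⊤) (R.baseChange Γ(S', ⊤) z) := fun z => by
    induction z using TensorProduct.induction_on with
    | zero => simp
    | tmul b x =>
      simp only [LinearMap.baseChange_tmul, LinearMap.liftBaseChange_tmul, map_smul]
      refine congrArg (b • ·) ?_
      change rs H up (pullSec g' M inf_le_left x) = pullSec g' M inf_le_left (rs M inf_le_left x)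
      change rs H up (rs _ (inf_le_left : g' ⁻¹ᵁ O ⊓ f' ⁻¹ᵁ ⊤ ≤ g' ⁻¹ᵁ O)
          (((Scheme.Modules.pullbackPushforwardAdjunction g').unit.app M).app O x)) =
        rs _ (inf_le_left : g' ⁻¹ᵁ (O ⊓ V) ⊓ f' ⁻¹ᵁ ⊤ ≤ g' ⁻¹ᵁ (O ⊓ V))
          (((Scheme.Modules.pullbackPushforwardAdjunction g').unit.app M).app (O ⊓ V) (rs M inf_le_left x))
      exact ((rs_rs _ _ _).trans (rs_rs (g'.preimage_mono inf_le_left) _ _).symm).trans
        (congrArg (rs _ inf_le_left)
          (app_rs ((Scheme.Modules.pullbackPushforwardAdjunction g').unit.app M) inf_le_left x).symm)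
    | add a b ha hb => simp only [map_add, ha, hb]
  have h₁ := (isBC_dA h.w hle halg h (isAffineOpen_top S) (isAffineOpen_top S') le_top hO).2 M hM
  have h₂ := (isBC_dA h.w hle halg h (isAffineOpen_top S) (isAffineOpen_top S') le_top hOV).2 M hM
  have hR : Function.Bijective (R.baseChange Γ(S', ⊤)) := by
    rw [LinearMap.baseChange_eq_ltensor]
    exact ((LinearEquiv.ofBijective R hb).lTensor Γ(S', ⊤)).bijective
  have hT : Function.Bijective T :=
    (Function.Bijective.of_comp_iff _ h₁).1 (by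
      rw [show (T : _ → _) ∘ ((pullT D₁ M).liftBaseChange Γ(S', ⊤) : _ → _) = _ from funext key]
      exact h₂.comp hR)
  have e₁ : g' ⁻¹ᵁ O ⊓ f' ⁻¹ᵁ ⊤ = g' ⁻¹ᵁ O := by simp
  have e₂ : g' ⁻¹ᵁ O ⊓ g' ⁻¹ᵁ V = g' ⁻¹ᵁ (O ⊓ V) ⊓ f' ⁻¹ᵁ ⊤ := by simp; rfl
  have := (bijective_rs_of_eq H e₂).comp (hT.comp (bijective_rs_of_eq H e₁))
  convert this using 1
  funext y
  change rs H _ y = rs H e₂.le (rs H up (rs H e₁.le y))
  rw [rs_rs, rs_rs]

/-- Such modules are pushed forward from the preimage of `V` after base change. -/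
theorem isIso_pushUnit_pullback [IsAffine S] [IsAffine S'] (h : IsPullback g' f' f g) {M : X.Modules}
    (hM : Coh.IsQCoh M) (V : X.Opens) [IsAffineHom V.ι]
    (hb : ∀ O : X.Opens, Function.Bijective (rs M (inf_le_left : O ⊓ V ≤ O))) :
    IsIso ((pushUnit (g' ⁻¹ᵁ V)).app ((Scheme.Modules.pullback g').obj M)) := by
  haveI : IsAffineHom g' := MorphismProperty.of_isPullback (P := @IsAffineHom) h.flip inferInstance
  let V' := g' ⁻¹ᵁ V
  haveI : IsAffineHom V'.ι :=
    MorphismProperty.of_isPullback (P := @IsAffineHom) (isPullback_morphismRestrict g' V) inferInstance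
  let H := (Scheme.Modules.pullback g').obj M
  have hH : Coh.IsQCoh H := isQCoh_pullback g' hM
  have hN : Coh.IsQCoh ((resPush V').obj H) := isQCoh_pushforward V'.ι (isQCoh_restrict V'.ι hH)
  let φ := (pushUnit V').app H
  have hr : ∀ (O : X.Opens), IsAffineOpen O →
      IsIso ((Scheme.Modules.restrictFunctor (g' ⁻¹ᵁ O).ι).map φ) := fun O hO => by
    refine BCLoc.isIso_restrict_of_app_bijective hH hN φ (hO.preimage g') ?_
    have hOV : IsAffineOpen (O ⊓ V) := by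
      have := (hO.preimage V.ι).image_of_isOpenImmersion V.ι
      rwa [image_preimage_ι, inf_comm] at this
    have e : V'.ι ''ᵁ (V'.ι ⁻¹ᵁ (g' ⁻¹ᵁ O)) = g' ⁻¹ᵁ O ⊓ g' ⁻¹ᵁ V := by
      rw [image_preimage_ι, inf_comm]
    have := (bijective_rs_of_eq H e).comp (bijective_restrict_pullback h hM V O hO hOV (hb O))
    have key : ∀ y, φ.app (g' ⁻¹ᵁ O) y = rs H e.le (rs H inf_le_left y) := fun y => by
      rw [rs_rs, Scheme.Modules.restrictAdjunction_unit_app_app]
      rfl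
    exact (funext key : (φ.app (g' ⁻¹ᵁ O) : _ → _) = _) ▸ this
  let B : Set X'.Opens := {U | ∃ O : X.Opens, IsAffineOpen O ∧ U ≤ g' ⁻¹ᵁ O}
  have hB : Opens.IsBasis B := Opens.isBasis_iff_nbhd.2 fun {U x} hx => by
    obtain ⟨_, ⟨O, hO, rfl⟩, hxO, -⟩ :=
      X.isBasis_affineOpens.exists_subset_of_mem_open (Set.mem_univ (g' x)) isOpen_univ
    exact ⟨U ⊓ g' ⁻¹ᵁ O, ⟨O, hO, inf_le_right⟩, ⟨hx, hxO⟩, inf_le_left⟩
  refine QCoh.isIso_of_isBasis φ hB ?_
  rintro U ⟨O, hO, hU⟩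
  haveI := hr O hO
  have hb' : Function.Bijective (φ.app ((g' ⁻¹ᵁ O).ι ''ᵁ ((g' ⁻¹ᵁ O).ι ⁻¹ᵁ U))) :=
    ConcreteCategory.bijective_of_isIso (((Scheme.Modules.restrictFunctor (g' ⁻¹ᵁ O).ι).map φ).app
      ((g' ⁻¹ᵁ O).ι ⁻¹ᵁ U))
  rwa [show (g' ⁻¹ᵁ O).ι ''ᵁ ((g' ⁻¹ᵁ O).ι ⁻¹ᵁ U) = U by rw [image_preimage_ι, inf_eq_right.2 hU]] at hb'

/-- Base change for modules pushed forward from affine opens, over affine bases. -/
theorem isIso_bcMod [IsAffine S] [IsAffine S'] (h : IsPullback g' f' f g) [QuasiCompact f] [QuasiSeparated f]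
    {M : X.Modules} (hM : Coh.IsQCoh M) (V : X.Opens) (hV : IsAffineOpen V) [IsAffineHom V.ι]
    (hb : ∀ O : X.Opens, Function.Bijective (rs M (inf_le_left : O ⊓ V ≤ O))) :
    IsIso (bcMod h.w M) := by
  haveI : QuasiCompact f' := MorphismProperty.of_isPullback (P := @QuasiCompact) h inferInstance
  haveI : QuasiSeparated f' := MorphismProperty.of_isPullback (P := @QuasiSeparated) h inferInstance
  haveI : IsAffineHom g' := MorphismProperty.of_isPullback (P := @IsAffineHom) h.flip inferInstance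
  let H := (Scheme.Modules.pullback g').obj M
  haveI := isIso_pushUnit_pullback h hM V hb
  have hfM : Coh.IsQCoh ((Scheme.Modules.pushforward f).obj M) := isQCoh_pushforward f hM
  have hP := isQCoh_pullback g hfM
  have hQ : Coh.IsQCoh ((Scheme.Modules.pushforward f').obj H) :=
    isQCoh_pushforward f' (isQCoh_pullback g' hM)
  have hle : (⊤ : S'.Opens) ≤ g ⁻¹ᵁ ⊤ := le_top
  letI : Algebra Γ(S, ⊤) Γ(S', ⊤) := (g.appLE ⊤ ⊤ hle).hom.toAlgebra
  have halg : ∀ a, algebraMap Γ(S, ⊤) Γ(S', ⊤) a = g.appLE ⊤ ⊤ hle a := fun _ => rfl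
  let D₀ := dG hle halg
  let D₂ := dA h.w hle halg V le_top
  let R : RSec D₀.φ ((Scheme.Modules.pushforward f).obj M) →ₗ[Γ(S, ⊤)] RSec D₂.φ M :=
    { toFun := fun x => rs M (le_top : V ≤ f ⁻¹ᵁ ⊤) x
      map_add' := fun x y => rs_add (G := M) (le_top : V ≤ f ⁻¹ᵁ ⊤) x y
      map_smul' := fun a x => (rs_smul (le_top : V ≤ f ⁻¹ᵁ ⊤) (f.app ⊤ a) x).trans rfl }
  have hR : Function.Bijective R := by
    have h1 := (bijective_rs_of_eq M (show V = (⊤ : X.Opens) ⊓ V from (top_inf_eq V).symm)).comp (hb ⊤)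
    have e : ∀ x, R x = rs M (show V = (⊤ : X.Opens) ⊓ V from (top_inf_eq V).symm).le
        (rs M (inf_le_left : (⊤ : X.Opens) ⊓ V ≤ ⊤) x) := fun x => (rs_rs _ _ _).symm
    exact (funext e : (R : _ → _) = _) ▸ h1
  have hR' : Function.Bijective (R.baseChange Γ(S', ⊤)) := by
    rw [LinearMap.baseChange_eq_ltensor]
    exact ((LinearEquiv.ofBijective R hR).lTensor Γ(S', ⊤)).bijective
  have h₂ := (isBC_dA h.w hle halg h (isAffineOpen_top S) (isAffineOpen_top S') le_top hV).2 M hM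
  have h₀ := isBC_dG hle halg (isAffineOpen_top S) (isAffineOpen_top S') _ hfM
  let T : Γ((Scheme.Modules.pushforward f').obj H, ⊤) → TSec Γ(S, ⊤) D₂.ψ H :=
    fun y => rs H (le_top : D₂.W' ≤ f' ⁻¹ᵁ ⊤) (show Γ(H, f' ⁻¹ᵁ ⊤) from y)
  have hT : Function.Bijective T := by
    have e : g' ⁻¹ᵁ V ⊓ f' ⁻¹ᵁ ⊤ = (g' ⁻¹ᵁ V).ι ''ᵁ ((g' ⁻¹ᵁ V).ι ⁻¹ᵁ (⊤ : X'.Opens)) := by
      rw [image_preimage_ι]; simp
    have h1 : Function.Bijective (((pushUnit (g' ⁻¹ᵁ V)).app H).app (⊤ : X'.Opens)) :=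
      ConcreteCategory.bijective_of_isIso (((pushUnit (g' ⁻¹ᵁ V)).app H).app (⊤ : X'.Opens))
    have h2 := (bijective_rs_of_eq H e).comp h1
    have e' : ∀ y, T y = rs H e.le (((pushUnit (g' ⁻¹ᵁ V)).app H).app (⊤ : X'.Opens) y) := fun y => by
      rw [Scheme.Modules.restrictAdjunction_unit_app_app]
      exact (rs_rs _ _ _).symm
    exact (funext e' : T = _) ▸ h2
  have hT0 : T 0 = 0 := rs_zero (G := H) _
  have hTa : ∀ a b, T (a + b) = T a + T b := fun a b => rs_add (G := H) _ _ _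
  have key : ∀ z, T ((bcMod h.w M).app ⊤ ((pullT D₀ _).liftBaseChange Γ(S', ⊤) z)) =
      (pullT D₂ M).liftBaseChange Γ(S', ⊤) (R.baseChange Γ(S', ⊤) z) := fun z => by
    induction z using TensorProduct.induction_on with
    | zero =>
      simp only [map_zero]
      exact hT0
    | tmul b x =>
      simp only [LinearMap.baseChange_tmul, LinearMap.liftBaseChange_tmul]
      refine (congrArg T (((bcMod h.w M).app_smul b _).trans
        (congrArg (b • ·) (bcMod_pullSec h.w M hle le_top x)))).trans ?_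
      refine (rs_smul (le_top : D₂.W' ≤ f' ⁻¹ᵁ ⊤) (f'.app ⊤ b) _).trans ?_
      refine congrArg₂ (fun (r : Γ(X', D₂.W')) (y : Γ(H, D₂.W')) => r • y) rfl ?_
      change rs H _ (rs H _ (((Scheme.Modules.pullbackPushforwardAdjunction g').unit.app M).app (f ⁻¹ᵁ ⊤) x)) =
        rs H _ (((Scheme.Modules.pullbackPushforwardAdjunction g').unit.app M).app V
          (rs M (le_top : V ≤ f ⁻¹ᵁ ⊤) x))
      exact ((rs_rs _ _ _).trans (rs_rs (g'.preimage_mono (le_top : V ≤ f ⁻¹ᵁ ⊤)) _ _).symm).trans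
        (congrArg (rs H _) (app_rs ((Scheme.Modules.pullbackPushforwardAdjunction g').unit.app M) _ x).symm)
    | add a b ha hb =>
      simp only [map_add]
      rw [← ha, ← hb]
      exact hTa _ _
  have hb' : Function.Bijective ((bcMod h.w M).app ⊤) := by
    refine (Function.Bijective.of_comp_iff' hT _).1 ((Function.Bijective.of_comp_iff _ h₀).1 ?_)
    rw [show (T ∘ (bcMod h.w M).app ⊤) ∘ ((pullT D₀ _).liftBaseChange Γ(S', ⊤) : _ → _) = _ from funext key]
    exact h₂.comp hR'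
  haveI := BCLoc.isIso_restrict_of_app_bijective hP hQ (bcMod h.w M) (isAffineOpen_top S') hb'
  refine QCoh.isIso_of_isBasis _ S'.isBasis_affineOpens fun U _ => ?_
  have hb'' : Function.Bijective ((bcMod h.w M).app ((⊤ : S'.Opens).ι ''ᵁ ((⊤ : S'.Opens).ι ⁻¹ᵁ U))) :=
    ConcreteCategory.bijective_of_isIso (((Scheme.Modules.restrictFunctor (⊤ : S'.Opens).ι).map (bcMod h.w M)).app
      ((⊤ : S'.Opens).ι ⁻¹ᵁ U))
  rwa [show (⊤ : S'.Opens).ι ''ᵁ ((⊤ : S'.Opens).ι ⁻¹ᵁ U) = U by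
    rw [image_preimage_ι, top_inf_eq]] at hb''

/-- The direct image of the structure sheaf along a flat affine morphism is flat. -/
theorem isFlat_pushforward_structure {Y : Scheme.{u}} (p : Y ⟶ X) [IsAffineHom p] [Flat p] :
    FlatMod.IsFlat ((Scheme.Modules.pushforward p).obj (Coh.structureModule Y)) := by
  refine (isFlatOver_id_iff _).1 ((QCoh.isFlatOver_iff _
    (isQCoh_pushforward p QCoh.isQCoh_structureModule)).2 fun U V hle hU hV => ?_)
  letI : Algebra Γ(X, V) Γ(Y, p ⁻¹ᵁ U) := (p.appLE V (p ⁻¹ᵁ U) (p.preimage_mono hle)).hom.toAlgebra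
  have hflat : Module.Flat Γ(X, V) Γ(Y, p ⁻¹ᵁ U) := p.flat_appLE hV (hU.preimage p) _
  letI : Module Γ(X, V) Γ((Scheme.Modules.pushforward p).obj (Coh.structureModule Y), U) :=
    Module.compHom _ ((𝟙 X : X ⟶ X).appLE V U hle).hom
  refine Module.Flat.of_linearEquiv (M := Γ(Y, p ⁻¹ᵁ U))
    { toFun := fun y => y
      invFun := fun y => y
      left_inv := fun _ => rfl
      right_inv := fun _ => rfl
      map_add' := fun _ _ => rfl
      map_smul' := fun a y => ?_ }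
  exact congrArg (fun r : Γ(Y, p ⁻¹ᵁ U) => r * (show Γ(Y, p ⁻¹ᵁ U) from y))
    (show p.app U ((𝟙 X : X ⟶ X).appLE V U hle a) = p.appLE V (p ⁻¹ᵁ U) (p.preimage_mono hle) a by
      rw [← Scheme.Hom.appLE_eq_app, ← CommRingCat.comp_apply, Scheme.Hom.appLE_comp_appLE]
      simp only [Category.comp_id])

end Groth.Agent.KFlatLib.TorBC
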