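import Groth.Agent.KFlatLib.TotalMap
import Groth.Agent.KFlatLib.SingleIso
import Groth.Agent.KFlatLib.Scheme.Sky
import Groth.Agent.KFlatLib.Scheme.KFlat
import Groth.Prelude.Def_KFlatSite
import Mathlib.Algebra.Homology.Monoidal

/-!
# K-flatness on stalks
-/

set_option linter.style.haveILetI false

universe u

open CategoryTheory CategoryTheory.Limits AlgebraicGeometry MonoidalCategory

namespace Groth.Agent.KFlatLib

variable {X : Scheme.{u}} (x : X)

/-- Stalks commute with the tensor product. -/
noncomputable def stalkTensorBiIso :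
    DCoh.tensorBi ⋙ (Functor.whiskeringRight _ _ _).obj (DerSch.stalkFunctor X x) ≅
      DerSch.stalkFunctor X x ⋙ curriedTensor (ModuleCat.{u} (X.presheaf.stalk x)) ⋙
        (Functor.whiskeringLeft _ _ _).obj (DerSch.stalkFunctor X x) :=
  NatIso.ofComponents (fun M => stalkTensorLeftIso M x) fun {M M'} f => by
    ext N : 2
    exact (stalkTensorRightIso N x).hom.naturality f

/-- The stalk functor on complexes. -/
noncomputable abbrev stalkCx : CochainComplex X.Modules ℤ ⥤
    CochainComplex (ModuleCat.{u} (X.presheaf.stalk x)) ℤ :=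
  (DerSch.stalkFunctor X x).mapHomologicalComplex (ComplexShape.up ℤ)

/-- Stalks commute with the tensor product of complexes. -/
noncomputable def stalkTensorCxIso (L K : CochainComplex X.Modules ℤ) :
    (((curriedTensor (ModuleCat.{u} (X.presheaf.stalk x))).map₂CochainComplex.obj
      ((stalkCx x).obj L)).obj ((stalkCx x).obj K)) ≅
      (stalkCx x).obj ((DCoh.tensorCx.obj L).obj K) :=
  totalMapIso (stalkTensorBiIso x) L K

variable {x}

lemma acyclic_of_iso {C : Type*} [Category C] [Abelian C] {K K' : CochainComplex C ℤ} (e : K ≅ K')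
    (h : K.Acyclic) : K'.Acyclic :=
  fun i => (h i).of_iso e

/-- A complex is acyclic iff all its stalk complexes are. -/
lemma acyclic_iff_stalk (K : CochainComplex X.Modules ℤ) :
    K.Acyclic ↔ ∀ x, ((stalkCx x).obj K).Acyclic := by
  simp only [HomologicalComplex.acyclic_iff, HomologicalComplex.ExactAt]
  exact ⟨fun h x i => (exact_iff_stalk _).1 (h i) x,
    fun h i => (exact_iff_stalk _).2 fun x => h x i⟩

/-- An acyclic complex of modules over a stalk gives an acyclic complex of skyscrapers. -/
lemma acyclic_map_sky (L : CochainComplex (ModuleCat.{u} (X.presheaf.stalk x)) ℤ) (h : L.Acyclic) :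
    (((sky x).mapHomologicalComplex (ComplexShape.up ℤ)).obj L).Acyclic :=
  fun i => exact_map_sky x _ (h i)

/-- The stalk complex of a complex of skyscrapers at the point. -/
noncomputable def stalkCxSkyIso (L : CochainComplex (ModuleCat.{u} (X.presheaf.stalk x)) ℤ) :
    (stalkCx x).obj (((sky x).mapHomologicalComplex (ComplexShape.up ℤ)).obj L) ≅ L :=
  HomologicalComplex.Hom.isoOfComponents (fun i => (skyStalkIso x).app (L.X i))
    fun i j _ => ((skyStalkIso x).hom.naturality (L.d i j)).symm

/-- K-flatness is checked on stalks. -/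
lemma kFlat_iff_stalk (K : CochainComplex X.Modules ℤ) :
    DCoh.IsKFlat K ↔ ∀ x, KFlat (curriedTensor (ModuleCat.{u} (X.presheaf.stalk x)))
      ((stalkCx x).obj K) := by
  refine ⟨fun hK x => kFlat_iff.2 fun L hL => ?_, fun h => kFlat_iff.2 fun L hL => ?_⟩
  · have h := (acyclic_iff_stalk _).1
      (KFlat.acyclic (T := DCoh.tensorBi) hK (acyclic_map_sky L hL)) x
    refine acyclic_of_iso ((stalkTensorCxIso x _ K).symm ≪≫
      ((curriedTensor (ModuleCat.{u} (X.presheaf.stalk x))).map₂CochainComplex.mapIso
        (stalkCxSkyIso L)).app _) h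
  · refine (acyclic_iff_stalk _).2 fun x => ?_
    exact acyclic_of_iso (stalkTensorCxIso x L K) ((h x).acyclic ((acyclic_iff_stalk L).1 hL x))

end Groth.Agent.KFlatLib
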