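import Groth.Prelude.Def_DCoh3
import Groth.Prelude.Def_DualSh
import Groth.Agent.KFlatLib.Scheme.TildeAmp
import Groth.Agent.KFlatLib.Scheme.TildePull
import Groth.Agent.KFlatLib.Scheme.Pullback
import Groth.Agent.KFlatLib.Scheme.StalkCx
import Groth.Agent.KFlatLib.Perfect.DLocal
import Groth.Agent.H9Misc.DRingTor
import Groth.Agent.S9350
import Groth.Agent.S2394
import Groth.Agent.QCoh.Tilde
import Mathlib.Algebra.Homology.ShortComplex.ExactFunctor

/-!
# Tor dimension relative to a base
-/

set_option linter.style.haveILetI false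
set_option backward.isDefEq.respectTransparency false

universe u

open CategoryTheory CategoryTheory.Limits AlgebraicGeometry TopologicalSpace

attribute [local instance] HasDerivedCategory.standard

namespace Groth.Agent.KFlatLib.RelTor

variable {X S : Scheme.{u}}

instance preservesHomology_stalkFunctor (x : X) : (DerSch.stalkFunctor X x).PreservesHomology :=
  Functor.preservesHomology_of_map_exact _ fun T hT => (exact_iff_stalk T).1 hT x

instance preservesHomology_stalkOver (f : X ⟶ S) (x : X) : (DerSch.stalkOver f x).PreservesHomology :=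
  Functor.preservesHomology_of_map_exact _ fun T hT =>
    (ShortComplex.exact_map_iff_of_faithful _ (ModuleCat.restrictScalars (f.stalkMap x).hom)).2
      ((exact_iff_stalk T).1 hT x)

lemma flatOverAt_iff (f : X ⟶ S) (M : X.Modules) (x : X) :
    FlatMod.IsFlatOverAt f M x ↔ Module.Flat (S.presheaf.stalk (f.base x)) ((DerSch.stalkOver f x).obj M) :=
  Iff.rfl

/-- Flatness over the base is invariant under isomorphisms. -/
lemma flatOverAt_of_iso {f : X ⟶ S} {M N : X.Modules} (e : M ≅ N) {x : X}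
    (h : FlatMod.IsFlatOverAt f M x) : FlatMod.IsFlatOverAt f N x := by
  rw [flatOverAt_iff] at h ⊢
  exact Module.Flat.of_linearEquiv ((DerSch.stalkOver f x).mapIso e).symm.toLinearEquiv

/-- Flatness over the base is local. -/
lemma flatOverAt_restrict_iff {U : Scheme.{u}} (i : U ⟶ X) [IsOpenImmersion i] (f : X ⟶ S) (M : X.Modules)
    (x : U) : FlatMod.IsFlatOverAt f M (i.base x) ↔
      FlatMod.IsFlatOverAt (i ≫ f) ((Scheme.Modules.restrictFunctor i).obj M) x :=
  (Groth.Agent.S9350.flatOverAt_pullback_iff i f M x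
    (RingHom.Flat.of_bijective (ConcreteCategory.bijective_of_isIso (i.stalkMap x)))).trans
    ⟨flatOverAt_of_iso ((Scheme.Modules.restrictFunctorIsoPullback i).app M).symm,
      flatOverAt_of_iso ((Scheme.Modules.restrictFunctorIsoPullback i).app M)⟩

/-- Only the local ring of the base matters. -/
lemma flatOverAt_comp_iff {T : Scheme.{u}} (f : X ⟶ S) (k : S ⟶ T) [IsOpenImmersion k] (M : X.Modules) (x : X) :
    FlatMod.IsFlatOverAt f M x ↔ FlatMod.IsFlatOverAt (f ≫ k) M x := by
  let A := T.presheaf.stalk ((f ≫ k).base x)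
  let B := S.presheaf.stalk (f.base x)
  letI : Algebra A B := (k.stalkMap (f.base x)).hom.toAlgebra
  letI : Module A (M.presheaf.stalk x) := FlatMod.moduleStalkOver (f ≫ k) M x
  letI : Module B (M.presheaf.stalk x) := FlatMod.moduleStalkOver f M x
  have hb : Function.Bijective (algebraMap A B) :=
    ConcreteCategory.bijective_of_isIso (k.stalkMap (f.base x))
  haveI : IsScalarTower A B (M.presheaf.stalk x) := IsScalarTower.of_algebraMap_smul fun a m => by
    show f.stalkMap x (k.stalkMap (f.base x) a) • m = (f ≫ k).stalkMap x a • m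
    rw [Scheme.Hom.stalkMap_comp]
    rfl
  haveI : IsLocalization (⊥ : Submonoid A) B :=
    IsLocalization.of_le_isUnit_of_bijective (by rw [Algebra.algebraMapSubmonoid, Submonoid.map_bot]; exact bot_le) hb
  exact Module.flat_iff_of_isLocalization B (⊥ : Submonoid A) _

/-- Restriction of a representative. -/
lemma relAmp_restrict {U V : Scheme.{u}} (i : V ⟶ U) [IsOpenImmersion i] (g : U ⟶ S) {a b : ℤ} {K : DCoh.D U}
    (h : DCoh.HasRelFlatAmplitudeIn g a b K) : DCoh.HasRelFlatAmplitudeIn (i ≫ g) a b ((rho i).obj K) := by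
  obtain ⟨E, hz, hf, ⟨e⟩⟩ := h
  exact ⟨(rCx i).obj E, fun n hn => (Scheme.Modules.restrictFunctor i).map_isZero (hz n hn),
    fun n v => (flatOverAt_restrict_iff i g (E.X n) v).1 (hf n (i.base v)),
    ⟨((rhoQ i).app E).symm ≪≫ (rho i).mapIso e⟩⟩

lemma relAmp_of_iso {g : X ⟶ S} {a b : ℤ} {K L : DCoh.D X} (e : K ≅ L) (h : DCoh.HasRelFlatAmplitudeIn g a b K) :
    DCoh.HasRelFlatAmplitudeIn g a b L := by
  obtain ⟨E, hz, hf, ⟨e'⟩⟩ := h
  exact ⟨E, hz, hf, ⟨e' ≪≫ e⟩⟩

/-- Locally of finite tor dimension over the base, for objects. -/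
def LocRTD (f : X ⟶ S) (K : DCoh.D X) : Prop :=
  ∀ x : X, ∃ (U : Scheme.{u}) (j : U ⟶ X) (_ : IsOpenImmersion j), x ∈ Set.range j.base ∧
    ∃ a b : ℤ, DCoh.HasRelFlatAmplitudeIn (j ≫ f) a b ((rho j).obj K)

theorem locHasFiniteRelTorDim_iff (f : X ⟶ S) (K : DCoh.D X) :
    DCoh.LocHasFiniteRelTorDim f K ↔ LocRTD f K := by
  constructor
  · intro h x
    obtain ⟨V, a, b, hx, hV⟩ := h x
    exact ⟨_, V.ι, inferInstance, ⟨⟨x, hx⟩, rfl⟩, a, b, relAmp_of_iso
      (((rhoQ V.ι).app _).symm ≪≫ (rho V.ι).mapIso (repIso K))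
      (hV (DerivedCategory.Q.objPreimage K) ⟨repIso K⟩)⟩
  · intro h x
    obtain ⟨U, j, _, hx, a, b, hab⟩ := h x
    refine ⟨j.opensRange, a, b, hx, fun F ⟨eF⟩ => ?_⟩
    have h1 := relAmp_restrict (rangeHom j) (j ≫ f) hab
    rw [← Category.assoc, rangeHom_fac j] at h1
    exact relAmp_of_iso (rhoComp (rangeHom j) j _ (rangeHom_fac j) K ≪≫ (rho _).mapIso eF.symm ≪≫
      (rhoQ j.opensRange.ι).app F) h1

lemma LocRTD.of_iso {f : X ⟶ S} {K L : DCoh.D X} (e : K ≅ L) (h : LocRTD f K) : LocRTD f L := fun x => by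
  obtain ⟨U, j, _, hx, a, b, hab⟩ := h x
  exact ⟨U, j, _, hx, a, b, relAmp_of_iso ((rho j).mapIso e) hab⟩

lemma LocRTD.restrict {f : X ⟶ S} {K : DCoh.D X} (h : LocRTD f K) {U : Scheme.{u}} (j : U ⟶ X)
    [IsOpenImmersion j] : LocRTD (j ≫ f) ((rho j).obj K) := fun u' => by
  obtain ⟨U', j', _, hx, a, b, hab⟩ := h (j.base u')
  obtain ⟨W, k, _, i₁, i₂, _, _, ⟨w, hw⟩, f₁, f₂⟩ := exists_common j' j hx ⟨u', rfl⟩
  refine ⟨W, i₂, inferInstance, ⟨w, j.isOpenEmbedding.injective ?_⟩, a, b, ?_⟩
  · rw [← hw, ← f₂]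
    rfl
  · have h1 := relAmp_restrict i₁ (j' ≫ f) hab
    rw [← Category.assoc, f₁] at h1
    rw [← Category.assoc, f₂]
    exact relAmp_of_iso (rhoComp i₁ j' k f₁ K ≪≫ (rhoComp i₂ j k f₂ K).symm) h1

lemma LocRTD.of_local {f : X ⟶ S} {K : DCoh.D X}
    (h : ∀ x : X, ∃ (U : Scheme.{u}) (j : U ⟶ X) (_ : IsOpenImmersion j),
      x ∈ Set.range j.base ∧ LocRTD (j ≫ f) ((rho j).obj K)) : LocRTD f K := fun x => by
  obtain ⟨U, j, _, ⟨u', rfl⟩, hU⟩ := h x
  obtain ⟨V, i, _, ⟨v, rfl⟩, a, b, hab⟩ := hU u'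
  refine ⟨V, i ≫ j, inferInstance, ⟨v, rfl⟩, a, b, ?_⟩
  rw [Category.assoc]
  exact relAmp_of_iso (rhoComp i j _ rfl K) hab

/-- Composing with an open immersion of the base changes nothing. -/
lemma locRTD_comp_iff {T : Scheme.{u}} (f : X ⟶ S) (k : S ⟶ T) [IsOpenImmersion k] (K : DCoh.D X) :
    LocRTD f K ↔ LocRTD (f ≫ k) K := by
  refine forall_congr' fun x => ⟨?_, ?_⟩
  · rintro ⟨U, j, _, hx, a, b, E, hz, hf, he⟩
    refine ⟨U, j, _, hx, a, b, E, hz, fun n v => ?_, he⟩
    rw [← Category.assoc]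
    exact (flatOverAt_comp_iff (j ≫ f) k (E.X n) v).1 (hf n v)
  · rintro ⟨U, j, _, hx, a, b, E, hz, hf, he⟩
    refine ⟨U, j, _, hx, a, b, E, hz, fun n v => (flatOverAt_comp_iff (j ≫ f) k (E.X n) v).2 ?_, he⟩
    have := hf n v
    rw [← Category.assoc] at this
    exact this

lemma LocRTD.of_amp {f : X ⟶ S} {K : DCoh.D X} {a b : ℤ} (h : DCoh.HasRelFlatAmplitudeIn f a b K) :
    LocRTD f K := fun x => by
  refine ⟨X, 𝟙 X, inferInstance, ⟨x, rfl⟩, a, b, ?_⟩
  have h1 := relAmp_restrict (𝟙 X) f h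
  exact h1

section Affine

variable {R A : Type u} [CommRing R] [CommRing A] [Algebra R A]

local notation "φ" => Spec.map (CommRingCat.ofHom (algebraMap R A))

lemma isFlatOver_tilde_iff (M : ModuleCat.{u} A) :
    FlatMod.IsFlatOver φ (tilde (R := CommRingCat.of A) M) ↔
      Module.Flat R ((ModuleCat.restrictScalars (algebraMap R A)).obj M) := by
  letI : Module R M := Module.compHom M (algebraMap R A)
  haveI : IsScalarTower R A M := IsScalarTower.of_algebraMap_smul fun _ _ => rfl
  exact Groth.Agent.S2394.result R A M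

variable [PreservesFiniteLimits (tilde.functor (CommRingCat.of A))]

/-- A representative by flat modules gives amplitude. -/
lemma relAmp_tilde {M : Dual.D A} (E : DRing.Cx A) (a b : ℤ) (hz : DRing.VanishesOutside E a b)
    (hE : ∀ i, Module.Flat R ((ModuleCat.restrictScalars (algebraMap R A)).obj (E.X i)))
    (e : DRing.toD E ≅ M) :
    DCoh.HasRelFlatAmplitudeIn φ a b ((DCoh.tildeD (CommRingCat.of A)).obj M) :=
  ⟨((tilde.functor (CommRingCat.of A)).mapHomologicalComplex (ComplexShape.up ℤ)).obj E,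
    fun i hi => (tilde.functor (CommRingCat.of A)).map_isZero (hz i hi),
    fun i => (isFlatOver_tilde_iff (R := R) (E.X i)).2 (hE i),
    ⟨(toDTildeIso (R := CommRingCat.of A) E).symm ≪≫ (DCoh.tildeD (CommRingCat.of A)).mapIso e⟩⟩

/-- Flatness of the cokernel at a point from amplitude near the point. -/
lemma flatOverAt_opcycles {P : DRing.Cx A} (b₀ : ℤ) (hb : ∀ i, b₀ < i → IsZero (P.X i))
    (hP : ∀ i, Module.Flat R ((ModuleCat.restrictScalars (algebraMap R A)).obj (P.X i)))
    {U : Scheme.{u}} (j : U ⟶ Spec (CommRingCat.of A)) [IsOpenImmersion j] {a b : ℤ}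
    (h : DCoh.HasRelFlatAmplitudeIn (j ≫ φ) a b
      ((rho j).obj ((DCoh.tildeD (CommRingCat.of A)).obj (DRing.toD P))))
    (c : ℤ) (hc : c ≤ a) (v : U) :
    FlatMod.IsFlatOverAt φ (tilde (R := CommRingCat.of A) (P.opcycles c)) (j.base v) := by
  obtain ⟨E, hz, hf, ⟨e⟩⟩ := h
  let T := (tilde.functor (CommRingCat.of A)).mapHomologicalComplex (ComplexShape.up ℤ)
  let Φ := DerSch.stalkOver (j ≫ φ) v
  haveI : (tilde.functor (CommRingCat.of A)).Additive := tilde_additive _
  haveI : PreservesFiniteColimits (tilde.functor (CommRingCat.of A)) := QCoh.tilde_preservesFiniteColimits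
  haveI : PreservesFiniteLimits Φ := Functor.preservesFiniteLimits_of_preservesHomology Φ
  haveI : PreservesFiniteColimits Φ := Functor.preservesFiniteColimits_of_preservesHomology Φ
  let P' := (rCx j).obj (T.obj P)
  let Q₁ := (Φ.mapHomologicalComplex (ComplexShape.up ℤ)).obj P'
  let e₁ : DerivedCategory.Q.obj E ≅ DerivedCategory.Q.obj P' :=
    e ≪≫ (rho j).mapIso (toDTildeIso (R := CommRingCat.of A) P) ≪≫ (rhoQ j).app (T.obj P)
  let e₂ : DerivedCategory.Q.obj ((Φ.mapHomologicalComplex (ComplexShape.up ℤ)).obj E) ≅ DerivedCategory.Q.obj Q₁ :=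
    (Φ.mapDerivedCategoryFactors.app E).symm ≪≫ Φ.mapDerivedCategory.mapIso e₁ ≪≫ Φ.mapDerivedCategoryFactors.app P'
  have hflat : ∀ i, Module.Flat ((Spec (CommRingCat.of R)).presheaf.stalk ((j ≫ φ).base v)) (Q₁.X i) := fun i =>
    (flatOverAt_iff _ _ _).1 ((flatOverAt_restrict_iff j φ _ v).1 ((isFlatOver_tilde_iff (R := R) (P.X i)).2 (hP i) _))
  have hQb : DRing.VanishesAbove Q₁ b₀ := fun i hi => Φ.map_isZero
    ((Scheme.Modules.restrictFunctor j).map_isZero ((tilde.functor (CommRingCat.of A)).map_isZero (hb i hi)))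
  have hamp : DRing.HasTorAmplitudeIn _ a b (DerivedCategory.Q.obj Q₁) :=
    ⟨(Φ.mapHomologicalComplex (ComplexShape.up ℤ)).obj E, fun i hi => Φ.map_isZero (hz i hi),
      fun i => (flatOverAt_iff _ _ _).1 (hf i v), ⟨e₂⟩⟩
  have hv := (H9Misc.DRingTor.iff_van (H9Misc.DRingTor.isKF_of_flat hflat hQb) (Iso.refl _)).1 hamp
  have hC := H9Misc.DRingTor.flat_opcycles hflat c fun M => hv M (c - 1) (Or.inl (by omega))
  refine (flatOverAt_restrict_iff j φ _ v).2 ((flatOverAt_iff _ _ _).2 ?_)
  let Ψ := tilde.functor (CommRingCat.of A) ⋙ Scheme.Modules.restrictFunctor j ⋙ Φ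
  haveI : PreservesFiniteColimits (Scheme.Modules.restrictFunctor j) := ⟨fun _ => inferInstance⟩
  haveI : PreservesFiniteColimits Ψ := comp_preservesFiniteColimits _ _
  let ε : Ψ.obj (P.opcycles c) ≅ Q₁.opcycles c :=
    (Ψ.mapIso ((cokernelIsCokernel (P.d (c - 1) c)).coconePointUniqueUpToIso
        (P.opcyclesIsCokernel (c - 1) c (by simp)))).symm ≪≫
      PreservesCokernel.iso Ψ (P.d (c - 1) c) ≪≫
      (cokernelIsCokernel (Q₁.d (c - 1) c)).coconePointUniqueUpToIso
        (Q₁.opcyclesIsCokernel (c - 1) c (by simp))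
  exact (Module.Flat.equiv_iff ε.toLinearEquiv).2 hC

/-- Local finite tor dimension on an affine piece. -/
theorem locRTD_tilde_iff [Module.Flat R A] (M : Dual.D A) (b₀ : ℤ) [M.IsLE b₀] :
    LocRTD φ ((DCoh.tildeD (CommRingCat.of A)).obj M) ↔
      DRing.HasFiniteTorDimCx R ((DRing.restrictD (algebraMap R A)).obj M) := by
  haveI : (tilde.functor (CommRingCat.of A)).Additive := tilde_additive _
  let K₀ := DerivedCategory.Q.objPreimage M
  let eK : DerivedCategory.Q.obj K₀ ≅ M := DerivedCategory.Q.objObjPreimageIso M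
  have hK0 : ∀ m, b₀ < m → IsZero (K₀.homology m) := fun m hm =>
    ((DerivedCategory.isZero_of_isLE M b₀ m hm).of_iso
      (((DerivedCategory.homologyFunctorFactors (ModuleCat.{u} A) m).app K₀).symm ≪≫
        (DerivedCategory.homologyFunctor (ModuleCat.{u} A) m).mapIso eK))
  obtain ⟨P, ψ, hψ, hflat, hPb⟩ := (ringCover (CommRingCat.of A)).exists_bounded_resolution K₀ b₀ hK0
  haveI := hψ
  let eP : DRing.toD P ≅ M := asIso (DerivedCategory.Q.map ψ) ≪≫ eK
  let res := ModuleCat.restrictScalars.{u} (algebraMap R A)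
  have hPR : ∀ i, Module.Flat R (res.obj (P.X i)) := fun i => by
    haveI : Module.Flat A (P.X i) := hflat i
    letI : Module R (P.X i) := Module.compHom _ (algebraMap R A)
    haveI : IsScalarTower R A (P.X i) := IsScalarTower.of_algebraMap_smul fun _ _ => rfl
    exact Module.Flat.trans R A (P.X i)
  constructor
  · intro h
    choose U j hj hx a b hab using h
    obtain ⟨t, ht⟩ := isCompact_univ.elim_finite_subcover (fun x => Set.range (j x).base)
      (fun x => haveI := hj x; (j x).isOpenEmbedding.isOpen_range) fun x _ => Set.mem_iUnion.2 ⟨x, hx x⟩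
    obtain ⟨α, hα⟩ : ∃ α : ℤ, ∀ x ∈ t, α ≤ a x :=
      (t.image a).bddBelow.imp fun α h x hx' => h (Finset.mem_coe.2 (Finset.mem_image_of_mem a hx'))
    have hamp : ∀ z : Spec (CommRingCat.of A), ∃ x ∈ t, z ∈ Set.range (j x).base := fun z => by
      simpa using ht (Set.mem_univ z)
    haveI hCflat : Module.Flat R (res.obj (P.opcycles α)) := (isFlatOver_tilde_iff (R := R) (P.opcycles α)).1 fun z => by
      obtain ⟨x, hxt, v, rfl⟩ := hamp z
      haveI := hj x
      exact flatOverAt_opcycles b₀ hPb hPR (j x)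
        (relAmp_of_iso ((rho (j x)).mapIso ((DCoh.tildeD (CommRingCat.of A)).mapIso eP.symm)) (hab x)) α (hα x hxt) v
    have hexact : ∀ i, i < α → IsZero (P.homology i) := fun i hi => by
      let C : ModuleCat.{u} A := P.homology i
      let N : ModuleCat.{u} (CommRingCat.of A) := C
      haveI : PreservesFiniteColimits (tilde.functor (CommRingCat.of A)) := QCoh.tilde_preservesFiniteColimits
      have hz : IsZero ((tilde.functor (CommRingCat.of A)).obj N) := by
        refine isZero_of_stalk _ fun z => ?_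
        obtain ⟨x, hxt, v, rfl⟩ := hamp z
        haveI := hj x
        obtain ⟨E, hzE, -, ⟨e⟩⟩ := hab x
        have hzU : IsZero ((Scheme.Modules.restrictFunctor (j x)).obj ((tilde.functor (CommRingCat.of A)).obj N)) := by
          refine IsZero.of_iso ?_ ((Scheme.Modules.restrictFunctor (j x)).mapIso
            ((tilde.functor (CommRingCat.of A)).mapIso
              (((DerivedCategory.homologyFunctorFactors (ModuleCat.{u} A) i).app P).symm ≪≫
                (DerivedCategory.homologyFunctor (ModuleCat.{u} A) i).mapIso eP) ≪≫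
              ((mapDCHomologyIso (tilde.functor (CommRingCat.of A)) i).app M).symm) ≪≫
            ((mapDCHomologyIso (Scheme.Modules.restrictFunctor (j x)) i).app _).symm ≪≫
            (DerivedCategory.homologyFunctor _ i).mapIso e.symm)
          exact IsZero.of_iso (ShortComplex.isZero_homology_of_isZero_X₂ (E.sc i)
            (hzE i (Or.inl (lt_of_lt_of_le hi (hα x hxt))))) ((DerivedCategory.homologyFunctorFactors _ i).app E)
        haveI : Subsingleton (((tilde.functor (CommRingCat.of A)).obj N).presheaf.stalk ((j x).base v)) :=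
          AddCommGrpCat.subsingleton_of_isZero (((Scheme.Modules.toPresheaf _ ⋙
            TopCat.Presheaf.stalkFunctor AddCommGrpCat.{u} v).map_isZero hzU).of_iso
              ((Scheme.Modules.restrictStalkNatIso (j x) v).app ((tilde.functor (CommRingCat.of A)).obj N)).symm)
        exact @ModuleCat.isZero_of_subsingleton _ _ _ this
      rw [IsZero.iff_id_eq_zero]
      exact (tilde.fullyFaithfulFunctor (R := CommRingCat.of A)).map_injective (hz.eq_of_src _ _)
    let e := ComplexShape.embeddingUpIntGE α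
    haveI : P.IsGE α := (CochainComplex.isGE_iff P α).2 fun i hi =>
      (P.exactAt_iff_isZero_homology i).2 (hexact i hi)
    refine ⟨α, b₀ ⊔ α, ((res.mapHomologicalComplex (ComplexShape.up ℤ)).obj (P.truncGE α)), fun i hi => ?_,
      fun i => ?_, ⟨((res.mapDerivedCategoryFactors).app _).symm ≪≫ res.mapDerivedCategory.mapIso
        ((asIso (DerivedCategory.Q.map (P.πTruncGE α))).symm ≪≫ eP)⟩⟩
    · refine res.map_isZero ?_
      rcases lt_or_ge i α with hia | hia
      · exact CochainComplex.isZero_of_isStrictlyGE _ α i hia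
      obtain ⟨n, rfl⟩ : ∃ n : ℕ, α + n = i := ⟨(i - α).toNat, by omega⟩
      have hn : 0 < n := by rcases hi with hi | hi <;> omega
      exact (hPb _ (by omega)).of_iso (HomologicalComplex.truncGEXIso P e (i := n) rfl
        (fun hb => by have := (ComplexShape.boundaryGE_embeddingUpIntGE_iff α n).1 hb; omega))
    · rcases lt_or_ge i α with hia | hia
      · haveI := ModuleCat.subsingleton_of_isZero (res.map_isZero
          (CochainComplex.isZero_of_isStrictlyGE (P.truncGE α) α i hia))
        exact inferInstanceAs (Module.Flat R (res.obj ((P.truncGE α).X i)))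
      obtain ⟨n, rfl⟩ : ∃ n : ℕ, α + n = i := ⟨(i - α).toNat, by omega⟩
      rcases Nat.eq_zero_or_pos n with rfl | hn
      · have hf : Module.Flat R (res.obj (P.opcycles (α + (0 : ℕ)))) := by
          rw [Nat.cast_zero, add_zero]; assumption
        exact (Module.Flat.equiv_iff (res.mapIso (HomologicalComplex.truncGEXIsoOpcycles P e (i := 0) rfl
          ((ComplexShape.boundaryGE_embeddingUpIntGE_iff α 0).2 rfl))).toLinearEquiv).2 hf
      · exact (Module.Flat.equiv_iff (res.mapIso (HomologicalComplex.truncGEXIso P e (i := n) rfl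
          (fun hb => by have := (ComplexShape.boundaryGE_embeddingUpIntGE_iff α n).1 hb; omega))).toLinearEquiv).2
            (hPR _)
  · rintro ⟨a, b, h⟩
    have hbR : DRing.VanishesAbove ((res.mapHomologicalComplex (ComplexShape.up ℤ)).obj P) b₀ :=
      fun i hi => res.map_isZero (hPb i hi)
    have hkf := H9Misc.DRingTor.isKF_of_flat (E := (res.mapHomologicalComplex (ComplexShape.up ℤ)).obj P) hPR hbR
    have hv := (H9Misc.DRingTor.iff_van hkf
      ((res.mapDerivedCategoryFactors.app P).symm ≪≫ res.mapDerivedCategory.mapIso eP)).1 h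
    have hC₀ := H9Misc.DRingTor.flat_opcycles (P := (res.mapHomologicalComplex (ComplexShape.up ℤ)).obj P) hPR a
      fun N => hv N (a - 1) (Or.inl (by omega))
    let R₁ := (res.mapHomologicalComplex (ComplexShape.up ℤ)).obj P
    let ε : res.obj (P.opcycles a) ≅ R₁.opcycles a :=
      (res.mapIso ((cokernelIsCokernel (P.d (a - 1) a)).coconePointUniqueUpToIso
          (P.opcyclesIsCokernel (a - 1) a (by simp)))).symm ≪≫
        PreservesCokernel.iso res (P.d (a - 1) a) ≪≫
        (cokernelIsCokernel (R₁.d (a - 1) a)).coconePointUniqueUpToIso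
          (R₁.opcyclesIsCokernel (a - 1) a (by simp))
    haveI hC : Module.Flat R (res.obj (P.opcycles a)) :=
      (Module.Flat.equiv_iff ε.toLinearEquiv).2 hC₀
    let e := ComplexShape.embeddingUpIntGE a
    haveI : P.IsGE a := (CochainComplex.isGE_iff P a).2 fun i hi =>
      (ShortComplex.exact_map_iff_of_faithful _ res).1 (hv.exactAt (Or.inl hi))
    refine LocRTD.of_amp (relAmp_tilde (R := R) (P.truncGE a) a (b₀ ⊔ a) (fun i hi => ?_) (fun i => ?_)
      ((asIso (DerivedCategory.Q.map (P.πTruncGE a))).symm ≪≫ eP))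
    · rcases lt_or_ge i a with hia | hia
      · exact CochainComplex.isZero_of_isStrictlyGE _ a i hia
      obtain ⟨n, rfl⟩ : ∃ n : ℕ, a + n = i := ⟨(i - a).toNat, by omega⟩
      have hn : 0 < n := by rcases hi with hi | hi <;> omega
      exact (hPb _ (by omega)).of_iso (HomologicalComplex.truncGEXIso P e (i := n) rfl
        (fun hb => by have := (ComplexShape.boundaryGE_embeddingUpIntGE_iff a n).1 hb; omega))
    · rcases lt_or_ge i a with hia | hia
      · haveI := ModuleCat.subsingleton_of_isZero (res.map_isZero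
          (CochainComplex.isZero_of_isStrictlyGE (P.truncGE a) a i hia))
        exact inferInstanceAs (Module.Flat R (res.obj ((P.truncGE a).X i)))
      obtain ⟨n, rfl⟩ : ∃ n : ℕ, a + n = i := ⟨(i - a).toNat, by omega⟩
      rcases Nat.eq_zero_or_pos n with rfl | hn
      · have hf : Module.Flat R (res.obj (P.opcycles (a + (0 : ℕ)))) := by
          rw [Nat.cast_zero, add_zero]; assumption
        exact (Module.Flat.equiv_iff (res.mapIso (HomologicalComplex.truncGEXIsoOpcycles P e (i := 0) rfl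
          ((ComplexShape.boundaryGE_embeddingUpIntGE_iff a 0).2 rfl))).toLinearEquiv).2 hf
      · exact (Module.Flat.equiv_iff (res.mapIso (HomologicalComplex.truncGEXIso P e (i := n) rfl
          (fun hb => by have := (ComplexShape.boundaryGE_embeddingUpIntGE_iff a n).1 hb; omega))).toLinearEquiv).2
            (hPR _)

end Affine

end Groth.Agent.KFlatLib.RelTor
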