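import Groth.Agent.KFlatLib.Scheme.StalkCx
import Groth.Agent.KFlatLib.Scheme.Pullback
import Groth.Agent.KFlatLib.BaseChange

/-!
# Pullback of K-flat complexes
-/

set_option linter.style.haveILetI false

universe u

open CategoryTheory CategoryTheory.Limits AlgebraicGeometry MonoidalCategory CochainComplex

namespace Groth.Agent.KFlatLib

section General

variable {C : Type*} [Category C] [Abelian C]

/-- The cone of a quasi-isomorphism is acyclic. -/
lemma acyclic_cone_of_quasiIso {F G : CochainComplex C ℤ} (φ : F ⟶ G) [h : QuasiIso φ] :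
    (mappingCone φ).Acyclic := by
  rw [← HomotopyCategory.quotient_obj_mem_subcategoryAcyclic_iff_acyclic]
  refine ((HomotopyCategory.subcategoryAcyclic C).trW_iff_of_distinguished _
    (HomotopyCategory.mappingCone_triangleh_distinguished φ)).1 ?_
  rw [← HomotopyCategory.quasiIso_eq_trW_subcategoryAcyclic]
  exact (HomotopyCategory.quotient_map_mem_quasiIso_iff φ).2 h

/-- A complex is acyclic if the map from the zero complex is a quasi-isomorphism. -/
lemma acyclic_of_quasiIso_zero {A B : CochainComplex C ℤ} (φ : A ⟶ B) [QuasiIso φ]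
    (hA : IsZero A) : B.Acyclic :=
  (acyclic_iff_isZero B).2 fun i => IsZero.of_iso
    ((HomologicalComplex.homologyFunctor C _ i).map_isZero hA) (isoOfQuasiIsoAt φ i).symm

lemma quasiIso_zero_of_acyclic {A B : CochainComplex C ℤ} (φ : A ⟶ B)
    (hA : IsZero A) (hB : B.Acyclic) : QuasiIso φ :=
  ⟨fun i => (quasiIsoAt_iff_isIso_homologyMap φ i).2
    (isIso_of_source_target_iso_zero _
      ((HomologicalComplex.homologyFunctor C _ i).map_isZero hA).isoZero
      ((acyclic_iff_isZero B).1 hB i).isoZero)⟩

end General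

variable {X Y : Scheme.{u}} (f : X ⟶ Y)

/-- The pullback functor on complexes. -/
noncomputable abbrev pullCx : CochainComplex Y.Modules ℤ ⥤ CochainComplex X.Modules ℤ :=
  (Scheme.Modules.pullback f).mapHomologicalComplex (ComplexShape.up ℤ)

/-- The stalk complexes of a pullback. -/
noncomputable def stalkPullCxIso (x : X) (K : CochainComplex Y.Modules ℤ) :
    (stalkCx x).obj ((pullCx f).obj K) ≅
      ((ModuleCat.extendScalars (f.stalkMap x).hom).mapHomologicalComplex (ComplexShape.up ℤ)).obj
        ((stalkCx (f.base x)).obj K) :=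
  HomologicalComplex.Hom.isoOfComponents (fun i => (stalkPullbackIso f x).app (K.X i))
    fun i j _ => ((stalkPullbackIso f x).hom.naturality (K.d i j)).symm

/-- Pullback preserves K-flatness. -/
lemma isKFlat_pullback {K : CochainComplex Y.Modules ℤ} (hK : DCoh.IsKFlat K) :
    DCoh.IsKFlat ((pullCx f).obj K) :=
  (kFlat_iff_stalk _).2 fun x =>
    (kFlat_extendScalars _ ((kFlat_iff_stalk K).1 hK (f.base x))).of_iso (stalkPullCxIso f x K).symm

/-- An acyclic K-flat complex stays acyclic after tensoring a stalk complex with any module. -/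
lemma exact_stalk_tensor {K : CochainComplex X.Modules ℤ} (hK : DCoh.IsKFlat K) (hac : K.Acyclic)
    (y : X) (N : ModuleCat.{u} (X.presheaf.stalk y)) (i : ℤ) :
    ((((stalkCx y).obj K).sc i).map (tensorLeft N)).Exact := by
  let E := (HomologicalComplex.single X.Modules (ComplexShape.up ℤ) 0).obj ((sky y).obj N)
  haveI : QuasiIso (0 : HomologicalComplex.zero ⟶ K) :=
    quasiIso_zero_of_acyclic _ HomologicalComplex.isZero_zero hac
  haveI : QuasiIso ((DCoh.tensorCx.flip.obj E).map (0 : HomologicalComplex.zero ⟶ K)) :=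
    quasiIso_tensorCx_flip_of_isKFlat _
      (kFlat_of_isZero (T := DCoh.tensorBi) HomologicalComplex.isZero_zero) hK E
  have h0 : ((DCoh.tensorCx.flip.obj E).obj K).Acyclic :=
    acyclic_of_quasiIso_zero ((DCoh.tensorCx.flip.obj E).map (0 : HomologicalComplex.zero ⟶ K))
      ((DCoh.tensorBi.map₂CochainComplex.flip.obj E).map_isZero HomologicalComplex.isZero_zero)
  have h1 : (((DCoh.tensorBi.flip.obj ((sky y).obj N)).mapHomologicalComplex
      (ComplexShape.up ℤ)).obj K).Acyclic :=
    acyclic_of_iso ((singleIso DCoh.tensorBi ((sky y).obj N)).app K) h0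
  have h2 := (exact_iff_stalk _).1 (h1 i) y
  have h3 : (((K.sc i).map (DerSch.stalkFunctor X y)).map
      (MonoidalCategory.tensorRight ((DerSch.stalkFunctor X y).obj ((sky y).obj N)))).Exact :=
    (ShortComplex.exact_iff_of_iso ((K.sc i).mapNatIso (stalkTensorRightIso ((sky y).obj N) y))).1 h2
  exact (ShortComplex.exact_iff_of_iso
    ((((stalkCx y).obj K).sc i).mapNatIso
      ((Functor.mapIso (MonoidalCategory.tensoringRight _) ((skyStalkIso y).app N)) ≪≫
        (BraidedCategory.tensorLeftIsoTensorRight N).symm))).1 h3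

/-- The pullback of an acyclic K-flat complex is acyclic. -/
lemma acyclic_pullback {K : CochainComplex Y.Modules ℤ} (hK : DCoh.IsKFlat K) (hac : K.Acyclic) :
    ((pullCx f).obj K).Acyclic := by
  refine (acyclic_iff_stalk _).2 fun x => ?_
  refine acyclic_of_iso (stalkPullCxIso f x K).symm fun i => ?_
  refine (ShortComplex.exact_map_iff_of_faithful _
    (ModuleCat.restrictScalars (f.stalkMap x).hom)).1 ?_
  exact exact_stalk_tensor hK hac (f.base x)
    ((ModuleCat.restrictScalars (f.stalkMap x).hom).obj
      (ModuleCat.of (X.presheaf.stalk x) (X.presheaf.stalk x))) i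

/-- Pullback preserves quasi-isomorphisms between K-flat complexes. -/
lemma quasiIso_pullback {P Q : CochainComplex Y.Modules ℤ} (α : P ⟶ Q) [QuasiIso α]
    (hP : DCoh.IsKFlat P) (hQ : DCoh.IsKFlat Q) : QuasiIso ((pullCx f).map α) :=
  quasiIso_of_acyclic_cone _ (acyclic_of_iso
    (mappingCone.mapHomologicalComplexIso α (Scheme.Modules.pullback f))
    (acyclic_pullback f (kFlat_cone (T := DCoh.tensorBi) α hP hQ) (acyclic_cone_of_quasiIso α)))

end Groth.Agent.KFlatLib
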