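import Groth.Agent.KFlatLib.Scheme.StalkCx
import Groth.Agent.KFlatLib.Scheme.PullCx
import Mathlib.CategoryTheory.Abelian.Exact
import Mathlib.RingTheory.Flat.Basic
import Mathlib.LinearAlgebra.TensorProduct.Tower

/-!
# Tensoring pullbacks with a module flat over the base
-/

set_option linter.style.haveILetI false
set_option backward.isDefEq.respectTransparency false

universe u

open CategoryTheory CategoryTheory.Limits AlgebraicGeometry MonoidalCategory TensorProduct

attribute [local instance] HasDerivedCategory.standard

namespace Groth.Agent.KFlatLib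

section Algebra

variable {R S : Type u} [CommRing R] [CommRing S] (φ : R →+* S) (W : ModuleCat.{u} S)

/-- Tensoring an extension of scalars with a module flat over the base ring is exact. -/
lemma exact_map_extend_tensor (hW : letI := Module.compHom (W : Type u) φ; Module.Flat R W)
    {T : ShortComplex (ModuleCat.{u} R)} (hT : T.Exact) :
    (T.map (ModuleCat.extendScalars φ ⋙ tensorLeft W)).Exact := by
  letI : Algebra R S := φ.toAlgebra
  letI : Module R (W : Type u) := Module.compHom (W : Type u) φ
  haveI : Module.Flat R W := hW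
  haveI : IsScalarTower R S (W : Type u) :=
    IsScalarTower.of_algebraMap_smul (fun r w => rfl)
  rw [ShortComplex.ShortExact.moduleCat_exact_iff_function_exact] at hT ⊢
  have h := Module.Flat.lTensor_exact (W : Type u) hT
  let e : ∀ N : ModuleCat.{u} R, ((W : Type u) ⊗[S] (S ⊗[R] (N : Type u))) ≃ₗ[S] (W : Type u) ⊗[R] (N : Type u) :=
    fun N => TensorProduct.AlgebraTensorModule.cancelBaseChange R S S (W : Type u) (N : Type u)
  have comm : ∀ (N N' : ModuleCat.{u} R) (g : N ⟶ N'),
      ∀ z : (W : Type u) ⊗[S] (S ⊗[R] (N : Type u)), LinearMap.lTensor (W : Type u) g.hom (e N z) =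
        e N' (LinearMap.lTensor (W : Type u) (g.hom.baseChange S) z) := fun N N' g z => by
    induction z using TensorProduct.induction_on with
    | zero => simp
    | add a b ha hb => simp only [map_add, ha, hb]
    | tmul w n =>
      induction n using TensorProduct.induction_on with
      | zero => simp
      | add a b ha hb => simp only [tmul_add, map_add, ha, hb]
      | tmul s n => simp [e]
  refine (Function.Exact.iff_of_ladder_addEquiv (e T.X₁).toAddEquiv (e T.X₂).toAddEquiv (e T.X₃).toAddEquiv
    ?_ ?_).1 h
  · exact AddMonoidHom.ext fun z => comm _ _ T.f z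
  · exact AddMonoidHom.ext fun z => comm _ _ T.g z

end Algebra

variable {X Y : Scheme.{u}} (f : X ⟶ Y)

/-- `F ↦ M ⊗ f^* F`. -/
noncomputable abbrev tensorPull (M : X.Modules) : Y.Modules ⥤ X.Modules :=
  Scheme.Modules.pullback f ⋙ DCoh.tensorBi.obj M

/-- The stalks of `M ⊗ f^* F`. -/
noncomputable def stalkTensorPullIso (M : X.Modules) (x : X) :
    tensorPull f M ⋙ DerSch.stalkFunctor X x ≅
      DerSch.stalkFunctor Y (f.base x) ⋙
        (ModuleCat.extendScalars (f.stalkMap x).hom ⋙ tensorLeft ((DerSch.stalkFunctor X x).obj M)) :=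
  Functor.associator _ _ _ ≪≫ Functor.isoWhiskerLeft _ (stalkTensorLeftIso M x) ≪≫
    (Functor.associator _ _ _).symm ≪≫ Functor.isoWhiskerRight (stalkPullbackIso f x) _ ≪≫
    Functor.associator _ _ _

lemma exact_map_tensorPull {M : X.Modules} (hM : FlatMod.IsFlatOver f M)
    [(tensorPull f M).PreservesZeroMorphisms] (S : ShortComplex Y.Modules) (hS : S.Exact) :
    (S.map (tensorPull f M)).Exact := by
  refine (exact_iff_stalk _).2 fun x => ?_
  let φ := (f.stalkMap x).hom
  let W := (DerSch.stalkFunctor X x).obj M
  have h : ((S.map (DerSch.stalkFunctor Y (f.base x))).map (ModuleCat.extendScalars φ ⋙ tensorLeft W)).Exact :=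
    exact_map_extend_tensor φ W (hM x) ((exact_iff_stalk S).1 hS (f.base x))
  have e := S.mapNatIso (stalkTensorPullIso f M x)
  exact ShortComplex.exact_of_iso e.symm h

/-- `F ↦ M ⊗ f^* F` is exact for `M` flat over the base. -/
theorem preservesHomology_tensorPull {M : X.Modules} (hM : FlatMod.IsFlatOver f M)
    [(tensorPull f M).PreservesZeroMorphisms] : (tensorPull f M).PreservesHomology :=
  Functor.preservesHomology_of_map_exact _ (exact_map_tensorPull f hM)

end Groth.Agent.KFlatLib
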