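import Groth.Agent.KFlatLib.Scheme.RpushCoprod
import Groth.Agent.KFlatLib.Scheme.RpushUnbounded
import Groth.Agent.KFlatLib.Scheme.QCohD

/-!
# `Rf_*` commutes with coproducts in `D_QCoh`
-/

set_option linter.style.haveILetI false
set_option backward.isDefEq.respectTransparency false

universe t v u v' u'

open CategoryTheory CategoryTheory.Limits AlgebraicGeometry Pretriangulated

attribute [local instance] HasDerivedCategory.standard

namespace Groth.Agent.KFlatLib

/-- Cohomology commutes with coproducts in the derived category. -/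
lemma preservesColimit_homology {A : Type u} [Category.{v} A] [Abelian A] {J : Type t}
    [HasColimitsOfShape (Discrete J) A] [HasExactColimitsOfShape (Discrete J) A]
    (C : J → DerivedCategory A) [HasCoproduct C] (i : ℤ) :
    PreservesColimit (Discrete.functor C) (DerivedCategory.homologyFunctor A i) := by
  let K := fun j => DerivedCategory.Q.objPreimage (C j)
  let e := fun j => DerivedCategory.Q.objObjPreimageIso (C j)
  let H := DerivedCategory.homologyFunctor A i
  haveI := preservesColimit_Q K
  haveI := FlatCxLib.preservesColimitsOfShape_complexHomology (C := A)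
    (J := Discrete J) (ComplexShape.up ℤ) i
  haveI : HasCoproduct fun j => DerivedCategory.Q.obj (K j) :=
    hasColimit_of_iso (Discrete.natIso fun j => e j.as :
      Discrete.functor (fun j => DerivedCategory.Q.obj (K j)) ≅ Discrete.functor C)
  haveI : PreservesColimit (Discrete.functor K) (DerivedCategory.Q ⋙ H) :=
    preservesColimit_of_natIso _ (DerivedCategory.homologyFunctorFactors A i).symm
  haveI : PreservesColimit (Discrete.functor fun j => DerivedCategory.Q.obj (K j)) H :=
    preservesColimit_of_preserves_colimit_cocone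
      ((Cofan.isColimitMapCoconeEquiv (DerivedCategory.Q : CochainComplex A ℤ ⥤ DerivedCategory A)
        _ _) (isColimitOfPreserves _ (coproductIsCoproduct K)))
      ((Cofan.isColimitMapCoconeEquiv H _ _).symm
        ((Cofan.isColimitMapCoconeEquiv (DerivedCategory.Q ⋙ H) _ _)
          (isColimitOfPreserves (DerivedCategory.Q ⋙ H) (coproductIsCoproduct K))))
  exact preservesColimit_of_iso_diagram H (Discrete.natIso fun j => e j.as :
      Discrete.functor (fun j => DerivedCategory.Q.obj (K j)) ≅ Discrete.functor C)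

/-- A colimit preserving functor inverts coproducts of inverted maps. -/
lemma isIso_map_sigmaMap {C : Type u} [Category.{v} C] {D : Type u'} [Category.{v'} D] {J : Type t}
    (H : C ⥤ D) (A B : J → C) [HasCoproduct A] [HasCoproduct B]
    [PreservesColimit (Discrete.functor A) H] [PreservesColimit (Discrete.functor B) H]
    (g : ∀ j, A j ⟶ B j) (h : ∀ j, IsIso (H.map (g j))) : IsIso (H.map (Limits.Sigma.map g)) := by
  let hA := isColimitOfPreserves H (coproductIsCoproduct A)
  let hB := isColimitOfPreserves H (coproductIsCoproduct B)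
  let e : Discrete.functor A ⋙ H ≅ Discrete.functor B ⋙ H :=
    Discrete.natIso fun j => @asIso _ _ _ _ (H.map (g j.as)) (h _)
  have : H.map (Limits.Sigma.map g) = (hA.coconePointsIsoOfNatIso hB e).hom := by
    refine hA.hom_ext fun j => ?_
    rw [IsColimit.comp_coconePointsIsoOfNatIso_hom]
    change H.map (Sigma.ι A j.as) ≫ H.map (Limits.Sigma.map g) = H.map (g j.as) ≫ H.map (Sigma.ι B j.as)
    rw [← H.map_comp, ← H.map_comp, Limits.Sigma.ι_map]
  rw [this]
  infer_instance

variable {X Y : Scheme.{u}} (f : X ⟶ Y) [QuasiCompact f] [QuasiSeparated f] [DCoh.HasRpush f]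

/-- Over an affine the cohomology of `Rf_*` in high degree only sees high degree cohomology. -/
lemma isIso_restrict_rpush_of_isIso_h {A B : DCoh.D X} (hA : DCoh.IsQCohD A) (hB : DCoh.IsQCohD B)
    (g : A ⟶ B) (U : Y.Opens) (N₀ : ℕ) (hN : RpushVanish f U N₀) (k : ℤ) (N : ℕ)
    (hk : k.natAbs + N₀ + 2 ≤ N)
    (hg : ∀ i : ℤ, -(N : ℤ) ≤ i → IsIso ((DerivedCategory.homologyFunctor X.Modules i).map g)) :
    IsIso ((Scheme.Modules.restrictFunctor U.ι).map ((DerivedCategory.homologyFunctor Y.Modules k).map
      ((DCoh.Rpush f).map g))) := by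
  let t : Triangulated.TStructure (DCoh.D X) := DerivedCategory.TStructure.t
  let g' : truncT A N ⟶ truncT B N := (t.truncGE (-(N : ℤ))).map g
  have hnat : g ≫ truncTπ B N = truncTπ A N ≫ g' := (t.truncGEπ (-(N : ℤ))).naturality g
  haveI : IsIso g' := (DerivedCategory.isIso_iff _ g').2 fun i => by
    by_cases hi : -(N : ℤ) ≤ i
    · haveI := hg i hi
      haveI := isIso_h_truncTπ A N i hi
      haveI := isIso_h_truncTπ B N i hi
      have : IsIso ((DerivedCategory.homologyFunctor X.Modules i).map (truncTπ A N) ≫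
          (DerivedCategory.homologyFunctor X.Modules i).map g') := by
        rw [← Functor.map_comp, ← hnat, Functor.map_comp]
        infer_instance
      exact IsIso.of_isIso_comp_left ((DerivedCategory.homologyFunctor X.Modules i).map (truncTπ A N)) _
    · haveI : (truncT A N).IsGE (-(N : ℤ)) := t.isGE_truncGE_obj A _ _ le_rfl
      haveI : (truncT B N).IsGE (-(N : ℤ)) := t.isGE_truncGE_obj B _ _ le_rfl
      exact ⟨0, (DerivedCategory.isZero_of_isGE (truncT A N) (-(N : ℤ)) i (by omega)).eq_of_src _ _,
        (DerivedCategory.isZero_of_isGE (truncT B N) (-(N : ℤ)) i (by omega)).eq_of_src _ _⟩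
  let Φ := DCoh.Rpush f ⋙ DerivedCategory.homologyFunctor Y.Modules k ⋙
    Scheme.Modules.restrictFunctor U.ι
  haveI : IsIso (Φ.map (truncTπ A N)) := isIso_restrict_rpush_truncTπ f hA U N₀ hN k N hk
  haveI : IsIso (Φ.map (truncTπ B N)) := isIso_restrict_rpush_truncTπ f hB U N₀ hN k N hk
  have h : IsIso (Φ.map g ≫ Φ.map (truncTπ B N)) := by
    rw [← Φ.map_comp, hnat, Φ.map_comp]
    infer_instance
  exact IsIso.of_isIso_comp_right (Φ.map g) (Φ.map (truncTπ B N))

/-- `Rf_*` commutes with coproducts in `D_QCoh`. -/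
theorem isIso_sigmaDesc_rpush {ι : Type u} (C : ι → DCoh.D X) (hC : ∀ i, DCoh.IsQCohD (C i))
    [HasCoproduct C] [HasCoproduct fun i => (DCoh.Rpush f).obj (C i)] :
    IsIso (Sigma.desc (fun i => (DCoh.Rpush f).map (Sigma.ι C i))) := by
  haveI : HasColimitsOfShape (Discrete ι) (DCoh.D X) := TriCat.hasColimitsOfShape_derivedCategory
  haveI : HasColimitsOfShape (Discrete ι) (DCoh.D Y) := TriCat.hasColimitsOfShape_derivedCategory
  refine (DerivedCategory.isIso_iff _ _).2 fun k => isIso_of_isIso_restrict _ fun y => ?_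
  obtain ⟨_, ⟨U, hU, rfl⟩, hyU, -⟩ :=
    Y.isBasis_affineOpens.exists_subset_of_mem_open (Set.mem_univ y) isOpen_univ
  refine ⟨U, hyU, ?_⟩
  obtain ⟨N₀, hN⟩ := exists_Rpush_bound_near f hU
  let N := k.natAbs + N₀ + 2
  let T := fun i => truncT (C i) N
  let π := fun i => truncTπ (C i) N
  haveI : ∀ i, (T i).IsGE (-(N : ℤ)) := fun i =>
    DerivedCategory.TStructure.t.isGE_truncGE_obj (C i) _ _ le_rfl
  let Φ := DerivedCategory.homologyFunctor Y.Modules k ⋙ Scheme.Modules.restrictFunctor
    (Scheme.Opens.ι (X := Y) U)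
  let c := Sigma.desc (fun i => (DCoh.Rpush f).map (Sigma.ι C i))
  let c' := Sigma.desc (fun i => (DCoh.Rpush f).map (Sigma.ι T i))
  haveI : IsIso c' := isIso_sigmaDesc_rpush_of_isGE f T (-(N : ℤ)) fun i => inferInstance
  have hsq : c ≫ (DCoh.Rpush f).map (Limits.Sigma.map π) =
      Limits.Sigma.map (fun i => (DCoh.Rpush f).map (π i)) ≫ c' := by
    refine Sigma.hom_ext _ _ fun i => ?_
    simp only [c, c', Sigma.ι_desc_assoc, Limits.Sigma.ι_map_assoc, Sigma.ι_desc]
    rw [← Functor.map_comp, ← Functor.map_comp, Limits.Sigma.ι_map]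
  haveI := preservesColimit_homology (fun i => (DCoh.Rpush f).obj (C i)) k
  haveI := preservesColimit_homology (fun i => (DCoh.Rpush f).obj (T i)) k
  haveI : (Scheme.Modules.restrictFunctor (Scheme.Opens.ι (X := Y) U)).IsLeftAdjoint :=
    (Scheme.Modules.restrictAdjunction _).isLeftAdjoint
  haveI : IsIso (Φ.map (Limits.Sigma.map fun i => (DCoh.Rpush f).map (π i))) :=
    isIso_map_sigmaMap Φ _ _ _ fun i =>
      isIso_restrict_rpush_truncTπ f (hC i) U N₀ hN k N le_rfl
  haveI : IsIso (Φ.map ((DCoh.Rpush f).map (Limits.Sigma.map π))) := by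
    refine isIso_restrict_rpush_of_isIso_h f (isQCohD_sigma C hC)
      (isQCohD_sigma T fun i => isQCohD_truncT (hC i) N) _ U N₀ hN k N le_rfl fun i hi => ?_
    haveI := preservesColimit_homology C i
    haveI := preservesColimit_homology T i
    exact isIso_map_sigmaMap (DerivedCategory.homologyFunctor X.Modules i) C T π fun j =>
      isIso_h_truncTπ (C j) N i hi
  have h : IsIso (Φ.map c ≫ Φ.map ((DCoh.Rpush f).map (Limits.Sigma.map π))) := by
    rw [← Φ.map_comp, hsq, Φ.map_comp]
    infer_instance
  exact IsIso.of_isIso_comp_right (Φ.map c) (Φ.map ((DCoh.Rpush f).map (Limits.Sigma.map π)))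

end Groth.Agent.KFlatLib
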