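import Groth.Agent.KFlatLib.Scheme.ApproxQcqs
import Groth.Agent.KFlatLib.Scheme.CohWindow

/-!
# Extension of bounded coherent complexes from an open of a Noetherian scheme
-/

set_option linter.style.haveILetI false
set_option backward.isDefEq.respectTransparency false

universe u

open CategoryTheory CategoryTheory.Limits AlgebraicGeometry Pretriangulated TopologicalSpace ZeroObject

attribute [local instance] HasDerivedCategory.standard

namespace Groth.Agent.KFlatLib.CohExtend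

open Generator PerfectLift

variable {X : Scheme.{u}}

/-- Two maps out of one object with small cones into objects starting in degree `a` identify the targets. -/
lemma nonempty_iso_of_isPcMap {A B F : DCoh.D X} {a : ℤ} (hB : DerivedCategory.IsGE B a)
    (hF : DerivedCategory.IsGE F a) (π : A ⟶ B) (ψ : A ⟶ F) (hπ : IsPcMap (a - 1) π)
    (hψ : IsPcMap (a - 1) ψ) : Nonempty (B ≅ F) := by
  let t : Triangulated.TStructure (DCoh.D X) := DerivedCategory.TStructure.t
  have key : ∀ {C : DCoh.D X} (f : A ⟶ C), IsPcMap (a - 1) f → DerivedCategory.IsGE C a →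
      Nonempty ((t.truncGE a).obj A ≅ C) := fun {C} f hf hC => by
    haveI : t.IsGE C a := hC
    haveI : IsIso ((t.truncGEπ a).app C) := (t.isGE_iff_isIso_truncGEπ_app a C).1 inferInstance
    haveI : IsIso ((t.truncGE a).map f) := by
      rw [DerivedCategory.isIso_iff]
      intro i
      let H := DerivedCategory.homologyFunctor X.Modules i
      by_cases hi : a ≤ i
      · haveI := Window.isIso_hd_map_truncGEπ A a i hi
        haveI := Window.isIso_hd_map_truncGEπ C a i hi
        haveI := hf.1 i (by omega)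
        have e : H.map ((t.truncGEπ a).app A) ≫ H.map ((t.truncGE a).map f) =
            H.map f ≫ H.map ((t.truncGEπ a).app C) :=
          (H.map_comp _ _).symm.trans ((congrArg H.map ((t.truncGEπ a).naturality f).symm).trans (H.map_comp _ _))
        haveI : IsIso (H.map ((t.truncGEπ a).app A) ≫ H.map ((t.truncGE a).map f)) := by
          rw [e]; infer_instance
        exact IsIso.of_isIso_comp_left (H.map ((t.truncGEπ a).app A)) _
      · haveI : DerivedCategory.IsGE ((t.truncGE a).obj A) a := t.isGE_truncGE_obj A _ _ le_rfl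
        haveI : DerivedCategory.IsGE ((t.truncGE a).obj C) a := t.isGE_truncGE_obj C _ _ le_rfl
        exact ⟨⟨0, (DerivedCategory.isZero_of_isGE ((t.truncGE a).obj A) a i (by omega)).eq_of_src _ _,
          (DerivedCategory.isZero_of_isGE ((t.truncGE a).obj C) a i (by omega)).eq_of_src _ _⟩⟩
    exact ⟨asIso ((t.truncGE a).map f) ≪≫ (asIso ((t.truncGEπ a).app C)).symm⟩
  obtain ⟨eB⟩ := key π hπ hB
  obtain ⟨eF⟩ := key ψ hψ hF
  exact ⟨eB.symm ≪≫ eF⟩

/-- Restriction along the identity. -/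
lemma nonempty_rho_id (K : DCoh.D X) : Nonempty ((rho (𝟙 X)).obj K ≅ K) :=
  ⟨(rho (𝟙 X)).mapIso (repIso K).symm ≪≫
    (Scheme.Modules.restrictFunctor (𝟙 X)).mapDerivedCategoryFactors.app _ ≪≫
    DerivedCategory.Q.mapIso ((NatIso.mapHomologicalComplex Scheme.Modules.restrictFunctorId
      (ComplexShape.up ℤ)).app _ ≪≫ (Functor.mapHomologicalComplexIdIso _ _).app _) ≪≫ repIso K⟩

/-- Bounded coherent objects. -/
def BCoh (K : DCoh.D X) : Prop :=
  DCoh.IsCohD K ∧ ∃ a b : ℤ, DerivedCategory.IsGE K a ∧ DerivedCategory.IsLE K b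

lemma BCoh.restrict {K : DCoh.D X} (h : BCoh K) [IsLocallyNoetherian X] {U : Scheme.{u}} (j : U ⟶ X)
    [IsOpenImmersion j] : BCoh ((rho j).obj K) := by
  obtain ⟨hc, a, b, ha, hb⟩ := h
  exact ⟨isCohD_rho j hc, a, b,
    (DerivedCategory.isGE_iff _ _).2 fun i hi => ((Scheme.Modules.restrictFunctor j).map_isZero
      ((DerivedCategory.isGE_iff _ _).1 ha i hi)).of_iso (restrictHDIso j K i),
    (DerivedCategory.isLE_iff _ _).2 fun i hi => ((Scheme.Modules.restrictFunctor j).map_isZero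
      ((DerivedCategory.isLE_iff _ _).1 hb i hi)).of_iso (restrictHDIso j K i)⟩

/-- Extension from an open of an affine Noetherian scheme. -/
theorem exists_extend_affine [IsAffine X] [IsNoetherian X] (O : X.Opens) (F : DCoh.D (O : Scheme.{u}))
    (hF : BCoh F) : ∃ G : DCoh.D X, BCoh G ∧ Nonempty ((rho O.ι).obj G ≅ F) := by
  obtain ⟨hc, a, b, ha, hb⟩ := hF
  have hO : IsCompact (O : Set X) := TopologicalSpace.NoetherianSpace.isCompact _
  haveI : CompactSpace O := isCompact_iff_compactSpace.1 hO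
  haveI : QuasiSeparatedSpace O := quasiSeparatedSpace_of_quasiSeparated O.ι
  have hq : DCoh.IsQCohD F := isCohD_isQCohD hc
  obtain ⟨r, hr⟩ := Approx.hasApprox (O : Scheme.{u}) Set.univ isClosed_univ
    (by rw [Set.compl_univ]; exact isCompact_empty)
  obtain ⟨P, α, hP, -, hα⟩ := hr (a - 1) F hq
    (locPC_of_coh hq (fun i _ => hc i) b fun i hi => (DerivedCategory.isLE_iff _ _).1 hb i hi)
    fun i _ => Set.subset_univ _
  obtain ⟨bP, hbP⟩ := exists_bound_of_locPC (hP.locPC 0)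
  let j : ℕ := (bP - a).toNat + 1
  let n : ℤ := 2 * (j : ℤ) + 1
  obtain ⟨R, hR, ⟨eR⟩⟩ := ExtendOdd.exists_odd O hO P hP j
  obtain ⟨bR, hbR⟩ := exists_bound_of_locPC (hR.locPC 0)
  let t : Triangulated.TStructure (DCoh.D X) := DerivedCategory.TStructure.t
  let G := (t.truncGE a).obj R
  haveI hG : DerivedCategory.IsGE G a := t.isGE_truncGE_obj R _ _ le_rfl
  have hRq : DCoh.IsQCohD R := AffineLift.isQCohD_of_locSP hR
  refine ⟨G, ⟨fun i => ?_, a, max bR a, hG, (DerivedCategory.isLE_iff _ _).2 fun i hi => ?_⟩, ?_⟩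
  · by_cases hi : a ≤ i
    · haveI := Window.isIso_hd_map_truncGEπ R a i hi
      exact isCoh_of_iso (asIso ((DerivedCategory.homologyFunctor X.Modules i).map ((t.truncGEπ a).app R)))
        (isCoh_of_locPC hRq (hR.locPC i) i le_rfl)
    · exact isCoh_of_isZero (DerivedCategory.isZero_of_isGE G a i (by omega))
  · haveI := Window.isIso_hd_map_truncGEπ R a i (by omega)
    exact (hbR i (by omega)).of_iso
      (asIso ((DerivedCategory.homologyFunctor X.Modules i).map ((t.truncGEπ a).app R))).symm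
  · refine nonempty_iso_of_isPcMap ((DerivedCategory.isGE_iff _ _).2 fun i hi =>
      ((Scheme.Modules.restrictFunctor O.ι).map_isZero (DerivedCategory.isZero_of_isGE G a i hi)).of_iso
        (restrictHDIso O.ι G i)) ha ((rho O.ι).map ((t.truncGEπ a).app R))
      (eR.hom ≫ (biprod.fst : P ⊞ P⟦n⟧ ⟶ P) ≫ α) (IsPcMap.map_exact _ ?_)
      ((isPcMap_of_isIso _ _).comp ((Approx.isPcMap_fst _ fun i hi => ?_).comp hα))
    · refine ⟨fun i hi => Window.isIso_hd_map_truncGEπ R a i (by omega), ?_⟩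
      exact ⟨fun _ _ _ => (DerivedCategory.isZero_of_isGE G a (a - 1) (by omega)).eq_of_src _ _⟩
    · exact (hbP (n + i) (by omega)).of_iso
        (((DerivedCategory.homologyFunctor (O : Scheme.{u}).Modules 0).shiftIso n i (n + i) rfl).app P)

/-- Extension step: adding an affine open. -/
theorem exists_extend_step [IsNoetherian X] {Z : Scheme.{u}} (j : Z ⟶ X) [IsOpenImmersion j] (V : X.Opens)
    (hV : IsAffineOpen V) (hcov : j.opensRange ⊔ V = ⊤) (F : DCoh.D Z) (hF : BCoh F) :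
    ∃ G : DCoh.D X, BCoh G ∧ Nonempty ((rho j).obj G ≅ F) := by
  let U := j.opensRange
  haveI : CompactSpace Z := isCompact_univ_iff.1
    (j.isOpenEmbedding.isInducing.isCompact_iff.2 (TopologicalSpace.NoetherianSpace.isCompact _))
  haveI : IsLocallyNoetherian Z := isLocallyNoetherian_of_isOpenImmersion j
  haveI : IsAffine (V : Scheme.{u}) := hV
  haveI : IsLocallyNoetherian (V : Scheme.{u}) := isLocallyNoetherian_of_isOpenImmersion V.ι
  haveI : IsLocallyNoetherian (U : Scheme.{u}) := isLocallyNoetherian_of_isOpenImmersion U.ι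
  haveI : CompactSpace V := isCompact_iff_compactSpace.1 hV.isCompact
  haveI : IsNoetherian (V : Scheme.{u}) := {}
  let e := j.isoOpensRange
  let A := (rho e.inv).obj F
  have hA : BCoh A := hF.restrict e.inv
  let W' : (V : Scheme.{u}).Opens := V.ι ⁻¹ᵁ U
  let l : (W' : Scheme.{u}) ⟶ (U : Scheme.{u}) := V.ι ∣_ U
  haveI : IsOpenImmersion l := inferInstance
  obtain ⟨B, hB, ⟨eB⟩⟩ := exists_extend_affine W' ((rho l).obj A) (hA.restrict l)
  have hr : Set.range (X.homOfLE (inf_le_right : U ⊓ V ≤ V)).base ⊆ Set.range W'.ι.base := by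
    rintro _ ⟨x, rfl⟩
    rw [Scheme.Opens.range_ι]
    show V.ι.base ((X.homOfLE (inf_le_right : U ⊓ V ≤ V)).base x) ∈ U
    rw [← Scheme.Hom.comp_apply, Scheme.homOfLE_ι]
    exact x.2.1
  let k := IsOpenImmersion.lift W'.ι (X.homOfLE (inf_le_right : U ⊓ V ≤ V)) hr
  have hk : k ≫ W'.ι = X.homOfLE (inf_le_right : U ⊓ V ≤ V) := IsOpenImmersion.lift_fac _ _ _
  haveI : IsOpenImmersion k := by
    haveI : IsOpenImmersion (k ≫ W'.ι) := by rw [hk]; infer_instance
    exact IsOpenImmersion.of_comp k W'.ι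
  have hkl : k ≫ l = X.homOfLE (inf_le_left : U ⊓ V ≤ U) := by
    rw [← cancel_mono U.ι, Category.assoc, morphismRestrict_ι, ← Category.assoc, hk,
      Scheme.homOfLE_ι, Scheme.homOfLE_ι]
  obtain ⟨G, ⟨eU⟩, ⟨eV⟩⟩ := exists_glue U V hcov A B
    ((rhoComp k l _ hkl A).symm ≪≫ (rho k).mapIso eB.symm ≪≫ rhoComp k W'.ι _ hk B)
  obtain ⟨hAc, a, b, ha, hb⟩ := hA
  obtain ⟨hBc, a', b', ha', hb'⟩ := hB
  have key : ∀ (i : ℤ), IsZero (DCoh.HD A i) → IsZero (DCoh.HD B i) → IsZero (DCoh.HD G i) :=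
    fun i hzA hzB => isZero_of_stalk _ fun x => @ModuleCat.isZero_of_subsingleton _ _ _
      (not_not.1 fun hx => by
        rcases (Opens.mem_sup).1 (hcov ▸ trivial : x ∈ U ⊔ V) with h | h
        · exact ((Approx.mem_support_rho U.ι G i ⟨x, h⟩).2 hx) (ModuleCat.subsingleton_of_isZero
            ((DerSch.stalkFunctor _ _).map_isZero (hzA.of_iso ((DerivedCategory.homologyFunctor _ i).mapIso eU))))
        · exact ((Approx.mem_support_rho V.ι G i ⟨x, h⟩).2 hx) (ModuleCat.subsingleton_of_isZero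
            ((DerSch.stalkFunctor _ _).map_isZero (hzB.of_iso ((DerivedCategory.homologyFunctor _ i).mapIso eV)))))
  refine ⟨G, ⟨fun i => isCoh_of_local fun x => ?_, min a a', max b b',
    (DerivedCategory.isGE_iff _ _).2 fun i hi => key i ((DerivedCategory.isGE_iff _ _).1 ha i (by omega))
      ((DerivedCategory.isGE_iff _ _).1 ha' i (by omega)),
    (DerivedCategory.isLE_iff _ _).2 fun i hi => key i ((DerivedCategory.isLE_iff _ _).1 hb i (by omega))
      ((DerivedCategory.isLE_iff _ _).1 hb' i (by omega))⟩, ?_⟩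
  · rcases (Opens.mem_sup).1 (hcov ▸ trivial : x ∈ U ⊔ V) with h | h
    · exact ⟨_, U.ι, inferInstance, ⟨⟨x, h⟩, rfl⟩, isCoh_of_iso
        ((DerivedCategory.homologyFunctor _ i).mapIso eU.symm ≪≫ restrictHDIso U.ι G i) (hAc i)⟩
    · exact ⟨_, V.ι, inferInstance, ⟨⟨x, h⟩, rfl⟩, isCoh_of_iso
        ((DerivedCategory.homologyFunctor _ i).mapIso eV.symm ≪≫ restrictHDIso V.ι G i) (hBc i)⟩
  · obtain ⟨e₀⟩ := nonempty_rho_id F
    exact ⟨(rhoComp e.hom U.ι j j.isoOpensRange_hom_ι G).symm ≪≫ (rho e.hom).mapIso eU ≪≫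
      rhoComp e.hom e.inv (𝟙 Z) e.hom_inv_id F ≪≫ e₀⟩

/-- Bounded coherent objects extend. -/
theorem exists_extend : ∀ (n : ℕ) (Y : Scheme.{u}) [IsNoetherian Y] (W : Fin n → Y.Opens),
    (∀ k, IsAffineOpen (W k)) → ∀ (Z : Scheme.{u}) (j : Z ⟶ Y) [IsOpenImmersion j],
    j.opensRange ⊔ (⨆ k, W k) = ⊤ → ∀ F : DCoh.D Z, BCoh F →
      ∃ G : DCoh.D Y, BCoh G ∧ Nonempty ((rho j).obj G ≅ F) := by
  intro n
  induction n with
  | zero =>
    intro Y _ W _ Z j _ hcov F hF
    haveI : IsLocallyNoetherian Z := isLocallyNoetherian_of_isOpenImmersion j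
    have hsurj : Function.Surjective j.base := fun y => by
      rcases (Opens.mem_sup).1 (hcov ▸ trivial : y ∈ j.opensRange ⊔ (⨆ k, W k)) with h | h
      · exact h
      · exact (Opens.mem_iSup.1 h).choose.elim0
    haveI : IsIso j := (isIso_iff_isOpenImmersion_and_epi_base j).2
      ⟨inferInstance, (TopCat.epi_iff_surjective _).2 hsurj⟩
    obtain ⟨e₀⟩ := nonempty_rho_id F
    exact ⟨(rho (inv j)).obj F, hF.restrict (inv j),
      ⟨rhoComp j (inv j) (𝟙 Z) (IsIso.hom_inv_id j) F ≪≫ e₀⟩⟩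
  | succ n ih =>
    intro Y _ W hW Z j _ hcov F hF
    let U : Y.Opens := j.opensRange ⊔ W 0
    haveI : CompactSpace U :=
      isCompact_iff_compactSpace.1 (TopologicalSpace.NoetherianSpace.isCompact (U : Set Y))
    haveI : IsLocallyNoetherian (U : Scheme.{u}) := isLocallyNoetherian_of_isOpenImmersion U.ι
    haveI : IsNoetherian (U : Scheme.{u}) := {}
    have hr : Set.range j.base ⊆ Set.range U.ι.base := by
      rw [Scheme.Opens.range_ι]
      exact fun y hy => Opens.mem_sup.2 (Or.inl hy)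
    let j₁ := IsOpenImmersion.lift U.ι j hr
    have hj₁ : j₁ ≫ U.ι = j := IsOpenImmersion.lift_fac _ _ _
    haveI : IsOpenImmersion j₁ := by
      haveI : IsOpenImmersion (j₁ ≫ U.ι) := by rw [hj₁]; infer_instance
      exact IsOpenImmersion.of_comp j₁ U.ι
    obtain ⟨G₁, hG₁, ⟨e₁⟩⟩ := exists_extend_step j₁ (U.ι ⁻¹ᵁ W 0)
      ((hW 0).preimage_of_isOpenImmersion U.ι (by rw [Scheme.Opens.opensRange_ι]; exact le_sup_right))
      (top_le_iff.1 fun y _ => by
        rcases Opens.mem_sup.1 y.2 with ⟨z, hz⟩ | h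
        · exact Opens.mem_sup.2 (Or.inl ⟨z, U.ι.isOpenEmbedding.injective (by
            rw [← Scheme.Hom.comp_apply, hj₁]; exact hz)⟩)
        · exact Opens.mem_sup.2 (Or.inr h)) F hF
    obtain ⟨G, hG, ⟨e⟩⟩ := ih Y (fun k => W k.succ) (fun k => hW _) U U.ι (top_le_iff.1 fun y _ => by
      rw [Scheme.Opens.opensRange_ι]
      rcases Opens.mem_sup.1 (hcov ▸ trivial : y ∈ j.opensRange ⊔ (⨆ k, W k)) with h | h
      · exact Opens.mem_sup.2 (Or.inl (Opens.mem_sup.2 (Or.inl h)))
      · obtain ⟨k, hk⟩ := Opens.mem_iSup.1 h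
        revert hk
        refine Fin.cases (fun hk => ?_) (fun k hk => ?_) k
        · exact Opens.mem_sup.2 (Or.inl (Opens.mem_sup.2 (Or.inr hk)))
        · exact Opens.mem_sup.2 (Or.inr (Opens.mem_iSup.2 ⟨k, hk⟩))) G₁ hG₁
    exact ⟨G, hG, ⟨(rhoComp j₁ U.ι j hj₁ G).symm ≪≫ (rho j₁).mapIso e ≪≫ e₁⟩⟩

/-- Bounded coherent objects on an open of a Noetherian scheme extend. -/
theorem exists_extend_noetherian [IsNoetherian X] (U : X.Opens) (F : DCoh.D (U : Scheme.{u})) (hF : BCoh F) :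
    ∃ G : DCoh.D X, BCoh G ∧ Nonempty ((rho U.ι).obj G ≅ F) := by
  have hex : ∀ x : X, ∃ V : X.Opens, IsAffineOpen V ∧ x ∈ V := fun x => by
    obtain ⟨_, ⟨V, hV, rfl⟩, hxV, -⟩ :=
      X.isBasis_affineOpens.exists_subset_of_mem_open (Set.mem_univ x) isOpen_univ
    exact ⟨V, hV, hxV⟩
  choose V hV hxV using hex
  obtain ⟨t, ht⟩ := isCompact_univ.elim_finite_subcover (fun x : X => (V x : Set X)) (fun x => (V x).2)
    (fun x _ => Set.mem_iUnion.2 ⟨x, hxV x⟩)
  refine exists_extend t.card X (fun k => V (t.equivFin.symm k)) (fun k => hV _) U U.ι ?_ F hF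
  refine top_le_iff.1 fun x _ => Opens.mem_sup.2 (Or.inr ?_)
  obtain ⟨y, hy, hxy⟩ := Set.mem_iUnion₂.1 (ht (Set.mem_univ x))
  refine Opens.mem_iSup.2 ⟨t.equivFin ⟨y, hy⟩, ?_⟩
  rw [Equiv.symm_apply_apply]
  exact hxy

end Groth.Agent.KFlatLib.CohExtend
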