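import Groth.Agent.KFlatLib.Scheme.ProjModule
import Groth.Agent.KFlatLib.Scheme.RpushQCoh

/-!
# The projection formula along a closed immersion
-/

set_option linter.style.haveILetI false
set_option backward.isDefEq.respectTransparency false

universe u

open CategoryTheory CategoryTheory.Limits AlgebraicGeometry

attribute [local instance] HasDerivedCategory.standard

namespace Groth.Agent.KFlatLib

variable {X Y : Scheme.{u}} (f : X ⟶ Y)

/-- `(M, N) ↦ M ⊗ f^* N`. -/
noncomputable abbrev tensorPullBi : X.Modules ⥤ Y.Modules ⥤ X.Modules :=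
  DCoh.tensorBi ⋙ (Functor.whiskeringLeft _ _ _).obj (Scheme.Modules.pullback f)

instance additive_tensorPullBi_obj (M : X.Modules) : ((tensorPullBi f).obj M).Additive :=
  inferInstanceAs ((Scheme.Modules.pullback f ⋙ DCoh.tensorBi.obj M).Additive)

/-- `tensorPullBi` computes the tensor product with the pullback on total complexes. -/
theorem nonempty_tensorPullCxIso (I : CochainComplex X.Modules ℤ) (P : CochainComplex Y.Modules ℤ) :
    Nonempty (((tensorPullBi f).map₂CochainComplex.obj I).obj P ≅
      (DCoh.tensorCx.obj I).obj ((pullCx f).obj P)) := by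
  let θ : tensorPullBi f ⋙ (Functor.whiskeringRight _ _ _).obj (𝟭 X.Modules) ≅
      𝟭 X.Modules ⋙ DCoh.tensorBi ⋙ (Functor.whiskeringLeft _ _ _).obj (Scheme.Modules.pullback f) :=
    NatIso.ofComponents (fun M => NatIso.ofComponents (fun N => Iso.refl _) (by intros; simp))
      (by intros; ext; simp)
  exact ⟨(((Functor.mapHomologicalComplexIdIso X.Modules (ComplexShape.up ℤ)).app _).symm ≪≫
    (totalMapIso θ I P).symm ≪≫
    (DCoh.tensorBi.map₂CochainComplex.mapIso
      ((Functor.mapHomologicalComplexIdIso X.Modules (ComplexShape.up ℤ)).app I)).app _)⟩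

/-- `f_* I ⊗ P ≅ f_* (I ⊗ f^* P)` along a closed immersion. -/
theorem nonempty_projCxIso [IsClosedImmersion f] (I : CochainComplex X.Modules ℤ)
    (P : CochainComplex Y.Modules ℤ) :
    Nonempty ((DCoh.tensorCx.obj ((mapCx (Scheme.Modules.pushforward f)).obj I)).obj P ≅
      (mapCx (Scheme.Modules.pushforward f)).obj ((DCoh.tensorCx.obj I).obj ((pullCx f).obj P))) := by
  haveI : ∀ J : Type, PreservesColimitsOfShape (Discrete J) (Scheme.Modules.pushforward f) :=
    fun J => preservesColimitsOfShape_push f (Discrete J)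
  let η : Scheme.Modules.pushforward f ⋙ DCoh.tensorBi ⋙ (Functor.whiskeringLeft _ _ _).obj (𝟭 Y.Modules) ⟶
      tensorPullBi f ⋙ (Functor.whiskeringRight _ _ _).obj (Scheme.Modules.pushforward f) :=
    { app := fun M =>
        { app := fun N => projMod f M N
          naturality := fun _ _ g => projMod_naturality_right f M g }
      naturality := fun _ _ g => by
        ext N : 2
        exact projMod_naturality_left f g N }
  haveI : ∀ M, IsIso (η.app M) := fun M =>
    haveI : ∀ N, IsIso ((η.app M).app N) := fun N => isIso_projMod_of_isClosedImmersion f M N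
    NatIso.isIso_of_isIso_app _
  haveI := NatIso.isIso_of_isIso_app η
  obtain ⟨e⟩ := nonempty_tensorPullCxIso f I P
  exact ⟨(totalLeftIso (asIso η).symm P).app I ≪≫ (mapCx (Scheme.Modules.pushforward f)).mapIso e⟩

/-- `Rf_*` of a closed immersion is computed termwise. -/
theorem nonempty_rpush_iso_closed [IsClosedImmersion f] [DCoh.HasRpush f]
    (C : CochainComplex X.Modules ℤ) :
    Nonempty ((DCoh.Rpush f).obj (DerivedCategory.Q.obj C) ≅
      DerivedCategory.Q.obj ((mapCx (Scheme.Modules.pushforward f)).obj C)) := by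
  haveI : PreservesFiniteColimits (Scheme.Modules.pushforward f) :=
    ⟨fun J _ _ => preservesColimitsOfShape_push f J⟩
  obtain ⟨J, s, hJ, hs⟩ : ∃ (J : CochainComplex X.Modules ℤ) (s : C ⟶ J), J.IsKInjective ∧ QuasiIso s :=
    exists_kInjective_res C
  haveI := hJ
  haveI := hs
  haveI := isIso_Q_map s hs
  haveI : QuasiIso ((mapCx (Scheme.Modules.pushforward f)).map s) := inferInstance
  haveI := isIso_Q_map ((mapCx (Scheme.Modules.pushforward f)).map s) inferInstance
  obtain ⟨e⟩ := nonempty_rpush_iso_of_kInjective (f := f) (I := J) (Iso.refl _)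
  exact ⟨(DCoh.Rpush f).mapIso (asIso (DerivedCategory.Q.map s)) ≪≫ e ≪≫
    (asIso (DerivedCategory.Q.map ((mapCx (Scheme.Modules.pushforward f)).map s))).symm⟩

/-- The projection formula along a closed immersion. -/
theorem nonempty_projection_closed [IsClosedImmersion f] [DCoh.HasRpush f]
    (P : CochainComplex Y.Modules ℤ) (hP : DCoh.IsKFlat P)
    [DCoh.HasLTensorCx P] [DCoh.HasLTensorCx ((pullCx f).obj P)] (E : DCoh.D X) :
    Nonempty ((DCoh.LTensorCx P).obj ((DCoh.Rpush f).obj E) ≅
      (DCoh.Rpush f).obj ((DCoh.LTensorCx ((pullCx f).obj P)).obj E)) := by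
  let C := DerivedCategory.Q.objPreimage E
  let eE : DerivedCategory.Q.obj C ≅ E := DerivedCategory.Q.objObjPreimageIso E
  obtain ⟨e₁⟩ := nonempty_rpush_iso_closed f C
  obtain ⟨e₂⟩ := nonempty_rpush_iso_closed f ((DCoh.tensorCx.obj C).obj ((pullCx f).obj P))
  obtain ⟨ψ⟩ := nonempty_projCxIso f C P
  haveI := isIso_LTensorCx_counit_of_isKFlat_right P hP ((mapCx (Scheme.Modules.pushforward f)).obj C)
  haveI := isIso_LTensorCx_counit_of_isKFlat_right ((pullCx f).obj P) (isKFlat_pullback f hP) C
  exact ⟨(DCoh.LTensorCx P).mapIso ((DCoh.Rpush f).mapIso eE.symm ≪≫ e₁) ≪≫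
    asIso (((DCoh.tensorCxQ P).totalLeftDerivedCounit DerivedCategory.Q (qisX Y)).app _) ≪≫
    DerivedCategory.Q.mapIso ψ ≪≫ e₂.symm ≪≫
    (DCoh.Rpush f).mapIso ((asIso (((DCoh.tensorCxQ ((pullCx f).obj P)).totalLeftDerivedCounit
      DerivedCategory.Q (qisX X)).app C)).symm ≪≫ (DCoh.LTensorCx _).mapIso eE)⟩

end Groth.Agent.KFlatLib
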