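import Groth.Agent.KFlatLib.Scheme.EvalPerfect

/-!
# `M ⊗^L K^∨ ≅ RHom(K, M)` for perfect `K`
-/

set_option linter.style.haveILetI false
set_option backward.isDefEq.respectTransparency false

universe u

open CategoryTheory CategoryTheory.Limits CategoryTheory.Pretriangulated AlgebraicGeometry

attribute [local instance] HasDerivedCategory.standard

namespace Groth.Agent.KFlatLib

variable {X : Scheme.{u}}

/-- `R ⊗ O[0] ≅ R`. -/
theorem nonempty_tensorUnitIso (R : CochainComplex X.Modules ℤ) :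
    Nonempty ((DCoh.tensorCx.obj R).obj
      ((HomologicalComplex.single X.Modules (ComplexShape.up ℤ) 0).obj (Coh.structureModule X)) ≅ R) :=
  ⟨(singleIso (DCoh.tensorBi (X := X)) (Coh.structureModule X) ≪≫
      NatIso.mapHomologicalComplex (tensorStructureIso X) (ComplexShape.up ℤ) ≪≫
      Functor.mapHomologicalComplexIdIso _ _).app R⟩

/-- Resolving `R ⊗ I` for a resolution `I` of the structure module. -/
theorem exists_tensor_res (R I J : CochainComplex X.Modules ℤ) [J.IsKInjective]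
    (hR : DCoh.IsKFlat R) (r : R ⟶ J) [QuasiIso r]
    (ι : (HomologicalComplex.single X.Modules (ComplexShape.up ℤ) 0).obj (Coh.structureModule X) ⟶ I)
    [QuasiIso ι] : ∃ s : (DCoh.tensorCx.obj R).obj I ⟶ J, QuasiIso s := by
  obtain ⟨e⟩ := nonempty_tensorUnitIso R
  haveI : QuasiIso ((DCoh.tensorCx.obj R).map ι) :=
    (kFlat_iff_isKFlat.2 hR).quasiIso_map' (tensorBiFlipIso X) ι
  haveI h₁ := isIso_Q_map ((DCoh.tensorCx.obj R).map ι) inferInstance
  haveI h₂ := isIso_Q_map (e.hom ≫ r) inferInstance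
  obtain ⟨s, hs⟩ := exists_Q_map
    (inv (DerivedCategory.Q.map ((DCoh.tensorCx.obj R).map ι)) ≫ DerivedCategory.Q.map (e.hom ≫ r))
  refine ⟨s, (DerivedCategory.isIso_Q_map_iff_quasiIso (C := X.Modules) s).1 ?_⟩
  rw [hs]
  infer_instance

/-- The dual of a perfect complex is perfect. -/
theorem isPerfect_RSheafHom_structure (K : CochainComplex X.Modules ℤ)
    (hKp : DCoh.IsPerfect (DerivedCategory.Q.obj K)) [DCoh.HasLTensorCx K] [DCoh.HasRSheafHom K] :
    DCoh.IsPerfect ((DCoh.RSheafHom K).obj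
      ((DerivedCategory.singleFunctor X.Modules 0).obj (Coh.structureModule X))) := by
  obtain ⟨I, ι, hI, hι, -, hinj⟩ := Groth.Agent.TriCat.exists_kInjective_resolution'.{u}
    ((HomologicalComplex.single X.Modules (ComplexShape.up ℤ) 0).obj (Coh.structureModule X))
  haveI := hι
  haveI := isIso_Q_map ι hι
  obtain ⟨e⟩ := nonempty_RSheafHom_iso K I
  let e' := (DCoh.RSheafHom K).mapIso
    ((DerivedCategory.singleFunctorIsoCompQ X.Modules 0).app (Coh.structureModule X) ≪≫
      asIso (DerivedCategory.Q.map ι)) ≪≫ e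
  exact (isPerfect_iff _).2 (((isPerfect_iff _).1 (isPerfect_iHom K hKp I
    (locSP_structure.of_iso (asIso (DerivedCategory.Q.map ι))))).of_iso e'.symm)

/-- `M ⊗^L K^∨ ≅ RHom(K, M)`. -/
theorem nonempty_ltensor_dual_iso (K : CochainComplex X.Modules ℤ) (hK : DCoh.IsKFlat K)
    (hKp : DCoh.IsPerfect (DerivedCategory.Q.obj K)) [DCoh.HasLTensorCx K] [DCoh.HasRSheafHom K]
    (D : CochainComplex X.Modules ℤ) (hD : DCoh.IsKFlat D)
    (hDK : Nonempty (DerivedCategory.Q.obj D ≅ (DCoh.RSheafHom K).obj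
      ((DerivedCategory.singleFunctor X.Modules 0).obj (Coh.structureModule X))))
    [DCoh.HasLTensorCx D] (M : DCoh.D X) :
    Nonempty ((DCoh.LTensorCx D).obj M ≅ (DCoh.RSheafHom K).obj M) := by
  obtain ⟨eD⟩ := hDK
  obtain ⟨I, ι, hI, hι, -, hinj⟩ := Groth.Agent.TriCat.exists_kInjective_resolution'.{u}
    ((HomologicalComplex.single X.Modules (ComplexShape.up ℤ) 0).obj (Coh.structureModule X))
  haveI := hι
  haveI := isIso_Q_map ι hι
  obtain ⟨eI⟩ := nonempty_RSheafHom_iso K I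
  haveI := isKInjective_iHom hK I
  obtain ⟨d, hd⟩ := exists_Q_map (eD ≪≫ (DCoh.RSheafHom K).mapIso
    ((DerivedCategory.singleFunctorIsoCompQ X.Modules 0).app (Coh.structureModule X) ≪≫
      asIso (DerivedCategory.Q.map ι)) ≪≫ eI).hom
  haveI : QuasiIso d := by
    rw [← DerivedCategory.isIso_Q_map_iff_quasiIso (C := X.Modules), hd]
    infer_instance
  obtain ⟨J, hJ, hJi, ⟨eM⟩⟩ := exists_kInjective_rep M
  let R := (kRes X).obj J
  let r : R ⟶ J := (flatCover X).ψ.app J
  haveI hr : QuasiIso r := (flatCover X).quasiIso_ψ J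
  haveI := isIso_Q_map r hr
  have hR : DCoh.IsKFlat R := isKFlat_kRes J
  obtain ⟨s, hs⟩ := exists_tensor_res R I J hR r ι
  haveI := quasiIso_evalMap R I J s hR (isFlat_kRes J) hs K hKp
  haveI : QuasiIso ((DCoh.tensorCx.obj R).map d) :=
    (kFlat_iff_isKFlat.2 hR).quasiIso_map' (tensorBiFlipIso X) d
  haveI hθ : QuasiIso ((DCoh.tensorCx.obj R).map d ≫ evalMap R I J s K) := inferInstance
  haveI := isIso_Q_map _ hθ
  obtain ⟨eJ⟩ := nonempty_RSheafHom_iso K J
  exact ⟨(DCoh.LTensorCx D).mapIso (eM ≪≫ (asIso (DerivedCategory.Q.map r)).symm) ≪≫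
    ltensorCxIso D hR ≪≫ asIso (DerivedCategory.Q.map ((DCoh.tensorCx.obj R).map d ≫ evalMap R I J s K)) ≪≫
    eJ.symm ≪≫ (DCoh.RSheafHom K).mapIso eM.symm⟩

end Groth.Agent.KFlatLib
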