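import Groth.Agent.KFlatLib.Scheme.TorBCPerfect
import Groth.Agent.KFlatLib.Scheme.RpushRestrict
import Groth.Agent.KFlatLib.Perfect.Corollaries
import Groth.Agent.LimSm.Model
import Groth.Agent.LimSm.Flat
import Groth.Agent.ConsPropLib.CoreProper

/-!
# Proper flat morphisms of finite presentation preserve perfect objects
-/

set_option linter.style.haveILetI false
set_option backward.isDefEq.respectTransparency false

universe u

open CategoryTheory CategoryTheory.Limits AlgebraicGeometry

attribute [local instance] HasDerivedCategory.standard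

namespace Groth.Agent.KFlatLib.TorBC

variable {X S : Scheme.{u}}

set_option backward.isDefEq.respectTransparency.types false in
/-- A noetherian model of a proper flat morphism of finite presentation over an affine scheme. -/
theorem exists_affine_model (f : X ⟶ S) [IsAffine S] [IsProper f] [Flat f] [LocallyOfFinitePresentation f] :
    ∃ (S₀ X₀ : Scheme.{u}) (_ : IsAffine S₀) (_ : IsNoetherian S₀) (f₀ : X₀ ⟶ S₀) (_ : IsProper f₀)
      (_ : Flat f₀) (g : S ⟶ S₀) (g' : X ⟶ X₀), IsPullback g' f f₀ g := by
  let fV := f ≫ S.isoSpec.hom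
  haveI : IsProper fV := inferInstanceAs (IsProper (_ ≫ _))
  haveI : Flat fV := inferInstanceAs (Flat (_ ≫ _))
  haveI : LocallyOfFinitePresentation fV := inferInstanceAs (LocallyOfFinitePresentation (_ ≫ _))
  obtain ⟨A₀, hA, X₀, f₀, g, h1, h2, -, -, -, h6⟩ := Groth.Agent.LimSm.exists_model_over_fg
    (P := @Flat) (P' := @IsProper) (Q := @LocallyOfFinitePresentation) (Q' := @LocallyOfFinitePresentation)
    Groth.Agent.LimSm.core_flat Groth.Agent.ConsPropLib.core_isProper (fun _ h => h) (fun _ h => h)
    Γ(S, ⊤) fV inferInstance inferInstance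
  haveI : Algebra.FiniteType ℤ A₀ := (Subalgebra.fg_iff_finiteType A₀).1 hA
  haveI : IsNoetherianRing A₀ := Algebra.FiniteType.isNoetherianRing ℤ A₀
  refine ⟨Spec (CommRingCat.of A₀), X₀, inferInstance, inferInstance, f₀, h2, h1,
    S.isoSpec.hom ≫ Spec.map (CommRingCat.ofHom (algebraMap A₀ Γ(S, ⊤))), g, ?_⟩
  exact h6.of_iso (Iso.refl _) (Iso.refl _) S.isoSpec.symm (Iso.refl _) (by simp) (by simp [fV]) (by simp) (by simp)

/-- Proper flat morphisms of finite presentation preserve perfect objects. -/
theorem locSP_rpush_properFlat (f : X ⟶ S) [IsProper f] [Flat f] [LocallyOfFinitePresentation f]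
    [DCoh.HasRpush f] {E : DCoh.D X} (hE : LocSP E) : LocSP ((DCoh.Rpush f).obj E) := by
  refine LocSP.of_local fun x => ?_
  obtain ⟨V, hV, hxV, -⟩ := exists_isAffineOpen_mem_and_subset (X := S) (x := x) (U := ⊤) trivial
  haveI : IsAffine (V : Scheme.{u}) := hV
  haveI : IsProper (f ∣_ V) := MorphismProperty.of_isPullback (isPullback_morphismRestrict f V).flip inferInstance
  haveI : Flat (f ∣_ V) := MorphismProperty.of_isPullback (isPullback_morphismRestrict f V).flip inferInstance
  haveI : LocallyOfFinitePresentation (f ∣_ V) :=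
    MorphismProperty.of_isPullback (isPullback_morphismRestrict f V).flip inferInstance
  obtain ⟨S₀, X₀, _, _, f₀, _, _, g, g', h⟩ := exists_affine_model (f ∣_ V)
  haveI := hasRpush_scheme (f ∣_ V)
  obtain ⟨e⟩ := nonempty_rpush_restrictD_iso f V
  exact ⟨_, V.ι, inferInstance, ⟨⟨x, hxV⟩, rfl⟩,
    (locSP_rpush_of_model (f ∣_ V) h (hE.restrict' (f ⁻¹ᵁ V).ι)).of_iso (e.app E).symm⟩

end Groth.Agent.KFlatLib.TorBC
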