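import Groth.Agent.KFlatLib.Scheme.DQCohBrown
import Groth.Agent.KFlatLib.Perfect.Corollaries
import Groth.Agent.TriCat.CellResolution
import Groth.Agent.TriCat.CompactFactor
import Groth.Prelude.Def_PerfAux

/-!
# Compact objects of `D_QCoh` are the perfect ones
-/

set_option linter.style.haveILetI false
set_option backward.isDefEq.respectTransparency false

universe w v u

open CategoryTheory CategoryTheory.Limits AlgebraicGeometry Pretriangulated Opposite ZeroObject

attribute [local instance] HasDerivedCategory.standard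

namespace Groth.Agent.KFlatLib.CompactPerfect

section Retract

variable {C : Type w} [Category.{v} C] [Preadditive C] [HasZeroObject C] [HasShift C ℤ]
  [∀ n : ℤ, (shiftFunctor C n).Additive] [Pretriangulated C]

/-- A split monomorphism of a pretriangulated category has a complement. -/
theorem exists_complement {K L : C} (i : K ⟶ L) (r : L ⟶ K) (h : i ≫ r = 𝟙 K) :
    ∃ (M : C) (_ : HasBinaryBiproduct K M), Nonempty (L ≅ K ⊞ M) := by
  obtain ⟨Z, g, δ, hT⟩ := distinguished_cocone_triangle i
  haveI : IsSplitMono i := ⟨⟨⟨r, h⟩⟩⟩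
  haveI : IsSplitMono (i⟦(1 : ℤ)⟧') := inferInstance
  have h₃ : δ = 0 := by
    have h0 : δ ≫ i⟦(1 : ℤ)⟧' = 0 := comp_distTriang_mor_zero₃₁ _ hT
    exact (cancel_mono (i⟦(1 : ℤ)⟧')).1 (h0.trans zero_comp.symm)
  obtain ⟨e, -, -⟩ := exists_iso_binaryBiproduct_of_distTriang _ hT h₃
  exact ⟨Z, inferInstance, ⟨e⟩⟩

end Retract

variable {X : Scheme.{u}}

/-- Perfectness passes to retracts. -/
theorem locSP_of_retract {K L : DCoh.D X} (i : K ⟶ L) (r : L ⟶ K) (h : i ≫ r = 𝟙 K) (hL : LocSP L) :
    LocSP K := by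
  obtain ⟨M, _, ⟨e⟩⟩ := exists_complement i r h
  exact (locSP_summand K M (hL.of_iso e)).1

open DQSmall

/-- Perfect objects of the small model of `D_QCoh`. -/
def perf (X : Scheme.{u}) : ObjectProperty (DQS X) := fun A => LocSP ((incl X).obj A)

instance : (perf X).IsClosedUnderIsomorphisms where
  of_iso e h := h.of_iso ((incl X).mapIso e)

instance : (perf X).IsStableUnderRetracts where
  of_retract r h := locSP_of_retract ((incl X).map r.i) ((incl X).map r.r)
    (by rw [← Functor.map_comp, r.retract, CategoryTheory.Functor.map_id]) h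

lemma nonempty_incl_shift (A : DQS X) (n : ℤ) :
    Nonempty ((incl X).obj (A⟦n⟧) ≅ ((incl X).obj A)⟦n⟧) := by
  obtain ⟨e⟩ := SmallModel.nonempty_compare_shift X.Modules (DQSmall.sm X)
    (HasDerivedCategory.standard X.Modules) ((qc X).ι.obj A) n
  exact ⟨(toD X).functor.mapIso (((qc X).ι.commShiftIso n).app A) ≪≫ e⟩

instance : (perf X).IsTriangulated where
  exists_zero := ⟨0, isZero_zero _,
    locSP_of_isZero ((incl X).map_isZero (isZero_zero _))⟩
  isStableUnderShiftBy n := ⟨fun A hA => by
    obtain ⟨e⟩ := nonempty_incl_shift A n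
    exact (hA.shift n).of_iso e.symm⟩
  ext₂' T hT h₁ h₃ := by
    obtain ⟨c, hc⟩ := SmallModel.exists_compare_triangle X.Modules (DQSmall.sm X)
      (HasDerivedCategory.standard X.Modules) _ ((qc X).ι.map_distinguished T hT)
    exact ObjectProperty.le_isoClosure _ _ ((locSP_two_of_three _ hc).2.1 h₁ h₃)

/-- Maps into sums of members of `S` are finite sums of maps into the summands. -/
def FinSums (S : DCoh.D X → Prop) (K : DCoh.D X) : Prop :=
  ∀ (ι : Type u) (N : ι → DCoh.D X) [HasCoproduct N], (∀ i, S (N i)) →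
    ∀ φ : K ⟶ ∐ N, TriCat.FinFactor φ

lemma FinSums.of_iso {S : DCoh.D X → Prop} {K K' : DCoh.D X} (h : FinSums S K) (e : K ≅ K') :
    FinSums S K' := fun ι N _ hN φ => by
  simpa using (h ι N hN (e.hom ≫ φ)).precomp e.inv

lemma finSums_of_rel {S : DCoh.D X → Prop} {K : DCoh.D X}
    (h : PerfAux.IsCompactObjRel.{u} S K) : FinSums S K := fun ι N _ hN φ => by
  classical
  obtain ⟨x, rfl⟩ := (h ι N hN).2 φ
  induction x using DirectSum.induction_on with
  | zero => rw [map_zero]; exact TriCat.FinFactor.zero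
  | of i a =>
    rw [show PerfAux.homSumToHomCoprod K N (DirectSum.of _ i a) = a ≫ Sigma.ι N i by
      simp [PerfAux.homSumToHomCoprod, Preadditive.rightComp]]
    exact TriCat.FinFactor.postcomp_ι i a
  | add a b ha hb => rw [map_add]; exact ha.add hb

lemma rel_of_finSums {S : DCoh.D X → Prop} {K : DCoh.D X} (h : FinSums S K) :
    PerfAux.IsCompactObjRel.{u} S K := fun ι N _ hN => by
  classical
  have hof : ∀ i (a : K ⟶ N i),
      PerfAux.homSumToHomCoprod K N (DirectSum.of _ i a) = a ≫ Sigma.ι N i := fun i a => by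
    simp [PerfAux.homSumToHomCoprod, Preadditive.rightComp]
  refine ⟨(injective_iff_map_eq_zero _).2 fun x hx => ?_, fun φ => ?_⟩
  · ext j
    have key : ∀ y, PerfAux.homSumToHomCoprod K N y ≫ TriCat.coprodProj N j = y j := fun y => by
      induction y using DirectSum.induction_on with
      | zero => simp
      | of i a =>
        rw [hof, Category.assoc]
        by_cases hij : i = j
        · subst hij
          simp [TriCat.ι_coprodProj_self]
        · rw [TriCat.ι_coprodProj_ne hij, comp_zero, DirectSum.of_eq_of_ne _ _ _ (Ne.symm hij)]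
      | add a b ha hb => rw [map_add, Preadditive.add_comp, ha, hb]; rfl
    rw [← key x, hx, zero_comp]
    rfl
  · obtain ⟨s, a, rfl⟩ := h ι N hN φ
    exact ⟨∑ i ∈ s, DirectSum.of _ i (a i), by simp [hof]⟩

/-- Perfect objects are compact relatively to `D_QCoh`. -/
theorem finSums_of_isPerfect [CompactSpace X] [QuasiSeparatedSpace X] {K : DCoh.D X}
    (hK : DCoh.IsPerfect K) : FinSums (fun L : DCoh.D X => DCoh.IsQCohD L) K := fun ι N _ hN φ => by
  classical
  obtain ⟨F, hF⟩ := DQCompact.fixAt hK N hN φ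
  refine ⟨F, fun i => φ ≫ TriCat.coprodProj N i, hF.symm.trans ?_⟩
  simp only [Category.assoc]
  rw [← Preadditive.comp_sum]
  refine congrArg (φ ≫ ·) (Sigma.hom_ext _ _ fun i => ?_)
  rw [Preadditive.comp_sum]
  by_cases hi : i ∈ F
  · rw [ι_partProj_mem N hi, Finset.sum_eq_single i (fun b _ hb => by
      rw [← Category.assoc, TriCat.ι_coprodProj_ne (Ne.symm hb), zero_comp])
      (fun h => absurd hi h), TriCat.ι_coprodProj_self_assoc]
  · rw [ι_partProj_not_mem N hi]
    exact (Finset.sum_eq_zero fun b hb => by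
      rw [← Category.assoc, TriCat.ι_coprodProj_ne (fun h : i = b => hi (h ▸ hb)), zero_comp]).symm

instance additive_incl : (incl X).Additive := by
  haveI : PreservesColimitsOfShape (Discrete WalkingPair) (toD X).functor := inferInstance
  haveI := preservesBinaryBiproducts_of_preservesBinaryCoproducts (toD X).functor
  haveI : (toD X).functor.Additive := Functor.additive_of_preservesBinaryBiproducts _
  infer_instance

/-- Relatively compact objects are compact in the small model. -/
theorem isCompactObject_of_finSums [CompactSpace X] [QuasiSeparatedSpace X]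
    [HasCoproducts.{u} (DQS X)] (A : DQS X)
    (hA : FinSums (fun L : DCoh.D X => DCoh.IsQCohD L) ((incl X).obj A)) :
    CohDer.IsCompactObject A := by
  classical
  rw [TriCat.isCompactObject_iff]
  intro ι M f
  haveI : HasColimitsOfShape (Discrete ι) (DCoh.D X) := TriCat.hasColimitsOfShape_derivedCategory
  haveI := preservesCoproducts_incl X ι
  let N := fun i => (incl X).obj (M i)
  obtain ⟨s, a, ha⟩ := hA ι N (fun i => (M i).property)
    ((incl X).map f ≫ inv (sigmaComparison (incl X) M))
  choose a' ha' using fun i => (incl X).map_surjective (a i)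
  refine ⟨s, a', (incl X).map_injective ?_⟩
  rw [IsIso.comp_inv_eq, Preadditive.sum_comp] at ha
  rw [ha, Functor.map_sum]
  refine Finset.sum_congr rfl fun i _ => ?_
  rw [Category.assoc, ι_comp_sigmaComparison, Functor.map_comp, ha']

/-- A property transported to the small model. -/
def pullProp (Q : ObjectProperty (DCoh.D X)) : ObjectProperty (DQS X) := fun A => Q ((incl X).obj A)

section Pull

variable (Q : ObjectProperty (DCoh.D X))

instance [Q.IsClosedUnderIsomorphisms] : (pullProp Q).IsClosedUnderIsomorphisms where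
  of_iso e h := Q.prop_of_iso ((incl X).mapIso e) h

instance [Q.IsStableUnderRetracts] : (pullProp Q).IsStableUnderRetracts where
  of_retract r h := Q.prop_of_retract (r.map (incl X)) h

instance [Q.IsClosedUnderIsomorphisms] [Q.IsTriangulated] : (pullProp Q).IsTriangulated where
  exists_zero := ⟨0, isZero_zero _,
    Q.prop_of_iso ((isZero_zero (DCoh.D X)).iso ((incl X).map_isZero (isZero_zero _))) Q.prop_zero⟩
  isStableUnderShiftBy n := ⟨fun A hA => by
    obtain ⟨e⟩ := nonempty_incl_shift A n
    exact Q.prop_of_iso e.symm (Q.le_shift n _ hA)⟩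
  ext₂' T hT h₁ h₃ := by
    obtain ⟨c, hc⟩ := SmallModel.exists_compare_triangle X.Modules (DQSmall.sm X)
      (HasDerivedCategory.standard X.Modules) _ ((qc X).ι.map_distinguished T hT)
    exact ObjectProperty.le_isoClosure _ _
      (ObjectProperty.ext_of_isTriangulatedClosed₂ Q _ hc h₁ h₃)

end Pull

/-- Compact objects lie in every thick subcategory containing a perfect generator. -/
theorem prop_of_finSums [CompactSpace X] [QuasiSeparatedSpace X] (Q : ObjectProperty (DCoh.D X))
    [Q.IsClosedUnderIsomorphisms] [Q.IsStableUnderRetracts] [Q.IsTriangulated] {P : DCoh.D X}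
    (hP : LocSP P) (hgen : ∀ E, DCoh.IsQCohD E → Generator.Orth P E → IsZero E) (hQ : Q P)
    {K : DCoh.D X} (hK : DCoh.IsQCohD K)
    (hc : FinSums (fun L : DCoh.D X => DCoh.IsQCohD L) K) : Q K := by
  classical
  haveI : ∀ J : Type u, HasColimitsOfShape (Discrete J) (DQS X) := fun J => hasCoproducts_DQS X J
  haveI : HasCoproducts.{u} (DQS X) := fun J => hasCoproducts_DQS X J
  haveI : HasColimitsOfShape (Discrete ℕ) (DQS X) :=
    hasColimitsOfShape_of_equivalence (Discrete.equivalence Equiv.ulift.{u})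
  obtain ⟨P', ⟨eP⟩⟩ := exists_DQS_preimage P (AffineLift.isQCohD_of_locSP hP)
  obtain ⟨K', ⟨eK⟩⟩ := exists_DQS_preimage K hK
  let E : PUnit.{u+1} → DQS X := fun _ => P'
  let E' := TriCat.shiftClosure E
  have hcE : ∀ i, CohDer.IsCompactObject (E i) := fun i => isCompactObject_of_finSums _
    (finSums_of_isPerfect ((isPerfect_iff _).2 (hP.of_iso eP.symm)))
  have hcK : CohDer.IsCompactObject K' :=
    isCompactObject_of_finSums _ (hc.of_iso eK.symm)
  have hdet : ∀ A : DQS X, (∀ p (f : E' p ⟶ A), f = 0) → IsZero A := fun A hA => by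
    refine (IsZero.iff_id_eq_zero _).2 ((incl X).map_injective ?_)
    refine IsZero.eq_of_src (hgen _ A.property fun n φ => ?_) _ _
    obtain ⟨e⟩ := nonempty_incl_shift P' n
    let e' := e ≪≫ (shiftFunctor _ n).mapIso eP
    obtain ⟨f, hf⟩ := (incl X).map_surjective (e'.hom ≫ φ)
    rw [hA ⟨PUnit.unit, n⟩ f, Functor.map_zero] at hf
    exact (cancel_epi e'.hom).1 (hf.symm.trans comp_zero.symm)
  obtain ⟨F, inc, hF, ⟨κ, a, ⟨e₀⟩⟩, hstep⟩ := TriCat.exists_cell_resolution E'
    (TriCat.countPerfect_of_compact (E := E') fun p => TriCat.isCompactObject_shift (hcE p.1) p.2)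
    (fun p : PUnit.{u+1} × ℤ => ⟨(p.1, p.2 + (-1)), ⟨(shiftFunctorAdd (DQS X) p.2 (-1)).app _⟩⟩) hdet K'
  obtain ⟨n, g, hg⟩ := TriCat.IsHocolim.exists_factor hF hcK (𝟙 K')
  have henv := TriCat.envFactors_of_cell E hcE F.obj (fun n => F.map (homOfLE (Nat.le_succ n)))
    ⟨κ, fun k => (a k).1, fun k => (a k).2, ⟨e₀⟩⟩
    (fun m => by
      obtain ⟨κ', a', y, z, hT⟩ := hstep m
      exact ⟨κ', fun k => (a' k).1, fun k => (a' k).2, y, z, hT⟩) n K' hcK g
  obtain ⟨s, hs, A, i, r, hA, hir⟩ := henv
  have hle : (TriCat.finSub E s).triangEnvelope ≤ pullProp Q :=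
    (ObjectProperty.triangEnvelope_le_iff _).2 fun Y ⟨j, _, hY⟩ => hY ▸ (Q.prop_of_iso eP.symm hQ)
  have hK' : pullProp Q K' := (pullProp Q).prop_of_retract
    { i := i, r := r ≫ inc n, retract := by rw [← Category.assoc, hir, hg] } (hle A hA)
  exact Q.prop_of_iso eK hK'

/-- The perfect objects, as an object property. -/
def perfD (X : Scheme.{u}) : ObjectProperty (DCoh.D X) := fun A => LocSP A

instance : (perfD X).IsClosedUnderIsomorphisms where
  of_iso e h := LocSP.of_iso e h

instance : (perfD X).IsStableUnderRetracts where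
  of_retract r h := locSP_of_retract r.i r.r r.retract h

instance : (perfD X).IsTriangulated where
  exists_zero := ⟨0, isZero_zero _, locSP_of_isZero (isZero_zero _)⟩
  isStableUnderShiftBy n := ⟨fun _ hA => LocSP.shift hA n⟩
  ext₂' T hT h₁ h₃ := ObjectProperty.le_isoClosure _ _ ((locSP_two_of_three T hT).2.1 h₁ h₃)

/-- Relatively compact objects of `D_QCoh` are perfect. -/
theorem locSP_of_isCompactObjRel [CompactSpace X] [QuasiSeparatedSpace X] {K : DCoh.D X}
    (hK : DCoh.IsQCohD K)
    (hc : PerfAux.IsCompactObjRel.{u} (fun L : DCoh.D X => DCoh.IsQCohD L) K) : LocSP K := by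
  obtain ⟨P, hP, hgen⟩ := Generator.exists_gen X
  exact prop_of_finSums (perfD X) hP hgen hP hK (finSums_of_rel hc)

end Groth.Agent.KFlatLib.CompactPerfect
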