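import Groth.Agent.KFlatLib.Scheme.RHomLocal
import Groth.Agent.KFlatLib.Scheme.RpushQCoh
import Mathlib.Algebra.Homology.DerivedCategory.DerivabilityStructureInjectives
import Mathlib.Algebra.Homology.HomologySequence

/-!
# `RSheafHom` from pseudo-coherent objects into bounded below ones
-/

set_option linter.style.haveILetI false
set_option backward.isDefEq.respectTransparency false

universe u

open CategoryTheory CategoryTheory.Limits CategoryTheory.Pretriangulated AlgebraicGeometry TopologicalSpace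

attribute [local instance] HasDerivedCategory.standard

namespace Groth.Agent.KFlatLib

variable {X : Scheme.{u}}

/-- Low degree cohomology of `iHom` of complexes bounded above and below vanishes. -/
theorem isZero_homology_iHom (C J : CochainComplex X.Modules ℤ) (c a : ℤ) [C.IsStrictlyLE c]
    [J.IsStrictlyGE a] (k : ℤ) (hk : k + c < a) : IsZero (((iHom C).obj J).homology k) := by
  let A := (iHom C).obj J
  have hA : IsZero (A.cycles k) := by
    let g : (HomologicalComplex.single X.Modules (ComplexShape.up ℤ) k).obj (A.cycles k) ⟶ A :=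
      HomologicalComplex.mkHomFromSingle (A.iCycles k) (fun i _ => A.iCycles_d k i)
    have hg : g = 0 := by
      refine ((iHomAdj C).homEquiv _ _).symm.injective
        (HomologicalComplex.hom_ext _ _ fun n => ?_)
      by_cases hn : n < a
      · exact (J.isZero_of_isStrictlyGE a n hn).eq_of_tgt _ _
      · refine HomologicalComplex.mapBifunctor.hom_ext (fun p q h => ?_)
        change p + q = n at h
        refine IsZero.eq_of_src ?_ _ _
        by_cases hp : p = k
        · exact Functor.map_isZero _ (C.isZero_of_isStrictlyLE c q (by omega))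
        · exact Functor.map_isZero ((DCoh.tensorBi (X := X)).flip.obj (C.X q))
            (HomologicalComplex.isZero_single_obj_X _ _ _ _ hp)
    have h := congrArg (fun φ : _ ⟶ A => φ.f k) hg
    simp only [g, HomologicalComplex.mkHomFromSingle_f, HomologicalComplex.zero_f] at h
    rw [IsZero.iff_id_eq_zero, ← cancel_mono (A.iCycles k), Category.id_comp, zero_comp,
      ← cancel_epi (HomologicalComplex.singleObjXSelf (ComplexShape.up ℤ) k (A.cycles k)).hom,
      comp_zero]
    exact h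
  exact IsZero.of_epi (A.homologyπ k) hA

/-- A map with a highly connected cone induces isomorphisms on low cohomology of `iHom`. -/
theorem nonempty_homology_iHom_iso {E B : CochainComplex X.Modules ℤ} (φ : E ⟶ B) (m : ℤ)
    (hφ : ∀ k, m ≤ k → IsZero ((CochainComplex.mappingCone φ).homology k))
    (J : CochainComplex X.Modules ℤ) [J.IsKInjective] [∀ n, Injective (J.X n)] (a : ℤ)
    [J.IsStrictlyGE a] (i : ℤ) (hi : i + 1 + (m - 1) < a) :
    Nonempty (((iHom B).obj J).homology i ≅ ((iHom (E⟦(1 : ℤ)⟧)).obj J).homology (i + 1)) := by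
  let C := CochainComplex.mappingCone φ
  haveI : C.IsLE (m - 1) := by
    rw [CochainComplex.isLE_iff]
    exact fun k hk => (C.exactAt_iff_isZero_homology k).2 (hφ k (by omega))
  haveI := quasiIso_iHomMap (C.ιTruncLE (m - 1)) J
  have hz : ∀ k, k + (m - 1) < a → IsZero (((iHom C).obj J).homology k) := fun k hk =>
    (isZero_homology_iHom (C.truncLE (m - 1)) J (m - 1) a k hk).of_iso
      (asIso (HomologicalComplex.homologyMap ((iHomMap (C.ιTruncLE (m - 1))).app J) k))
  obtain ⟨hw, hse⟩ := Inner.innerHom_shortExact (DCoh.tensorBi (X := X)) (coneSeq φ)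
    (fun n => ⟨coneSeqSplitting φ n⟩) J
  haveI := hse.isIso_δ i (i + 1) rfl (hz i (by omega)) (hz (i + 1) (by omega))
  exact ⟨asIso (hse.δ i (i + 1) rfl)⟩

/-- The cohomology of `RHom` from a pseudo-coherent object is locally that of an object built
from shifts of the target by finitely many triangles. -/
theorem exists_local_model (K : CochainComplex X.Modules ℤ) [DCoh.HasLTensorCx K]
    [DCoh.HasRSheafHom K] (L : DCoh.D X) (a : ℤ) [L.IsGE a] (i : ℤ)
    (hK : DCoh.IsPseudoCoherentD (a - i - 1) (DCoh.toD X K)) (x : X) :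
    ∃ (U : Scheme.{u}) (j : U ⟶ X) (_ : IsOpenImmersion j), x ∈ Set.range j.base ∧
      ∀ (Φ : ObjectProperty (DCoh.D U)) [Φ.IsClosedUnderIsomorphisms],
        (∀ C, IsZero C → Φ C) →
        (∀ T, T ∈ distinguishedTriangles → Φ T.obj₁ → Φ T.obj₃ → Φ T.obj₂) →
        (∀ n : ℤ, Φ (((rho j).obj L)⟦n⟧)) →
        ∃ Z : DCoh.D U, Φ Z ∧ Nonempty (DCoh.HD Z (i + 1) ≅
          DCoh.HD ((rho j).obj ((DCoh.RSheafHom K).obj L)) i) := by
  obtain ⟨L₀, _, ⟨eL₀⟩⟩ := DerivedCategory.exists_iso_Q_obj_of_isGE L a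
  obtain ⟨I, f, hf, hinj, hge⟩ := CochainComplex.Plus.modelCategoryQuillen.exists_quasiIso_injective L₀ a
  haveI : I.IsKInjective := CochainComplex.isKInjective_of_injective I a
  haveI := isIso_Q_map f hf
  let eL : L ≅ DerivedCategory.Q.obj I := eL₀ ≪≫ asIso (DerivedCategory.Q.map f)
  obtain ⟨e⟩ := nonempty_RSheafHom_iso K I
  obtain ⟨V, hxV, hV⟩ := hK x
  obtain ⟨E, α, hE, hα⟩ := hV K ⟨Iso.refl _⟩
  obtain ⟨W, hxW, hW⟩ := exists_free_nhd_sp hE ⟨x, hxV⟩
  refine ⟨W, W.ι ≫ V.ι, inferInstance, ⟨⟨⟨x, hxV⟩, hxW⟩, rfl⟩, fun Φ _ h0 h2 hΦ => ?_⟩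
  let j := W.ι ≫ V.ι
  let J := (rCx j).obj I
  let P := (rCx W.ι).obj E
  haveI : J.IsKInjective := isKInjective_rCx j I
  haveI : ∀ n, Injective (J.X n) := injective_rCx j I
  haveI : J.IsStrictlyGE a := by
    rw [CochainComplex.isStrictlyGE_iff]
    exact fun n hn => Functor.map_isZero (Scheme.Modules.restrictFunctor j) (I.isZero_of_isStrictlyGE a n hn)
  obtain ⟨B, s, hB, hs⟩ := exists_kInjective_res ((rCx j).obj K)
  haveI := isIso_Q_map s hs
  let eK : (rho W.ι).obj (DerivedCategory.Q.obj ((DCoh.restrictCx V).obj K)) ≅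
      DerivedCategory.Q.obj B :=
    (rho W.ι).mapIso ((rhoQ V.ι).app K).symm ≪≫ rhoComp W.ι V.ι j rfl _ ≪≫ (rhoQ j).app K ≪≫
      asIso (DerivedCategory.Q.map s)
  obtain ⟨φ, hφ⟩ := exists_Q_map (((rhoQ W.ι).app E).inv ≫ (rho W.ι).map α ≫ eK.hom)
  have hpc : IsPcMap (a - i - 1) (DerivedCategory.Q.map φ) :=
    hφ ▸ (IsPcMap.map_exact (Scheme.Modules.restrictFunctor W.ι) hα).comp_iso _ _
  obtain ⟨e₁⟩ := nonempty_rho_iHom j K I
  obtain ⟨e₂⟩ := nonempty_iHom_iso_of_iso (asIso (DerivedCategory.Q.map s)) J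
  obtain ⟨e₃⟩ := nonempty_homology_iHom_iso φ (a - i - 1)
    ((isPcMap_iff_cone _ φ).1 hpc) J a i (by omega)
  obtain ⟨c, d, hcd⟩ := hE.1
  refine ⟨DerivedCategory.Q.obj ((iHom (P⟦(1 : ℤ)⟧)).obj J),
    iHom_devissage Φ h0 h2 J (fun n => ?_) (c - 1) ((d + 1 - c).toNat) _
      (fun k hk => Functor.map_isZero (Scheme.Modules.restrictFunctor W.ι) (hcd (k + 1) (by omega)))
      (fun k => hW (k + 1)), ?_⟩
  · exact Φ.prop_of_iso ((shiftFunctor (DCoh.D (W : Scheme.{u})) n).mapIso
      ((rho j).mapIso eL ≪≫ (rhoQ j).app I) ≪≫ ((DerivedCategory.Q.commShiftIso n).app J).symm) (hΦ n)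
  · exact ⟨(DerivedCategory.homologyFunctorFactors _ (i + 1)).app _ ≪≫ e₃.symm ≪≫
      ((DerivedCategory.homologyFunctorFactors _ i).app _).symm ≪≫
      (DerivedCategory.homologyFunctor _ i).mapIso ((e₁ ≪≫ e₂).symm ≪≫
        (rho j).mapIso ((DCoh.RSheafHom K).mapIso eL ≪≫ e).symm)⟩

/-- Quasi-coherence of a single cohomology module of `RHom`. -/
theorem isQCoh_HD_RSheafHom (K : CochainComplex X.Modules ℤ) [DCoh.HasLTensorCx K]
    [DCoh.HasRSheafHom K] (L : DCoh.D X) (hL : DCoh.IsQCohD L) (a : ℤ) [L.IsGE a] (i : ℤ)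
    (hK : DCoh.IsPseudoCoherentD (a - i - 1) (DCoh.toD X K)) :
    Coh.IsQCoh (DCoh.HD ((DCoh.RSheafHom K).obj L) i) := by
  refine isQCoh_HD_of_local _ i fun x => ?_
  obtain ⟨U, j, hj, hx, h⟩ := exists_local_model K L a i hK x
  haveI : (DCoh.IsQCohD (X := U)).IsClosedUnderIsomorphisms := ⟨isQCohD_of_iso⟩
  obtain ⟨Z, hZ, ⟨e⟩⟩ := h DCoh.IsQCohD (fun C hC i => isQCoh_of_isZero (Functor.map_isZero _ hC))
    (fun T hT h₁ h₃ => isQCohD_obj₂ hT h₁ h₃) fun n => isQCohD_shift (isQCohD_rho j hL) n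
  exact ⟨U, j, hj, hx, isQCoh_of_iso e (hZ (i + 1))⟩

/-- `RHom` from a pseudo-coherent object to a bounded below one with quasi-coherent cohomology. -/
theorem isQCohD_RSheafHom_of_pseudoCoherent (K : CochainComplex X.Modules ℤ)
    (hK : ∀ m : ℤ, DCoh.IsPseudoCoherentD m (DCoh.toD X K)) [DCoh.HasLTensorCx K]
    [DCoh.HasRSheafHom K] (L : DCoh.D X) (hL : DCoh.IsQCohD L) (a : ℤ) [L.IsGE a] :
    DCoh.IsQCohD ((DCoh.RSheafHom K).obj L) := fun i => isQCoh_HD_RSheafHom K L hL a i (hK _)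

/-- Bounded-above into bounded-below gives bounded-below `RHom`. -/
theorem isGE_RSheafHom (K : CochainComplex X.Modules ℤ) [DCoh.HasLTensorCx K] [DCoh.HasRSheafHom K]
    (b : ℤ) [(DCoh.toD X K).IsLE b] (L : DCoh.D X) (a : ℤ) [L.IsGE a] :
    ((DCoh.RSheafHom K).obj L).IsGE (a - b) := by
  obtain ⟨L₀, _, ⟨eL₀⟩⟩ := DerivedCategory.exists_iso_Q_obj_of_isGE L a
  obtain ⟨I, f, hf, hinj, hge⟩ := CochainComplex.Plus.modelCategoryQuillen.exists_quasiIso_injective L₀ a
  haveI : I.IsKInjective := CochainComplex.isKInjective_of_injective I a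
  haveI := isIso_Q_map f hf
  obtain ⟨e⟩ := nonempty_RSheafHom_iso K I
  haveI : CochainComplex.IsLE K b := (DerivedCategory.isLE_Q_obj_iff K b).1 inferInstance
  haveI : QuasiIso (K.ιTruncLE b) := (K.quasiIso_ιTruncLE_iff b).2 inferInstance
  haveI := quasiIso_iHomMap (K.ιTruncLE b) I
  rw [DerivedCategory.isGE_iff]
  intro k hk
  exact (isZero_homology_iHom (K.truncLE b) I b a k (by omega)).of_iso
    ((DerivedCategory.homologyFunctor X.Modules k).mapIso
        ((DCoh.RSheafHom K).mapIso (eL₀ ≪≫ asIso (DerivedCategory.Q.map f)) ≪≫ e) ≪≫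
      (DerivedCategory.homologyFunctorFactors X.Modules k).app _ ≪≫
      asIso (HomologicalComplex.homologyMap ((iHomMap (K.ιTruncLE b)).app I) k))

end Groth.Agent.KFlatLib
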