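import Groth.Agent.KFlatLib.Scheme.TorAmpPush
import Groth.Agent.KFlatLib.Scheme.RpushCoherent

/-!
# Perfect objects and proper flat morphisms over noetherian bases
-/

set_option linter.style.haveILetI false
set_option backward.isDefEq.respectTransparency false

universe u

open CategoryTheory CategoryTheory.Limits AlgebraicGeometry CategoryTheory.Pretriangulated

attribute [local instance] HasDerivedCategory.standard

namespace Groth.Agent.KFlatLib

variable {X Y : Scheme.{u}} (f : X ⟶ Y)

/-- Closed subsets of a scheme proper over the base are proper over the base. -/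
lemma isProperOver_of_isProper [IsProper f] {Z : Set X} (hZ : IsClosed Z) : ClSub.IsProperOver f Z := by
  haveI : IsProper ((𝟙 X) ≫ f) := by rw [Category.id_comp]; infer_instance
  exact QCoh.isProperOver_of_subset (f := f) (𝟙 X) hZ (by simp)

variable [IsNoetherian Y] [IsProper f]

/-- Coherent modules on a scheme proper over a noetherian base have proper support. -/
lemma properCoh_of_isCoh {M : X.Modules} (h : Coh.IsCoh M) : ProperCoh f M :=
  ⟨h, isProperOver_of_isProper f (QCoh.isClosed_support_of_isFT h.1 h.2)⟩

variable [DCoh.HasRpush f]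

/-- `Rf_*` of a bounded coherent object with finite tor amplitude over the base is perfect. -/
theorem locSP_rpush_of_torAmplitude (E : DCoh.D X) (c d : ℤ) [E.IsGE c] [E.IsLE d] (hE : DCoh.IsCohD E)
    (a b : ℤ) [Flat f]
    (hamp : ∀ (F : Y.Modules), Coh.IsQCoh F → ∀ [DCoh.HasLTensorMod ((Scheme.Modules.pullback f).obj F)]
      (i : ℤ), (i < a ∨ b < i) →
        IsZero (DCoh.HD ((DCoh.LTensorMod ((Scheme.Modules.pullback f).obj F)).obj E) i)) :
    LocSP ((DCoh.Rpush f).obj E) := by
  haveI : IsLocallyNoetherian X := LocallyOfFiniteType.isLocallyNoetherian f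
  haveI : HasInjectiveResolutions X.Modules := hasInjectiveResolutions_modules
  obtain ⟨n, hn⟩ := exists_Rpush_bound f
  have hamp' := torAmplitude_rpush f n (fun M hM p hp => hn M hM p hp.le) E (isCohD_isQCohD hE) a b hamp
  obtain ⟨hcoh, hbd⟩ := rpush_coherent_bounded f (d - c).toNat c E inferInstance
    (DerivedCategory.TStructure.t.isLE_of_le E d _ (by omega)) (fun i => properCoh_of_isCoh f (hE i))
  obtain ⟨b', hb'⟩ := hbd inferInstance
  refine locSP_of_flat_pc (le_max_left a (b + n))
    (flatAmplitude_mono (flatAmplitude_of_torAmplitude hasLTensorMod (le_max_left a (b + n))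
      (fun G _ i hi => hamp' G i (by omega))) le_rfl le_rfl) ?_
  exact locPC_of_coh (isCohD_isQCohD hcoh) (fun i _ => hcoh i) b' hb'

/-- `Rf_*` of a perfect object is perfect for proper flat `f` over a noetherian base. -/
theorem locSP_rpush [Flat f] {E : DCoh.D X} (hE : LocSP E) : LocSP ((DCoh.Rpush f).obj E) := by
  haveI : IsLocallyNoetherian X := LocallyOfFiniteType.isLocallyNoetherian f
  haveI : CompactSpace X := QuasiCompact.compactSpace_of_compactSpace f
  obtain ⟨a, b, hab⟩ := exists_torAmplitude_of_locSP hE
  obtain ⟨d, hd⟩ := exists_bound_of_locPC (hE.locPC 0)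
  obtain ⟨c, hc⟩ := exists_lower_bound_of_locSP hE
  haveI : E.IsLE d := (DerivedCategory.isLE_iff _ _).2 hd
  haveI : E.IsGE c := (DerivedCategory.isGE_iff _ _).2 hc
  have hq : DCoh.IsQCohD E := fun i => isQCoh_HD_of_pseudoCoherent ((isPseudoCoherentD_iff (i - 1) E).2 (hE.locPC _)) i (by omega)
  exact locSP_rpush_of_torAmplitude f E c d (fun i => isCoh_of_locPC hq (hE.locPC i) i le_rfl) a b
    fun _ _ _ i hi => hab _ i hi

end Groth.Agent.KFlatLib
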