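import Groth.Agent.KFlatLib.Scheme.SupportRightAdj
import Groth.Agent.KFlatLib.Scheme.PerfectLift
import Groth.Agent.KFlatLib.Scheme.RHomBounded
import Groth.Agent.KFlatLib.Scheme.RpushPerfect

/-!
# The right adjoint of `Rf_*` preserves supports
-/

set_option linter.style.haveILetI false
set_option backward.isDefEq.respectTransparency false

universe u

open CategoryTheory CategoryTheory.Limits AlgebraicGeometry Pretriangulated TopologicalSpace

attribute [local instance] HasDerivedCategory.standard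

namespace Groth.Agent.KFlatLib.SupportAdj

variable {X Y : Scheme.{u}}

/-- All cohomology sheaves vanishing on an open means the restriction vanishes. -/
lemma isZero_rho_of_restrict (E : DCoh.D X) (U : X.Opens)
    (h : ∀ i : ℤ, IsZero ((DCoh.HD E i).restrict U.ι)) : IsZero ((rho U.ι).obj E) := by
  refine Generator.isZero_of_subsingleton_stalk fun i z => ?_
  exact ModuleCat.subsingleton_of_isZero ((DerSch.stalkFunctor _ z).map_isZero
    ((h i).of_iso (restrictHDIso U.ι E i)))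

/-- The converse. -/
lemma isZero_restrict_of_rho (E : DCoh.D X) (U : X.Opens) (h : IsZero ((rho U.ι).obj E)) (i : ℤ) :
    IsZero ((DCoh.HD E i).restrict U.ι) :=
  ((DerivedCategory.homologyFunctor _ i).map_isZero h).of_iso (restrictHDIso U.ι E i).symm

/-- A right adjoint of `Rf_*` kills `f⁻¹V` at objects vanishing on `V`, if sheaf `RHom` out of direct images
of perfect objects into such an object stays quasi-coherent. -/
theorem isZero_rho_rightAdjoint [CompactSpace X] [QuasiSeparatedSpace X] (f : X ⟶ Y) [QuasiCompact f]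
    [QuasiSeparated f] [DCoh.HasRpush f]
    (h : ∀ K : DCoh.D X, DCoh.IsQCohD K → DCoh.IsQCohD ((DCoh.Rpush f).obj K))
    (a : DCoh.DQCoh Y ⥤ DCoh.DQCoh X)
    (adj : (ObjectProperty.lift DCoh.IsQCohD (ObjectProperty.ι DCoh.IsQCohD ⋙ DCoh.Rpush f)
      (fun K => h K.obj K.property)) ⊣ a)
    (V : Y.Opens) (hU : IsCompact ((f ⁻¹ᵁ V : X.Opens) : Set X)) (Q : DCoh.DQCoh Y)
    (hQV : IsZero ((rho V.ι).obj Q.obj))
    (hN : ∀ (E : DCoh.D X), LocSP E → ∀ (P J : CochainComplex Y.Modules ℤ), DCoh.IsKFlat P →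
      J.IsKInjective → (∀ n, Injective (J.X n)) →
      Nonempty (DerivedCategory.Q.obj P ≅ (DCoh.Rpush f).obj E) →
      Nonempty (Q.obj ≅ DerivedCategory.Q.obj J) →
      DCoh.IsQCohD (DerivedCategory.Q.obj ((iHom P).obj J))) :
    IsZero ((rho (f ⁻¹ᵁ V).ι).obj (a.obj Q).obj) := by
  haveI : CompactSpace (f ⁻¹ᵁ V : X.Opens) := isCompact_iff_compactSpace.1 hU
  haveI : QuasiSeparatedSpace (f ⁻¹ᵁ V : X.Opens) := quasiSeparatedSpace_of_quasiSeparated (f ⁻¹ᵁ V).ι
  obtain ⟨G, hG, hgen⟩ := Generator.exists_gen (f ⁻¹ᵁ V : X.Opens).toScheme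
  refine hgen _ (isQCohD_rho _ (a.obj Q).property) fun n φ => ?_
  obtain ⟨R, β, i, p, hR, -, -, hiβ⟩ := PerfectLift.exists_lift (f ⁻¹ᵁ V) hU Set.univ isClosed_univ
    (by simp) (a.obj Q).property (G⟦n⟧) (hG.shift n)
    (fun Z k _ hk => Generator.isZero_of_subsingleton_stalk fun m z => absurd (Set.mem_univ _) (hk z)) φ
  let E : DCoh.DQCoh X := ⟨R, AffineLift.isQCohD_of_locSP hR⟩
  have h0 := rho_map_eq_zero f h a adj V Q hQV E (ObjectProperty.homMk β) (hN R hR)
  rw [← hiβ, show (rho (f ⁻¹ᵁ V).ι).map β = 0 from h0, comp_zero]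

/-- Direct images of perfect objects along proper maps to noetherian schemes are pseudo-coherent. -/
lemma locPC_rpush_of_locSP (f : X ⟶ Y) [IsNoetherian Y] [IsProper f] [DCoh.HasRpush f] {E : DCoh.D X}
    (hE : LocSP E) (m : ℤ) : LocPC m ((DCoh.Rpush f).obj E) := by
  haveI : IsLocallyNoetherian X := LocallyOfFiniteType.isLocallyNoetherian f
  haveI : CompactSpace X := QuasiCompact.compactSpace_of_compactSpace f
  haveI : HasInjectiveResolutions X.Modules := hasInjectiveResolutions_modules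
  obtain ⟨d, hd⟩ := exists_bound_of_locPC (hE.locPC 0)
  obtain ⟨c, hc⟩ := exists_lower_bound_of_locSP hE
  haveI : E.IsLE d := (DerivedCategory.isLE_iff _ _).2 hd
  haveI : E.IsGE c := (DerivedCategory.isGE_iff _ _).2 hc
  have hq : DCoh.IsQCohD E := AffineLift.isQCohD_of_locSP hE
  obtain ⟨hcoh, hbd⟩ := rpush_coherent_bounded f (d - c).toNat c E inferInstance
    (DerivedCategory.TStructure.t.isLE_of_le E d _ (by omega))
    (fun i => properCoh_of_isCoh f (isCoh_of_locPC hq (hE.locPC i) i le_rfl))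
  obtain ⟨b', hb'⟩ := hbd inferInstance
  exact locPC_of_coh (isCohD_isQCohD hcoh) (fun i _ => hcoh i) b' hb'

/-- `RHom` from a pseudo-coherent K-flat complex into a bounded below one. -/
lemma isQCohD_iHom_of_locPC {P J : CochainComplex Y.Modules ℤ} (hP : DCoh.IsKFlat P) [J.IsKInjective]
    [∀ n, Injective (J.X n)] (hpc : ∀ m, LocPC m (DerivedCategory.Q.obj P)) {L : DCoh.D Y}
    (hL : DCoh.IsQCohD L) (e : L ≅ DerivedCategory.Q.obj J) (c : ℤ) [L.IsGE c] :
    DCoh.IsQCohD (DerivedCategory.Q.obj ((iHom P).obj J)) := by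
  haveI := hasLTensorCx P
  haveI := hasRSheafHom_of_isKFlat P hP
  obtain ⟨e'⟩ := nonempty_RSheafHom_iso_of_isKFlat P hP J
  exact isQCohD_of_iso ((DCoh.RSheafHom P).mapIso e ≪≫ e')
    (isQCohD_RSheafHom_of_pseudoCoherent P (fun m => (isPseudoCoherentD_iff m _).2 (hpc m)) L hL c)

/-- `RHom` from a perfect K-flat complex. -/
lemma isQCohD_iHom_of_locSP {P J : CochainComplex Y.Modules ℤ} (hP : DCoh.IsKFlat P) [J.IsKInjective]
    [∀ n, Injective (J.X n)] (hp : LocSP (DerivedCategory.Q.obj P)) {L : DCoh.D Y}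
    (hL : DCoh.IsQCohD L) (e : L ≅ DerivedCategory.Q.obj J) :
    DCoh.IsQCohD (DerivedCategory.Q.obj ((iHom P).obj J)) := by
  haveI := hasLTensorCx P
  haveI := hasRSheafHom_of_isKFlat P hP
  obtain ⟨e'⟩ := nonempty_RSheafHom_iso_of_isKFlat P hP J
  exact isQCohD_of_iso ((DCoh.RSheafHom P).mapIso e ≪≫ e')
    (isQCohD_RSheafHom_of_isPerfect P ((isPerfect_iff _).2 hp) L hL)

end Groth.Agent.KFlatLib.SupportAdj
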