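import Groth.Prelude.Def_DerSch
import Groth.Agent.KFlatLib.Scheme.RelTensorAmp
import Groth.Agent.KFlatLib.Scheme.RelTor
import Groth.Agent.KFlatLib.ModuleFlat

/-!
# Stalkwise tor amplitude over the base
-/

set_option linter.style.haveILetI false
set_option backward.isDefEq.respectTransparency false

universe u

open CategoryTheory CategoryTheory.Limits AlgebraicGeometry MonoidalCategory

attribute [local instance] HasDerivedCategory.standard

namespace Groth.Agent.KFlatLib

/-- Over a ring: tensoring a complex of tor amplitude `[a, b]` with a flat resolution of a module. -/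
lemma isZero_homology_tensor_of_torAmp {A : Type u} [CommRing A] (N : DRing.Cx A) (a b : ℤ)
    (hN : DRing.HasTorAmplitudeIn A a b (DRing.toD N)) (M : ModuleCat.{u} A) (P : DRing.Cx A)
    (hP : KFlat (curriedTensor (ModuleCat.{u} A)) P)
    (g : P ⟶ (HomologicalComplex.single (ModuleCat.{u} A) (ComplexShape.up ℤ) 0).obj M) [QuasiIso g]
    (i : ℤ) (hi : i < a ∨ b < i) :
    IsZero ((((curriedTensor (ModuleCat.{u} A)).map₂CochainComplex.obj N).obj P).homology i) := by
  obtain ⟨F, hv, hfl, ⟨e⟩⟩ := hN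
  have hF : KFlat (curriedTensor (ModuleCat.{u} A)) F :=
    kFlat_of_termwiseFlat hfl (b := b) fun j hj => hv j (Or.inr hj)
  obtain ⟨Z, s, hs, t, ht⟩ := DerivedCategory.right_fac (C := ModuleCat.{u} A) (X := F) (Y := N) e.hom
  haveI : IsIso (DerivedCategory.Q.map s) := hs
  haveI : IsIso (DerivedCategory.Q.map t) := by
    have h : DerivedCategory.Q.map t = DerivedCategory.Q.map s ≫ e.hom := by
      rw [ht, IsIso.hom_inv_id_assoc]
    rw [h]
    infer_instance
  haveI : QuasiIso s := (DerivedCategory.isIso_Q_map_iff_quasiIso _ _).1 inferInstance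
  haveI : QuasiIso t := (DerivedCategory.isIso_Q_map_iff_quasiIso _ _).1 inferInstance
  let T := curriedTensor (ModuleCat.{u} A)
  haveI : QuasiIso ((T.map₂CochainComplex.map s).app P) := hP.quasiIso_map s
  haveI : QuasiIso ((T.map₂CochainComplex.map t).app P) := hP.quasiIso_map t
  haveI : QuasiIso ((T.map₂CochainComplex.obj F).map g) := quasiIso_tensorHom_id g hF
  refine IsZero.of_iso ?_ ((isoOfQuasiIsoAt ((T.map₂CochainComplex.map t).app P) i).symm ≪≫
    isoOfQuasiIsoAt ((T.map₂CochainComplex.map s).app P) i ≪≫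
    isoOfQuasiIsoAt ((T.map₂CochainComplex.obj F).map g) i ≪≫
    (HomologicalComplex.homologyFunctor _ _ i).mapIso ((singleIso T M).app F))
  exact ShortComplex.isZero_homology_of_isZero_X₂ _ ((T.flip.obj M).map_isZero (hv i hi))

variable {X Y : Scheme.{u}} (f : X ⟶ Y)

/-- The stalks over the base of a tensor product with a pullback. -/
lemma nonempty_stalkOver_tensor_pull (E : CochainComplex X.Modules ℤ) (P : CochainComplex Y.Modules ℤ) (x : X) :
    Nonempty ((DerSch.stalkCxOver f x).obj ((DCoh.tensorCx.obj E).obj ((pullCx f).obj P)) ≅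
      ((curriedTensor (ModuleCat.{u} (Y.presheaf.stalk (f.base x)))).map₂CochainComplex.obj
        ((DerSch.stalkCxOver f x).obj E)).obj ((stalkCx (f.base x)).obj P)) := by
  let φ := (f.stalkMap x).hom
  let L := (stalkCx x).obj E
  let K := (stalkCx (f.base x)).obj P
  let T := curriedTensor (ModuleCat.{u} (X.presheaf.stalk x))
  let res := (ModuleCat.restrictScalars φ).mapHomologicalComplex (ComplexShape.up ℤ)
  have e₀ : (stalkCx x).obj ((DCoh.tensorCx.obj E).obj ((pullCx f).obj P)) ≅
      (T.map₂CochainComplex.obj L).obj (((ModuleCat.extendScalars φ).mapHomologicalComplex (ComplexShape.up ℤ)).obj K) :=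
    (stalkTensorCxIso x E ((pullCx f).obj P)).symm ≪≫ (T.map₂CochainComplex.obj L).mapIso (stalkPullCxIso f x P)
  have e₁ : (T.map₂CochainComplex.obj (((𝟭 _ : ModuleCat.{u} (X.presheaf.stalk x) ⥤ _).mapHomologicalComplex
        (ComplexShape.up ℤ)).obj L)).obj (((ModuleCat.extendScalars φ).mapHomologicalComplex (ComplexShape.up ℤ)).obj K) ≅
      ((𝟭 _ : ModuleCat.{u} (X.presheaf.stalk x) ⥤ _).mapHomologicalComplex (ComplexShape.up ℤ)).obj
        (((extT φ).map₂CochainComplex.obj L).obj K) :=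
    totalMapIso (Φ₁ := 𝟭 _) (Φ₂ := ModuleCat.extendScalars φ) (Ψ := 𝟭 _) (T := extT φ) (T' := T)
      (Iso.refl _) L K
  have e₂ := totalMapIso (extTIso φ) L K
  let u₁ : (T.map₂CochainComplex.obj L).obj
        (((ModuleCat.extendScalars φ).mapHomologicalComplex (ComplexShape.up ℤ)).obj K) ≅
      ((extT φ).map₂CochainComplex.obj L).obj K :=
    ((T.map₂CochainComplex.mapIso
      ((Functor.mapHomologicalComplexIdIso _ (ComplexShape.up ℤ)).app L)).app _).symm ≪≫ e₁ ≪≫
      (Functor.mapHomologicalComplexIdIso _ (ComplexShape.up ℤ)).app _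
  let u₂ : (DerSch.stalkCxOver f x).obj ((DCoh.tensorCx.obj E).obj ((pullCx f).obj P)) ≅
      res.obj ((stalkCx x).obj ((DCoh.tensorCx.obj E).obj ((pullCx f).obj P))) :=
    ((Functor.mapHomologicalComplexCompIso (F := DerSch.stalkFunctor X x) (G := ModuleCat.restrictScalars φ)
      (Iso.refl (DerSch.stalkOver f x)) (ComplexShape.up ℤ)).app _).symm
  let u₃ : res.obj L ≅ (DerSch.stalkCxOver f x).obj E :=
    (Functor.mapHomologicalComplexCompIso (F := DerSch.stalkFunctor X x) (G := ModuleCat.restrictScalars φ)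
      (Iso.refl (DerSch.stalkOver f x)) (ComplexShape.up ℤ)).app E
  let R := curriedTensor (ModuleCat.{u} (Y.presheaf.stalk (f.base x)))
  exact ⟨u₂ ≪≫ res.mapIso (e₀ ≪≫ u₁) ≪≫ e₂.symm ≪≫
    (R.map₂CochainComplex.obj (res.obj L)).mapIso ((Functor.mapHomologicalComplexIdIso _ _).app K) ≪≫
    (R.map₂CochainComplex.mapIso u₃).app K⟩

/-- Derived tensor product of an object of stalkwise tor amplitude `[a, b]` over the base with a pullback. -/
theorem isZero_hd_ltensor_lpull_stalk [DCoh.HasLpull f] {E : CochainComplex X.Modules ℤ} {a b : ℤ}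
    (hE : DerSch.HasTorAmplitude f a b E) (F : Y.Modules) (M : CochainComplex X.Modules ℤ)
    (eM : DerivedCategory.Q.obj M ≅ (DCoh.Lpull f).obj (DCoh.inD Y F)) [DCoh.HasLTensorCx M]
    (i : ℤ) (hi : i < a ∨ b < i) :
    IsZero (DCoh.HD ((DCoh.LTensorCx M).obj (DCoh.toD X E)) i) := by
  let S := (HomologicalComplex.single Y.Modules (ComplexShape.up ℤ) 0).obj F
  let P := (kRes Y).obj S
  haveI := (flatCover Y).quasiIso_ψ S
  haveI := isIso_Q_map ((flatCover Y).ψ.app S) inferInstance
  let C := (pullCx f).obj P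
  have hC : DCoh.IsKFlat C := isKFlat_pullback f (isKFlat_kRes S)
  haveI := hasLTensorCx C
  let eC : DerivedCategory.Q.obj C ≅ (DCoh.Lpull f).obj (DCoh.inD Y F) :=
    (lpullIso f (isKFlat_kRes S)).symm ≪≫ (DCoh.Lpull f).mapIso
      (asIso (DerivedCategory.Q.map ((flatCover Y).ψ.app S)) ≪≫
        ((DerivedCategory.singleFunctorIsoCompQ Y.Modules 0).app F).symm)
  obtain ⟨c⟩ := nonempty_LTensorCx_congr_D (P := M) (E := C) (eM ≪≫ eC.symm)
  let R := (kRes X).obj E
  haveI := (flatCover X).quasiIso_ψ E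
  haveI := isIso_Q_map ((flatCover X).ψ.app E) inferInstance
  haveI : QuasiIso ((DCoh.tensorCx.obj C).map ((flatCover X).ψ.app E)) :=
    KFlat.quasiIso_map' (tensorBiFlipIso X) hC _
  haveI := isIso_Q_map ((DCoh.tensorCx.obj C).map ((flatCover X).ψ.app E)) inferInstance
  let e : (DCoh.LTensorCx M).obj (DCoh.toD X E) ≅ DerivedCategory.Q.obj ((DCoh.tensorCx.obj E).obj C) :=
    c.app _ ≪≫ (DCoh.LTensorCx C).mapIso
        (asIso (DerivedCategory.Q.map ((flatCover X).ψ.app E))).symm ≪≫
      ltensorCxIso C (isKFlat_kRes E) ≪≫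
      DerivedCategory.Q.mapIso ((symmIso (tensorBiFlipIso X) C).app R) ≪≫
      asIso (DerivedCategory.Q.map ((DCoh.tensorCx.obj C).map ((flatCover X).ψ.app E))) ≪≫
      DerivedCategory.Q.mapIso ((symmIso (tensorBiFlipIso X) C).app E).symm
  refine IsZero.of_iso ?_ ((DerivedCategory.homologyFunctor X.Modules i).mapIso e ≪≫
    (DerivedCategory.homologyFunctorFactors X.Modules i).app _)
  refine isZero_of_stalk _ fun x => ?_
  let y := f.base x
  obtain ⟨ex⟩ := nonempty_stalkOver_tensor_pull f E P x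
  haveI : QuasiIso ((stalkCx y).map ((flatCover Y).ψ.app S)) :=
    inferInstanceAs (QuasiIso (((DerSch.stalkFunctor Y y).mapHomologicalComplex (ComplexShape.up ℤ)).map _))
  let eS : (stalkCx y).obj ((𝟭 (CochainComplex Y.Modules ℤ)).obj S) ≅
      (HomologicalComplex.single (ModuleCat.{u} (Y.presheaf.stalk y)) (ComplexShape.up ℤ) 0).obj
        ((DerSch.stalkFunctor Y y).obj F) :=
    (HomologicalComplex.singleMapHomologicalComplex (DerSch.stalkFunctor Y y) _ 0).app F
  have hz := isZero_homology_tensor_of_torAmp ((DerSch.stalkCxOver f x).obj E) a b (hE x)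
    ((DerSch.stalkFunctor Y y).obj F) ((stalkCx y).obj P) ((kFlat_iff_stalk P).1 (isKFlat_kRes S) y)
    ((stalkCx y).map ((flatCover Y).ψ.app S) ≫ eS.hom) i hi
  have hz' := (hz.of_iso ((HomologicalComplex.homologyFunctor _ _ i).mapIso ex)).of_iso
    ((((DCoh.tensorCx.obj E).obj C).sc i).mapHomologyIso (DerSch.stalkOver f x)).symm
  haveI := ModuleCat.subsingleton_of_isZero hz'
  exact @ModuleCat.isZero_of_subsingleton _ _ _
    (this : Subsingleton ((DerSch.stalkFunctor X x).obj (((DCoh.tensorCx.obj E).obj C).homology i) : Type u))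

end Groth.Agent.KFlatLib
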