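import Groth.Agent.KFlatLib.Scheme.RpushUnbounded
import Groth.Agent.KFlatLib.Scheme.RGammaPush
import Groth.Agent.KFlatLib.Scheme.ProjAffineFlat
import Groth.Agent.KFlatLib.Scheme.AffineConservative
import Mathlib.Algebra.Homology.SingleHomology

/-!
# Complexes whose cohomology sheaves are computed by their sections

For a K-injective complex with quasi-coherent cohomology, and for the direct image of one, the
sections over an affine open of a cohomology sheaf are the cohomology of the sections.
-/

set_option linter.style.haveILetI false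
set_option backward.isDefEq.respectTransparency false

universe u

open CategoryTheory CategoryTheory.Limits AlgebraicGeometry Opposite

attribute [local instance] HasDerivedCategory.standard

namespace Groth.Agent.KFlatLib

variable {X Y : Scheme.{u}}

/-- Taking sections over `V` of `C` preserves its cohomology. -/
def SecBQ (C : CochainComplex X.Modules ℤ) (V : X.Opens) : Prop :=
  ∀ i : ℤ, Function.Surjective ((C.homologyπ i).app V) ∧
    ∀ c : Γ(C.cycles i, V), (C.homologyπ i).app V c = 0 →
      ∃ w : Γ(C.X (i - 1), V), (C.toCycles (i - 1) i).app V w = c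

/-- `Hom(j_! O_V[-i], L) = Γ(V, H^i L)` in `D(X)`. -/
theorem bijective_homology_map_single {V : X.Opens} (hV : IsAffineOpen V) {L : DCoh.D X}
    (hL : DCoh.IsQCohD L) (i : ℤ) :
    Function.Bijective (fun φ : DerivedCategory.Q.obj
        ((HomologicalComplex.single X.Modules (ComplexShape.up ℤ) i).obj (secObj V)) ⟶ L =>
      (DerivedCategory.homologyFunctor X.Modules i).map φ) := by
  let S := DerivedCategory.Q.obj
    ((HomologicalComplex.single X.Modules (ComplexShape.up ℤ) i).obj (secObj V))
  let H := DerivedCategory.homologyFunctor X.Modules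
  let u : DCoh.inD X (secObj V) ≅ S⟦i⟧ :=
    (((DerivedCategory.singleFunctors X.Modules).shiftIso i 0 i (by omega)).app (secObj V)).symm ≪≫
      (shiftFunctor (DCoh.D X) i).mapIso
        ((DerivedCategory.singleFunctorIsoCompQ X.Modules i).app (secObj V))
  let σ : shiftFunctor (DCoh.D X) i ⋙ H 0 ≅ H i := (H 0).shiftIso i 0 i (by omega)
  let a : secObj V ≅ (H i).obj S :=
    (h0Single (secObj V)).symm ≪≫ (H 0).mapIso u ≪≫ σ.app S
  have hF : (fun φ : S ⟶ L => (H i).map φ) =
      (fun x => a.inv ≫ x ≫ σ.hom.app L) ∘ psi V (L⟦i⟧) ∘ (fun φ : S ⟶ L => u.hom ≫ φ⟦i⟧') := by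
    funext φ
    have h1 : σ.inv.app S ≫ (H 0).map (φ⟦i⟧') ≫ σ.hom.app L = (H i).map φ :=
      (congrArg (σ.inv.app S ≫ ·) (σ.hom.naturality φ)).trans (σ.inv_hom_id_app_assoc S _)
    dsimp only [Function.comp_apply, psi, a, H]
    simp only [Functor.map_comp, Iso.trans_inv, Iso.symm_inv, Functor.mapIso_inv,
      Iso.app_inv, Category.assoc, Iso.hom_inv_id_assoc]
    refine h1.symm.trans (congrArg (σ.inv.app S ≫ ·) ?_)
    simp only [← Category.assoc]
    refine congrArg (· ≫ σ.hom.app L) ?_
    simp [← Functor.map_comp_assoc, H]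
  rw [hF]
  refine (Function.Bijective.comp ?_ ((bijH0_of_isQCohD (isQCohD_shift hL i) hV).comp ?_))
  · exact (Iso.homCongr a ((σ.app L) : _ ≅ _)).bijective
  · exact (Iso.homFromEquiv u.symm).bijective.comp
      (Functor.FullyFaithful.map_bijective (Functor.FullyFaithful.ofFullyFaithful
        (shiftFunctor (DCoh.D X) i)) _ _)

theorem secBQ_of_hom {C : CochainComplex X.Modules ℤ} {V : X.Opens} (hV : IsAffineOpen V)
    (hC : DCoh.IsQCohD (DerivedCategory.Q.obj C))
    (hQ : ∀ i : ℤ, Function.Bijective (DerivedCategory.Qh.map :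
      ((HomotopyCategory.quotient X.Modules (ComplexShape.up ℤ)).obj
          ((HomologicalComplex.single X.Modules (ComplexShape.up ℤ) i).obj (secObj V)) ⟶
        (HomotopyCategory.quotient X.Modules (ComplexShape.up ℤ)).obj C) → _)) :
    SecBQ C V := by
  rw [← V.ι_image_top]
  intro i
  let S := (HomologicalComplex.single X.Modules (ComplexShape.up ℤ) i).obj (secObj V)
  let q := HomotopyCategory.quotient X.Modules (ComplexShape.up ℤ)
  let ι := (HomologicalComplex.singleObjCyclesSelfIso (ComplexShape.up ℤ) i (secObj V)).inv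
  let ha := DerivedCategory.homologyFunctorFactors X.Modules i
  let hq := DerivedCategory.quotientCompQhIso X.Modules
  have hb := bijective_homology_map_single hV hC i
  have hn : ∀ φ : S ⟶ C, (DerivedCategory.homologyFunctor X.Modules i).map (DerivedCategory.Q.map φ) =
      ha.hom.app S ≫ HomologicalComplex.homologyMap φ i ≫ ha.inv.app C := fun φ => by
    refine Eq.trans ?_ (congrArg (ha.hom.app S ≫ ·) (ha.inv.naturality φ).symm)
    exact (ha.hom_inv_id_app_assoc S _).symm
  have hcls : ∀ φ : S ⟶ C, ι ≫ HomologicalComplex.cyclesMap φ i ≫ C.homologyπ i =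
      (HomologicalComplex.singleObjHomologySelfIso (ComplexShape.up ℤ) i (secObj V)).inv ≫
        HomologicalComplex.homologyMap φ i := fun φ => by
    rw [← HomologicalComplex.homologyπ_naturality, ← Category.assoc]
    exact congrArg (· ≫ HomologicalComplex.homologyMap φ i)
      (HomologicalComplex.singleObjCyclesSelfIso_inv_homologyπ _ _ _)
  refine ⟨fun y => ?_, fun c hc => ?_⟩
  · obtain ⟨φD, hφD⟩ := hb.2 (ha.hom.app S ≫
      (HomologicalComplex.singleObjHomologySelfIso (ComplexShape.up ℤ) i (secObj V)).hom ≫
        (secEquiv V _).symm y ≫ ha.inv.app C)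
    obtain ⟨φh, hφh⟩ := (hQ i).2 (hq.hom.app S ≫ φD ≫ hq.inv.app C)
    obtain ⟨φ, rfl⟩ := q.map_surjective φh
    have hφ : DerivedCategory.Q.map φ = φD := by
      have h := hq.hom.naturality φ
      dsimp only [Functor.comp_map] at h
      rw [hφh, Category.assoc, Category.assoc, hq.inv_hom_id_app] at h
      erw [Category.comp_id] at h
      exact ((cancel_epi (hq.hom.app S)).1 h).symm
    have hh := hn φ
    rw [hφ] at hh
    dsimp only at hφD
    rw [hh, cancel_epi (ha.hom.app S), ← Category.assoc, cancel_mono (ha.inv.app C)] at hφD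
    refine ⟨secEquiv V _ (ι ≫ HomologicalComplex.cyclesMap φ i), ?_⟩
    rw [← secEquiv_naturality, Category.assoc, hcls, hφD, Iso.inv_hom_id_assoc,
      Equiv.apply_symm_apply]
  · let cc := (secEquiv V (C.cycles i)).symm c
    have hcc : cc ≫ C.homologyπ i = 0 := by
      refine (secEquiv V _).injective ?_
      rw [secEquiv_naturality, Equiv.apply_symm_apply, hc]
      exact (secEquiv_zero V _).symm
    let φ : S ⟶ C := HomologicalComplex.mkHomFromSingle (cc ≫ C.iCycles i) (fun k _ => by simp)
    have hcyc : ι ≫ HomologicalComplex.cyclesMap φ i = cc := by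
      rw [← cancel_mono (C.iCycles i), Category.assoc, HomologicalComplex.cyclesMap_i,
        HomologicalComplex.singleObjCyclesSelfIso_inv_iCycles_assoc]
      simp [φ]
    have hz : HomologicalComplex.homologyMap φ i = 0 := by
      rw [← cancel_epi (HomologicalComplex.singleObjHomologySelfIso (ComplexShape.up ℤ) i (secObj V)).inv,
        ← hcls, ← Category.assoc, hcyc, hcc, comp_zero]
    have hD : DerivedCategory.Q.map φ = 0 := hb.1 (by
      dsimp only
      rw [hn, hz, zero_comp, comp_zero, Functor.map_zero])
    have hK : q.map φ = 0 := (hQ i).1 (by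
      have h := hq.hom.naturality φ
      dsimp only [Functor.comp_map] at h
      rw [hD, comp_zero] at h
      refine (cancel_mono (hq.hom.app C)).1 ?_
      rw [h, Functor.map_zero, zero_comp])
    let ho : Homotopy φ 0 := HomotopyCategory.homotopyOfEq φ 0 (hK.trans (q.map_zero _ _).symm)
    have hf := ho.comm i
    rw [dNext_eq ho.hom (show (ComplexShape.up ℤ).Rel i (i + 1) from rfl),
      prevD_eq ho.hom (show (ComplexShape.up ℤ).Rel (i - 1) i by simp),
      HomologicalComplex.single_obj_d, zero_comp, zero_add, HomologicalComplex.zero_f, add_zero] at hf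
    let ψ : secObj V ⟶ C.X (i - 1) :=
      (HomologicalComplex.singleObjXSelf (ComplexShape.up ℤ) i (secObj V)).inv ≫ ho.hom i (i - 1)
    have hψ : ψ ≫ C.toCycles (i - 1) i = cc := by
      rw [← cancel_mono (C.iCycles i), Category.assoc, HomologicalComplex.toCycles_i]
      simp only [ψ, Category.assoc]
      rw [← hf]
      simp [φ]
    refine ⟨secEquiv V _ ψ, ?_⟩
    rw [← secEquiv_naturality, hψ, Equiv.apply_symm_apply]

lemma isKFlat_single_secObj (V : X.Opens) (i : ℤ) :
    DCoh.IsKFlat ((HomologicalComplex.single X.Modules (ComplexShape.up ℤ) i).obj (secObj V)) := by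
  haveI : CochainComplex.IsStrictlyLE
      ((HomologicalComplex.single X.Modules (ComplexShape.up ℤ) i).obj (secObj V)) i :=
    (CochainComplex.isStrictlyLE_iff _ i).2
      fun j hj => HomologicalComplex.isZero_single_obj_X (ComplexShape.up ℤ) i _ j (by omega)
  exact isKFlat_of_isStrictlyLE _ i (isFlat_single i (isFlat_secObj V))

/-- Sections of a K-injective complex with quasi-coherent cohomology compute it on affines. -/
theorem secBQ_kInjective (I : CochainComplex X.Modules ℤ) [I.IsKInjective]
    (hI : DCoh.IsQCohD (DerivedCategory.Q.obj I)) {V : X.Opens} (hV : IsAffineOpen V) : SecBQ I V :=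
  secBQ_of_hom hV hI fun _ => CochainComplex.IsKInjective.Qh_map_bijective _ I

/-- Sections of the direct image of a K-injective complex compute its cohomology on affines. -/
theorem secBQ_pushforward (f : X ⟶ Y) [QuasiCompact f] [QuasiSeparated f]
    (I : CochainComplex X.Modules ℤ) [I.IsKInjective] (hI : DCoh.IsQCohD (DerivedCategory.Q.obj I))
    {V : Y.Opens} (hV : IsAffineOpen V) :
    SecBQ (((Scheme.Modules.pushforward f).mapHomologicalComplex (ComplexShape.up ℤ)).obj I) V := by
  haveI := hasRpush_scheme f
  obtain ⟨e⟩ := nonempty_rpush_iso_of_kInjective f (Iso.refl (DerivedCategory.Q.obj I))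
  refine secBQ_of_hom hV (isQCohD_of_iso e (isQCohD_rpush f hI)) fun i => ?_
  exact Qh_map_bijective_push f _ (isKFlat_single_secObj V i) I

end Groth.Agent.KFlatLib
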