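import Groth.Agent.KFlatLib.Scheme.CoEvalDef

/-!
# The coevaluation map at shifts of the structure module
-/

set_option linter.style.haveILetI false
set_option backward.isDefEq.respectTransparency false

universe u

open CategoryTheory CategoryTheory.Limits AlgebraicGeometry

attribute [local instance] HasDerivedCategory.standard

namespace Groth.Agent.KFlatLib

variable {X : Scheme.{u}}

variable (R L I : CochainComplex X.Modules ℤ) (c : (DCoh.tensorCx.obj R).obj L ⟶ I)

/-- The coevaluation map is a quasi-isomorphism at shifts of the structure module. -/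
theorem quasiIso_coevalMap_single (hc : QuasiIso ((iHomAdj L).homEquiv _ _ c)) (n : ℤ) :
    QuasiIso (coevalMap R L I c ((HomologicalComplex.single X.Modules (ComplexShape.up ℤ) n).obj
      (Coh.structureModule X))) := by
  let P := (HomologicalComplex.single X.Modules (ComplexShape.up ℤ) n).obj (Coh.structureModule X)
  let H := (iHom P).obj L
  obtain ⟨e⟩ := nonempty_iHomUnitIso (X := X) n
  haveI : (iHom P).Full := Functor.Full.of_iso e.symm
  haveI : (iHom P).Faithful := Functor.Faithful.of_iso e.symm
  haveI hcounit : IsIso ((iHomAdj P).counit.app L) := inferInstance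
  haveI : IsIso (evR L P) := IsIso.comp_isIso' inferInstance hcounit
  let N : Inner.tenX (DCoh.tensorBi (X := X)) P ⋙ Inner.tenX (DCoh.tensorBi (X := X)) H ≅
      Inner.tenX (DCoh.tensorBi (X := X)) L :=
    tensorCxFlipCompIso P H ≪≫ DCoh.tensorCx.flip.mapIso (asIso (evR L P))
  have hN : N.hom.app R = (tensorCxAssocIso R P H).hom ≫ (DCoh.tensorCx.obj R).map (evR L P) := by
    simp only [N, Iso.trans_hom, NatTrans.comp_app, Functor.mapIso_hom, asIso_hom, Functor.flip_map_app,
      tensorCxFlipCompIso, NatIso.ofComponents_hom_app]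
  have hc' : coevalAux R L I c P = N.hom.app R ≫ c := by
    rw [hN]
    exact (Category.assoc (tensorCxAssocIso R P H).hom ((DCoh.tensorCx.obj R).map (evR L P)) c).symm
  obtain ⟨u, hu⟩ := exists_iso_adjunct (iHomAdj P) (iHomAdj H) (iHomAdj L) N c
    (coevalAux R L I c P) hc'
  change _ = (iHomAdj P).homEquiv _ _ (coevalMap R L I c P) at hu
  haveI hq' : QuasiIso ((iHomAdj P).homEquiv _ _ (coevalMap R L I c P)) := by
    haveI := hc
    rw [← hu]; infer_instance
  let F := Inner.tenX (DCoh.tensorBi (X := X)) P
  let eF : F ≅ shiftFunctor (CochainComplex X.Modules ℤ) (-n) :=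
    Inner.tensorUnitShiftIso (DCoh.tensorBi (X := X)) (Coh.structureModule X) (tensorStructureIso X) n
  haveI : QuasiIso (F.map ((iHomAdj P).homEquiv _ _ (coevalMap R L I c P))) :=
    (quasiIso_iff_of_arrow_mk_iso _ _
      (((Functor.mapArrowFunctor _ _).mapIso eF).app (Arrow.mk _))).2
      ((MorphismProperty.IsCompatibleWithShift.iff
        (HomologicalComplex.quasiIso X.Modules (ComplexShape.up ℤ)) _ (-n)).2 hq')
  haveI : IsIso ((iHomAdj P).counit.app ((iHom H).obj I)) := inferInstance
  have h₂ := ((iHomAdj P).homEquiv_counit _ _ ((iHomAdj P).homEquiv _ _ (coevalMap R L I c P))).symm.trans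
    (Equiv.symm_apply_apply _ _)
  rw [← h₂]
  infer_instance

end Groth.Agent.KFlatLib
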