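import Groth.Agent.KFlatLib.Scheme.CoEvalNat
import Groth.Agent.KFlatLib.Scheme.CoEvalSingle

/-!
# The map `R ⊗ P ⟶ iHom(iHom(P, L), I)` at perfect complexes
-/

set_option linter.style.haveILetI false
set_option backward.isDefEq.respectTransparency false

universe u

open CategoryTheory CategoryTheory.Limits AlgebraicGeometry

attribute [local instance] HasDerivedCategory.standard

namespace Groth.Agent.KFlatLib

variable {X : Scheme.{u}}

variable (R L I : CochainComplex X.Modules ℤ) (c : (DCoh.tensorCx.obj R).obj L ⟶ I)

/-- A short exact sequence with injective first term splits. -/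
noncomputable def splittingOfInjective {C : Type*} [Category C] [Abelian C] {S : ShortComplex C}
    (h : S.ShortExact) [Injective S.X₁] : S.Splitting :=
  haveI := h.mono_f
  haveI := h.epi_g
  ShortComplex.Splitting.ofExactOfRetraction S h.exact (Injective.factorThru (𝟙 S.X₁) S.f)
    (Injective.comp_factorThru _ _) inferInstance

/-- The coevaluation map at a perfect complex is a quasi-isomorphism. -/
theorem quasiIso_coevalMap (hR : DCoh.IsKFlat R) (hR' : ∀ p, FlatMod.IsFlat (R.X p))
    [∀ n, Injective (L.X n)] [L.IsKInjective] [∀ n, Injective (I.X n)] [I.IsKInjective]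
    (hc : QuasiIso ((iHomAdj L).homEquiv _ _ c)) (K : CochainComplex X.Modules ℤ)
    (hK : DCoh.IsPerfect (DCoh.toD X K)) :
    QuasiIso (coevalMap R L I c K) := by
  refine quasiIso_of_local _ fun x => ?_
  obtain ⟨U, j, hj, hx, h⟩ := exists_devissage_of_isPerfect K hK x
  refine ⟨U, j, hj, hx, h (fun P => QuasiIso ((rCx j).map (coevalMap R L I c P))) (fun A B g hg => ?_)
    (fun P hP => ?_) (fun S hS hF hl hr => ?_) (fun n => ?_)⟩
  · haveI := hg
    haveI := quasiIso_rCx_tensor j hR g
    haveI := quasiIso_rCx_iHomMap j g L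
    haveI := quasiIso_rCx_iHomMap j ((iHomMap g).app L) I
    have w := congrArg (fun t => (rCx j).map t) (coevalMap_naturality R L I c g)
    simp only [Functor.map_comp] at w
    change QuasiIso ((rCx j).map (coevalMap R L I c A)) ↔ QuasiIso ((rCx j).map (coevalMap R L I c B))
    rw [← quasiIso_iff_comp_right ((rCx j).map (coevalMap R L I c A))
        ((rCx j).map ((iHomMap ((iHomMap g).app L)).app I)), ← w, quasiIso_iff_comp_left]
  · exact quasiIso_of_isZero _ ((rCx j).map_isZero ((DCoh.tensorCx.obj R).map_isZero hP))
      ((rCx j).map_isZero (isZero_iHom (isZero_iHom hP L) I))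
  · obtain ⟨w₁, hH⟩ := Inner.innerHom_shortExact (DCoh.tensorBi (X := X)) S hS L
    let T := ShortComplex.mk ((iHomMap S.g).app L) ((iHomMap S.f).app L) w₁
    haveI : ∀ n, Injective (T.X₁.X n) := fun n =>
      Inner.injective_innerHom_X (DCoh.tensorBi (X := X)) S.X₃ (fun q => flatObj_of_isFlat (hF q)) L n
    obtain ⟨w₂, hJ⟩ := Inner.innerHom_shortExact (DCoh.tensorBi (X := X)) T
      (fun n => haveI : Injective ((T.map (HomologicalComplex.eval X.Modules (ComplexShape.up ℤ) n)).X₁) :=
          inferInstanceAs (Injective (T.X₁.X n))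
        ⟨splittingOfInjective (hH.map_of_exact (HomologicalComplex.eval _ _ n))⟩) I
    let T₁ := S.map (DCoh.tensorBi.map₂CochainComplex.obj R)
    have hS' : S.ShortExact := HomologicalComplex.shortExact_of_degreewise_shortExact S
      fun n => (hS n).some.shortExact
    let T₂ := ShortComplex.mk ((iHomMap T.g).app I) ((iHomMap T.f).app I) w₂
    let φ : T₁.map (rCx j) ⟶ T₂.map (rCx j) :=
      { τ₁ := (rCx j).map (coevalMap R L I c S.X₁)
        τ₂ := (rCx j).map (coevalMap R L I c S.X₂)
        τ₃ := (rCx j).map (coevalMap R L I c S.X₃)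
        comm₁₂ := by
          refine ((rCx j).map_comp _ _).symm.trans (Eq.trans ?_ ((rCx j).map_comp _ _))
          exact congrArg _ (coevalMap_naturality R L I c S.f).symm
        comm₂₃ := by
          refine ((rCx j).map_comp _ _).symm.trans (Eq.trans ?_ ((rCx j).map_comp _ _))
          exact congrArg _ (coevalMap_naturality R L I c S.g).symm }
    exact quasiIso_τ₂' φ ((shortExact_tensorCx_of_flat R hR' hS').map_of_exact _)
      (hJ.map_of_exact _) hl hr
  · haveI := quasiIso_coevalMap_single R L I c hc n
    change QuasiIso ((rCx j).map _)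
    infer_instance

end Groth.Agent.KFlatLib
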