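import Groth.Agent.KFlatLib.Scheme.CoEvalPerfect

/-!
# `RHom(L, M) ⊗^L K ≅ RHom(RHom(K, L), M)` for perfect `K`
-/

set_option linter.style.haveILetI false
set_option backward.isDefEq.respectTransparency false

universe u

open CategoryTheory CategoryTheory.Limits AlgebraicGeometry

attribute [local instance] HasDerivedCategory.standard

namespace Groth.Agent.KFlatLib

variable {X : Scheme.{u}}

/-- `RHom(L, M) ⊗^L K ≅ RHom(RHom(K, L), M)`. -/
theorem nonempty_ltensor_RSheafHom_iso (K L : CochainComplex X.Modules ℤ) (hK : DCoh.IsKFlat K)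
    (hKp : DCoh.IsPerfect (DerivedCategory.Q.obj K))
    [DCoh.HasLTensorCx K] [DCoh.HasRSheafHom K] [DCoh.HasLTensorCx L] [DCoh.HasRSheafHom L]
    (D : CochainComplex X.Modules ℤ)
    (hDrep : Nonempty (DerivedCategory.Q.obj D ≅ (DCoh.RSheafHom K).obj (DerivedCategory.Q.obj L)))
    [DCoh.HasLTensorCx D] [DCoh.HasRSheafHom D] (M : DCoh.D X) :
    Nonempty ((DCoh.LTensorCx K).obj ((DCoh.RSheafHom L).obj M) ≅ (DCoh.RSheafHom D).obj M) := by
  obtain ⟨eD⟩ := hDrep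
  obtain ⟨BL, b, hBL, hb, -, hinj⟩ := Groth.Agent.TriCat.exists_kInjective_resolution'.{u} L
  haveI := hb
  haveI := isIso_Q_map b hb
  obtain ⟨I, hI, hIi, ⟨eM⟩⟩ := exists_kInjective_rep M
  obtain ⟨eL⟩ := nonempty_RSheafHom_iso L I
  obtain ⟨eK⟩ := nonempty_RSheafHom_iso K BL
  obtain ⟨eDM⟩ := nonempty_RSheafHom_iso D I
  obtain ⟨eH⟩ := nonempty_iHom_iso_of_iso (eD ≪≫
    (DCoh.RSheafHom K).mapIso (asIso (DerivedCategory.Q.map b)) ≪≫ eK) I
  let R := (kRes X).obj ((iHom BL).obj I)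
  let a : R ⟶ (iHom BL).obj I := (flatCover X).ψ.app _
  haveI ha : QuasiIso a := (flatCover X).quasiIso_ψ _
  haveI := quasiIso_iHomMap b I
  haveI : QuasiIso (a ≫ (iHomMap b).app I) := inferInstance
  haveI := isIso_Q_map (a ≫ (iHomMap b).app I) inferInstance
  let c := ((iHomAdj BL).homEquiv R I).symm a
  have hc : QuasiIso ((iHomAdj BL).homEquiv R I c) := by
    rw [show (iHomAdj BL).homEquiv R I c = a from Equiv.apply_symm_apply _ a]
    exact ha
  haveI := isIso_Q_map _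
    (quasiIso_coevalMap R BL I c (isKFlat_kRes _) (isFlat_kRes _) hc K hKp)
  exact ⟨(DCoh.LTensorCx K).mapIso ((DCoh.RSheafHom L).mapIso eM ≪≫ eL ≪≫
      (asIso (DerivedCategory.Q.map (a ≫ (iHomMap b).app I))).symm) ≪≫
    ltensorCxIso K (isKFlat_kRes _) ≪≫
    asIso (DerivedCategory.Q.map (coevalMap R BL I c K)) ≪≫ eH.symm ≪≫ eDM.symm ≪≫
    (DCoh.RSheafHom D).mapIso eM.symm⟩

end Groth.Agent.KFlatLib
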