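import Groth.Agent.KFlatLib.Scheme.CoEvalDef

/-!
# Naturality of the coevaluation map
-/

set_option linter.style.haveILetI false
set_option backward.isDefEq.respectTransparency false

universe u

open CategoryTheory CategoryTheory.Limits AlgebraicGeometry

attribute [local instance] HasDerivedCategory.standard

namespace Groth.Agent.KFlatLib

variable {X : Scheme.{u}}

variable (R L I : CochainComplex X.Modules ℤ) (c : (DCoh.tensorCx.obj R).obj L ⟶ I)

/-- Naturality of the coevaluation map. -/
lemma coevalMap_naturality {A B : CochainComplex X.Modules ℤ} (g : A ⟶ B) :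
    (DCoh.tensorCx.obj R).map g ≫ coevalMap R L I c B =
      coevalMap R L I c A ≫ (iHomMap ((iHomMap g).app L)).app I := by
  refine ((iHomAdj ((iHom B).obj L)).homEquiv _ _).symm.injective ?_
  refine ((iHomAdj ((iHom B).obj L)).homEquiv_naturality_left_symm _ _).trans ?_
  refine Eq.trans ?_ (Inner.homEquiv_innerMap (DCoh.tensorBi (X := X)) ((iHomMap g).app L) _).symm
  rw [coevalMap, coevalMap, Equiv.symm_apply_apply, Equiv.symm_apply_apply, coevalAux, coevalAux]
  have h₁ := tensorCxAssocIso_naturality₂₃ R g (𝟙 ((iHom B).obj L))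
  have h₂ := tensorCxAssocIso_naturality₂₃ R (𝟙 A) ((iHomMap g).app L)
  rw [CategoryTheory.Functor.map_id] at h₂
  refine ((Category.assoc _ _ _).symm.trans (congrArg (· ≫ _) h₁)).trans ?_
  refine Eq.trans ?_ ((Category.assoc _ _ _).symm.trans (congrArg (· ≫ _) h₂)).symm
  refine (Category.assoc _ _ _).trans (Eq.trans ?_ (Category.assoc _ _ _).symm)
  refine congrArg (_ ≫ ·) ?_
  refine ((Category.assoc _ _ _).symm.trans ?_).trans (Category.assoc _ _ _)
  refine congrArg (· ≫ c) ?_
  refine ((DCoh.tensorCx.obj R).map_comp _ _).symm.trans (Eq.trans ?_ ((DCoh.tensorCx.obj R).map_comp _ _))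
  exact congrArg _ (evR_naturality L g)

end Groth.Agent.KFlatLib
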