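import Groth.Agent.KFlatLib.Scheme.StalkTorAmp
import Groth.Agent.KFlatLib.Scheme.TildeAmp
import Groth.Agent.KFlatLib.Scheme.RGammaPush
import Groth.Agent.H9Misc.DRingTorRestrict
import Groth.Agent.PBlow.PB
import Groth.Agent.KZ.CycleTensor
import Mathlib.Algebra.Homology.ShortComplex.ExactFunctor

/-!
# Stalkwise tor amplitude: representatives and composition
-/

set_option linter.style.haveILetI false
set_option backward.isDefEq.respectTransparency false

universe u

open CategoryTheory CategoryTheory.Limits AlgebraicGeometry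

attribute [local instance] HasDerivedCategory.standard

namespace Groth.Agent.KFlatLib

variable {X Y Z : Scheme.{u}}

/-- Stalkwise tor amplitude only depends on the object of the derived category. -/
lemma hasTorAmplitude_of_iso (f : X ⟶ Y) {F G : CochainComplex X.Modules ℤ}
    (e : DCoh.toD X F ≅ DCoh.toD X G) {a b : ℤ} (h : DerSch.HasTorAmplitude f a b F) :
    DerSch.HasTorAmplitude f a b G := fun x => by
  haveI := Functor.preservesFiniteLimits_of_preservesHomology (DerSch.stalkOver f x)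
  haveI := Functor.preservesFiniteColimits_of_preservesHomology (DerSch.stalkOver f x)
  obtain ⟨E, hv, hf, ⟨eE⟩⟩ := h x
  exact ⟨E, hv, hf, ⟨eE ≪≫ ((DerSch.stalkOver f x).mapDerivedCategoryFactors.app F).symm ≪≫
    (DerSch.stalkOver f x).mapDerivedCategory.mapIso e ≪≫
    (DerSch.stalkOver f x).mapDerivedCategoryFactors.app G⟩⟩

/-- Representatives flat over the base give stalkwise tor amplitude. -/
lemma hasTorAmplitude_of_relAmp (f : X ⟶ Y) {F : CochainComplex X.Modules ℤ} {a b : ℤ}
    (h : DCoh.HasRelFlatAmplitudeIn f a b (DCoh.toD X F)) : DerSch.HasTorAmplitude f a b F := by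
  obtain ⟨E, hv, hf, ⟨e⟩⟩ := h
  exact hasTorAmplitude_of_iso f e fun x => ⟨(DerSch.stalkCxOver f x).obj E,
    fun i hi => (DerSch.stalkOver f x).map_isZero (hv i hi), fun i => hf i x, ⟨Iso.refl _⟩⟩

/-- Flat amplitude gives stalkwise tor amplitude over the scheme itself. -/
lemma hasTorAmplitude_id_of_flatAmplitude {F : CochainComplex X.Modules ℤ} {a b : ℤ}
    (h : DCoh.HasFlatAmplitudeIn a b (DCoh.toD X F)) : DerSch.HasTorAmplitude (𝟙 X) a b F := by
  obtain ⟨E, hv, hf, e⟩ := h
  exact hasTorAmplitude_of_relAmp _ ⟨E, hv, fun i => (isFlatOver_id_iff (E.X i)).2 (hf i), e⟩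

/-- The stalk of the structure module is the local ring. -/
lemma nonempty_stalk_structure (y : Y) :
    Nonempty ((Y.presheaf.stalk y : Type u) ≃ₗ[Y.presheaf.stalk y]
      ((DerSch.stalkFunctor Y y).obj (Coh.structureModule Y) : Type u)) := by
  obtain ⟨b⟩ := KZ.CycleClass.exists_basis (PBlow.rank_one_unit Y) y
  exact ⟨(b.equivFun ≪≫ₗ LinearEquiv.funUnique (Fin 1) (Y.presheaf.stalk y) (Y.presheaf.stalk y)).symm⟩

/-- Composition with a morphism of finite tor dimension. -/
theorem hasTorAmplitude_comp (f : X ⟶ Y) (g : Y ⟶ Z) (n : ℕ) (hg : DerSch.HasTorDimLE g n)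
    (F : CochainComplex X.Modules ℤ) (a b : ℤ) (hF : DerSch.HasTorAmplitude f a b F) :
    DerSch.HasTorAmplitude (f ≫ g) (a - n) b F := fun x => by
  let A := Z.presheaf.stalk (g.base (f.base x))
  let B := Y.presheaf.stalk (f.base x)
  let φ : A →+* B := (g.stalkMap (f.base x)).hom
  letI : Algebra A B := φ.toAlgebra
  obtain ⟨l⟩ := nonempty_stalk_structure (f.base x)
  have hB : DRing.HasTorAmplitudeIn A (-(n : ℤ)) 0 (Dual.inD A B) := by
    obtain ⟨E, hv, hf, ⟨e⟩⟩ := hg (f.base x)
    let i₀ : (DerSch.stalkOver g (f.base x)).obj (Coh.structureModule Y) ≅ ModuleCat.of A B :=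
      (ModuleCat.restrictScalars φ).mapIso l.symm.toModuleIso ≪≫
        (LinearEquiv.toModuleIso
          (m₁ := ((ModuleCat.restrictScalars φ).obj (ModuleCat.of B B)).isModule)
          { toFun := fun z => z, invFun := fun z => z, left_inv := fun _ => rfl, right_inv := fun _ => rfl,
            map_add' := fun _ _ => rfl, map_smul' := fun _ _ => rfl })
    exact ⟨E, hv, hf, ⟨e ≪≫ DerivedCategory.Q.mapIso
      ((HomologicalComplex.singleMapHomologicalComplex (DerSch.stalkOver g (f.base x)) _ 0).app _ ≪≫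
        (HomologicalComplex.single _ (ComplexShape.up ℤ) 0).mapIso i₀) ≪≫
      ((DerivedCategory.singleFunctorIsoCompQ _ 0).app _).symm⟩⟩
  obtain ⟨E, hv, hf, ⟨e⟩⟩ := H9Misc.DRingTor.hasTorAmplitudeIn_restrictScalars n hB _ a b (hF x)
  let u : DerSch.stalkOver (f ≫ g) x ≅ DerSch.stalkOver f x ⋙ ModuleCat.restrictScalars φ :=
    Functor.isoWhiskerLeft _ (ModuleCat.restrictScalarsComp' φ (f.stalkMap x).hom
      ((f ≫ g).stalkMap x).hom (by rw [Scheme.Hom.stalkMap_comp]; rfl)) ≪≫ (Functor.associator _ _ _).symm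
  exact ⟨E, hv, hf, ⟨e ≪≫ (ModuleCat.restrictScalars φ).mapDerivedCategoryFactors.app _ ≪≫
    DerivedCategory.Q.mapIso (((Functor.mapHomologicalComplexCompIso u.symm (ComplexShape.up ℤ)).app F))⟩⟩

end Groth.Agent.KFlatLib
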