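import Groth.Agent.KFlatLib.Scheme.StalkTorAmpComp
import Groth.Agent.KFlatLib.Scheme.TorAmpPush

/-!
# Stalkwise tor amplitude over the scheme itself
-/

set_option linter.style.haveILetI false
set_option backward.isDefEq.respectTransparency false

universe u

open CategoryTheory CategoryTheory.Limits AlgebraicGeometry

attribute [local instance] HasDerivedCategory.standard

namespace Groth.Agent.KFlatLib

variable {X : Scheme.{u}}

/-- Stalkwise tor amplitude over the scheme itself is tor amplitude. -/
theorem torAmplitude_of_hasTorAmplitude_id {F : CochainComplex X.Modules ℤ} {a b : ℤ}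
    (h : DerSch.HasTorAmplitude (𝟙 X) a b F) : DCoh.HasTorAmplitudeIn a b (DCoh.toD X F) := fun G _ i hi => by
  haveI := hasLpull (𝟙 X)
  let M := (HomologicalComplex.single X.Modules (ComplexShape.up ℤ) 0).obj G
  haveI := hasLTensorCx M
  obtain ⟨e⟩ := nonempty_lpull_inD_of_flat (𝟙 X) G
  obtain ⟨c⟩ := nonempty_ltensorMod_ltensorCx G (DCoh.toD X F)
  exact (isZero_hd_ltensor_lpull_stalk (𝟙 X) h G M
    (((DerivedCategory.singleFunctorIsoCompQ X.Modules 0).app G).symm ≪≫
      (DerivedCategory.singleFunctor X.Modules 0).mapIso ((Scheme.Modules.pullbackId X).app G).symm ≪≫ e.symm) i hi).of_iso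
    ((DerivedCategory.homologyFunctor X.Modules i).mapIso c)

/-- Stalkwise tor amplitude over the scheme itself gives a flat representative. -/
theorem flatAmplitude_of_hasTorAmplitude_id {F : CochainComplex X.Modules ℤ} {a b : ℤ}
    (h : DerSch.HasTorAmplitude (𝟙 X) a b F) : DCoh.HasFlatAmplitudeIn a b (DCoh.toD X F) := by
  have ht := torAmplitude_of_hasTorAmplitude_id h
  by_cases hab : a ≤ b
  · exact flatAmplitude_of_torAmplitude hasLTensorMod hab ht
  haveI := hasLTensorMod (Coh.structureModule X)
  have hz : ∀ i, IsZero (DCoh.HD (DCoh.toD X F) i) := fun i =>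
    ((ht (Coh.structureModule X) i (by omega)).of_iso (hdLTensorStructureIso F i).symm).of_iso
      ((DerivedCategory.homologyFunctorFactors X.Modules i).app F)
  haveI : DerivedCategory.IsGE (DCoh.toD X F) 1 := (DerivedCategory.isGE_iff _ _).2 fun i _ => hz i
  haveI : DerivedCategory.IsLE (DCoh.toD X F) 0 := (DerivedCategory.isLE_iff _ _).2 fun i _ => hz i
  have hZ : IsZero (DCoh.toD X F) := DerivedCategory.TStructure.t.isZero (DCoh.toD X F) 0 1 (by omega)
  have hzz : IsZero (DCoh.toD X (HomologicalComplex.zero : CochainComplex X.Modules ℤ)) :=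
    DerivedCategory.Q.map_isZero HomologicalComplex.isZero_zero
  exact ⟨HomologicalComplex.zero, fun i _ => isZero_zero _,
    fun i => IsFlat.of_isZero (isZero_zero _), ⟨hzz.iso hZ⟩⟩

end Groth.Agent.KFlatLib
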