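import Groth.Prelude.Def_DualSch
import Groth.Agent.KFlatLib.Perfect.Betti
import Groth.Agent.KFlatLib.Scheme.TildeD
import Groth.Agent.KFlatLib.Scheme.TildePull
import Groth.Agent.KFlatLib.Scheme.CohD
import Groth.Agent.KFlatLib.Scheme.GlueD
import Groth.Agent.KFlatLib.Ring.DualizingFlat
import Groth.Agent.KFlatLib.Ring.DualizingDescent
import Groth.Agent.KFlatLib.Ring.HasLBase
import Groth.Agent.QCoh.Tilde
import Groth.Agent.H9Misc.DRingLBase
import Mathlib.AlgebraicGeometry.Morphisms.Flat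

/-!
# Dualizing objects on a scheme from an affine cover
-/

set_option linter.style.haveILetI false
set_option backward.isDefEq.respectTransparency false

universe u

open CategoryTheory CategoryTheory.Limits AlgebraicGeometry TopologicalSpace

attribute [local instance] HasDerivedCategory.standard

namespace Groth.Agent.KFlatLib.DualizingCharts

variable {A B : Type u} [CommRing A] [CommRing B]

/-- `~` reflects isomorphism classes. -/
lemma nonempty_iso_of_tilde {R : CommRingCat.{u}} [PreservesFiniteLimits (tilde.functor R)]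
    {M N : DerivedCategory (ModuleCat.{u} R)} (e : (DCoh.tildeD R).obj M ≅ (DCoh.tildeD R).obj N) :
    Nonempty (M ≅ N) := by
  obtain ⟨f, hf⟩ := (tildeD_map_bijective M N).2 e.hom
  obtain ⟨g, hg⟩ := (tildeD_map_bijective N M).2 e.inv
  refine ⟨⟨f, g, (tildeD_map_bijective M M).1 ?_, (tildeD_map_bijective N N).1 ?_⟩⟩
  · simp [hf, hg]
  · simp [hf, hg]

/-- Two ways of pulling an object back to a smaller affine piece agree. -/
lemma nonempty_LBaseChange_iso_of_charts {X : Scheme.{u}} {C : Type u} [CommRing C]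
    (φ : A →+* C) (ψ : B →+* C) [DRing.HasLBaseChange φ] [DRing.HasLBaseChange ψ]
    (j : Spec (CommRingCat.of A) ⟶ X) [IsOpenImmersion j]
    (k : Spec (CommRingCat.of B) ⟶ X) [IsOpenImmersion k]
    (h : Spec.map (CommRingCat.ofHom φ) ≫ j = Spec.map (CommRingCat.ofHom ψ) ≫ k)
    [PreservesFiniteLimits (tilde.functor (CommRingCat.of A))]
    [PreservesFiniteLimits (tilde.functor (CommRingCat.of B))]
    [PreservesFiniteLimits (tilde.functor (CommRingCat.of C))]
    (K : DCoh.D X) {M : Dual.D A} {N : Dual.D B}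
    (eM : (rho j).obj K ≅ (DCoh.tildeD (CommRingCat.of A)).obj M)
    (eN : (rho k).obj K ≅ (DCoh.tildeD (CommRingCat.of B)).obj N) :
    Nonempty ((DRing.LBaseChange φ).obj M ≅ (DRing.LBaseChange ψ).obj N) := by
  haveI := hasLpull (Spec.map (CommRingCat.ofHom φ))
  haveI := hasLpull (Spec.map (CommRingCat.ofHom ψ))
  haveI := hasLpull (Spec.map (CommRingCat.ofHom φ) ≫ j)
  obtain ⟨a₁⟩ := nonempty_tildeD_lpull_iso φ
  obtain ⟨a₂⟩ := nonempty_tildeD_lpull_iso ψ
  obtain ⟨b₁⟩ := nonempty_lpull_factor (Spec.map (CommRingCat.ofHom φ)) j _ rfl K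
  obtain ⟨b₂⟩ := nonempty_lpull_factor (Spec.map (CommRingCat.ofHom ψ)) k _ h.symm K
  exact nonempty_iso_of_tilde
    (a₁.app M ≪≫ (DCoh.Lpull _).mapIso eM.symm ≪≫ b₁ ≪≫ b₂.symm ≪≫ (DCoh.Lpull _).mapIso eN ≪≫
      (a₂.app N).symm)

/-- Around each point of an affine chart there is a common refinement with another chart. -/
lemma exists_refinement {X : Scheme.{u}} (j : Spec (CommRingCat.of A) ⟶ X) [IsOpenImmersion j]
    (k : Spec (CommRingCat.of B) ⟶ X) [IsOpenImmersion k] (y : Spec (CommRingCat.of B))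
    (hy : k.base y ∈ Set.range j.base) :
    ∃ (f : A) (ψ : B →+* Localization.Away f), ψ.Flat ∧
      Spec.map (CommRingCat.ofHom (algebraMap A (Localization.Away f))) ≫ j =
        Spec.map (CommRingCat.ofHom ψ) ≫ k ∧
      y ∈ Set.range (Spec.map (CommRingCat.ofHom ψ)).base := by
  obtain ⟨p, hp⟩ := hy
  obtain ⟨_, ⟨f, rfl⟩, hpf, hfV⟩ := PrimeSpectrum.isTopologicalBasis_basic_opens.exists_subset_of_mem_open
    (show p ∈ (j ⁻¹ᵁ k.opensRange : Set (Spec (CommRingCat.of A))) from ⟨y, hp.symm⟩)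
    (j ⁻¹ᵁ k.opensRange).2
  let ι := Spec.map (CommRingCat.ofHom (algebraMap A (Localization.Away f)))
  haveI : IsOpenImmersion ι := IsOpenImmersion.of_isLocalization (R := CommRingCat.of A) f
  have hι : Set.range ι.base = (PrimeSpectrum.basicOpen f : Set (PrimeSpectrum A)) :=
    PrimeSpectrum.localization_away_comap_range (Localization.Away f) f
  have hrange : Set.range (ι ≫ j).base ⊆ Set.range k.base := by
    rintro _ ⟨t, rfl⟩
    exact hfV (hι ▸ ⟨t, rfl⟩ : ι.base t ∈ (PrimeSpectrum.basicOpen f : Set (PrimeSpectrum A)))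
  let l := IsOpenImmersion.lift k (ι ≫ j) hrange
  have hl : l ≫ k = ι ≫ j := IsOpenImmersion.lift_fac _ _ _
  haveI : IsOpenImmersion (l ≫ k) := hl ▸ inferInstance
  haveI : IsOpenImmersion l := IsOpenImmersion.of_comp l k
  have hpre : Spec.map (CommRingCat.ofHom (Spec.preimage l).hom) = l := Spec.map_preimage l
  refine ⟨f, (Spec.preimage l).hom, ?_, by rw [hpre, hl], ?_⟩
  · have : AlgebraicGeometry.Flat (Spec.map (CommRingCat.ofHom (Spec.preimage l).hom)) := by
      rw [hpre]; infer_instance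
    exact (HasRingHomProperty.Spec_iff (P := @AlgebraicGeometry.Flat)).1 this
  · rw [hpre]
    obtain ⟨t, ht⟩ : p ∈ Set.range ι.base := hι ▸ hpf
    refine ⟨t, k.isOpenEmbedding.injective ?_⟩
    rw [← Scheme.Hom.comp_apply, hl, Scheme.Hom.comp_apply, ht]
    exact hp

/-- An object which is dualizing on the pieces of an affine cover is dualizing on every affine open. -/
theorem exists_isDualizing_of_charts {X : Scheme.{u}} [IsLocallyNoetherian X] (K : DCoh.D X)
    (hK : ∀ x : X, ∃ (A : Type u) (_ : CommRing A) (j : Spec (CommRingCat.of A) ⟶ X) (_ : IsOpenImmersion j)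
      (ω : Dual.D A), x ∈ Set.range j.base ∧ Dual.IsDualizing A ω ∧
        ∃ _ : PreservesFiniteLimits (tilde.functor (CommRingCat.of A)),
          Nonempty ((rho j).obj K ≅ (DCoh.tildeD (CommRingCat.of A)).obj ω))
    (B : Type u) [CommRing B] (k : Spec (CommRingCat.of B) ⟶ X) [IsOpenImmersion k]
    [PreservesFiniteLimits (tilde.functor (CommRingCat.of B))] :
    ∃ ω : Dual.D B, Dual.IsDualizing B ω ∧
      Nonempty ((rho k).obj K ≅ (DCoh.tildeD (CommRingCat.of B)).obj ω) := by
  have hqK : DCoh.IsQCohD K := fun i => isQCoh_HD_of_local K i fun x => by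
    obtain ⟨A, _, j, hj, ω, hx, -, _, ⟨e⟩⟩ := hK x
    exact ⟨_, j, hj, hx, isQCohD_of_iso e.symm (isQCohD_tildeD (CommRingCat.of A) ω) i⟩
  obtain ⟨M, ⟨eM⟩⟩ := exists_tildeD_iso (R := CommRingCat.of B) (isQCohD_rho k hqK)
  refine ⟨M, ?_, ⟨eM.symm⟩⟩
  haveI : IsLocallyNoetherian (Spec (CommRingCat.of B)) := isLocallyNoetherian_of_isOpenImmersion k
  haveI : IsNoetherianRing B := (isLocallyNoetherian_Spec (R := CommRingCat.of B)).1 inferInstance
  have h : ∀ y : Spec (CommRingCat.of B), ∃ (A : Type u) (_ : CommRing A) (f : A)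
      (ψ : B →+* Localization.Away f) (ω : Dual.D A), Dual.IsDualizing A ω ∧ ψ.Flat ∧
      y ∈ Set.range (Spec.map (CommRingCat.ofHom ψ)).base ∧
      IsOpen (Set.range (Spec.map (CommRingCat.ofHom ψ)).base) ∧
      Dual.IsDualizing (Localization.Away f) (@Functor.obj _ _ _ _ (@DTen.LBase B _ _ _ ψ (hasLBase ψ)) M) := by
    intro y
    obtain ⟨A, _, j, hj, ω, hx, hω, _, ⟨e⟩⟩ := hK (k.base y)
    obtain ⟨f, ψ, hflat, hfac, hy⟩ := exists_refinement j k y hx
    haveI := hω.isNoetherianRing
    haveI := hasLBase ψ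
    haveI := hasLBase (algebraMap A (Localization.Away f))
    haveI := H9Misc.DRingLBase.hasLBaseChange (algebraMap A (Localization.Away f))
    haveI := H9Misc.DRingLBase.hasLBaseChange ψ
    haveI : Module.Flat A (Localization.Away f) := IsLocalization.flat _ (Submonoid.powers f)
    haveI : PreservesFiniteLimits (tilde.functor (CommRingCat.of (Localization.Away f))) :=
      Groth.Agent.QCoh.tilde_preservesFiniteLimits
    obtain ⟨eC⟩ := nonempty_LBaseChange_iso_of_charts (algebraMap A (Localization.Away f)) ψ j k hfac K e eM.symm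
    obtain ⟨eψ⟩ := nonempty_LBaseChange_iso ψ
    refine ⟨A, inferInstance, f, ψ, ω, hω, hflat, hy, ?_,
      isDualizing_of_iso (eC ≪≫ eψ.app M) (isDualizing_LBaseChange hω fun n _ =>
        ⟨n.comap (algebraMap A (Localization.Away f)),
          IsLocalization.map_comap (Submonoid.powers f) (Localization.Away f) n⟩)⟩
    haveI : IsOpenImmersion (Spec.map (CommRingCat.ofHom (algebraMap A (Localization.Away f)))) :=
      IsOpenImmersion.of_isLocalization (R := CommRingCat.of A) f
    haveI : IsOpenImmersion (Spec.map (CommRingCat.ofHom ψ) ≫ k) := hfac ▸ inferInstance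
    haveI := IsOpenImmersion.of_comp (Spec.map (CommRingCat.ofHom ψ)) k
    exact (Spec.map (CommRingCat.ofHom ψ)).isOpenEmbedding.isOpen_range
  choose A instA f ψ ω hω hflat hy hopen hdual using h
  obtain ⟨t, ht⟩ := isCompact_univ.elim_finite_subcover (fun y => Set.range (Spec.map (CommRingCat.ofHom (ψ y))).base)
    hopen fun y _ => Set.mem_iUnion.2 ⟨y, hy y⟩
  letI : ∀ i : t, Algebra B (Localization.Away (f i.1)) := fun i => (ψ i.1).toAlgebra
  haveI : ∀ i : t, Module.Flat B (Localization.Away (f i.1)) := fun i => hflat i.1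
  haveI : ∀ i : t, DTen.HasLBase (algebraMap B (Localization.Away (f i.1))) := fun i => hasLBase (ψ i.1)
  refine isDualizing_of_finite_family (B := fun i : t => Localization.Away (f i.1)) (fun m hm => ?_)
    fun i => hdual i.1
  obtain ⟨y, hyt, Q, hQ⟩ : ∃ y ∈ t, (⟨m, hm.isPrime⟩ : PrimeSpectrum B) ∈
      Set.range (Spec.map (CommRingCat.ofHom (ψ y))).base := by
    simpa using ht (Set.mem_univ (⟨m, hm.isPrime⟩ : PrimeSpectrum B))
  refine ⟨⟨y, hyt⟩, ne_top_of_le_ne_top Q.isPrime.ne_top (Ideal.map_le_iff_le_comap.2 ?_)⟩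
  exact (congrArg PrimeSpectrum.asIdeal hQ).ge

end Groth.Agent.KFlatLib.DualizingCharts
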