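import Groth.Agent.KFlatLib.Scheme.CohWindow
import Groth.Agent.KFlatLib.Scheme.RelTor
import Groth.Agent.KFlatLib.Scheme.TildeAmp
import Groth.Agent.QCoh.SpecFT
import Groth.Agent.FPEnough.Compact
import Groth.Agent.QCoh.LocFree

/-!
# A bound on maps out of finite locally free modules, uniform in the module
-/

set_option linter.style.haveILetI false
set_option backward.isDefEq.respectTransparency false

universe u

open CategoryTheory CategoryTheory.Limits AlgebraicGeometry Pretriangulated TopologicalSpace ZeroObject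

attribute [local instance] HasDerivedCategory.standard

namespace Groth.Agent.KFlatLib.ExtBound

variable {X : Scheme.{u}}

/-- Flat finitely presented modules are direct summands of free ones. -/
theorem exists_module_retract {A : Type u} [CommRing A] (P : ModuleCat.{u} A) [Module.FinitePresentation A P]
    [Module.Flat A P] : ∃ (n : ℕ) (i₀ : P ⟶ ModuleCat.of A (ULift.{u} (Fin n) →₀ A))
      (p₀ : ModuleCat.of A (ULift.{u} (Fin n) →₀ A) ⟶ P), i₀ ≫ p₀ = 𝟙 P := by
  haveI : Module.Projective A P := Module.Flat.projective_of_finitePresentation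
  obtain ⟨n, π, hπ⟩ := Module.Finite.exists_fin' A P
  obtain ⟨s, hs⟩ := Module.projective_lifting_property π LinearMap.id hπ
  let l : (ULift.{u} (Fin n) →₀ A) ≃ₗ[A] (Fin n → A) :=
    (Finsupp.linearEquivFunOnFinite A A _).trans (LinearEquiv.funCongrLeft A A Equiv.ulift.symm)
  refine ⟨n, ModuleCat.ofHom (l.symm.toLinearMap.comp s), ModuleCat.ofHom (π.comp l.toLinearMap), ?_⟩
  ext x
  show π (l (l.symm (s x))) = x
  rw [l.apply_symm_apply]
  exact LinearMap.congr_fun hs x

/-- A module with flat tilde is flat. -/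
theorem flat_of_tilde {A : Type u} [CommRing A] (P : ModuleCat.{u} A)
    (h1 : FlatMod.IsFlat (tilde (R := CommRingCat.of A) P)) : Module.Flat A P := by
  have hid : Spec.map (CommRingCat.ofHom (algebraMap A A)) = 𝟙 _ := Spec.map_id _
  haveI h3 := (RelTor.isFlatOver_tilde_iff (R := A) (A := A) P).1 (by
    rw [hid]
    exact (isFlatOver_id_iff _).2 h1)
  exact Module.Flat.of_linearEquiv (M := (ModuleCat.restrictScalars (algebraMap A A)).obj P)
    { toFun := fun y => y
      invFun := fun y => y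
      left_inv := fun _ => rfl
      right_inv := fun _ => rfl
      map_add' := fun _ _ => rfl
      map_smul' := fun _ _ => rfl }

/-- Tildes of flat finitely presented modules are direct summands of free modules. -/
theorem exists_retract_tilde {A : Type u} [CommRing A] (P : ModuleCat.{u} A) [Module.FinitePresentation A P]
    [Module.Flat A P] :
    ∃ (n : ℕ) (i : tilde (R := CommRingCat.of A) P ⟶ FlatMod.freeMod _ n)
      (p : FlatMod.freeMod _ n ⟶ tilde (R := CommRingCat.of A) P), i ≫ p = 𝟙 _ := by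
  obtain ⟨n, i₀, p₀, h0⟩ := exists_module_retract P
  let φ : tilde (R := CommRingCat.of A) (ModuleCat.of A (ULift.{u} (Fin n) →₀ A)) ≅
      FlatMod.freeMod (Spec (CommRingCat.of A)) n :=
    tildeFinsupp (R := CommRingCat.of A) (ULift.{u} (Fin n)) ≪≫ (QCoh.freeModIso (Spec (CommRingCat.of A)) n).symm
  refine ⟨n, tilde.map (R := CommRingCat.of A) i₀ ≫ φ.hom, φ.inv ≫ tilde.map (R := CommRingCat.of A) p₀, ?_⟩
  rw [Category.assoc, Iso.hom_inv_id_assoc]
  refine ((tilde.functor (CommRingCat.of A)).map_comp i₀ p₀).symm.trans ?_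
  rw [h0]
  exact (tilde.functor (CommRingCat.of A)).map_id P

/-- On an affine spectrum finite locally free modules are direct summands of free ones. -/
theorem exists_retract_spec {R : CommRingCat.{u}} {F : (Spec R).Modules} (hF : FlatMod.IsFinLocFree F) :
    ∃ (n : ℕ) (i : F ⟶ FlatMod.freeMod _ n) (p : FlatMod.freeMod _ n ⟶ F), i ≫ p = 𝟙 F := by
  have hq := QCoh.isQCoh_of_isFinLocFree hF
  obtain ⟨P, ⟨e⟩⟩ : ∃ P : ModuleCat.{u} R, Nonempty (tilde P ≅ F) :=
    ⟨moduleSpecΓFunctor.obj F, ⟨@asIso _ _ _ _ F.fromTildeΓ ((isQuasicoherent_iff_isIso_fromTildeΓ F).1 hq)⟩⟩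
  have hfp : CohB1.IsFP (tilde P) :=
    FPEnough.isFP_of_retract hq (QCoh.isFP_of_isFinLocFree hF) (isQCoh_of_iso e.symm hq) e.inv e.hom e.hom_inv_id
  have h1 : FlatMod.IsFlat (tilde P) := IsFlat.of_iso e.symm (isFlat_of_isFinLocFree hF)
  haveI : Module.FinitePresentation R P := (QCoh.isFP_tilde_iff P).1 hfp
  haveI : Module.Flat R P := flat_of_tilde (A := R) P h1
  obtain ⟨n, i, p, h⟩ := exists_retract_tilde (A := R) P
  exact ⟨n, e.inv ≫ i, p ≫ e.hom, by rw [Category.assoc, reassoc_of% h, Iso.inv_hom_id]⟩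

/-- Uniform bound for finite free modules. -/
theorem exists_bound_free [CompactSpace X] [QuasiSeparatedSpace X] :
    ∃ b : ℤ, ∀ (n : ℕ) (N : DCoh.D X), DCoh.IsQCohD N → N.IsLE b →
      ∀ φ : DCoh.inD X (FlatMod.freeMod X n) ⟶ N, φ = 0 := by
  obtain ⟨b, hb⟩ := DQCompact.exists_bound (E := DCoh.inD X (Coh.structureModule X))
    (locSP_structure.of_iso ((DerivedCategory.singleFunctorIsoCompQ X.Modules 0).app _).symm)
  refine ⟨b, fun n N hN hNb φ => ?_⟩
  haveI : HasBiproduct (fun _ : Fin n => Coh.structureModule X) := HasBiproduct.of_hasCoproduct _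
  let O' := fun _ : Fin n => Coh.structureModule X
  have e : 𝟙 (FlatMod.freeMod X n) = ∑ i : Fin n,
      (biproduct.isoCoproduct O').inv ≫ biproduct.π O' i ≫ biproduct.ι O' i ≫ (biproduct.isoCoproduct O').hom := by
    rw [← Preadditive.comp_sum]
    simp only [← Category.assoc (biproduct.π _ _), ← Preadditive.sum_comp]
    simp only [biproduct.total, Category.id_comp]
    exact (biproduct.isoCoproduct O').inv_hom_id.symm
  rw [← Category.id_comp φ, ← CategoryTheory.Functor.map_id, e, Functor.map_sum, Preadditive.sum_comp]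
  refine Finset.sum_eq_zero fun i _ => ?_
  simp only [Functor.map_comp, Category.assoc]
  rw [hb N hN hNb (_ ≫ (_ ≫ φ))]
  simp only [comp_zero]

/-- Uniform bound for finite locally free modules on affine schemes. -/
theorem exists_bound_affine {Y : Scheme.{u}} [IsAffine Y] :
    ∃ b : ℤ, ∀ (F : Y.Modules), FlatMod.IsFinLocFree F → ∀ N : DCoh.D Y, DCoh.IsQCohD N → N.IsLE b →
      ∀ φ : DCoh.inD Y F ⟶ N, φ = 0 := by
  let g : Spec (CommRingCat.of Γ(Y, ⊤)) ⟶ Y := Y.isoSpec.inv
  obtain ⟨b, hb⟩ := exists_bound_free (X := Spec (CommRingCat.of Γ(Y, ⊤)))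
  haveI := AffineLift.isEquivalence_rho g
  refine ⟨b, fun F hF N hN hNb φ => (rho g).map_injective ?_⟩
  haveI := hNb
  rw [Functor.map_zero]
  let F' := (Scheme.Modules.restrictFunctor g).obj F
  let e : (rho g).obj (DCoh.inD Y F) ≅ DCoh.inD _ F' :=
    ((Scheme.Modules.restrictFunctor g).mapDerivedCategorySingleFunctor 0).app F
  obtain ⟨n, i, p, hip⟩ := exists_retract_spec (F := F')
    (H23.PullPush.isFinLocFree_of_iso ((Scheme.Modules.restrictFunctorIsoPullback g).app F).symm
      (isFinLocFree_pullback g hF))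
  rw [← cancel_epi e.inv, comp_zero, ← Category.id_comp (e.inv ≫ _),
    show 𝟙 (DCoh.inD _ F') = (DerivedCategory.singleFunctor _ 0).map (i ≫ p) by rw [hip]; simp,
    Functor.map_comp, Category.assoc]
  rw [hb n _ (isQCohD_rho g hN) ((DerivedCategory.isLE_iff _ _).2 fun k hk =>
    ((Scheme.Modules.restrictFunctor g).map_isZero (DerivedCategory.isZero_of_isLE N b k hk)).of_iso
      (restrictHDIso g N k)) ((DerivedCategory.singleFunctor _ 0).map p ≫ e.inv ≫ (rho g).map φ), comp_zero]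

/-- Uniform bound for finite locally free modules. -/
theorem exists_bound [CompactSpace X] [QuasiSeparatedSpace X] :
    ∃ b : ℤ, ∀ (F : X.Modules), FlatMod.IsFinLocFree F → ∀ N : DCoh.D X, DCoh.IsQCohD N → N.IsLE b →
      ∀ φ : DCoh.inD X F ⟶ N, φ = 0 := by
  let C := fun M : X.Modules => (HomologicalComplex.single X.Modules (ComplexShape.up ℤ) 0).obj M
  let eC := fun M : X.Modules => ((DerivedCategory.singleFunctorIsoCompQ X.Modules 0).app M).symm
  let Q := fun (F : X.Modules) (W : X.Opens) => DerivedCategory.Q.obj ((mapCx (lshRes W)).obj (C F))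
  let P : X.Opens → Prop := fun W => ∃ b : ℤ, ∀ F : X.Modules, FlatMod.IsFinLocFree F →
    ∀ N : DCoh.D X, DCoh.IsQCohD N → N.IsLE b → ∀ φ : Q F W ⟶ N, φ = 0
  have hA : ∀ W : X.Opens, IsAffineOpen W → P W := by
    intro W hW
    haveI : IsAffine (W : Scheme.{u}) := hW
    obtain ⟨b, hb⟩ := exists_bound_affine (Y := (W : Scheme.{u}))
    refine ⟨b, fun F hF N hN hNb φ => ?_⟩
    haveI := hNb
    let adj := H9Misc.TelLocal.derivedAdjunction (lshAdj W.ι)
    let F' := (Scheme.Modules.restrictFunctor W.ι).obj F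
    let e : Q F W ≅ (lsh W.ι).mapDerivedCategory.obj ((rho W.ι).obj (DCoh.inD X F)) :=
      DerivedCategory.Q.mapIso ((Functor.mapHomologicalComplexCompIso (Iso.refl (lshRes W))
        (ComplexShape.up ℤ)).app (C F)).symm ≪≫
      ((lsh W.ι).mapDerivedCategoryFactors.app _).symm ≪≫
      (lsh W.ι).mapDerivedCategory.mapIso (((rhoQ W.ι).app (C F)).symm ≪≫ (rho W.ι).mapIso (eC F))
    refine (cancel_epi e.inv).1 ((adj.homEquiv _ _).injective ?_)
    have hle : ((rho W.ι).obj N).IsLE b := (DerivedCategory.isLE_iff _ _).2 fun i hi =>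
      IsZero.of_iso ((Scheme.Modules.restrictFunctor W.ι).map_isZero
        (DerivedCategory.isZero_of_isLE N b i hi)) (restrictHDIso W.ι N i)
    let r : DCoh.inD _ F' ≅ (rho W.ι).obj (DCoh.inD X F) :=
      (((Scheme.Modules.restrictFunctor W.ι).mapDerivedCategorySingleFunctor 0).app F).symm
    have hz : ∀ ψ : (rho W.ι).obj (DCoh.inD X F) ⟶ (rho W.ι).obj N, ψ = 0 := fun ψ =>
      (cancel_epi r.hom).1 ((hb F' (H23.PullPush.isFinLocFree_of_iso
        ((Scheme.Modules.restrictFunctorIsoPullback W.ι).app F).symm (isFinLocFree_pullback W.ι hF))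
        _ (isQCohD_rho W.ι hN) hle _).trans comp_zero.symm)
    exact (hz _).trans (hz _).symm
  have hU : ∀ U V : X.Opens, IsCompact (U : Set X) → IsCompact (V : Set X) →
      P U → P V → P (U ⊓ V) → P (U ⊔ V) := by
    intro U V _ _ ⟨b₁, h₁⟩ ⟨b₂, h₂⟩ ⟨b₃, h₃⟩
    refine ⟨min (min b₁ b₂) (b₃ - 1), fun F hF N hN hNb φ => ?_⟩
    obtain ⟨a, c, d, hT⟩ := exists_mv_triangle' U V (U ⊔ V) le_sup_left le_sup_right le_rfl (C F)
    haveI := hNb
    let t : Triangulated.TStructure (DCoh.D X) := DerivedCategory.TStructure.t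
    have h0 : c ≫ φ = 0 := by
      apply biprod.hom_ext'
      · rw [comp_zero]
        exact h₁ F hF N hN (t.isLE_of_le N (min (min b₁ b₂) (b₃ - 1)) b₁
          ((min_le_left _ _).trans (min_le_left _ _))) _
      · rw [comp_zero]
        exact h₂ F hF N hN (t.isLE_of_le N (min (min b₁ b₂) (b₃ - 1)) b₂
          ((min_le_left _ _).trans (min_le_right _ _))) _
    obtain ⟨χ, rfl⟩ := Triangle.yoneda_exact₃ _ hT φ h0
    suffices χ = 0 by rw [this]; exact comp_zero
    let u₁ := (shiftFunctorCompIsoId (DCoh.D X) (1 : ℤ) (-1) (by omega)).app (Q F (U ⊓ V))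
    refine (shiftFunctor (DCoh.D X) (-1)).map_injective ((cancel_epi u₁.inv).1 ?_)
    rw [Functor.map_zero, comp_zero]
    haveI : t.IsLE N (min (min b₁ b₂) (b₃ - 1)) := ⟨hNb.1⟩
    have hsh : t.IsLE (N⟦(-1 : ℤ)⟧) (min (min b₁ b₂) (b₃ - 1) + 1) :=
      t.isLE_shift N (min (min b₁ b₂) (b₃ - 1)) (-1) (min (min b₁ b₂) (b₃ - 1) + 1) (by omega)
    exact h₃ F hF _ (isQCohD_shift hN _)
      (t.isLE_of_le (N⟦(-1 : ℤ)⟧) (min (min b₁ b₂) (b₃ - 1) + 1) b₃ (by omega)) _
  obtain ⟨b, hb⟩ := qc_induction P hA hU ⊤ (by simpa using isCompact_univ)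
  refine ⟨b, fun F hF N hN hNb φ => ?_⟩
  haveI : ∀ m, IsIso (((NatTrans.mapHomologicalComplex (lshAdj (⊤ : X.Opens).ι).counit
      (ComplexShape.up ℤ)).app (C F)).f m) := fun m =>
    isIso_of_stalk _ fun x => isIso_stalk_lsh_counit ⊤ ((C F).X m) x trivial
  haveI := HomologicalComplex.Hom.isIso_of_components
    ((NatTrans.mapHomologicalComplex (lshAdj (⊤ : X.Opens).ι).counit (ComplexShape.up ℤ)).app (C F))
  let e : Q F ⊤ ≅ DCoh.inD X F := DerivedCategory.Q.mapIso (asIso ((NatTrans.mapHomologicalComplex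
      (lshAdj (⊤ : X.Opens).ι).counit (ComplexShape.up ℤ)).app (C F)) ≪≫
    (Functor.mapHomologicalComplexIdIso X.Modules (ComplexShape.up ℤ)).app (C F)) ≪≫ eC F
  exact (cancel_epi e.hom).1 ((hb F hF N hN hNb _).trans comp_zero.symm)

/-- Maps from finite locally free modules to large shifts of a bounded object vanish. -/
theorem exists_vanish [CompactSpace X] [QuasiSeparatedSpace X] (E : DCoh.D X) (hE : DCoh.IsQCohD E) (b : ℤ)
    [E.IsLE b] : ∃ n₀ : ℤ, 0 < n₀ ∧ ∀ (F : X.Modules), FlatMod.IsFinLocFree F → ∀ n : ℤ, n₀ ≤ n →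
      ∀ φ : DCoh.inD X F ⟶ E⟦n⟧, φ = 0 := by
  obtain ⟨c, hc⟩ := exists_bound (X := X)
  refine ⟨max 1 (b - c), by omega, fun F hF n hn φ => hc F hF _ (isQCohD_shift hE n) ?_ φ⟩
  exact (DerivedCategory.isLE_iff _ _).2 fun j hj =>
    Window.isZero_hd_shift E n j (DerivedCategory.isZero_of_isLE E b (n + j) (by omega))

end Groth.Agent.KFlatLib.ExtBound
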