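import Groth.Agent.KFlatLib.Scheme.PerfectCompact
import Groth.Agent.KFlatLib.Scheme.RGammaPush
import Groth.Agent.KFlatLib.Scheme.EvalPerfect
import Groth.Agent.KFlatLib.Scheme.DualPerfect
import Groth.Agent.KFlatLib.Scheme.CohD
import Groth.Agent.KFlatLib.Perfect.Amplitude
import Groth.Agent.QCoh.GodHH
import Groth.Agent.TriCat.Sums

/-!
# Compactness of perfect complexes when the cohomological dimension is finite
-/

set_option linter.style.haveILetI false
set_option backward.isDefEq.respectTransparency false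

universe u

open CategoryTheory CategoryTheory.Limits CategoryTheory.Pretriangulated AlgebraicGeometry
open TopologicalSpace Opposite
open CategoryTheory.Abelian

attribute [local instance] HasDerivedCategory.standard

namespace Groth.Agent.KFlatLib

variable {X : Scheme.{u}}

/-- Injective modules have no higher cohomology. -/
lemma subsingleton_HH_of_injective (I : X.Modules) [Injective I] (n : ℕ) :
    Subsingleton (Coh.HH X I (n + 1)) := by
  haveI := QCoh.subsingleton_HH_God I n
  let r := Injective.factorThru (𝟙 I) (QCoh.toGod I)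
  refine subsingleton_of_forall_eq 0 fun x => ?_
  let F := SheafOfModules.toSheaf.{u} X.ringCatSheaf
  have h : x = Sheaf.H.map (F.map r) (n + 1) (Sheaf.H.map (F.map (QCoh.toGod I)) (n + 1) x) := by
    rw [← Sheaf.H.map_comp_apply, ← F.map_comp, Injective.comp_factorThru, F.map_id, Sheaf.H.map_id_apply]
  rw [h, Subsingleton.elim (Sheaf.H.map (F.map (QCoh.toGod I)) (n + 1) x) 0, map_zero]

lemma subsingleton_H_X₃ {Y : TopCat.{u}} {T : ShortComplex (CohTop.Ab Y)} (hT : T.ShortExact)
    (n : ℕ) (h₂ : Subsingleton (CohTop.H T.X₂ n)) (h₁ : Subsingleton (CohTop.H T.X₁ (n + 1))) :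
    Subsingleton (CohTop.H T.X₃ n) := by
  refine subsingleton_of_forall_eq 0 fun x => ?_
  obtain ⟨y, rfl⟩ := Ext.covariant_sequence_exact₃ _ hT x rfl (h₁.elim _ _)
  rw [h₂.elim y 0]
  exact Ext.zero_comp _ _ _ _ _

/-- In finite cohomological dimension, maps from the structure module to sufficiently negative
objects vanish. -/
theorem eq_zero_from_structure {d : ℕ}
    (hd : ∀ (F : X.Modules) (i : ℕ), d < i → Subsingleton (Coh.HH X F i))
    (J : CochainComplex X.Modules ℤ) [∀ n, Injective (J.X n)] [J.IsKInjective] (b : ℤ)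
    (hb : b + d + 2 ≤ 0) (hJ : ∀ i, b < i → IsZero (J.homology i))
    (φ : DerivedCategory.Q.obj ((HomologicalComplex.single X.Modules (ComplexShape.up ℤ) 0).obj
      (Coh.structureModule X)) ⟶ DerivedCategory.Q.obj J) : φ = 0 := by
  obtain ⟨g, rfl⟩ := exists_Q_map φ
  have hZ : ∀ (k n : ℕ) (i : ℤ), n + k = d → i = -1 - (n : ℤ) →
      Subsingleton (Coh.HH X (J.cycles i) (n + 1)) := fun k => by
    induction k with
    | zero => exact fun n i hn hi => hd _ _ (by omega)
    | succ k ih =>
      intro n i hn hi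
      obtain ⟨i, rfl⟩ : ∃ j, i = j + 1 := ⟨i - 1, by omega⟩
      obtain ⟨w, hS⟩ := shortExact_cycles J i (hJ _ (by omega))
      exact subsingleton_H_X₃ (QCoh.toAb_shortExact hS) (n + 1)
        (subsingleton_HH_of_injective (J.X i) n) (ih (n + 1) i (by omega) (by omega))
  obtain ⟨w, hS⟩ := shortExact_cycles J (-1) (hJ _ (by omega))
  let sx := HomologicalComplex.singleObjXSelf (ComplexShape.up ℤ) 0 (Coh.structureModule X)
  let z : Coh.structureModule X ⟶ J.cycles (-1 + 1) :=
    J.liftCycles (sx.inv ≫ g.f 0 ≫ (J.XIsoOfEq (show (0 : ℤ) = -1 + 1 by omega)).hom) (-1 + 1 + 1)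
      (by simp) (by
        simp only [Category.assoc, HomologicalComplex.XIsoOfEq_hom_comp_d, HomologicalComplex.Hom.comm]
        simp)
  obtain ⟨t, ht⟩ := QCoh.app_top_surjective_of_HH_one hS (hZ d 0 (-1) (by omega) (by simp))
    (topEquiv _ z)
  have hy : (topEquiv (J.X (-1))).symm t ≫ J.toCycles (-1) (-1 + 1) = z := by
    refine (topEquiv _).injective ((topEquiv_naturality _ _).trans ?_)
    rw [Equiv.apply_symm_apply]
    exact ht
  have hy' : (topEquiv (J.X (-1))).symm t ≫ J.d (-1) (-1 + 1) =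
      sx.inv ≫ g.f 0 ≫ (J.XIsoOfEq (show (0 : ℤ) = -1 + 1 by omega)).hom := by
    rw [← J.toCycles_i (-1) (-1 + 1), ← Category.assoc, hy]
    exact J.liftCycles_i _ _ _ _
  refine (DerivedCategory.Q_map_eq_of_homotopy _
    { hom := fun p q => if h : p = 0 ∧ q = -1 then
        (((HomologicalComplex.single X.Modules (ComplexShape.up ℤ) 0).obj
          (Coh.structureModule X)).XIsoOfEq h.1).hom ≫ sx.hom ≫ (topEquiv (J.X (-1))).symm t ≫
            (J.XIsoOfEq h.2).inv else 0
      zero := fun p q hpq => dif_neg fun h => hpq (by rw [h.1, h.2]; rfl)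
      comm := fun p => ?_ }).trans (Functor.map_zero _ _ _)
  by_cases hp : p = 0
  · subst hp
    rw [dNext_eq _ (show (ComplexShape.up ℤ).Rel (0 : ℤ) 1 from rfl),
      prevD_eq _ (show (ComplexShape.up ℤ).Rel (-1 : ℤ) 0 from rfl),
      HomologicalComplex.single_obj_d, zero_comp, zero_add, dif_pos (And.intro rfl rfl),
      HomologicalComplex.zero_f, add_zero]
    have h := congrArg (fun s => sx.hom ≫ s ≫ (J.XIsoOfEq (show (0 : ℤ) = -1 + 1 by omega)).inv) hy'
    simp only [Category.assoc, Iso.hom_inv_id_assoc, Iso.hom_inv_id, Category.comp_id,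
      HomologicalComplex.d_comp_XIsoOfEq_inv] at h
    simp only [HomologicalComplex.XIsoOfEq_rfl, Iso.refl_hom, Iso.refl_inv, Category.id_comp,
      Category.assoc]
    exact h.symm
  · exact (HomologicalComplex.isZero_single_obj_X _ _ _ _ hp).eq_of_src _ _

section IHom

variable (I : CochainComplex X.Modules ℤ) [∀ n, Injective (I.X n)]

/-- `iHom` from bounded complexes of free modules of a complex bounded above. -/
theorem isZero_homology_iHom_free {b : ℤ} (hI : ∀ i, b < i → IsZero (I.homology i))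
    (P : CochainComplex X.Modules ℤ) (lo hi : ℤ) (hab : DCoh.VanishesOutside P lo hi)
    (hfree : ∀ i, ∃ n, Nonempty (P.X i ≅ FlatMod.freeMod X n)) (k : ℤ) (hk : b - lo < k) :
    IsZero (((iHom P).obj I).homology k) := by
  let Ψ : ObjectProperty (CochainComplex X.Modules ℤ) := fun P =>
    ∀ a : ℤ, (∀ i < a, IsZero (P.X i)) → ∀ k, b - a < k → IsZero (((iHom P).obj I).homology k)
  haveI : Ψ.IsClosedUnderIsomorphisms := ⟨fun {P P'} e h a ha k hk =>
    (h a (fun i hi => (ha i hi).of_iso ((HomologicalComplex.eval _ _ i).mapIso e)) k hk).of_iso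
      ((HomologicalComplex.homologyFunctor _ _ k).mapIso
        ((Inner.innerHomIso (DCoh.tensorBi (X := X)) e).app I)).symm⟩
  refine cx_devissage Ψ (fun P hP a _ k _ => ?_) (fun S hS _ h₁ h₃ a ha k hk => ?_) (fun j a ha k hk => ?_)
    lo ((hi + 1 - lo).toNat) P (fun i hi' => hab i (by omega)) hfree lo (fun i hi' => hab i (Or.inl hi')) k hk
  · exact (HomologicalComplex.homologyFunctor _ _ k).map_isZero (isZero_iHom hP I)
  · obtain ⟨w, hse⟩ := Inner.innerHom_shortExact (DCoh.tensorBi (X := X)) S hS I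
    refine (hse.homology_exact₂ k).isZero_of_both_zeros
      ((h₃ a (fun i hi => ?_) k hk).eq_of_src _ _) ((h₁ a (fun i hi => ?_) k hk).eq_of_tgt _ _)
    · haveI := (hS i).some.isSplitEpi_g
      exact IsZero.of_epi (S.map (HomologicalComplex.eval _ _ i)).g (ha i hi)
    · haveI := (hS i).some.isSplitMono_f
      exact IsZero.of_mono (S.map (HomologicalComplex.eval _ _ i)).f (ha i hi)
  · obtain ⟨e⟩ := nonempty_iHomUnitIso (X := X) j
    by_cases hj : j < a
    · have hO : IsZero (Coh.structureModule X) :=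
        (ha j hj).of_iso (HomologicalComplex.singleObjXSelf (ComplexShape.up ℤ) j _).symm
      exact (HomologicalComplex.homologyFunctor _ _ k).map_isZero
        (isZero_iHom (Functor.map_isZero _ hO) I)
    · refine IsZero.of_iso ?_ ((HomologicalComplex.homologyFunctor _ _ k).mapIso (e.app I))
      exact (hI (j + k) (by omega)).of_iso
        (((HomologicalComplex.homologyFunctor X.Modules (ComplexShape.up ℤ) 0).shiftIso j k (j + k) rfl).app I)

end IHom

/-- For perfect `K` on a quasi-compact scheme `RHom(K, -)` raises the upper bound boundedly. -/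
theorem exists_bound_iHom [CompactSpace X] (K : CochainComplex X.Modules ℤ)
    (hK : DCoh.IsPerfect (DCoh.toD X K)) :
    ∃ c : ℤ, ∀ (I : CochainComplex X.Modules ℤ) [∀ n, Injective (I.X n)] [I.IsKInjective] (b : ℤ),
      (∀ i, b < i → IsZero (I.homology i)) → ∀ k, b + c < k → IsZero (((iHom K).obj I).homology k) := by
  choose V hxV hV using fun x => free_rep_range hK x
  choose P lo hi hab hfree eP using fun x => hV x K ⟨Iso.refl _⟩
  obtain ⟨t, ht⟩ := isCompact_univ.elim_finite_subcover (fun x : X => (V x : Set X))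
    (fun x => (V x).2) (fun x _ => Set.mem_iUnion.2 ⟨x, hxV x⟩)
  refine ⟨((∑ x ∈ t, (lo x).natAbs : ℕ) : ℤ), fun I _ _ b hI k hk => isZero_of_stalk _ fun y => ?_⟩
  obtain ⟨x, hxt, hy⟩ := Set.mem_iUnion₂.1 (ht (Set.mem_univ y))
  have hx : (lo x).natAbs ≤ ∑ x ∈ t, (lo x).natAbs :=
    Finset.single_le_sum (f := fun x => (lo x).natAbs) (fun _ _ => Nat.zero_le _) hxt
  let j := (V x).ι
  let J := (rCx j).obj I
  haveI : J.IsKInjective := isKInjective_rCx j I
  haveI : ∀ n, Injective (J.X n) := injective_rCx j I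
  have hJ : ∀ i, b < i → IsZero (J.homology i) := fun i hi =>
    ((Scheme.Modules.restrictFunctor j).map_isZero (hI i hi)).of_iso
      (((DerivedCategory.homologyFunctorFactors _ i).app J).symm ≪≫
        (DerivedCategory.homologyFunctor _ i).mapIso ((rhoQ j).app I).symm ≪≫
        restrictHDIso j (DerivedCategory.Q.obj I) i ≪≫
        (Scheme.Modules.restrictFunctor j).mapIso ((DerivedCategory.homologyFunctorFactors _ i).app I))
  obtain ⟨e₁⟩ := nonempty_rho_iHom j K I
  obtain ⟨e₂⟩ := nonempty_iHom_iso_of_iso (A := (rCx j).obj K) (B := P x) (eP x).some J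
  have hz := isZero_homology_iHom_free J hJ (P x) (lo x) (hi x) (hab x) (hfree x) k (by omega)
  refine (isZero_stalk_of_restrict j ⟨y, hy⟩ ((DerSch.stalkFunctor _ _).map_isZero (hz.of_iso ?_)) :)
  exact (Scheme.Modules.restrictFunctor j).mapIso
      ((DerivedCategory.homologyFunctorFactors _ k).app ((iHom K).obj I)).symm ≪≫
    (restrictHDIso j (DerivedCategory.Q.obj ((iHom K).obj I)) k).symm ≪≫
    (DerivedCategory.homologyFunctor _ k).mapIso (e₁ ≪≫ e₂) ≪≫
    (DerivedCategory.homologyFunctorFactors _ k).app _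

/-- In finite cohomological dimension, perfect complexes do not map to sufficiently negative objects. -/
theorem exists_bound_hom_eq_zero [CompactSpace X] {d : ℕ}
    (hd : ∀ (F : X.Modules) (i : ℕ), d < i → Subsingleton (Coh.HH X F i)) {E : DCoh.D X}
    (hE : DCoh.IsPerfect E) : ∃ b : ℤ, ∀ N : DCoh.D X, N.IsLE b → ∀ φ : E ⟶ N, φ = 0 := by
  let K₀ := DerivedCategory.Q.objPreimage E
  let K := (kRes X).obj K₀
  haveI := (flatCover X).quasiIso_ψ K₀
  haveI := isIso_Q_map ((flatCover X).ψ.app K₀) ((flatCover X).quasiIso_ψ K₀)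
  let eK : DerivedCategory.Q.obj K ≅ E :=
    asIso (DerivedCategory.Q.map ((flatCover X).ψ.app K₀)) ≪≫ DerivedCategory.Q.objObjPreimageIso E
  obtain ⟨c, hc⟩ := exists_bound_iHom K ((isPerfect_iff _).2 (((isPerfect_iff _).1 hE).of_iso eK.symm))
  refine ⟨-(d : ℤ) - 2 - c, fun N hN φ => ?_⟩
  obtain ⟨I, hI, hinj, ⟨eN⟩⟩ := exists_kInjective_rep N
  have hKf : DCoh.IsKFlat K := isKFlat_kRes K₀
  haveI := isKInjective_iHom hKf I
  let A := (iHom K).obj I
  have hIz : ∀ i, -(d : ℤ) - 2 - c < i → IsZero (I.homology i) := fun i hi =>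
    ((N.isZero_of_isLE (-(d : ℤ) - 2 - c) i hi).of_iso
      ((DerivedCategory.homologyFunctor _ i).mapIso eN).symm).of_iso
      ((DerivedCategory.homologyFunctorFactors _ i).app I).symm
  obtain ⟨g, hg⟩ := exists_Q_map (eK.hom ≫ φ ≫ eN.hom)
  let S := HomologicalComplex.single X.Modules (ComplexShape.up ℤ) 0
  obtain ⟨er⟩ := nonempty_tensorUnitIso K
  let el : (DCoh.tensorCx.obj (S.obj (Coh.structureModule X))).obj K ≅ K :=
    (symmIso (tensorBiFlipIso X) K).app (S.obj (Coh.structureModule X)) ≪≫ er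
  let gh := (iHomAdj K).homEquiv (S.obj (Coh.structureModule X)) I (el.hom ≫ g)
  have h0 : DerivedCategory.Q.map gh = 0 := by
    obtain ⟨J, hJ, hJi, ⟨eJ⟩⟩ := exists_kInjective_rep (DerivedCategory.Q.obj A)
    refine (cancel_mono eJ.hom).1 ((eq_zero_from_structure hd J (-(d : ℤ) - 2) (by omega)
      (fun i hi => ?_) _).trans zero_comp.symm)
    exact (hc I (-(d : ℤ) - 2 - c) hIz i (by omega)).of_iso
      (((DerivedCategory.homologyFunctorFactors _ i).app J).symm ≪≫
        (DerivedCategory.homologyFunctor _ i).mapIso eJ.symm ≪≫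
        (DerivedCategory.homologyFunctorFactors _ i).app A)
  obtain ⟨H⟩ := (Inner.nonempty_homotopy_iff (DCoh.tensorBi (X := X)) gh 0).1
    (homotopy_of_Q_map_eq gh 0 (h0.trans (Functor.map_zero _ _ _).symm))
  have h1 := DerivedCategory.Q_map_eq_of_homotopy _ H
  rw [show ((iHomAdj K).homEquiv _ I).symm (0 : _ ⟶ A) = 0 from
    ((iHomAdj K).homEquiv_counit _ _ _).trans (by rw [Functor.map_zero, zero_comp]),
    Equiv.symm_apply_apply, Functor.map_comp, Functor.map_zero, hg] at h1
  rwa [← cancel_epi (DerivedCategory.Q.map el.hom ≫ eK.hom), ← cancel_mono eN.hom, comp_zero, zero_comp,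
    Category.assoc, Category.assoc]

/-- In finite cohomological dimension perfect complexes see finitely many summands of any family. -/
theorem fixAt_of_finite_dim [CompactSpace X] [QuasiSeparatedSpace X] {d : ℕ}
    (hd : ∀ (F : X.Modules) (i : ℕ), d < i → Subsingleton (Coh.HH X F i)) {E : DCoh.D X}
    (hE : DCoh.IsPerfect E) {J : Type u} (M : J → DCoh.D X) [HasCoproduct M] : FixAt M E := by
  obtain ⟨b, hb⟩ := exists_bound_hom_eq_zero hd hE
  haveI : HasColimitsOfShape (Discrete J) (DCoh.D X) := TriCat.hasColimitsOfShape_derivedCategory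
  choose A B hA hB f g h hT using fun j =>
    DerivedCategory.TStructure.t.exists_triangle (M j) b (b + 1) rfl
  choose K eK hK using hA
  haveI : ∀ j, (B j).IsGE (b + 1) := fun j => ⟨hB j⟩
  haveI : ∀ j, (K j).IsStrictlyLE b := hK
  haveI := preservesColimit_Q K
  haveI : (∐ A).IsLE b := by
    haveI : (∐ K).IsStrictlyLE b := (CochainComplex.isStrictlyLE_iff _ b).2 fun k hk => by
      refine IsZero.of_iso ?_ (PreservesCoproduct.iso
        (HomologicalComplex.eval X.Modules (ComplexShape.up ℤ) k) K)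
      rw [IsZero.iff_id_eq_zero]
      exact Sigma.hom_ext _ _ fun j => ((K j).isZero_of_isStrictlyLE b k hk).eq_of_src _ _
    exact ⟨⟨∐ K, Limits.Sigma.mapIso eK ≪≫ (PreservesCoproduct.iso DerivedCategory.Q K).symm,
      inferInstance⟩⟩
  let S : Triangle (DCoh.D X) := Triangle.mk (Limits.Sigma.map f) (Limits.Sigma.map g)
    (Sigma.desc fun j => h j ≫ (Sigma.ι A j)⟦(1 : ℤ)⟧')
  have hS : S ∈ distTriang (DCoh.D X) := TriCat.distinguished_of_isSum
    (fun j => Triangle.mk (f j) (g j) (h j)) hT S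
    (fun j =>
      { hom₁ := Sigma.ι A j
        hom₂ := Sigma.ι M j
        hom₃ := Sigma.ι B j
        comm₁ := (Limits.Sigma.ι_map f j).symm
        comm₂ := (Limits.Sigma.ι_map g j).symm
        comm₃ := (Sigma.ι_desc (fun j => h j ≫ (Sigma.ι A j)⟦(1 : ℤ)⟧') j).symm })
    (TriCat.isSum_sigma A) (TriCat.isSum_sigma M) (TriCat.isSum_sigma B)
  intro φ
  obtain ⟨F, hF⟩ := (fix_of_isPerfect hE B (b + 1)).at_zero (φ ≫ S.mor₂)
  obtain ⟨ψ, hψ⟩ := Triangle.coyoneda_exact₂ _ hS (φ - φ ≫ partProj M F) (by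
    rw [Preadditive.sub_comp, Category.assoc, sub_eq_zero]
    exact (((congrArg (φ ≫ ·) (sigmaMap_partProj M g F)).trans (Category.assoc _ _ _).symm).trans hF).symm)
  refine ⟨F, (sub_eq_zero.1 (hψ.trans ?_)).symm⟩
  rw [hb S.obj₁ (show (∐ A).IsLE b from inferInstance) ψ, zero_comp]

/-- In finite cohomological dimension perfect complexes are compact. -/
theorem bijective_of_finite_dim [CompactSpace X] [QuasiSeparatedSpace X] {d : ℕ}
    (hd : ∀ (F : X.Modules) (i : ℕ), d < i → Subsingleton (Coh.HH X F i)) {E : DCoh.D X}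
    (hE : DCoh.IsPerfect E) {J : Type u} {ι : Type (u + 1)} (e : J ≃ ι) (M : ι → DCoh.D X)
    [HasCoproduct M] : Function.Bijective (CohDer.homSumToHomCoprod E M) := by
  haveI : HasColimitsOfShape (Discrete J) (DCoh.D X) := TriCat.hasColimitsOfShape_derivedCategory
  exact bijective_homSumToHomCoprod M
    ((fixAt_of_finite_dim hd hE (fun j => M (e j))).reindex e fun _ => Iso.refl _)

/-- Perfect complexes are compact for bounded below families. -/
theorem bijective_of_isGE [CompactSpace X] [QuasiSeparatedSpace X] {E : DCoh.D X}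
    (hE : DCoh.IsPerfect E) {J : Type u} {ι : Type (u + 1)} (e : J ≃ ι) (M : ι → DCoh.D X)
    [HasCoproduct M] (a : ℤ) [∀ i, (M i).IsGE a] :
    Function.Bijective (CohDer.homSumToHomCoprod E M) := by
  haveI : HasColimitsOfShape (Discrete J) (DCoh.D X) := TriCat.hasColimitsOfShape_derivedCategory
  exact bijective_homSumToHomCoprod M
    ((fix_of_isPerfect hE (fun j => M (e j)) a).at_zero.reindex e fun _ => Iso.refl _)

end Groth.Agent.KFlatLib
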