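import Groth.Agent.KFlatLib.Scheme.AffineLift
import Groth.Agent.KFlatLib.Scheme.CompactGlobal
import Groth.Agent.KFlatLib.Scheme.QcInduction
import Groth.Agent.H9Misc.TelLocal

/-!
# Perfect objects are compact in `D_QCoh`
-/

set_option linter.style.haveILetI false
set_option backward.isDefEq.respectTransparency false

universe u

open CategoryTheory CategoryTheory.Limits AlgebraicGeometry Pretriangulated TopologicalSpace

attribute [local instance] HasDerivedCategory.standard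

namespace Groth.Agent.KFlatLib.DQCompact

/-- The bound in the affine case. -/
theorem exists_bound_spec {A : Type u} [CommRing A] {E : DCoh.D (Spec (CommRingCat.of A))} (hE : LocSP E) :
    ∃ b : ℤ, ∀ N : DCoh.D (Spec (CommRingCat.of A)), DCoh.IsQCohD N → N.IsLE b → ∀ φ : E ⟶ N, φ = 0 := by
  haveI : PreservesFiniteLimits (tilde.functor (CommRingCat.of A)) := QCoh.tilde_preservesFiniteLimits
  haveI := hasLTen A
  obtain ⟨P, ⟨eP⟩⟩ := exists_tildeD_iso (R := CommRingCat.of A) (AffineLift.isQCohD_of_locSP hE)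
  have hP : DRing.IsPerfect A P :=
    (perfect_tildeD_iff (R := CommRingCat.of A) P).1 ((isPerfect_iff _).2 (hE.of_iso eP.symm))
  obtain ⟨b, hb⟩ : ∃ b : ℤ, ∀ M : Dual.D A, M.IsLE b → ∀ φ : P ⟶ M, φ = 0 := by
    refine perfect_induction (fun P => ∃ b : ℤ, ∀ M : Dual.D A, M.IsLE b → ∀ φ : P ⟶ M, φ = 0) ?_ ?_ ?_ ?_ hP
    · intro K K' e ⟨b, hb⟩
      exact ⟨b, fun M hM φ => (cancel_epi e.hom).1 ((hb M hM _).trans comp_zero.symm)⟩
    · intro T hT ⟨b₁, h₁⟩ ⟨b₃, h₃⟩
      refine ⟨min b₁ b₃, fun M hM φ => ?_⟩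
      haveI := hM
      obtain ⟨χ, hχ⟩ := Triangle.yoneda_exact₂ _ hT φ
        (h₁ M (DerivedCategory.TStructure.t.isLE_of_le M (min b₁ b₃) b₁ (min_le_left _ _)) _)
      rw [hχ, h₃ M (DerivedCategory.TStructure.t.isLE_of_le M (min b₁ b₃) b₃ (min_le_right _ _)) χ, comp_zero]
    · intro K K' i r hir ⟨b, hb⟩
      refine ⟨b, fun M hM φ => ?_⟩
      rw [← Category.id_comp φ, ← hir, Category.assoc, hb M hM (r ≫ φ), comp_zero]
    · intro n
      refine ⟨-n - 1, fun M hM φ => ?_⟩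
      haveI := hM
      obtain ⟨θ⟩ := exists_homUnitLEquiv (A := A) M n (-n) (add_neg_cancel n)
      haveI : Subsingleton (Dual.HD A M (-n)) :=
        ModuleCat.subsingleton_of_isZero (DerivedCategory.isZero_of_isLE M (-n - 1) (-n) (by omega))
      exact θ.injective (Subsingleton.elim _ _)
  refine ⟨b, fun N hN hNb φ => ?_⟩
  obtain ⟨M, ⟨eM⟩⟩ := exists_tildeD_iso (R := CommRingCat.of A) hN
  have hM : M.IsLE b := (DerivedCategory.isLE_iff _ _).2 fun i hi => by
    obtain ⟨e⟩ := KoszulOrth.nonempty_hd_tld M i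
    have hz := ((DerivedCategory.isZero_of_isLE N b i hi).of_iso
      ((DerivedCategory.homologyFunctor _ i).mapIso eM)).of_iso e.symm
    haveI := (tilde.fullyFaithfulFunctor (R := CommRingCat.of A)).faithful
    exact (IsZero.iff_id_eq_zero _).2 ((tilde.functor (CommRingCat.of A)).map_injective (hz.eq_of_src _ _))
  obtain ⟨ψ, hψ⟩ := (tildeD_map_bijective (R := CommRingCat.of A) P M).2 (eP.hom ≫ φ ≫ eM.inv)
  rw [hb M hM ψ, Functor.map_zero] at hψ
  exact (cancel_mono eM.inv).1 ((cancel_epi eP.hom).1 (by rw [← hψ, zero_comp, comp_zero]))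

/-- The bound on an affine scheme. -/
theorem exists_bound_affine {Y : Scheme.{u}} [IsAffine Y] {E : DCoh.D Y} (hE : LocSP E) :
    ∃ b : ℤ, ∀ N : DCoh.D Y, DCoh.IsQCohD N → N.IsLE b → ∀ φ : E ⟶ N, φ = 0 := by
  let g : Spec (CommRingCat.of Γ(Y, ⊤)) ⟶ Y := Y.isoSpec.inv
  obtain ⟨b, hb⟩ := exists_bound_spec (A := Γ(Y, ⊤)) (hE.restrict' g)
  haveI := AffineLift.isEquivalence_rho g
  refine ⟨b, fun N hN hNb φ => (rho g).map_injective ?_⟩
  haveI := hNb
  rw [Functor.map_zero]
  exact hb _ (isQCohD_rho g hN) ((DerivedCategory.isLE_iff _ _).2 fun i hi =>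
    ((Scheme.Modules.restrictFunctor g).map_isZero (DerivedCategory.isZero_of_isLE N b i hi)).of_iso
      (restrictHDIso g N i)) _

variable {X : Scheme.{u}}

/-- Perfect objects do not map to sufficiently negative objects of `D_QCoh`. -/
theorem exists_bound [CompactSpace X] [QuasiSeparatedSpace X] {E : DCoh.D X} (hE : LocSP E) :
    ∃ b : ℤ, ∀ N : DCoh.D X, DCoh.IsQCohD N → N.IsLE b → ∀ φ : E ⟶ N, φ = 0 := by
  let F := DerivedCategory.Q.objPreimage E
  let eF : DerivedCategory.Q.obj F ≅ E := DerivedCategory.Q.objObjPreimageIso E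
  let Q := fun W : X.Opens => DerivedCategory.Q.obj ((mapCx (lshRes W)).obj F)
  let P : X.Opens → Prop := fun W =>
    ∃ b : ℤ, ∀ N : DCoh.D X, DCoh.IsQCohD N → N.IsLE b → ∀ φ : Q W ⟶ N, φ = 0
  have hA : ∀ W : X.Opens, IsAffineOpen W → P W := by
    intro W hW
    haveI : IsAffine (W : Scheme.{u}) := hW
    obtain ⟨b, hb⟩ := exists_bound_affine (hE.restrict' W.ι)
    refine ⟨b, fun N hN hNb φ => ?_⟩
    haveI := hNb
    let adj := H9Misc.TelLocal.derivedAdjunction (lshAdj W.ι)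
    let e : Q W ≅ (lsh W.ι).mapDerivedCategory.obj ((rho W.ι).obj E) :=
      DerivedCategory.Q.mapIso ((Functor.mapHomologicalComplexCompIso (Iso.refl (lshRes W))
        (ComplexShape.up ℤ)).app F).symm ≪≫
      ((lsh W.ι).mapDerivedCategoryFactors.app _).symm ≪≫
      (lsh W.ι).mapDerivedCategory.mapIso (((rhoQ W.ι).app F).symm ≪≫ (rho W.ι).mapIso eF)
    refine (cancel_epi e.inv).1 ((adj.homEquiv _ _).injective ?_)
    have hle : ((rho W.ι).obj N).IsLE b := (DerivedCategory.isLE_iff _ _).2 fun i hi =>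
      IsZero.of_iso ((Scheme.Modules.restrictFunctor W.ι).map_isZero
        (DerivedCategory.isZero_of_isLE N b i hi)) (restrictHDIso W.ι N i)
    exact (hb _ (isQCohD_rho W.ι hN) hle _).trans (hb _ (isQCohD_rho W.ι hN) hle _).symm
  have hU : ∀ U V : X.Opens, IsCompact (U : Set X) → IsCompact (V : Set X) →
      P U → P V → P (U ⊓ V) → P (U ⊔ V) := by
    intro U V _ _ ⟨b₁, h₁⟩ ⟨b₂, h₂⟩ ⟨b₃, h₃⟩
    obtain ⟨a, c, d, hT⟩ := exists_mv_triangle' U V (U ⊔ V) le_sup_left le_sup_right le_rfl F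
    refine ⟨min (min b₁ b₂) (b₃ - 1), fun N hN hNb φ => ?_⟩
    haveI := hNb
    let t : Triangulated.TStructure (DCoh.D X) := DerivedCategory.TStructure.t
    have h0 : c ≫ φ = 0 := by
      apply biprod.hom_ext'
      · rw [comp_zero]
        exact h₁ N hN (t.isLE_of_le N (min (min b₁ b₂) (b₃ - 1)) b₁
          ((min_le_left _ _).trans (min_le_left _ _))) _
      · rw [comp_zero]
        exact h₂ N hN (t.isLE_of_le N (min (min b₁ b₂) (b₃ - 1)) b₂
          ((min_le_left _ _).trans (min_le_right _ _))) _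
    obtain ⟨χ, rfl⟩ := Triangle.yoneda_exact₃ _ hT φ h0
    suffices χ = 0 by rw [this]; exact comp_zero
    let u₁ := (shiftFunctorCompIsoId (DCoh.D X) (1 : ℤ) (-1) (by omega)).app (Q (U ⊓ V))
    refine (shiftFunctor (DCoh.D X) (-1)).map_injective ((cancel_epi u₁.inv).1 ?_)
    rw [Functor.map_zero, comp_zero]
    haveI : t.IsLE N (min (min b₁ b₂) (b₃ - 1)) := ⟨hNb.1⟩
    have hsh : t.IsLE (N⟦(-1 : ℤ)⟧) (min (min b₁ b₂) (b₃ - 1) + 1) :=
      t.isLE_shift N (min (min b₁ b₂) (b₃ - 1)) (-1) (min (min b₁ b₂) (b₃ - 1) + 1) (by omega)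
    exact h₃ _ (isQCohD_shift hN _)
      (t.isLE_of_le (N⟦(-1 : ℤ)⟧) (min (min b₁ b₂) (b₃ - 1) + 1) b₃ (by omega)) _
  obtain ⟨b, hb⟩ := qc_induction P hA hU ⊤ (by simpa using isCompact_univ)
  refine ⟨b, fun N hN hNb φ => ?_⟩
  haveI : ∀ m, IsIso (((NatTrans.mapHomologicalComplex (lshAdj (⊤ : X.Opens).ι).counit
      (ComplexShape.up ℤ)).app F).f m) := fun m =>
    isIso_of_stalk _ fun x => isIso_stalk_lsh_counit ⊤ (F.X m) x trivial
  haveI := HomologicalComplex.Hom.isIso_of_components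
    ((NatTrans.mapHomologicalComplex (lshAdj (⊤ : X.Opens).ι).counit (ComplexShape.up ℤ)).app F)
  let e : Q ⊤ ≅ E := DerivedCategory.Q.mapIso (asIso ((NatTrans.mapHomologicalComplex
      (lshAdj (⊤ : X.Opens).ι).counit (ComplexShape.up ℤ)).app F) ≪≫
    (Functor.mapHomologicalComplexIdIso X.Modules (ComplexShape.up ℤ)).app F) ≪≫ eF
  exact (cancel_epi e.hom).1 ((hb N hN hNb _).trans comp_zero.symm)

/-- Perfect objects see finitely many summands of families in `D_QCoh`. -/
theorem fixAt [CompactSpace X] [QuasiSeparatedSpace X] {E : DCoh.D X} (hE : DCoh.IsPerfect E)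
    {J : Type u} (M : J → DCoh.D X) (hM : ∀ j, DCoh.IsQCohD (M j)) [HasCoproduct M] : FixAt M E := by
  obtain ⟨b, hb⟩ := exists_bound ((isPerfect_iff _).1 hE)
  haveI : HasColimitsOfShape (Discrete J) (DCoh.D X) := TriCat.hasColimitsOfShape_derivedCategory
  let t : Triangulated.TStructure (DCoh.D X) := DerivedCategory.TStructure.t
  let A := fun j => (t.truncLT (b + 1)).obj (M j)
  let B := fun j => (t.truncGE (b + 1)).obj (M j)
  haveI hB : ∀ j, (B j).IsGE (b + 1) := fun j => t.isGE_truncGE_obj (M j) _ _ le_rfl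
  have hA : ∀ j, DerivedCategory.IsLE (A j) b := fun j => t.isLE_truncLT_obj (M j) _ _ (by omega)
  haveI hSA : (∐ A).IsLE b := by
    rw [DerivedCategory.isLE_iff]
    intro i hi
    haveI := preservesColimit_homology A i
    refine IsZero.of_iso ?_ (PreservesCoproduct.iso (DerivedCategory.homologyFunctor X.Modules i) A)
    refine (IsZero.iff_id_eq_zero _).2 (Sigma.hom_ext _ _ fun j => ?_)
    haveI := hA j
    exact (DerivedCategory.isZero_of_isLE (A j) b i hi).eq_of_src _ _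
  let S : Triangle (DCoh.D X) := Triangle.mk (Limits.Sigma.map fun j => (t.truncLTι (b + 1)).app (M j))
    (Limits.Sigma.map fun j => (t.truncGEπ (b + 1)).app (M j))
    (Sigma.desc fun j => (t.truncGEδLT (b + 1)).app (M j) ≫ (Sigma.ι A j)⟦(1 : ℤ)⟧')
  have hS : S ∈ distTriang (DCoh.D X) := TriCat.distinguished_of_isSum
    (fun j => (t.triangleLTGE (b + 1)).obj (M j)) (fun j => t.triangleLTGE_distinguished _ _) S
    (fun j =>
      { hom₁ := Sigma.ι A j
        hom₂ := Sigma.ι M j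
        hom₃ := Sigma.ι B j
        comm₁ := (Limits.Sigma.ι_map (fun j => (t.truncLTι (b + 1)).app (M j)) j).symm
        comm₂ := (Limits.Sigma.ι_map (fun j => (t.truncGEπ (b + 1)).app (M j)) j).symm
        comm₃ := (Sigma.ι_desc (fun j => (t.truncGEδLT (b + 1)).app (M j) ≫ (Sigma.ι A j)⟦(1 : ℤ)⟧') j).symm })
    (TriCat.isSum_sigma A) (TriCat.isSum_sigma M) (TriCat.isSum_sigma B)
  intro φ
  obtain ⟨F, hF⟩ := (fix_of_isPerfect hE B (b + 1)).at_zero (φ ≫ S.mor₂)
  obtain ⟨ψ, hψ⟩ := Triangle.coyoneda_exact₂ _ hS (φ - φ ≫ partProj M F) (by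
    rw [Preadditive.sub_comp, Category.assoc, sub_eq_zero]
    exact (((congrArg (φ ≫ ·) (sigmaMap_partProj M (fun j => (t.truncGEπ (b + 1)).app (M j)) F)).trans
      (Category.assoc _ _ _).symm).trans hF).symm)
  refine ⟨F, (sub_eq_zero.1 (hψ.trans ?_)).symm⟩
  have hq : DCoh.IsQCohD S.obj₁ := isQCohD_sigma A fun j i => by
    by_cases hi : b < i
    · haveI := hA j
      exact isQCoh_of_isZero (DerivedCategory.isZero_of_isLE (A j) b i hi)
    · have hT := t.triangleLTGE_distinguished (b + 1) (M j)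
      let H := DerivedCategory.homologyFunctor X.Modules
      haveI : Epi ((H i).map ((t.triangleLTGE (b + 1)).obj (M j)).mor₁) :=
        (DerivedCategory.HomologySequence.exact₂ _ hT i).epi_f
          ((DerivedCategory.isZero_of_isGE (B j) (b + 1) i (by omega)).eq_of_tgt _ _)
      haveI : Mono ((H i).map ((t.triangleLTGE (b + 1)).obj (M j)).mor₁) :=
        (DerivedCategory.HomologySequence.mono_homologyMap_mor₁_iff _ hT (i - 1) i (by omega)).2
          ((DerivedCategory.isZero_of_isGE (B j) (b + 1) (i - 1) (by omega)).eq_of_src _ _)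
      haveI := isIso_of_mono_of_epi ((H i).map ((t.triangleLTGE (b + 1)).obj (M j)).mor₁)
      exact isQCoh_of_iso (asIso ((H i).map ((t.triangleLTGE (b + 1)).obj (M j)).mor₁)).symm (hM j i)
  rw [hb S.obj₁ hq hSA ψ, zero_comp]

end Groth.Agent.KFlatLib.DQCompact
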