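import Groth.Agent.KFlatLib.Scheme.DualPerfect
import Groth.Agent.KFlatLib.Scheme.TorAmpPush

/-!
# `RHom(E, G)` for perfect `E` and a module `G`
-/

set_option linter.style.haveILetI false
set_option backward.isDefEq.respectTransparency false

universe u

open CategoryTheory CategoryTheory.Limits AlgebraicGeometry

attribute [local instance] HasDerivedCategory.standard

namespace Groth.Agent.KFlatLib

variable {X : Scheme.{u}}

/-- Symmetry of the derived tensor product. -/
lemma nonempty_ltensor_symm (D M : CochainComplex X.Modules ℤ) (hD : DCoh.IsKFlat D)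
    [DCoh.HasLTensorCx D] [DCoh.HasLTensorCx M] :
    Nonempty ((DCoh.LTensorCx D).obj (DerivedCategory.Q.obj M) ≅
      (DCoh.LTensorCx M).obj (DerivedCategory.Q.obj D)) := by
  let R := (kRes X).obj M
  haveI := (flatCover X).quasiIso_ψ M
  haveI := isIso_Q_map ((flatCover X).ψ.app M) inferInstance
  haveI : QuasiIso ((DCoh.tensorCx.obj D).map ((flatCover X).ψ.app M)) :=
    KFlat.quasiIso_map' (tensorBiFlipIso X) hD _
  haveI := isIso_Q_map ((DCoh.tensorCx.obj D).map ((flatCover X).ψ.app M)) inferInstance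
  exact ⟨(DCoh.LTensorCx D).mapIso (asIso (DerivedCategory.Q.map ((flatCover X).ψ.app M))).symm ≪≫
    ltensorCxIso D (isKFlat_kRes M) ≪≫
    DerivedCategory.Q.mapIso ((symmIso (tensorBiFlipIso X) D).app R) ≪≫
    asIso (DerivedCategory.Q.map ((DCoh.tensorCx.obj D).map ((flatCover X).ψ.app M))) ≪≫
    (ltensorCxIso M hD).symm⟩

/-- `RHom(E, G) ≅ E^∨ ⊗^L G`. -/
theorem exists_RSheafHom_inD_iso (E : CochainComplex X.Modules ℤ) (hE : DCoh.IsPerfect (DCoh.toD X E))
    [DCoh.HasLTensorCx E] [DCoh.HasRSheafHom E] (G : X.Modules) [DCoh.HasLTensorMod G] :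
    ∃ D : DCoh.D X, DCoh.IsPerfect D ∧
      Nonempty ((DCoh.RSheafHom E).obj (DCoh.inD X G) ≅ (DCoh.LTensorMod G).obj D) := by
  let P := (kRes X).obj E
  haveI := (flatCover X).quasiIso_ψ E
  haveI := isIso_Q_map ((flatCover X).ψ.app E) inferInstance
  haveI := hasLTensorCx P
  haveI : DCoh.HasLTensorCx ((𝟭 (CochainComplex X.Modules ℤ)).obj E) := ‹DCoh.HasLTensorCx E›
  obtain ⟨c⟩ := nonempty_LTensorCx_congr ((flatCover X).ψ.app E)
  haveI : DCoh.HasRSheafHom P := ((DCoh.RSheafHomAdj E).ofNatIsoLeft c.symm).isLeftAdjoint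
  let eR : DCoh.RSheafHom E ≅ DCoh.RSheafHom P :=
    ((DCoh.RSheafHomAdj E).ofNatIsoLeft c.symm).rightAdjointUniq (DCoh.RSheafHomAdj P)
  have hP : DCoh.IsPerfect (DerivedCategory.Q.obj P) :=
    (isPerfect_iff _).2 (((isPerfect_iff _).1 hE).of_iso (asIso (DerivedCategory.Q.map ((flatCover X).ψ.app E))).symm)
  let T := (DCoh.RSheafHom P).obj ((DerivedCategory.singleFunctor X.Modules 0).obj (Coh.structureModule X))
  let D := repK T
  haveI := hasLTensorCx D
  obtain ⟨e⟩ := nonempty_ltensor_dual_iso P (isKFlat_kRes E) hP D (isKFlat_repK T) ⟨repKIso T⟩ (DCoh.inD X G)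
  let M := (HomologicalComplex.single X.Modules (ComplexShape.up ℤ) 0).obj G
  haveI := hasLTensorCx M
  let eM : DerivedCategory.Q.obj M ≅ DCoh.inD X G :=
    ((DerivedCategory.singleFunctorIsoCompQ X.Modules 0).app G).symm
  obtain ⟨s⟩ := nonempty_ltensor_symm D M (isKFlat_repK T)
  obtain ⟨m⟩ := nonempty_ltensorMod_ltensorCx G T
  exact ⟨T, isPerfect_RSheafHom_structure P hP,
    ⟨eR.app _ ≪≫ e.symm ≪≫ (DCoh.LTensorCx D).mapIso eM.symm ≪≫ s ≪≫
      (DCoh.LTensorCx M).mapIso (repKIso T) ≪≫ m.symm⟩⟩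

end Groth.Agent.KFlatLib
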