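import Groth.Agent.KFlatLib.Scheme.Generator
import Groth.Agent.KFlatLib.Scheme.PerfectLift

/-!
# A perfect generator of the objects of `D_QCoh` with supports
-/

set_option linter.style.haveILetI false
set_option backward.isDefEq.respectTransparency false

universe u

open CategoryTheory CategoryTheory.Limits AlgebraicGeometry Pretriangulated TopologicalSpace ZeroObject

attribute [local instance] HasDerivedCategory.standard

namespace Groth.Agent.KFlatLib.GeneratorSupport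

open Generator PerfectLift

variable {X : Scheme.{u}}

/-- Being zero off `T` is being supported in `T`. -/
lemma isZero_rho_of_support (O : X.Opens) {E : DCoh.D X} {T : Set X}
    (hE : ∀ i : ℤ, CohB1.support (DCoh.HD E i) ⊆ T) (hO : ∀ x ∈ O, x ∉ T) :
    IsZero ((rho O.ι).obj E) :=
  isZero_restrictD_of_support O E T hE hO

/-- Support is local on an open cover. -/
lemma support_subset_of_isZero_rho (O : X.Opens) {E : DCoh.D X} {T : Set X}
    (hOT : Tᶜ ⊆ (O : Set X)) (h : IsZero ((rho O.ι).obj E)) (m : ℤ) :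
    CohB1.support (DCoh.HD E m) ⊆ T := fun _ hx =>
  Classical.by_contradiction fun hxT => support_subset_compl O h m hx (hOT hxT)

/-- A generator with supports. -/
def HasGen (X : Scheme.{u}) (T : Set X) : Prop :=
  ∃ P : DCoh.D X, LocSP P ∧ (∀ i : ℤ, CohB1.support (DCoh.HD P i) ⊆ T) ∧
    ∀ E, DCoh.IsQCohD E → (∀ i : ℤ, CohB1.support (DCoh.HD E i) ⊆ T) → Orth P E → IsZero E

/-- Induction step, with supports. -/
theorem hasGen_step [CompactSpace X] [QuasiSeparatedSpace X] (U V : X.Opens)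
    (hU : IsCompact (U : Set X)) (hV : IsAffineOpen V) (hUV : U ⊔ V = ⊤)
    (T : Set X) (hT : IsClosed T) (hTc : IsCompact Tᶜ)
    (hgen : HasGen (U : Scheme.{u}) (U.ι.base ⁻¹' T)) : HasGen X T := by
  obtain ⟨Q, hQ, hQT, hgen⟩ := hgen
  haveI : IsAffine (V : Scheme.{u}) := hV
  haveI := hasRpush_scheme U.ι
  haveI := hasRpush_scheme V.ι
  haveI : QuasiCompact U.ι := by
    haveI : CompactSpace U := isCompact_iff_compactSpace.1 hU
    exact quasiCompact_of_compactSpace _
  obtain ⟨isoV⟩ := nonempty_rpush_restrictD_id V.ι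
  haveI := (nonempty_rho_adj U.ι).some.right_adjoint_additive
  haveI := (nonempty_rho_adj V.ι).some.right_adjoint_additive
  let Tc : X.Opens := ⟨Tᶜ, hT.isOpen_compl⟩
  let O : X.Opens := U ⊔ Tc
  have hO : IsCompact (O : Set X) := hU.union hTc
  let W' : (V : Scheme.{u}).Opens := V.ι ⁻¹ᵁ O
  have hW' : IsCompact (W' : Set (V : Scheme.{u})) := isCompact_preimage O V hO hV.isCompact
  obtain ⟨K₀, hK₀, hKz, hdet⟩ := exists_detector W' hW'
  let T₀ : Set (V : Scheme.{u}) := V.ι.base ⁻¹' (O : Set X)ᶜ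
  have hcompl : ∀ x, x ∉ O → x ∈ V := fun x hx =>
    ((Opens.mem_sup).1 (hUV ▸ trivial : x ∈ U ⊔ V)).resolve_left fun h =>
      hx (Opens.mem_sup.2 (Or.inl h))
  have hTim : V.ι.base '' T₀ = (O : Set X)ᶜ := by
    rw [Set.image_preimage_eq_inter_range, Scheme.Opens.range_ι]
    exact Set.inter_eq_left.2 fun x hx => hcompl x hx
  have hsupp : ∀ i : ℤ, CohB1.support (DCoh.HD K₀ i) ⊆ T₀ := fun i x hx hxO =>
    hx (subsingleton_stalk_of_isZero_rho W'.ι hKz i ⟨x, hxO⟩)
  let K := (DCoh.Rpush V.ι).obj K₀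
  have hK : LocSP K := (isPerfect_iff _).1 (
    isPerfect_rpush_of_support V K₀ ((isPerfect_iff _).2 hK₀) T₀
      (by rw [hTim]; exact O.2.isClosed_compl) hsupp)
  have hKO : IsZero ((rho O.ι).obj K) := by
    haveI := hasRpush_scheme (V.ι ∣_ O)
    obtain ⟨iR⟩ := nonempty_rpush_restrictD_iso V.ι O
    haveI : IsOpenImmersion (V.ι ∣_ O) := inferInstance
    obtain ⟨adj'⟩ := nonempty_rho_adj (V.ι ∣_ O)
    haveI := adj'.right_adjoint_additive
    exact ((DCoh.Rpush (V.ι ∣_ O)).map_isZero hKz).of_iso (iR.app K₀)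
  have hKT : ∀ i : ℤ, CohB1.support (DCoh.HD K i) ⊆ T :=
    support_subset_of_isZero_rho O (fun x hx => Opens.mem_sup.2 (Or.inr hx)) hKO
  -- the extension of `Q`
  obtain ⟨R, _, i, p, hR, hRT, hip, -⟩ := PerfectLift.exists_lift U hU T hT hTc (E := 0)
    (AffineLift.isQCohD_of_locSP (locSP_of_isZero (isZero_zero _))) Q hQ
    (fun Z k _ hk => by
      haveI : PreservesFiniteLimits (Scheme.Modules.restrictFunctor (U.ι ⁻¹ᵁ Tc).ι) := inferInstance
      have hz := isZero_rho_of_support (U.ι ⁻¹ᵁ Tc) hQT fun x hx hxT => hx hxT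
      have hr : Set.range k.base ⊆ Set.range (U.ι ⁻¹ᵁ Tc).ι.base := by
        rintro _ ⟨z, rfl⟩
        rw [Scheme.Opens.range_ι]
        exact hk z
      exact ((rho (IsOpenImmersion.lift (U.ι ⁻¹ᵁ Tc).ι k hr)).map_isZero hz).of_iso
        (rhoComp (IsOpenImmersion.lift (U.ι ⁻¹ᵁ Tc).ι k hr) (U.ι ⁻¹ᵁ Tc).ι k
          (IsOpenImmersion.lift_fac _ _ _) Q).symm) 0
  refine ⟨R ⊞ K, locSP_obj₂ _ (binaryBiproductTriangle_distinguished _ _) hR hK, ?_, fun E hE hET ho => ?_⟩
  · refine support_subset_of_isZero_rho Tc (fun x hx => hx) ?_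
    haveI := preservesBinaryBiproducts_of_preservesBiproducts (rho Tc.ι)
    refine IsZero.of_iso ?_ ((rho Tc.ι).mapBiprod R K)
    rw [biprod_isZero_iff]
    exact ⟨isZero_rho_of_support Tc hRT fun x hx => hx, isZero_rho_of_support Tc hKT fun x hx => hx⟩
  obtain ⟨hoR, hoK⟩ := orth_biprod ho
  obtain ⟨adj⟩ := nonempty_rho_adj U.ι
  haveI := isIso_restrictD_counit U.ι adj
  haveI : IsIso ((rho U.ι).map (adj.unit.app E)) := by
    haveI : IsIso ((rho U.ι).map (adj.unit.app E) ≫ adj.counit.app ((rho U.ι).obj E)) := by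
      rw [adj.left_triangle_components E]
      exact (Iso.refl _).isIso_hom
    exact IsIso.of_isIso_comp_right _ (adj.counit.app ((rho U.ι).obj E))
  obtain ⟨G, g, δ, hTr⟩ := distinguished_cocone_triangle₁ (adj.unit.app E)
  have hGU : IsZero ((rho U.ι).obj G) :=
    (Triangle.isZero₁_iff_isIso₂ _ ((rho U.ι).map_distinguished _ hTr)).2
      (show IsIso ((rho U.ι).map (adj.unit.app E)) from inferInstance)
  have hqG : DCoh.IsQCohD G := isQCohD_obj₁ hTr hE (isQCohD_rpush U.ι (isQCohD_rho U.ι hE))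
  have hEU0 : IsZero ((rho (U.ι ⁻¹ᵁ Tc).ι).obj ((rho U.ι).obj E)) :=
    ((rho (U.ι ∣_ Tc)).map_isZero (isZero_rho_of_support Tc hET fun x hx => hx)).of_iso
      (rhoComp (U.ι ⁻¹ᵁ Tc).ι U.ι ((U.ι ⁻¹ᵁ Tc).ι ≫ U.ι) rfl E ≪≫
        (rhoComp (U.ι ∣_ Tc) Tc.ι ((U.ι ⁻¹ᵁ Tc).ι ≫ U.ι) (morphismRestrict_ι _ _) E).symm)
  have hGT : IsZero ((rho Tc.ι).obj G) := by
    haveI := hasRpush_scheme (U.ι ∣_ Tc)
    obtain ⟨iR⟩ := nonempty_rpush_restrictD_iso U.ι Tc
    haveI : IsOpenImmersion (U.ι ∣_ Tc) := inferInstance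
    obtain ⟨adj'⟩ := nonempty_rho_adj (U.ι ∣_ Tc)
    haveI := adj'.right_adjoint_additive
    have h₃ : IsZero ((rho Tc.ι).obj ((DCoh.Rpush U.ι).obj ((rho U.ι).obj E))) :=
      ((DCoh.Rpush (U.ι ∣_ Tc)).map_isZero hEU0).of_iso (iR.app ((rho U.ι).obj E))
    exact Triangle.isZero₁_of_isZero₂₃ _ ((rho Tc.ι).map_distinguished _ hTr)
      (isZero_rho_of_support Tc hET fun x hx => hx) h₃
  have hGsupp : ∀ m : ℤ, CohB1.support (DCoh.HD G m) ⊆ (O : Set X)ᶜ := fun m x hx hxO =>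
    (Opens.mem_sup.1 hxO).elim (fun h => support_subset_compl U hGU m hx h)
      (fun h => support_subset_compl Tc hGT m hx h)
  have hKU : IsZero ((rho U.ι).obj K) :=
    isZero_rho_of_support U (support_subset_compl O hKO) fun x hx h =>
      h (Opens.mem_sup.2 (Or.inl hx))
  have hoG : Orth K G := fun n φ => by
    obtain ⟨χ, rfl⟩ := Triangle.coyoneda_exact₂ _ (inv_rot_of_distTriang _ hTr) φ (hoK n _)
    suffices χ = 0 by rw [this]; exact zero_comp
    refine (shiftFunctor (DCoh.D X) (1 : ℤ)).map_injective ?_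
    rw [Functor.map_zero, ← cancel_epi ((shiftFunctorAdd' (DCoh.D X) n 1 (n + 1) rfl).hom.app K),
      ← cancel_mono ((shiftFunctorCompIsoId (DCoh.D X) (-1 : ℤ) 1 (by omega)).hom.app
        ((DCoh.Rpush U.ι).obj ((rho U.ι).obj E))), comp_zero, zero_comp]
    exact (adj.homEquiv _ _).symm.injective
      ((((shiftFunctor _ (n + 1)).map_isZero hKU).of_iso (((rho U.ι).commShiftIso (n + 1)).app K)).eq_of_src _ _)
  obtain ⟨eG⟩ := nonempty_iso_rpush_restrict V (O : Set X)ᶜ O.2.isClosed_compl hcompl G hGsupp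
  have hGV : Orth K₀ ((rho V.ι).obj G) := fun n φ => by
    have h := orth_rho V.ι eG hoG n ((isoV.app K₀).hom⟦n⟧' ≫ φ)
    exact (cancel_epi ((isoV.app K₀).hom⟦n⟧')).1 (h.trans comp_zero.symm)
  have hGV0 : IsZero ((rho V.ι).obj G) := by
    refine hdet _ (isQCohD_rho V.ι hqG) ?_ hGV
    exact ((rho (V.ι ∣_ O)).map_isZero
        (isZero_rho_of_support O hGsupp fun x hx h => h hx)).of_iso
      (rhoComp W'.ι V.ι (W'.ι ≫ V.ι) rfl G ≪≫
        (rhoComp (V.ι ∣_ O) O.ι (W'.ι ≫ V.ι) (morphismRestrict_ι _ _) G).symm)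
  have hG0 : IsZero G := ((DCoh.Rpush V.ι).map_isZero hGV0).of_iso eG
  haveI : IsIso (adj.unit.app E) := (Triangle.isZero₁_iff_isIso₂ _ hTr).1 hG0
  have hEU : IsZero ((rho U.ι).obj E) := by
    refine hgen _ (isQCohD_rho U.ι hE)
      (support_subset_of_isZero_rho (U.ι ⁻¹ᵁ Tc) (fun x hx => hx) hEU0) fun n φ => ?_
    have h := orth_rho U.ι (asIso (adj.unit.app E)) hoR n (p⟦n⟧' ≫ φ)
    rw [← Category.id_comp φ, ← CategoryTheory.Functor.map_id, ← hip, Functor.map_comp, Category.assoc, h,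
      comp_zero]
  exact ((DCoh.Rpush U.ι).map_isZero hEU).of_iso (asIso (adj.unit.app E))

/-- A generator with supports on a scheme covered by finitely many affines. -/
theorem hasGen_of_cover : ∀ (n : ℕ) (Y : Scheme.{u}) [CompactSpace Y] [QuasiSeparatedSpace Y]
    (W : Fin n → Y.Opens), (∀ k, IsAffineOpen (W k)) → (⨆ k, W k) = ⊤ →
    ∀ T : Set Y, IsClosed T → IsCompact Tᶜ → HasGen Y T := by
  intro n
  induction n with
  | zero =>
    intro Y _ _ W _ hW T _ _
    have he : ∀ y : Y, False := fun y => by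
      have h : y ∈ (⊤ : Y.Opens) := trivial
      rw [← hW] at h
      exact (Opens.mem_iSup.1 h).choose.elim0
    exact ⟨0, locSP_of_isZero (isZero_zero _), fun i x => (he x).elim, fun E _ _ _ =>
      isZero_of_subsingleton_stalk fun i x => (he x).elim⟩
  | succ n ih =>
    intro Y _ _ W hW hsup T hT hTc
    let U : Y.Opens := ⨆ k : Fin n, W k.succ
    have hUc : IsCompact (U : Set Y) := by
      rw [Opens.coe_iSup]
      exact isCompact_iUnion fun k => (hW k.succ).isCompact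
    have hUV : U ⊔ W 0 = ⊤ := by
      refine top_le_iff.1 ?_
      rw [← hsup]
      refine iSup_le fun k => ?_
      refine Fin.cases le_sup_right (fun k => ?_) k
      exact (le_iSup (fun k : Fin n => W k.succ) k).trans le_sup_left
    haveI : CompactSpace U := isCompact_iff_compactSpace.1 hUc
    haveI : QuasiSeparatedSpace U := quasiSeparatedSpace_of_quasiSeparated U.ι
    refine hasGen_step U (W 0) hUc (hW 0) hUV T hT hTc ?_
    exact ih (U : Scheme.{u}) (fun k => U.ι ⁻¹ᵁ W k.succ)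
      (fun k => (hW k.succ).preimage_of_isOpenImmersion U.ι (by
        rw [Scheme.Opens.opensRange_ι]
        exact le_iSup (fun k : Fin n => W k.succ) k))
      (top_le_iff.1 fun y _ => by
        obtain ⟨k, hk⟩ := Opens.mem_iSup.1 y.2
        exact Opens.mem_iSup.2 ⟨k, hk⟩)
      _ (hT.preimage U.ι.continuous) (isCompact_preimage ⟨Tᶜ, hT.isOpen_compl⟩ U hTc hUc)

/-- `D_QCoh` with supports has a perfect generator. -/
theorem hasGen (X : Scheme.{u}) [CompactSpace X] [QuasiSeparatedSpace X] (T : Set X) (hT : IsClosed T)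
    (hTc : IsCompact Tᶜ) : HasGen X T := by
  have hex : ∀ x : X, ∃ V : X.Opens, IsAffineOpen V ∧ x ∈ V := fun x => by
    obtain ⟨_, ⟨V, hV, rfl⟩, hxV, -⟩ :=
      X.isBasis_affineOpens.exists_subset_of_mem_open (Set.mem_univ x) isOpen_univ
    exact ⟨V, hV, hxV⟩
  choose V hV hxV using hex
  obtain ⟨t, ht⟩ := isCompact_univ.elim_finite_subcover (fun x : X => (V x : Set X)) (fun x => (V x).2)
    (fun x _ => Set.mem_iUnion.2 ⟨x, hxV x⟩)
  exact hasGen_of_cover t.card X (fun k => V (t.equivFin.symm k)) (fun k => hV _)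
    (top_le_iff.1 fun x _ => by
      obtain ⟨y, hy, hxy⟩ := Set.mem_iUnion₂.1 (ht (Set.mem_univ x))
      exact Opens.mem_iSup.2 ⟨t.equivFin ⟨y, hy⟩, by simpa using hxy⟩) T hT hTc

end Groth.Agent.KFlatLib.GeneratorSupport
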