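import Groth.Agent.KFlatLib.Scheme.CohWindow
import Groth.Agent.KFlatLib.Scheme.GeneratorSupport
import Groth.Agent.KFlatLib.Scheme.CompactPerfect

/-!
# Perfect objects detect cohomology degree by degree
-/

set_option linter.style.haveILetI false
set_option backward.isDefEq.respectTransparency false

universe u

open CategoryTheory CategoryTheory.Limits AlgebraicGeometry Pretriangulated TopologicalSpace ZeroObject

attribute [local instance] HasDerivedCategory.standard

namespace Groth.Agent.KFlatLib.DegDetect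

open Generator PerfectLift Window

/-- Objects with no maps from the shifts of `G` near a degree have no cohomology in that degree. -/
def Detects {X : Scheme.{u}} (G : DCoh.D X) : Prop :=
  ∃ c : ℕ, ∀ E : DCoh.D X, DCoh.IsQCohD E → ∀ n : ℤ,
    (∀ i, n - c ≤ i → i ≤ n + c → ∀ φ : G⟦-i⟧ ⟶ E, φ = 0) → IsZero (DCoh.HD E n)

section Spec

variable {A : Type u} [CommRing A]

/-- The Koszul complex detects cohomology degree by degree, away from a quasi-compact open. -/
theorem exists_detector_spec_deg (O : (Spec (CommRingCat.of A)).Opens)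
    (hO : IsCompact (O : Set (Spec (CommRingCat.of A)))) :
    ∃ K : DCoh.D (Spec (CommRingCat.of A)), LocSP K ∧ IsZero ((rho O.ι).obj K) ∧
      ∀ G, DCoh.IsQCohD G → IsZero ((rho O.ι).obj G) → ∀ n : ℤ, (∀ φ : K⟦-n⟧ ⟶ G, φ = 0) →
        IsZero (DCoh.HD G n) := by
  haveI : PreservesFiniteLimits (tilde.functor (CommRingCat.of A)) := QCoh.tilde_preservesFiniteLimits
  obtain ⟨fs, rfl⟩ := AffineLift.exists_list O hO
  refine ⟨KoszulOrth.tld (KoszulOrth.kQ fs),
    (isPerfect_iff _).1 ((perfect_tildeD_iff (R := CommRingCat.of A) _).2 (isPerfect_kQ fs)),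
    KoszulOrth.isZero_restrictD_tld (KoszulOrth.pU fs) fs _ (fun p hp => (KoszulOrth.mem_pU_iff fs p).1 hp)
      (fun i f hf x => (KoszulOrth.exists_pow_smul_hd_eq_zero fs f hf).imp fun k hk => hk i x), ?_⟩
  intro G hG hz i ho
  obtain ⟨N, ⟨eN⟩⟩ := exists_tildeD_iso (R := CommRingCat.of A) hG
  have ht := KoszulOrth.torsion_of_isZero_restrictD (KoszulOrth.pU fs) fs N
    (fun p hp => (KoszulOrth.mem_pU_iff fs p).2 hp) (hz.of_iso ((rho _).mapIso eN))
  refine IsZero.of_iso ?_ ((DerivedCategory.homologyFunctor _ i).mapIso eN.symm)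
  refine isZero_of_stalk _ fun x => @ModuleCat.isZero_of_subsingleton _ _ _ ?_
  haveI := KoszulOrth.subsingleton_hd_of_orth fs ht i fun ψ => by
    refine (tildeD_map_bijective (R := CommRingCat.of A) _ _).1 ?_
    refine (cancel_mono eN.hom).1 ?_
    rw [Functor.map_zero, zero_comp,
      ← cancel_epi (((DCoh.tildeD (CommRingCat.of A)).commShiftIso (-i)).inv.app (KoszulOrth.kQ fs)), comp_zero]
    exact ho _
  exact not_nontrivial_iff_subsingleton.1 fun h =>
    not_subsingleton_iff_nontrivial.2 ((KoszulOrth.nontrivial_stalk_tld N i x).1 h)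
      (LocalizedModule.subsingleton_iff.2 fun z => ⟨1, Submonoid.one_mem _, (Subsingleton.elim _ _)⟩)

end Spec

variable {X : Scheme.{u}}

/-- On an affine scheme there is a degreewise perfect detector away from a quasi-compact open. -/
theorem exists_detector_deg [IsAffine X] (O : X.Opens) (hO : IsCompact (O : Set X)) :
    ∃ K : DCoh.D X, LocSP K ∧ IsZero ((rho O.ι).obj K) ∧
      ∀ G, DCoh.IsQCohD G → IsZero ((rho O.ι).obj G) → ∀ n : ℤ, (∀ φ : K⟦-n⟧ ⟶ G, φ = 0) →
        IsZero (DCoh.HD G n) := by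
  let g : Spec (CommRingCat.of Γ(X, ⊤)) ⟶ X := X.isoSpec.inv
  obtain ⟨K₀, hK₀, hz₀, hdet⟩ := exists_detector_spec_deg (A := Γ(X, ⊤)) (g ⁻¹ᵁ O)
    ((Scheme.homeoOfIso X.isoSpec.symm).isCompact_preimage.2 hO)
  haveI := AffineLift.isEquivalence_rho g
  let K := (rho g).objPreimage K₀
  let e : (rho g).obj K ≅ K₀ := (rho g).objObjPreimageIso _
  refine ⟨K, ?_, (AffineLift.isZero_rho_preimage_iff g O K).1 (hz₀.of_iso ((rho _).mapIso e)), ?_⟩
  · intro x
    obtain ⟨W, j, hj, ⟨w, hw⟩, Q, hQ, ⟨eQ⟩⟩ := (hK₀.of_iso e.symm) (X.isoSpec.hom.base x)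
    refine ⟨W, j ≫ g, inferInstance, ⟨w, ?_⟩, Q, hQ, ⟨eQ ≪≫ rhoComp j g (j ≫ g) rfl K⟩⟩
    show g.base (j.base w) = x
    rw [hw]
    exact congrArg (fun f : X ⟶ X => f.base x) X.isoSpec.hom_inv_id
  · intro G hG hz n ho
    have h := hdet _ (isQCohD_rho g hG) ((AffineLift.isZero_rho_preimage_iff g O G).2 hz) n fun φ => by
      obtain ⟨ψ, hψ⟩ := (rho g).map_surjective
        (((rho g).commShiftIso (-n)).hom.app K ≫ e.hom⟦(-n)⟧' ≫ φ)
      rw [ho ψ, Functor.map_zero] at hψ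
      exact (cancel_epi (e.hom⟦(-n)⟧')).1 ((cancel_epi (((rho g).commShiftIso (-n)).hom.app K)).1
        (by rw [← hψ, comp_zero, comp_zero]))
    refine isZero_of_stalk _ fun x => @ModuleCat.isZero_of_subsingleton _ _ _ ?_
    have hR : IsZero ((Scheme.Modules.restrictFunctor g).obj (DCoh.HD G n)) :=
      h.of_iso (restrictHDIso g G n).symm
    obtain ⟨y, rfl⟩ : ∃ y, g.base y = x := ⟨X.isoSpec.hom.base x,
      congrArg (fun f : X ⟶ X => f.base x) X.isoSpec.hom_inv_id⟩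
    exact @Equiv.subsingleton _ _
      ((Scheme.Modules.restrictStalkNatIso g y).app (DCoh.HD G n)).addCommGroupIsoToAddEquiv.symm.toEquiv
      (ModuleCat.subsingleton_of_isZero ((DerSch.stalkFunctor _ y).map_isZero hR))

/-- Induction step. -/
theorem detects_step [CompactSpace X] [QuasiSeparatedSpace X] (U V : X.Opens)
    (hU : IsCompact (U : Set X)) (hV : IsAffineOpen V) (hUV : U ⊔ V = ⊤)
    (Q : DCoh.D (U : Scheme.{u})) (hQ : LocSP Q) (hdetU : Detects Q) :
    ∃ P : DCoh.D X, LocSP P ∧ Detects P := by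
  haveI : IsAffine (V : Scheme.{u}) := hV
  haveI := hasRpush_scheme U.ι
  haveI := hasRpush_scheme V.ι
  haveI : QuasiCompact U.ι := by
    haveI : CompactSpace U := isCompact_iff_compactSpace.1 hU
    exact quasiCompact_of_compactSpace _
  obtain ⟨isoV⟩ := nonempty_rpush_restrictD_id V.ι
  haveI := (nonempty_rho_adj U.ι).some.right_adjoint_additive
  haveI := (nonempty_rho_adj V.ι).some.right_adjoint_additive
  let W' : (V : Scheme.{u}).Opens := V.ι ⁻¹ᵁ U
  have hW' : IsCompact (W' : Set (V : Scheme.{u})) := isCompact_preimage U V hU hV.isCompact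
  obtain ⟨K₀, hK₀, hKz, hdet⟩ := exists_detector_deg W' hW'
  let T₀ : Set (V : Scheme.{u}) := V.ι.base ⁻¹' (U : Set X)ᶜ
  have hcompl : ∀ x, x ∉ U → x ∈ V := fun x hx =>
    ((Opens.mem_sup).1 (hUV ▸ trivial : x ∈ U ⊔ V)).resolve_left hx
  have hTim : V.ι.base '' T₀ = (U : Set X)ᶜ := by
    rw [Set.image_preimage_eq_inter_range, Scheme.Opens.range_ι]
    exact Set.inter_eq_left.2 fun x hx => hcompl x hx
  have hsupp : ∀ i : ℤ, CohB1.support (DCoh.HD K₀ i) ⊆ T₀ := fun i x hx hxO =>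
    hx (subsingleton_stalk_of_isZero_rho W'.ι hKz i ⟨x, hxO⟩)
  let K := (DCoh.Rpush V.ι).obj K₀
  have hK : LocSP K := (isPerfect_iff _).1 (
    isPerfect_rpush_of_support V K₀ ((isPerfect_iff _).2 hK₀) T₀
      (by rw [hTim]; exact U.2.isClosed_compl) hsupp)
  have hKU : IsZero ((rho U.ι).obj K) := by
    haveI := hasRpush_scheme (V.ι ∣_ U)
    obtain ⟨iR⟩ := nonempty_rpush_restrictD_iso V.ι U
    haveI : IsOpenImmersion (V.ι ∣_ U) := inferInstance
    obtain ⟨adj'⟩ := nonempty_rho_adj (V.ι ∣_ U)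
    haveI := adj'.right_adjoint_additive
    exact ((DCoh.Rpush (V.ι ∣_ U)).map_isZero hKz).of_iso (iR.app K₀)
  obtain ⟨R, _, i, p, hR, -, hip, -⟩ := PerfectLift.exists_lift U hU Set.univ isClosed_univ
    (by rw [Set.compl_univ]; exact isCompact_empty) (E := 0)
    (AffineLift.isQCohD_of_locSP (locSP_of_isZero (isZero_zero _))) Q hQ
    (fun Z k _ hk => by
      haveI : IsEmpty Z := ⟨fun z => hk z (Set.mem_univ _)⟩
      exact isZero_of_subsingleton_stalk fun _ z => (IsEmpty.false z).elim) 0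
  obtain ⟨c', hc'⟩ := hdetU
  obtain ⟨d, hd⟩ := exists_window hR
  obtain ⟨N, hN⟩ := exists_rpush_window U.ι
  refine ⟨R ⊞ K, locSP_obj₂ _ (binaryBiproductTriangle_distinguished _ _) hR hK, N + c' + d + 1,
    fun E hE n ho => ?_⟩
  have hoR : ∀ j, n - (N + c' + d + 1 : ℕ) ≤ j → j ≤ n + (N + c' + d + 1 : ℕ) →
      ∀ φ : R⟦-j⟧ ⟶ E, φ = 0 := fun j h₁ h₂ φ => by
    have := ho j h₁ h₂ ((biprod.fst : R ⊞ K ⟶ R)⟦-j⟧' ≫ φ)
    rw [← cancel_epi ((biprod.fst : R ⊞ K ⟶ R)⟦-j⟧'), this, comp_zero]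
  have hoK : ∀ j, n - (N + c' + d + 1 : ℕ) ≤ j → j ≤ n + (N + c' + d + 1 : ℕ) →
      ∀ φ : K⟦-j⟧ ⟶ E, φ = 0 := fun j h₁ h₂ φ => by
    have := ho j h₁ h₂ ((biprod.snd : R ⊞ K ⟶ K)⟦-j⟧' ≫ φ)
    rw [← cancel_epi ((biprod.snd : R ⊞ K ⟶ K)⟦-j⟧'), this, comp_zero]
  obtain ⟨adj⟩ := nonempty_rho_adj U.ι
  haveI := isIso_restrictD_counit U.ι adj
  haveI : IsIso ((rho U.ι).map (adj.unit.app E)) := by
    haveI : IsIso ((rho U.ι).map (adj.unit.app E) ≫ adj.counit.app ((rho U.ι).obj E)) := by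
      rw [adj.left_triangle_components E]
      exact (Iso.refl _).isIso_hom
    exact IsIso.of_isIso_comp_right _ (adj.counit.app ((rho U.ι).obj E))
  obtain ⟨G, g, δ, hTr⟩ := distinguished_cocone_triangle₁ (adj.unit.app E)
  have hGU : IsZero ((rho U.ι).obj G) :=
    (Triangle.isZero₁_iff_isIso₂ _ ((rho U.ι).map_distinguished _ hTr)).2
      (show IsIso ((rho U.ι).map (adj.unit.app E)) from inferInstance)
  have hqG : DCoh.IsQCohD G := isQCohD_obj₁ hTr hE (isQCohD_rpush U.ι (isQCohD_rho U.ι hE))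
  obtain ⟨eG⟩ := nonempty_iso_rpush_restrict V (U : Set X)ᶜ U.2.isClosed_compl hcompl G
    (fun m => support_subset_compl U hGU m)
  have hG : ∀ j, n - (N + c' + d + 1 : ℕ) ≤ j → j ≤ n + (N + c' + d + 1 : ℕ) →
      IsZero (DCoh.HD G j) := fun j h₁ h₂ => by
    have hoG : ∀ φ : K⟦-j⟧ ⟶ G, φ = 0 := fun φ => by
      obtain ⟨χ, rfl⟩ := Triangle.coyoneda_exact₂ _ (inv_rot_of_distTriang _ hTr) φ (hoK j h₁ h₂ _)
      suffices χ = 0 by rw [this]; exact zero_comp
      refine (shiftFunctor (DCoh.D X) (1 : ℤ)).map_injective ?_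
      rw [Functor.map_zero, ← cancel_epi ((shiftFunctorAdd' (DCoh.D X) (-j) 1 (-j + 1) rfl).hom.app K),
        ← cancel_mono ((shiftFunctorCompIsoId (DCoh.D X) (-1 : ℤ) 1 (by omega)).hom.app
          ((DCoh.Rpush U.ι).obj ((rho U.ι).obj E))), comp_zero, zero_comp]
      exact (adj.homEquiv _ _).symm.injective
        ((((shiftFunctor _ (-j + 1)).map_isZero hKU).of_iso (((rho U.ι).commShiftIso (-j + 1)).app K)).eq_of_src _ _)
    have hGV : ∀ φ : K₀⟦-j⟧ ⟶ (rho V.ι).obj G, φ = 0 := fun φ => by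
      obtain ⟨adjV⟩ := nonempty_rho_adj V.ι
      have h : ∀ ψ : (rho V.ι).obj (K⟦-j⟧) ⟶ (rho V.ι).obj G, ψ = 0 := fun ψ => by
        refine (adjV.homEquiv _ _).injective ((cancel_mono eG.inv).1 ((hoG _).trans ?_))
        rw [Adjunction.homEquiv_unit, Functor.map_zero, comp_zero, zero_comp]
      refine (cancel_epi ((isoV.app K₀).hom⟦-j⟧')).1 ((cancel_epi (((rho V.ι).commShiftIso (-j)).hom.app K)).1 ?_)
      rw [comp_zero, comp_zero]
      exact h _
    have hV0 := hdet _ (isQCohD_rho V.ι hqG)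
      (((rho (V.ι ∣_ U)).map_isZero hGU).of_iso
        (rhoComp W'.ι V.ι (W'.ι ≫ V.ι) rfl G ≪≫
          (rhoComp (V.ι ∣_ U) U.ι (W'.ι ≫ V.ι) (morphismRestrict_ι _ _) G).symm)) j hGV
    refine isZero_of_stalk _ fun x => @ModuleCat.isZero_of_subsingleton _ _ _ ?_
    by_cases hx : x ∈ U
    · exact subsingleton_stalk_of_isZero_rho U.ι hGU j ⟨x, hx⟩
    · have hR : IsZero ((Scheme.Modules.restrictFunctor V.ι).obj (DCoh.HD G j)) :=
        hV0.of_iso (restrictHDIso V.ι G j).symm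
      exact @Equiv.subsingleton _ _
        ((Scheme.Modules.restrictStalkNatIso V.ι ⟨x, hcompl x hx⟩).app (DCoh.HD G j)).addCommGroupIsoToAddEquiv.symm.toEquiv
        (ModuleCat.subsingleton_of_isZero ((DerSch.stalkFunctor _ _).map_isZero hR))
  have hU0 : ∀ m, n - N ≤ m → m ≤ n → IsZero (DCoh.HD ((rho U.ι).obj E) m) := fun m h₁ h₂ => by
    refine hc' _ (isQCohD_rho U.ι hE) m fun j hj₁ hj₂ φ => ?_
    have h : ∀ ψ : R⟦-j⟧ ⟶ (DCoh.Rpush U.ι).obj ((rho U.ι).obj E), ψ = 0 := fun ψ => by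
      obtain ⟨χ, rfl⟩ := Triangle.coyoneda_exact₃ _ hTr ψ
        (hd _ (isQCohD_shift hqG 1) j (fun l hl₁ hl₂ => isZero_hd_shift G 1 l
          (hG _ (by push_cast at *; omega) (by push_cast at *; omega))) _)
      exact (congrArg (· ≫ _) (hoR j (by push_cast at *; omega) (by push_cast at *; omega) χ)).trans zero_comp
    have h' : ∀ ψ : ((rho U.ι).obj R)⟦-j⟧ ⟶ (rho U.ι).obj E, ψ = 0 := fun ψ => by
      refine (cancel_epi (((rho U.ι).commShiftIso (-j)).hom.app R)).1 ?_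
      rw [comp_zero]
      refine (adj.homEquiv _ _).injective ((h _).trans ?_)
      rw [Adjunction.homEquiv_unit, Functor.map_zero, comp_zero]
    have := h' (p⟦-j⟧' ≫ φ)
    rw [← Category.id_comp φ, ← CategoryTheory.Functor.map_id, ← hip, Functor.map_comp, Category.assoc, this,
      comp_zero]
  refine (DerivedCategory.HomologySequence.exact₂ _ hTr n).isZero_X₂ ?_ ?_
  · exact (hG n (by omega) (by omega)).eq_of_src _ _
  · exact (hN _ (isQCohD_rho U.ι hE) n hU0).eq_of_tgt _ _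

/-- Detection on a scheme covered by finitely many affines. -/
theorem detects_of_cover : ∀ (n : ℕ) (Y : Scheme.{u}) [CompactSpace Y] [QuasiSeparatedSpace Y]
    (W : Fin n → Y.Opens), (∀ k, IsAffineOpen (W k)) → (⨆ k, W k) = ⊤ →
    ∃ P : DCoh.D Y, LocSP P ∧ Detects P := by
  intro n
  induction n with
  | zero =>
    intro Y _ _ W _ hW
    have he : ∀ y : Y, False := fun y => by
      have h : y ∈ (⊤ : Y.Opens) := trivial
      rw [← hW] at h
      exact (Opens.mem_iSup.1 h).choose.elim0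
    exact ⟨0, locSP_of_isZero (isZero_zero _), 0, fun E _ n _ => isZero_of_stalk _ fun x => (he x).elim⟩
  | succ n ih =>
    intro Y _ _ W hW hsup
    let U : Y.Opens := ⨆ k : Fin n, W k.succ
    have hUc : IsCompact (U : Set Y) := by
      rw [Opens.coe_iSup]
      exact isCompact_iUnion fun k => (hW k.succ).isCompact
    have hUV : U ⊔ W 0 = ⊤ := by
      refine top_le_iff.1 ?_
      rw [← hsup]
      refine iSup_le fun k => ?_
      refine Fin.cases le_sup_right (fun k => ?_) k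
      exact (le_iSup (fun k : Fin n => W k.succ) k).trans le_sup_left
    haveI : CompactSpace U := isCompact_iff_compactSpace.1 hUc
    haveI : QuasiSeparatedSpace U := quasiSeparatedSpace_of_quasiSeparated U.ι
    obtain ⟨Q, hQ, hdet⟩ := ih (U : Scheme.{u}) (fun k => U.ι ⁻¹ᵁ W k.succ)
      (fun k => (hW k.succ).preimage_of_isOpenImmersion U.ι (by
        rw [Scheme.Opens.opensRange_ι]
        exact le_iSup (fun k : Fin n => W k.succ) k))
      (top_le_iff.1 fun y _ => by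
        obtain ⟨k, hk⟩ := Opens.mem_iSup.1 y.2
        exact Opens.mem_iSup.2 ⟨k, hk⟩)
    exact detects_step U (W 0) hUc (hW 0) hUV Q hQ hdet

/-- Some perfect object detects cohomology degree by degree. -/
theorem exists_detects (X : Scheme.{u}) [CompactSpace X] [QuasiSeparatedSpace X] :
    ∃ P : DCoh.D X, LocSP P ∧ Detects P := by
  have hex : ∀ x : X, ∃ V : X.Opens, IsAffineOpen V ∧ x ∈ V := fun x => by
    obtain ⟨_, ⟨V, hV, rfl⟩, hxV, -⟩ :=
      X.isBasis_affineOpens.exists_subset_of_mem_open (Set.mem_univ x) isOpen_univ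
    exact ⟨V, hV, hxV⟩
  choose V hV hxV using hex
  obtain ⟨t, ht⟩ := isCompact_univ.elim_finite_subcover (fun x : X => (V x : Set X)) (fun x => (V x).2)
    (fun x _ => Set.mem_iUnion.2 ⟨x, hxV x⟩)
  exact detects_of_cover t.card X (fun k => V (t.equivFin.symm k)) (fun k => hV _)
    (top_le_iff.1 fun x _ => by
      obtain ⟨y, hy, hxy⟩ := Set.mem_iUnion₂.1 (ht (Set.mem_univ x))
      exact Opens.mem_iSup.2 ⟨t.equivFin ⟨y, hy⟩, by simpa using hxy⟩)

/-- Vanishing of maps from `G` in a window forces vanishing of maps from `A`. -/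
def Controls (G : DCoh.D X) : ObjectProperty (DCoh.D X) := fun A =>
  ∃ c : ℕ, ∀ E : DCoh.D X, DCoh.IsQCohD E → ∀ n : ℤ,
    (∀ i, n - c ≤ i → i ≤ n + c → ∀ φ : G⟦-i⟧ ⟶ E, φ = 0) → ∀ φ : A⟦-n⟧ ⟶ E, φ = 0

variable (G : DCoh.D X)

instance : (Controls G).IsClosedUnderIsomorphisms where
  of_iso e := fun ⟨c, hc⟩ => ⟨c, fun E hE n h φ =>
    (cancel_epi (e.hom⟦-n⟧')).1 ((hc E hE n h _).trans comp_zero.symm)⟩

instance : (Controls G).IsStableUnderRetracts where
  of_retract r := fun ⟨c, hc⟩ => ⟨c, fun E hE n h φ => by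
    rw [← Category.id_comp φ, ← CategoryTheory.Functor.map_id, ← r.retract, Functor.map_comp,
      Category.assoc, hc E hE n h (r.r⟦-n⟧' ≫ φ), comp_zero]⟩

instance : (Controls G).IsTriangulated where
  exists_zero := ⟨0, isZero_zero _, 0, fun E _ n _ φ =>
    ((shiftFunctor (DCoh.D X) (-n)).map_isZero (isZero_zero _)).eq_of_src _ _⟩
  isStableUnderShiftBy m := ⟨fun A ⟨c, hc⟩ => ⟨c + m.natAbs, fun E hE n h φ => by
    have h' := hc E hE (n - m) fun i h₁ h₂ =>
      h i (by omega) (by omega)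
    refine (cancel_epi ((shiftFunctorAdd' (DCoh.D X) m (-n) (-(n - m)) (by omega)).hom.app A)).1 ?_
    exact (h' _).trans comp_zero.symm⟩⟩
  ext₂' T hT h₁ h₃ := by
    obtain ⟨c₁, hc₁⟩ := h₁
    obtain ⟨c₃, hc₃⟩ := h₃
    refine ObjectProperty.le_isoClosure _ _ ⟨c₁ + c₃, fun E hE n h φ => ?_⟩
    have hS := Triangle.shift_distinguished T hT (-n)
    obtain ⟨ψ, hψ⟩ := Triangle.yoneda_exact₂ _ hS φ
      (hc₁ E hE n (fun i a b => h i (by push_cast at *; omega) (by push_cast at *; omega)) _)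
    rw [hψ]
    exact (congrArg (_ ≫ ·) (hc₃ E hE n (fun i a b =>
      h i (by push_cast at *; omega) (by push_cast at *; omega)) ψ)).trans comp_zero

/-- A perfect generator detects cohomology degree by degree. -/
theorem detects_of_generates [CompactSpace X] [QuasiSeparatedSpace X] {G : DCoh.D X} (hG : LocSP G)
    (hgen : ∀ E, DCoh.IsQCohD E → Orth G E → IsZero E) : Detects G := by
  obtain ⟨P, hP, c, hc⟩ := exists_detects X
  obtain ⟨c', hc'⟩ : Controls G P :=
    CompactPerfect.prop_of_finSums (Controls G) hG hgen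
      ⟨0, fun E _ n h φ => h n (by omega) (by omega) φ⟩ (AffineLift.isQCohD_of_locSP hP)
      (CompactPerfect.finSums_of_isPerfect ((isPerfect_iff _).2 hP))
  exact ⟨c + c', fun E hE n h => hc E hE n fun i h₁ h₂ => hc' E hE i fun j a b =>
    h j (by push_cast at *; omega) (by push_cast at *; omega)⟩

end Groth.Agent.KFlatLib.DegDetect
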