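import Groth.Agent.KFlatLib.Scheme.ExtZero
import Groth.Agent.KFlatLib.Scheme.LocalDevissage
import Mathlib.Algebra.Homology.DerivedCategory.ShortExact
import Mathlib.CategoryTheory.Limits.Preserves.Shapes.Biproducts
import Groth.Prelude.Def_CxOX

/-!
# The Mayer-Vietoris triangle of extensions by zero
-/

set_option linter.style.haveILetI false
set_option backward.isDefEq.respectTransparency false

universe u

open CategoryTheory CategoryTheory.Limits AlgebraicGeometry TopologicalSpace Pretriangulated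

attribute [local instance] HasDerivedCategory.standard

namespace Groth.Agent.KFlatLib

/-- A Mayer-Vietoris sequence becomes split under a functor inverting one side. -/
theorem shortExact_map_mv {C D : Type*} [Category C] [Abelian C] [Category D] [Abelian D]
    (Φ : C ⥤ D) [Φ.Additive] {W A B M : C} (ra : W ⟶ A) (rb : W ⟶ B) (ca : A ⟶ M) (cb : B ⟶ M)
    (h : ra ≫ ca = rb ≫ cb) (hb : IsIso (Φ.map rb)) (ha : IsIso (Φ.map ca)) :
    ((ShortComplex.mk (biprod.lift ra (-rb)) (biprod.desc ca cb) (by simp [h])).map Φ).ShortExact := by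
  refine ShortComplex.Splitting.shortExact
    { r := -(Φ.map (biprod.snd : A ⊞ B ⟶ B)) ≫ inv (Φ.map rb)
      s := inv (Φ.map ca) ≫ Φ.map (biprod.inl : A ⟶ A ⊞ B)
      f_r := ?_
      s_g := ?_
      id := ?_ }
  · change Φ.map (biprod.lift ra (-rb)) ≫ (-(Φ.map biprod.snd) ≫ inv (Φ.map rb)) = 𝟙 _
    rw [Preadditive.comp_neg, ← Category.assoc, ← Functor.map_comp,
      biprod.lift_snd, Functor.map_neg, Preadditive.neg_comp, neg_neg, IsIso.hom_inv_id]
  · change (inv (Φ.map ca) ≫ Φ.map biprod.inl) ≫ Φ.map (biprod.desc ca cb) = 𝟙 _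
    rw [Category.assoc, ← Functor.map_comp, biprod.inl_desc, IsIso.inv_hom_id]
  · have main : (-(Φ.map (biprod.snd : A ⊞ B ⟶ B) ≫ inv (Φ.map rb))) ≫ Φ.map (biprod.lift ra (-rb)) +
        Φ.map (biprod.desc ca cb) ≫ inv (Φ.map ca) ≫ Φ.map biprod.inl = 𝟙 (Φ.obj (A ⊞ B)) := by
      have e1 : inv (Φ.map rb) ≫ Φ.map ra = Φ.map cb ≫ inv (Φ.map ca) := by
        rw [IsIso.inv_comp_eq, ← Category.assoc, IsIso.eq_comp_inv, ← Φ.map_comp, ← Φ.map_comp, h]
      have e2 : (biprod.lift ra (-rb) : W ⟶ A ⊞ B) = ra ≫ biprod.inl - rb ≫ biprod.inr := by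
        apply biprod.hom_ext <;> simp
      have e3 : (biprod.desc ca cb : A ⊞ B ⟶ M) = biprod.fst ≫ ca + biprod.snd ≫ cb := by
        apply biprod.hom_ext' <;> simp
      rw [e2, e3, Φ.map_sub, Φ.map_add, Φ.map_comp, Φ.map_comp, Φ.map_comp, Φ.map_comp]
      simp only [Preadditive.neg_comp, Preadditive.comp_sub, Preadditive.add_comp, Category.assoc,
        IsIso.inv_hom_id_assoc, IsIso.hom_inv_id_assoc, reassoc_of% e1]
      rw [← Φ.map_id, ← biprod.total, Φ.map_add, Φ.map_comp, Φ.map_comp]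
      abel
    exact main

variable {X : Scheme.{u}}

/-- The counit of extension by zero is invertible at stalks inside the open. -/
lemma isIso_stalk_lsh_counit (U : X.Opens) (M : X.Modules) (x : X) (hx : x ∈ U) :
    IsIso ((DerSch.stalkFunctor X x).map ((lshAdj U.ι).counit.app M)) := by
  haveI : IsIso ((Scheme.Modules.restrictFunctor U.ι).map ((lshAdj U.ι).counit.app M)) :=
    IsIso.of_isIso_fac_left ((lshAdj U.ι).right_triangle_components M)
  have hb := ConcreteCategory.bijective_of_isIso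
    ((DerSch.stalkFunctor (U : Scheme.{u}) ⟨x, hx⟩).map
      ((Scheme.Modules.restrictFunctor U.ι).map ((lshAdj U.ι).counit.app M)))
  exact (ConcreteCategory.isIso_iff_bijective _).2
    ⟨injective_stalk_of_restrict U.ι _ ⟨x, hx⟩ hb.1, surjective_stalk_of_restrict U.ι _ ⟨x, hx⟩ hb.2⟩

/-- A map invertible on stalks in `W` restricts to an iso on `W`. -/
lemma isIso_restrict_of_stalk (W : X.Opens) {M N : X.Modules} (φ : M ⟶ N)
    (h : ∀ x ∈ W, IsIso ((DerSch.stalkFunctor X x).map φ)) :
    IsIso ((Scheme.Modules.restrictFunctor W.ι).map φ) := by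
  refine isIso_of_stalk _ fun w => ?_
  haveI : IsIso ((DerSch.stalkFunctor X (W.ι.base w)).map φ) := h (W.ι.base w) w.2
  have e := Scheme.Modules.restrictStalkNatIso W.ι w
  have h1 : IsIso ((Scheme.Modules.toPresheaf X ⋙
      TopCat.Presheaf.stalkFunctor Ab.{u} (W.ι.base w)).map φ) :=
    Functor.map_isIso (forget₂ (ModuleCat (X.presheaf.stalk (W.ι.base w))) AddCommGrpCat)
      ((DerSch.stalkFunctor X (W.ι.base w)).map φ)
  have h2 := (NatIso.isIso_map_iff e φ).2 h1
  exact @isIso_of_reflects_iso _ _ _ _ _ _ _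
    (forget₂ (ModuleCat ((W : Scheme.{u}).presheaf.stalk w)) AddCommGrpCat) h2 _

instance isIso_restrict_counit_le (W U : X.Opens) [h : Fact (W ≤ U)] (M : X.Modules) :
    IsIso ((Scheme.Modules.restrictFunctor W.ι).map ((lshAdj U.ι).counit.app M)) :=
  isIso_restrict_of_stalk W _ fun x hx => isIso_stalk_lsh_counit U M x (h.out hx)

/-- `j_! j^*`. -/
noncomputable abbrev lshRes (U : X.Opens) : X.Modules ⥤ X.Modules :=
  Scheme.Modules.restrictFunctor U.ι ⋙ lsh U.ι

/-- The transition map between extensions by zero. -/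
noncomputable def lshTrans (W U : X.Opens) [Fact (W ≤ U)] : lshRes W ⟶ lshRes U where
  app M := ((lshAdj W.ι).homEquiv _ _).symm
    (inv ((Scheme.Modules.restrictFunctor W.ι).map ((lshAdj U.ι).counit.app M)))
  naturality M N g := by
    refine ((lshAdj W.ι).homEquiv_naturality_left_symm _ _).symm.trans ?_
    refine Eq.trans (congrArg _ ?_) ((lshAdj W.ι).homEquiv_naturality_right_symm _ _)
    rw [IsIso.comp_inv_eq, Category.assoc, IsIso.eq_inv_comp]
    exact (((Scheme.Modules.restrictFunctor W.ι).map_comp _ _).symm.trans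
      (congrArg _ ((lshAdj U.ι).counit.naturality g).symm)).trans
      ((Scheme.Modules.restrictFunctor W.ι).map_comp _ _)

lemma lshTrans_counit (W U : X.Opens) [Fact (W ≤ U)] (M : X.Modules) :
    (lshTrans W U).app M ≫ (lshAdj U.ι).counit.app M = (lshAdj W.ι).counit.app M := by
  refine ((lshAdj W.ι).homEquiv _ _).injective ?_
  refine ((lshAdj W.ι).homEquiv_naturality_right _ _).trans ?_
  simp only [lshTrans, Equiv.apply_symm_apply, IsIso.inv_hom_id]
  exact ((lshAdj W.ι).right_triangle_components M).symm.trans ((lshAdj W.ι).homEquiv_unit _ _ _).symm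

/-- Away from the difference of the opens the transition map is invertible. -/
lemma isIso_stalk_lshTrans (W U : X.Opens) [h : Fact (W ≤ U)] (M : X.Modules) (x : X)
    (hx : x ∈ W ∨ x ∉ U) : IsIso ((DerSch.stalkFunctor X x).map ((lshTrans W U).app M)) := by
  rcases hx with hx | hx
  · haveI := isIso_stalk_lsh_counit W M x hx
    haveI := isIso_stalk_lsh_counit U M x (h.out hx)
    haveI : IsIso ((DerSch.stalkFunctor X x).map ((lshTrans W U).app M) ≫
        (DerSch.stalkFunctor X x).map ((lshAdj U.ι).counit.app M)) := by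
      rw [← Functor.map_comp, lshTrans_counit]
      infer_instance
    exact IsIso.of_isIso_comp_right _ ((DerSch.stalkFunctor X x).map ((lshAdj U.ι).counit.app M))
  · have hW : x ∉ Set.range W.ι.base := fun ⟨w, hw⟩ => hx (h.out (hw ▸ w.2))
    have hU : x ∉ Set.range U.ι.base := fun ⟨w, hw⟩ => hx (hw ▸ w.2)
    exact ⟨0, (isZero_stalk_lsh W.ι x hW _).eq_of_src _ _, (isZero_stalk_lsh U.ι x hU _).eq_of_src _ _⟩

/-- The Mayer-Vietoris triangle. -/
theorem exists_mv_triangle (U V : X.Opens) (hUV : U ⊔ V = ⊤) (C : CochainComplex X.Modules ℤ) :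
    ∃ (a : DerivedCategory.Q.obj ((mapCx (lshRes (U ⊓ V))).obj C) ⟶
        DerivedCategory.Q.obj ((mapCx (lshRes U)).obj C) ⊞ DerivedCategory.Q.obj ((mapCx (lshRes V)).obj C))
      (b : DerivedCategory.Q.obj ((mapCx (lshRes U)).obj C) ⊞ DerivedCategory.Q.obj ((mapCx (lshRes V)).obj C) ⟶
        DerivedCategory.Q.obj C)
      (c : DerivedCategory.Q.obj C ⟶ (DerivedCategory.Q.obj ((mapCx (lshRes (U ⊓ V))).obj C))⟦(1 : ℤ)⟧),
      Triangle.mk a b c ∈ distTriang (DCoh.D X) := by
  haveI : Fact (U ⊓ V ≤ U) := ⟨inf_le_left⟩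
  haveI : Fact (U ⊓ V ≤ V) := ⟨inf_le_right⟩
  let ra := (NatTrans.mapHomologicalComplex (lshTrans (U ⊓ V) U) (ComplexShape.up ℤ)).app C
  let rb := (NatTrans.mapHomologicalComplex (lshTrans (U ⊓ V) V) (ComplexShape.up ℤ)).app C
  let ca : (mapCx (lshRes U)).obj C ⟶ C :=
    { f := fun n => (lshAdj U.ι).counit.app (C.X n)
      comm' := fun i k _ => ((lshAdj U.ι).counit.naturality (C.d i k)).symm }
  let cb : (mapCx (lshRes V)).obj C ⟶ C :=
    { f := fun n => (lshAdj V.ι).counit.app (C.X n)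
      comm' := fun i k _ => ((lshAdj V.ι).counit.naturality (C.d i k)).symm }
  have h : ra ≫ ca = rb ≫ cb := by
    exact HomologicalComplex.hom_ext _ _ fun n =>
      (lshTrans_counit (U ⊓ V) U (C.X n)).trans (lshTrans_counit (U ⊓ V) V (C.X n)).symm
  let S := ShortComplex.mk (biprod.lift ra (-rb)) (biprod.desc ca cb) (by simp [h])
  have hS : S.ShortExact := HomologicalComplex.shortExact_of_degreewise_shortExact S fun n => by
    rw [shortExact_iff_stalk]
    intro x
    let Φ := HomologicalComplex.eval X.Modules (ComplexShape.up ℤ) n ⋙ DerSch.stalkFunctor X x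
    by_cases hx : x ∈ U
    · exact shortExact_map_mv Φ ra rb ca cb h
        (isIso_stalk_lshTrans (U ⊓ V) V (C.X n) x
          ((Classical.em (x ∈ V)).imp (fun hv => ⟨hx, hv⟩) id))
        (isIso_stalk_lsh_counit U (C.X n) x hx)
    · have hv : x ∈ V := ((Opens.mem_sup).1 (hUV ▸ Opens.mem_top x)).resolve_left hx
      have h1 := shortExact_map_mv Φ rb ra cb ca h.symm
        (isIso_stalk_lshTrans (U ⊓ V) U (C.X n) x (Or.inr hx))
        (isIso_stalk_lsh_counit V (C.X n) x hv)
      refine ShortComplex.shortExact_of_iso ?_ h1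
      refine ShortComplex.isoMk (-(Iso.refl _)) (Φ.mapIso (biprod.braiding _ _)) (Iso.refl _) ?_ ?_
      · change (-(𝟙 _)) ≫ Φ.map (biprod.lift ra (-rb)) = Φ.map (biprod.lift rb (-ra)) ≫ Φ.map _
        rw [← Φ.map_comp, Preadditive.neg_comp, Category.id_comp, ← Φ.map_neg]
        refine congrArg Φ.map ?_
        apply biprod.hom_ext <;> simp
      · change Φ.map _ ≫ Φ.map (biprod.desc ca cb) = Φ.map (biprod.desc cb ca) ≫ 𝟙 _
        rw [← Φ.map_comp, Category.comp_id]
        refine congrArg Φ.map ?_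
        apply biprod.hom_ext' <;> simp
  haveI := preservesBinaryBiproducts_of_preservesBinaryCoproducts (DerivedCategory.Q (C := X.Modules))
  let e := DerivedCategory.Q.mapBiprod ((mapCx (lshRes U)).obj C) ((mapCx (lshRes V)).obj C)
  refine ⟨DerivedCategory.Q.map S.f ≫ e.hom, e.inv ≫ DerivedCategory.Q.map S.g,
    DerivedCategory.triangleOfSESδ hS, ?_⟩
  refine isomorphic_distinguished _ (DerivedCategory.triangleOfSES_distinguished hS) _ ?_
  exact Triangle.isoMk _ _ (Iso.refl _) e.symm (Iso.refl _) (by simp) (by simp) (by simp)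

/-- The value of the extension of a restriction in the derived category. -/
theorem nonempty_extZeroD_restrictD_iso (U : X.Opens) [PreservesFiniteLimits (CxOX.extZero U.ι)]
    (C : CochainComplex X.Modules ℤ) :
    Nonempty ((CxOX.extZeroD U.ι).obj ((DCoh.restrictD U.ι).obj (DerivedCategory.Q.obj C)) ≅
      DerivedCategory.Q.obj ((mapCx (lshRes U)).obj C)) :=
  ⟨(CxOX.extZeroD U.ι).mapIso ((Scheme.Modules.restrictFunctor U.ι).mapDerivedCategoryFactors.app C) ≪≫
    (CxOX.extZero U.ι).mapDerivedCategoryFactors.app _⟩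

end Groth.Agent.KFlatLib
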