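import Groth.Agent.KFlatLib.Scheme.ProjFormula
import Groth.Agent.KFlatLib.Scheme.RHomExists
import Groth.Agent.KFlatLib.Scheme.RHomLocal
import Groth.Agent.KFlatLib.SymmNat
import Groth.Prelude.Def_DCoh2

/-!
# Maps into a right adjoint of `Rf_*` vanish over an open where the object vanishes
-/

set_option linter.style.haveILetI false
set_option backward.isDefEq.respectTransparency false

universe u

open CategoryTheory CategoryTheory.Limits AlgebraicGeometry Pretriangulated TopologicalSpace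

attribute [local instance] HasDerivedCategory.standard

namespace Groth.Agent.KFlatLib.SupportAdj

variable {X Y : Scheme.{u}} (f : X ⟶ Y)

/-- The value of `I ⊗^L Lf^*` at the structure module. -/
lemma nonempty_projH_structure (I : CochainComplex X.Modules ℤ) :
    Nonempty ((projH f I).obj (DerivedCategory.Q.obj
      ((HomologicalComplex.single Y.Modules (ComplexShape.up ℤ) 0).obj (Coh.structureModule Y))) ≅
      DerivedCategory.Q.obj I) := by
  let P := (HomologicalComplex.single Y.Modules (ComplexShape.up ℤ) 0).obj (Coh.structureModule Y)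
  have hP : DCoh.IsKFlat P := isKFlat_of_isStrictlyLE P 0 (isFlat_single 0 isFlat_structureModule)
  haveI := isIso_kLiftε (kRespects_pullTensor f I) hP
  haveI : IsIso (SheafOfModules.pullbackObjUnitToUnit f.toRingCatSheafHom) := inferInstance
  let e : (Scheme.Modules.pullback f).obj (Coh.structureModule Y) ≅ Coh.structureModule X :=
    asIso (SheafOfModules.pullbackObjUnitToUnit f.toRingCatSheafHom)
  let eS : (pullCx f).obj P ≅
      (HomologicalComplex.single X.Modules (ComplexShape.up ℤ) 0).obj (Coh.structureModule X) :=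
    (HomologicalComplex.singleMapHomologicalComplex (Scheme.Modules.pullback f) _ 0).app _ ≪≫
      (HomologicalComplex.single _ _ 0).mapIso e
  let e₂ : Inner.tenX (DCoh.tensorBi (X := X)) ((pullCx f).obj P) ≅
      shiftFunctor (CochainComplex X.Modules ℤ) (-0 : ℤ) :=
    DCoh.tensorBi.map₂CochainComplex.flip.mapIso eS ≪≫
      Inner.tensorUnitShiftIso (DCoh.tensorBi (X := X)) (Coh.structureModule X) (tensorStructureIso X) 0
  exact ⟨asIso ((kLiftε (kRespects_pullTensor f I)).app P) ≪≫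
    DerivedCategory.Q.mapIso (e₂.app I ≪≫ (shiftFunctorZero' (CochainComplex X.Modules ℤ) (-0) (by simp)).app I)⟩

variable [QuasiCompact f] [QuasiSeparated f] [DCoh.HasRpush f]

/-- `I ⊗^L Lf^* P` has quasi-coherent cohomology. -/
lemma isQCohD_projH {R : CochainComplex Y.Modules ℤ} (hR : DCoh.IsKFlat R)
    (I : CochainComplex X.Modules ℤ) (a : R ⟶ (pushCxF f).obj I) [QuasiIso a] [I.IsKInjective]
    (hI : DCoh.IsQCohD (DerivedCategory.Q.obj I)) {Z : DCoh.D Y} (hZ : DCoh.IsQCohD Z) :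
    DCoh.IsQCohD ((projH f I).obj Z) := fun i => isQCoh_HD_of_local _ i fun x => by
  obtain ⟨_, ⟨U, hU, rfl⟩, hxU, -⟩ :=
    Y.isBasis_affineOpens.exists_subset_of_mem_open (Set.mem_univ (f.base x)) isOpen_univ
  let eZ := DerivedCategory.Q.objObjPreimageIso Z
  have h := (projClass_of_isAffineOpen f I a U hU hR hI (DerivedCategory.Q.objPreimage Z)
    (isQCohD_of_iso eZ.symm hZ)).2 0
  refine ⟨_, kIm f U, inferInstance, ⟨⟨x, hxU⟩, rfl⟩, ?_⟩
  exact (isQCohD_of_iso ((DCoh.restrictD (kIm f U)).mapIso ((projH f I).mapIso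
    ((shiftFunctorZero (DCoh.D Y) ℤ).app _ ≪≫ eZ))) h) i

omit [QuasiCompact f] [QuasiSeparated f] [DCoh.HasRpush f] in
/-- `iHom` into something vanishing on an open vanishes there. -/
lemma isZero_rho_iHom (V : Y.Opens) {P : CochainComplex Y.Modules ℤ} (hP : DCoh.IsKFlat P)
    (J : CochainComplex Y.Modules ℤ) [J.IsKInjective] [∀ n, Injective (J.X n)]
    (h : IsZero ((rho V.ι).obj (DerivedCategory.Q.obj J))) :
    IsZero ((rho V.ι).obj (DerivedCategory.Q.obj ((iHom P).obj J))) := by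
  obtain ⟨e⟩ := nonempty_rho_iHom V.ι P J
  let P' := (rCx V.ι).obj P
  have hP' : DCoh.IsKFlat P' := isKFlat_restrict V.ι hP
  haveI := hasLTensorCx P'
  haveI := hasRSheafHom_of_isKFlat P' hP'
  haveI := isKInjective_rCx V.ι J
  haveI : ∀ n, Injective (((rCx V.ι).obj J).X n) := injective_rCx V.ι J
  obtain ⟨e'⟩ := nonempty_RSheafHom_iso_of_isKFlat P' hP' ((rCx V.ι).obj J)
  have hz : IsZero (DerivedCategory.Q.obj ((rCx V.ι).obj J)) := h.of_iso ((rhoQ V.ι).app J).symm
  refine IsZero.of_iso ?_ (e ≪≫ e'.symm)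
  exact (IsZero.iff_id_eq_zero _).2
    (((DCoh.RSheafHomAdj P').homEquiv _ _).symm.injective (hz.eq_of_tgt _ _))

/-- A map `E ⟶ a Q` vanishes over `f⁻¹V` if `Q` vanishes on `V` and the sheaf `RHom(Rf_* E, Q)` has
quasi-coherent cohomology. -/
theorem rho_map_eq_zero (h : ∀ K : DCoh.D X, DCoh.IsQCohD K → DCoh.IsQCohD ((DCoh.Rpush f).obj K))
    (a : DCoh.DQCoh Y ⥤ DCoh.DQCoh X)
    (adj : (ObjectProperty.lift DCoh.IsQCohD (ObjectProperty.ι DCoh.IsQCohD ⋙ DCoh.Rpush f)
      (fun K => h K.obj K.property)) ⊣ a)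
    (V : Y.Opens) (Q : DCoh.DQCoh Y) (hQV : IsZero ((rho V.ι).obj Q.obj))
    (E : DCoh.DQCoh X) (β : E ⟶ a.obj Q)
    (hN : ∀ (P J : CochainComplex Y.Modules ℤ), DCoh.IsKFlat P → J.IsKInjective →
      (∀ n, Injective (J.X n)) → Nonempty (DerivedCategory.Q.obj P ≅ (DCoh.Rpush f).obj E.obj) →
      Nonempty (Q.obj ≅ DerivedCategory.Q.obj J) →
      DCoh.IsQCohD (DerivedCategory.Q.obj ((iHom P).obj J))) :
    (rho (f ⁻¹ᵁ V).ι).map β.hom = 0 := by
  obtain ⟨I, _, _, ⟨eI⟩⟩ := exists_kInjective_rep E.obj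
  let R := (kRes Y).obj ((pushCxF f).obj I)
  let av : R ⟶ (pushCxF f).obj I := (flatCover Y).ψ.app _
  haveI : QuasiIso av := (flatCover Y).quasiIso_ψ _
  haveI := isIso_Q_map av inferInstance
  have hR : DCoh.IsKFlat R := isKFlat_kRes _
  have hI : DCoh.IsQCohD (DerivedCategory.Q.obj I) := isQCohD_of_iso eI E.property
  obtain ⟨ep⟩ := nonempty_rpush_iso_of_kInjective (f := f) (I := I) (Iso.refl _)
  obtain ⟨J, hJ, hJi, ⟨eJ⟩⟩ := exists_kInjective_rep Q.obj
  have hqN : DCoh.IsQCohD (DerivedCategory.Q.obj ((iHom R).obj J)) := hN R J hR hJ hJi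
    ⟨asIso (DerivedCategory.Q.map av) ≪≫ ep.symm ≪≫ (DCoh.Rpush f).mapIso eI.symm⟩ ⟨eJ⟩
  haveI := isKInjective_iHom hR J
  let O := (HomologicalComplex.single Y.Modules (ComplexShape.up ℤ) 0).obj (Coh.structureModule Y)
  have hO : DCoh.IsKFlat O := isKFlat_of_isStrictlyLE O 0 (isFlat_single 0 isFlat_structureModule)
  have hqO : DCoh.IsQCohD (DerivedCategory.Q.obj O) := (isQCohD_Q_iff O).2
    (isQCoh_homology_of_terms O fun i => by
      rcases eq_or_ne i 0 with rfl | hi
      · exact isQCoh_of_iso (HomologicalComplex.singleObjXSelf (ComplexShape.up ℤ) 0 _).symm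
          QCoh.isQCoh_structureModule
      · exact isQCoh_of_isZero (HomologicalComplex.isZero_single_obj_X _ _ _ _ hi))
  obtain ⟨eH₀⟩ := nonempty_projH_structure f I
  let eH : (projH f I).obj (DerivedCategory.Q.obj O) ≅ E.obj := eH₀ ≪≫ eI.symm
  let hh := (adj.homEquiv E Q).symm β
  let m : (projF R).obj (DerivedCategory.Q.obj O) ⟶ Q.obj :=
    (projθ f I av).app (DerivedCategory.Q.obj O) ≫ (DCoh.Rpush f).map eH.hom ≫ hh.hom
  haveI := isIso_kLiftε (kRespects_tensor R) hO
  obtain ⟨g, hg⟩ := exists_Q_map (K := (DCoh.tensorCx.obj R).obj O) (I := J)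
    (inv ((kLiftε (kRespects_tensor R)).app O) ≫ m ≫ eJ.hom)
  let σ := symmIso (tensorBiFlipIso Y) R
  let o : O ⟶ (iHom R).obj J := (iHomAdj R).homEquiv _ _ (σ.hom.app O ≫ g)
  obtain ⟨C, c, d, hT⟩ := distinguished_cocone_triangle₁ (DerivedCategory.Q.map o)
  have hqC : DCoh.IsQCohD C := isQCohD_obj₁ hT hqO hqN
  have hcV : IsIso ((rho V.ι).map c) :=
    (Triangle.isZero₃_iff_isIso₁ _ ((rho V.ι).map_distinguished _ hT)).1
      (isZero_rho_iHom V hR J (hQV.of_iso ((rho V.ι).mapIso eJ).symm))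
  let eC := DerivedCategory.Q.objObjPreimageIso C
  obtain ⟨Z, s, hs, g₀, hg₀⟩ := DerivedCategory.right_fac (eC.hom ≫ c)
  haveI := hs
  haveI := isIso_Q_map _ ((flatCover Y).quasiIso_ψ Z)
  let P := (kRes Y).obj Z
  have hP : DCoh.IsKFlat P := isKFlat_kRes _
  let c' : P ⟶ O := (flatCover Y).ψ.app Z ≫ g₀
  let eP : DerivedCategory.Q.obj P ≅ C :=
    asIso (DerivedCategory.Q.map ((flatCover Y).ψ.app Z)) ≪≫ asIso (DerivedCategory.Q.map s) ≪≫ eC
  have hc' : DerivedCategory.Q.map c' = eP.hom ≫ c := by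
    simp only [c', eP, Functor.map_comp, Iso.trans_hom, asIso_hom, Category.assoc]
    rw [hg₀, IsIso.hom_inv_id_assoc]
  have hco : DerivedCategory.Q.map (c' ≫ o) = 0 := by
    rw [Functor.map_comp, hc', Category.assoc]
    exact (congrArg (eP.hom ≫ ·) (comp_distTriang_mor_zero₁₂ _ hT)).trans comp_zero
  obtain ⟨H⟩ := (Inner.nonempty_homotopy_iff (DCoh.tensorBi (X := Y)) (c' ≫ o) 0).1
    (homotopy_of_Q_map_eq _ _ (hco.trans (DerivedCategory.Q.map_zero _ _).symm))
  have hg0 : DerivedCategory.Q.map ((DCoh.tensorCx.obj R).map c' ≫ g) = 0 := by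
    have h₁ := DerivedCategory.Q_map_eq_of_homotopy _ H
    rw [Inner.homEquiv_zero (DCoh.tensorBi (X := Y)), Functor.map_zero,
      (iHomAdj R).homEquiv_naturality_left_symm] at h₁
    simp only [o, Equiv.symm_apply_apply] at h₁
    have h₂ := congrArg (fun t => DerivedCategory.Q.map (t ≫ g)) (σ.hom.naturality c')
    simp only [Category.assoc] at h₂
    rw [← cancel_epi (DerivedCategory.Q.map (σ.hom.app P)), comp_zero, ← Functor.map_comp]
    exact h₂.symm.trans h₁
  -- the comparison map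
  let p : (projH f I).obj (DerivedCategory.Q.obj P) ⟶ E.obj :=
    (projH f I).map (DerivedCategory.Q.map c') ≫ eH.hom
  have hqP : DCoh.IsQCohD (DerivedCategory.Q.obj P) := isQCohD_of_iso eP.symm hqC
  have hFm : (projF R).map (DerivedCategory.Q.map c') ≫ m = 0 := by
    have hm : m = (kLiftε (kRespects_tensor R)).app O ≫ DerivedCategory.Q.map g ≫ eJ.inv := by
      rw [hg]; simp
    rw [hm, ← Category.assoc]
    refine (congrArg (· ≫ _) ((kLiftε (kRespects_tensor R)).naturality c')).trans ?_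
    rw [Category.assoc]
    refine (congrArg (_ ≫ ·) ((Category.assoc _ _ _).symm.trans ?_)).trans comp_zero
    exact (congrArg (· ≫ eJ.inv) ((DerivedCategory.Q.map_comp _ _).symm.trans hg0)).trans zero_comp
  haveI := isIso_projθ f I av hR hI P hqP
  have hph : (DCoh.Rpush f).map p ≫ hh.hom = 0 := by
    rw [← cancel_epi ((projθ f I av).app (DerivedCategory.Q.obj P)), comp_zero, Functor.map_comp,
      Category.assoc, ← Category.assoc]
    refine (congrArg (· ≫ _) ((projθ f I av).naturality (DerivedCategory.Q.map c')).symm).trans ?_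
    rw [Category.assoc]
    exact hFm
  haveI := hasLpull f
  obtain ⟨adjf⟩ := nonempty_lpull_rpush_adj f
  haveI := adjf.rightAdjoint_preservesLimits
  haveI : (DCoh.Rpush f).PreservesZeroMorphisms :=
    Functor.preservesZeroMorphisms_of_map_zero_object
      (IsTerminal.uniqueUpToIso (IsTerminal.isTerminalObj (DCoh.Rpush f) _
        (HasZeroObject.zeroIsTerminal)) HasZeroObject.zeroIsTerminal)
  let E' : DCoh.DQCoh X := ⟨(projH f I).obj (DerivedCategory.Q.obj P), isQCohD_projH f hR I av hI hqP⟩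
  let p' : E' ⟶ E := ObjectProperty.homMk p
  have hpβ : p' ≫ β = 0 := by
    refine (adj.homEquiv E' Q).symm.injective (ObjectProperty.hom_ext _ ?_)
    rw [adj.homEquiv_naturality_left_symm, Adjunction.homEquiv_counit (g := (0 : E' ⟶ a.obj Q))]
    refine hph.trans ?_
    exact ((congrArg (· ≫ _) ((DCoh.Rpush f).map_zero _ _)).trans zero_comp).symm
  have hpU : IsIso ((rho (f ⁻¹ᵁ V).ι).map p) := by
    have h₁ : IsIso ((DCoh.restrictD V.ι).map (DerivedCategory.Q.map c')) := by
      haveI := hcV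
      show IsIso ((rho V.ι).map _)
      rw [hc', Functor.map_comp]
      infer_instance
    haveI h₂ : IsIso ((rho (f ⁻¹ᵁ V).ι).map ((projH f I).map (DerivedCategory.Q.map c'))) :=
      (isIso_restrictD_projFH f I V hR _ h₁).2
    rw [Functor.map_comp]
    infer_instance
  rw [← cancel_epi ((rho (f ⁻¹ᵁ V).ι).map p), comp_zero, ← Functor.map_comp]
  exact (congrArg (rho (f ⁻¹ᵁ V).ι).map (congrArg (fun t => t.hom) hpβ)).trans (Functor.map_zero _ _ _)

end Groth.Agent.KFlatLib.SupportAdj
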