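import Groth.Agent.KFlatLib.Scheme.DQCohCompact
import Groth.Agent.KFlatLib.Scheme.Generator
import Groth.Agent.KFlatLib.Scheme.RpushCoprodQCoh
import Groth.Agent.KFlatLib.Scheme.MVPush

/-!
# Right adjoints preserving coproducts
-/

set_option linter.style.haveILetI false
set_option backward.isDefEq.respectTransparency false

universe u v' v'' u' u''

open CategoryTheory CategoryTheory.Limits AlgebraicGeometry Pretriangulated

attribute [local instance] HasDerivedCategory.standard

namespace Groth.Agent.KFlatLib.AdjCoprod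

section General

variable {C : Type u'} [Category.{v'} C] [Preadditive C] {D : Type u''} [Category.{v''} D] [Preadditive D]

lemma sum_ι_of_partProj {J : Type u} (M : J → C) [HasCoproduct M] {A : C} (φ : A ⟶ ∐ M) (F : Finset J)
    (hF : φ ≫ partProj M F = φ) :
    ∃ c : ∀ j, A ⟶ M j, φ = ∑ j ∈ F, c j ≫ Sigma.ι M j := by
  classical
  let π : ∀ k, ∐ M ⟶ M k := fun k => Sigma.desc fun j => if h : j = k then eqToHom (congrArg M h) else 0
  refine ⟨fun j => φ ≫ π j, ?_⟩
  simp only [Category.assoc, ← Preadditive.comp_sum]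
  refine hF.symm.trans (congrArg (φ ≫ ·) (Sigma.hom_ext _ _ fun j => ?_))
  rw [Preadditive.comp_sum]
  by_cases hj : j ∈ F
  · rw [ι_partProj_mem M hj, Finset.sum_eq_single j (fun b _ hb => by
      rw [← Category.assoc, show Sigma.ι M j ≫ π b = 0 by simp [π, Ne.symm hb], zero_comp])
      (fun h => absurd hj h), ← Category.assoc, show Sigma.ι M j ≫ π j = 𝟙 _ by simp [π], Category.id_comp]
  · rw [ι_partProj_not_mem M hj]
    exact (Finset.sum_eq_zero fun b hb => by
      rw [← Category.assoc, show Sigma.ι M j ≫ π b = 0 by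
        simp [π, show j ≠ b from fun h => hj (h ▸ hb)], zero_comp]).symm

lemma eq_zero_of_sum_ι {J : Type u} (M : J → C) [HasCoproduct M] {A : C} (F : Finset J) (c : ∀ j, A ⟶ M j)
    (h : ∑ j ∈ F, c j ≫ Sigma.ι M j = 0) : ∀ j ∈ F, c j = 0 := by
  classical
  intro k hk
  let π : ∐ M ⟶ M k := Sigma.desc fun j => if h : j = k then eqToHom (congrArg M h) else 0
  have h' := congrArg (· ≫ π) h
  simp only [Preadditive.sum_comp, Category.assoc, zero_comp] at h'
  rw [Finset.sum_eq_single k (fun b _ hb => by simp [π, hb]) (fun h => absurd hk h),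
    show Sigma.ι M k ≫ π = 𝟙 _ by simp [π], Category.comp_id] at h'
  exact h'

lemma fixAt_of_fullyFaithful (G : C ⥤ D) [G.Full] [G.Faithful] [G.Additive] {J : Type u} (M : J → C)
    [HasCoproduct M] [HasCoproduct fun j => G.obj (M j)] [PreservesColimit (Discrete.functor M) G] {A : C}
    (h : FixAt (fun j => G.obj (M j)) (G.obj A)) : FixAt M A := fun φ => by
  obtain ⟨F, hF⟩ := h (G.map φ ≫ inv (sigmaComparison G M))
  refine ⟨F, G.map_injective ((cancel_mono (inv (sigmaComparison G M))).1 ?_)⟩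
  rw [Functor.map_comp, Category.assoc]
  refine Eq.trans (congrArg (G.map φ ≫ ·) ?_) ((Category.assoc _ _ _).symm.trans hF)
  rw [IsIso.comp_inv_eq, Category.assoc, ← sigmaComparison_partProj M G F, IsIso.inv_hom_id_assoc]

variable {L : C ⥤ D} {R : D ⥤ C} (adj : L ⊣ R) [L.Additive] {J : Type u} (K : J → D) [HasCoproduct K]
  [HasCoproduct fun j => R.obj (K j)]

include adj in
/-- Maps from an object with compact image into a coproduct of values of a right adjoint. -/
lemma bijective_comp_sigmaComparison (A : C) (hA : FixAt (fun j => R.obj (K j)) A) (hLA : FixAt K (L.obj A)) :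
    Function.Bijective fun φ : A ⟶ ∐ (fun j => R.obj (K j)) => φ ≫ sigmaComparison R K := by
  haveI := adj.right_adjoint_additive
  have key : ∀ (F : Finset J) (c : ∀ j, A ⟶ R.obj (K j)),
      (adj.homEquiv _ _).symm ((∑ j ∈ F, c j ≫ Sigma.ι (fun j => R.obj (K j)) j) ≫ sigmaComparison R K) =
        ∑ j ∈ F, (adj.homEquiv _ _).symm (c j) ≫ Sigma.ι K j := by
    intro F c
    rw [Preadditive.sum_comp, adj.homEquiv_counit, Functor.map_sum, Preadditive.sum_comp]
    refine Finset.sum_congr rfl fun j _ => ?_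
    rw [Category.assoc, ι_comp_sigmaComparison, ← adj.homEquiv_counit, adj.homEquiv_naturality_right_symm]
  refine ⟨fun φ φ' hφ => ?_, fun ψ => ?_⟩
  · obtain ⟨F, hF⟩ := hA (φ - φ')
    obtain ⟨c, hc⟩ := sum_ι_of_partProj _ _ F hF
    refine sub_eq_zero.1 (hc.trans (Finset.sum_eq_zero fun j hj => ?_))
    have h0 : (adj.homEquiv A (∐ K)).symm ((φ - φ') ≫ sigmaComparison R K) = 0 := by
      rw [Preadditive.sub_comp, sub_eq_zero.2 hφ, adj.homEquiv_counit, Functor.map_zero, zero_comp]
    rw [hc, key] at h0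
    have hj' := eq_zero_of_sum_ι K F (fun j => (adj.homEquiv _ _).symm (c j)) h0 j hj
    have : c j = 0 := (adj.homEquiv _ _).symm.injective (hj'.trans (by
      rw [adj.homEquiv_counit, Functor.map_zero, zero_comp]))
    rw [this, zero_comp]
  · obtain ⟨F, hF⟩ := hLA ((adj.homEquiv _ _).symm ψ)
    obtain ⟨d, hd⟩ := sum_ι_of_partProj _ _ F hF
    refine ⟨∑ j ∈ F, (adj.homEquiv _ _) (d j) ≫ Sigma.ι (fun j => R.obj (K j)) j,
      (adj.homEquiv _ _).symm.injective ((key F _).trans ?_)⟩
    simp only [Equiv.symm_apply_apply]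
    exact hd.symm

end General

variable {X Y : Scheme.{u}}

instance : (DCoh.IsQCohD (X := X)).IsClosedUnderIsomorphisms := ⟨isQCohD_of_iso⟩

lemma closed_coproducts (X : Scheme.{u}) (J : Type u) :
    (DCoh.IsQCohD (X := X)).IsClosedUnderColimitsOfShape (Discrete J) := by
  haveI : HasColimitsOfShape (Discrete J) (DCoh.D X) := TriCat.hasColimitsOfShape_derivedCategory
  refine .mk' ?_
  rintro _ ⟨F, hF⟩
  exact isQCohD_of_iso (HasColimit.isoOfNatIso Discrete.natIsoFunctor.symm)
    (isQCohD_sigma _ fun j => hF ⟨j⟩)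

/-- A right adjoint on `D_QCoh` of a functor preserving perfect objects preserves coproducts. -/
theorem preservesCoproducts_rightAdjoint [CompactSpace X] [QuasiSeparatedSpace X] [CompactSpace Y]
    [QuasiSeparatedSpace Y] {L : DCoh.DQCoh X ⥤ DCoh.DQCoh Y} [L.Additive] {R : DCoh.DQCoh Y ⥤ DCoh.DQCoh X}
    (adj : L ⊣ R) (hL : ∀ P : DCoh.DQCoh X, LocSP P.obj → LocSP (L.obj P).obj) (J : Type u) :
    PreservesColimitsOfShape (Discrete J) R := by
  haveI := closed_coproducts X J
  haveI := closed_coproducts Y J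
  haveI : HasColimitsOfShape (Discrete J) (DCoh.D X) := TriCat.hasColimitsOfShape_derivedCategory
  haveI : HasColimitsOfShape (Discrete J) (DCoh.D Y) := TriCat.hasColimitsOfShape_derivedCategory
  let ιX := ObjectProperty.ι (DCoh.IsQCohD (X := X))
  let ιY := ObjectProperty.ι (DCoh.IsQCohD (X := Y))
  haveI : CreatesColimitsOfShape (Discrete J) ιX := createsColimitsOfShapeFullSubcategoryInclusion _ _
  haveI : CreatesColimitsOfShape (Discrete J) ιY := createsColimitsOfShapeFullSubcategoryInclusion _ _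
  haveI : HasColimitsOfShape (Discrete J) (DCoh.DQCoh X) := inferInstance
  haveI : HasColimitsOfShape (Discrete J) (DCoh.DQCoh Y) := inferInstance
  haveI : PreservesColimitsOfShape (Discrete J) ιX := inferInstance
  haveI : PreservesColimitsOfShape (Discrete J) ιY := inferInstance
  haveI : ∀ K : J → DCoh.DQCoh Y, PreservesColimit (Discrete.functor K) R := fun K => by
    have bij : ∀ A : DCoh.DQCoh X, LocSP A.obj →
        Function.Bijective fun φ : A ⟶ ∐ (fun j => R.obj (K j)) => φ ≫ sigmaComparison R K := fun A hA =>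
      bijective_comp_sigmaComparison adj K A
        (fixAt_of_fullyFaithful ιX _ (DQCompact.fixAt ((isPerfect_iff _).2 hA) _ fun j => (R.obj (K j)).property))
        (fixAt_of_fullyFaithful ιY _
          (DQCompact.fixAt ((isPerfect_iff _).2 (hL A hA)) _ fun j => (K j).property))
    suffices IsIso (sigmaComparison R K) from PreservesCoproduct.of_iso_comparison R K
    suffices IsIso (ιX.map (sigmaComparison R K)) from isIso_of_fully_faithful ιX _
    obtain ⟨Z, u, d, hT⟩ := distinguished_cocone_triangle (ιX.map (sigmaComparison R K))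
    refine (Triangle.isZero₃_iff_isIso₁ _ hT).1 ?_
    obtain ⟨P, hP, hgen⟩ := Generator.exists_gen X
    have hP' : ∀ n : ℤ, DCoh.IsQCohD (P⟦n⟧) := fun n => AffineLift.isQCohD_of_locSP (hP.shift n)
    refine hgen Z (isQCohD_obj₂ (rot_of_distTriang _ hT) (R.obj _).property
      (isQCohD_shift (∐ fun j => R.obj (K j)).property 1)) fun n φ => ?_
    obtain ⟨χ, hχ⟩ := Triangle.coyoneda_exact₃ _ hT φ (by
      show φ ≫ d = 0
      let a₁ := (shiftFunctorAdd' (DCoh.D X) n (-1) (n - 1) (by omega)).hom.app P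
      let c₁ := (shiftFunctorCompIsoId (DCoh.D X) (1 : ℤ) (-1) (by omega))
      let θ : P⟦(n - 1)⟧ ⟶ (∐ fun j => R.obj (K j)).obj :=
        a₁ ≫ (shiftFunctor (DCoh.D X) (-1 : ℤ)).map (φ ≫ d) ≫ c₁.hom.app _
      have hd : d ≫ (ιX.map (sigmaComparison R K))⟦(1 : ℤ)⟧' = 0 := comp_distTriang_mor_zero₃₁ _ hT
      have hθ : θ ≫ ιX.map (sigmaComparison R K) = 0 := by
        dsimp only [θ]
        rw [Category.assoc, Category.assoc]
        refine Eq.trans (congrArg (fun t => a₁ ≫ (shiftFunctor (DCoh.D X) (-1 : ℤ)).map (φ ≫ d) ≫ t)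
          (c₁.hom.naturality (ιX.map (sigmaComparison R K))).symm) ?_
        dsimp only [Functor.comp_map]
        rw [← Functor.map_comp_assoc, Category.assoc, hd, comp_zero, Functor.map_zero, zero_comp, comp_zero]
      have h0 : θ = 0 := congrArg (fun t => t.hom) ((bij ⟨_, hP' (n - 1)⟩ (hP.shift _)).1
        (a₁ := (ObjectProperty.homMk θ)) (a₂ := 0)
        (ObjectProperty.hom_ext _ (hθ.trans zero_comp.symm)))
      refine (shiftFunctor (DCoh.D X) (-1 : ℤ)).map_injective ((cancel_epi a₁).1
        ((cancel_mono (c₁.hom.app _)).1 ?_))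
      rw [Functor.map_zero, comp_zero, zero_comp, Category.assoc]
      exact h0)
    obtain ⟨ψ, hψ⟩ := (bij ⟨_, hP' n⟩ (hP.shift n)).2 (ObjectProperty.homMk χ)
    have hψ' : ψ.hom ≫ ιX.map (sigmaComparison R K) = χ := congrArg (fun t => t.hom) hψ
    rw [hχ, ← hψ', Category.assoc]
    exact (congrArg (ψ.hom ≫ ·) (comp_distTriang_mor_zero₁₂ _ hT)).trans comp_zero
  exact preservesColimitsOfShape_of_discrete R

end Groth.Agent.KFlatLib.AdjCoprod
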