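import Groth.Agent.KFlatLib.Scheme.TorAmpPush
import Groth.Agent.KFlatLib.Scheme.RelTensorAmp
import Groth.Agent.KFlatLib.Scheme.RelTor
import Groth.Agent.KFlatLib.Scheme.RpushBound
import Groth.Agent.KFlatLib.Scheme.RpushRestrict
import Groth.Agent.KFlatLib.Scheme.QCohD

/-!
# Tor amplitude of derived direct images, relative form
-/

set_option linter.style.haveILetI false
set_option backward.isDefEq.respectTransparency false

universe u

open CategoryTheory CategoryTheory.Limits AlgebraicGeometry CategoryTheory.Pretriangulated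

attribute [local instance] HasDerivedCategory.standard

namespace Groth.Agent.KFlatLib

variable {X Y : Scheme.{u}}

/-- The derived tensor product with a module is right exact. -/
lemma isZero_hd_ltensorMod_of_isLE (G : X.Modules) [DCoh.HasLTensorMod G] (K : DCoh.D X) (c : ℤ)
    (hK : ∀ i, c < i → IsZero (DCoh.HD K i)) (i : ℤ) (hi : c < i) :
    IsZero (DCoh.HD ((DCoh.LTensorMod G).obj K) i) := by
  let C := DerivedCategory.Q.objPreimage K
  let eC : DCoh.toD X C ≅ K := DerivedCategory.Q.objObjPreimageIso K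
  obtain ⟨P, ψ, hψ, hflat, hz⟩ := (flatCover X).exists_bounded_resolution C c (fun m hm =>
    (hK m hm).of_iso (((DerivedCategory.homologyFunctorFactors X.Modules m).app C).symm ≪≫
      (DerivedCategory.homologyFunctor X.Modules m).mapIso eC))
  haveI : CochainComplex.IsStrictlyLE P c := (CochainComplex.isStrictlyLE_iff P c).2 fun j hj => hz j hj
  haveI := hψ
  let e : DCoh.toD X P ≅ K := @asIso _ _ _ _ (DerivedCategory.Q.map ψ) (isIso_Q_map ψ hψ) ≪≫ eC
  refine IsZero.of_iso ?_ ((DerivedCategory.homologyFunctor X.Modules i).mapIso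
    ((DCoh.LTensorMod G).mapIso e.symm) ≪≫ hdLTensorModIso G (isKFlat_of_isStrictlyLE P c hflat) i)
  exact ShortComplex.isZero_homology_of_isZero_X₂ _ ((DCoh.tensorRightMod G).map_isZero (hz i hi))

variable (f : X ⟶ Y) [QuasiCompact f] [QuasiSeparated f] [DCoh.HasRpush f]

/-- Tor amplitude of a direct image, tested on derived pullbacks of quasi-coherent modules. -/
theorem torAmplitude_rpush_gen [QuasiSeparatedSpace Y] [DCoh.HasLpull f] (N : ℕ)
    (hN : ∀ M : X.Modules, Coh.IsQCoh M → ∀ p : ℕ, N < p → IsZero ((Coh.Rpush f p).obj M))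
    (E : DCoh.D X) (hE : DCoh.IsQCohD E) (a b : ℤ)
    (hamp : ∀ (F : Y.Modules), Coh.IsQCoh F → ∀ (M : CochainComplex X.Modules ℤ)
      (_ : DerivedCategory.Q.obj M ≅ (DCoh.Lpull f).obj (DCoh.inD Y F)) [DCoh.HasLTensorCx M]
      (i : ℤ), (i < a ∨ b < i) → IsZero (DCoh.HD ((DCoh.LTensorCx M).obj E) i)) :
    DCoh.HasTorAmplitudeIn a (b + N) ((DCoh.Rpush f).obj E) :=
  torAmplitude_of_qcoh _ a (b + N) fun F hF _ i hi => by
    let K := (HomologicalComplex.single Y.Modules (ComplexShape.up ℤ) 0).obj F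
    let L := (DCoh.Lpull f).obj (DCoh.inD Y F)
    let M := DerivedCategory.Q.objPreimage L
    let eM : DerivedCategory.Q.obj M ≅ L := DerivedCategory.Q.objObjPreimageIso L
    haveI := hasLTensorCx K
    haveI := hasLTensorCx M
    let eK : DerivedCategory.Q.obj K ≅ DCoh.inD Y F :=
      ((DerivedCategory.singleFunctorIsoCompQ Y.Modules 0).app F).symm
    have hq : DCoh.IsQCohD (DerivedCategory.Q.obj M) :=
      isQCohD_of_iso eM.symm (isQCohD_lpull f (isQCohD_inD_of_isQCoh hF))
    obtain ⟨p⟩ := nonempty_projection_DQCoh f E hE K (isQCohD_of_iso eK.symm (isQCohD_inD_of_isQCoh hF)) M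
      ⟨eM ≪≫ (DCoh.Lpull f).mapIso eK.symm⟩
    obtain ⟨c⟩ := nonempty_ltensorMod_ltensorCx F ((DCoh.Rpush f).obj E)
    refine IsZero.of_iso ?_ ((DerivedCategory.homologyFunctor Y.Modules i).mapIso (c ≪≫ p))
    exact isZero_hd_rpush_range f N hN a b _ (isQCohD_ltensor M hq hE)
      (fun j hj => hamp F hF M eM j hj) i hi

/-- Direct images of objects of finite flat amplitude over the base have finite tor amplitude. -/
theorem torAmplitude_rpush_rel (N : ℕ)
    (hN : ∀ M : X.Modules, Coh.IsQCoh M → ∀ p : ℕ, N < p → IsZero ((Coh.Rpush f p).obj M))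
    (E : DCoh.D X) (hq : DCoh.IsQCohD E) (a b : ℤ) (hE : DCoh.HasRelFlatAmplitudeIn f a b E) :
    DCoh.HasTorAmplitudeIn a (b + N) ((DCoh.Rpush f).obj E) := by
  have hz : ∀ i : ℤ, i < a ∨ b < i → IsZero (DCoh.HD E i) := fun i hi => by
    obtain ⟨E', hv, -, ⟨e⟩⟩ := hE
    exact (ShortComplex.isZero_homology_of_isZero_X₂ _ (hv i hi)).of_iso
      ((DerivedCategory.homologyFunctor X.Modules i).mapIso e.symm ≪≫
        (DerivedCategory.homologyFunctorFactors X.Modules i).app E')
  refine torAmplitude_of_local _ fun y => ?_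
  obtain ⟨U, hU, hy, -⟩ := exists_isAffineOpen_mem_and_subset (x := y) (U := (⊤ : Y.Opens)) trivial
  haveI : IsAffine (U : Scheme.{u}) := hU
  refine ⟨U, U.ι, inferInstance, ⟨⟨y, hy⟩, rfl⟩, fun G _ i hi => ?_⟩
  rcases hi with hi | hi
  · let g := f ∣_ U
    let j := (f ⁻¹ᵁ U).ι
    haveI := hasRpush_scheme g
    haveI := hasLpull g
    obtain ⟨n, hn⟩ := exists_Rpush_bound g
    obtain ⟨eR⟩ := nonempty_rpush_restrictD_iso f U
    have hamp : DCoh.HasRelFlatAmplitudeIn g a b ((rho j).obj E) := by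
      obtain ⟨E', hv, hf, e⟩ := RelTor.relAmp_restrict j f hE
      refine ⟨E', hv, fun m x => (RelTor.flatOverAt_comp_iff g U.ι (E'.X m) x).2 ?_, e⟩
      have h : g ≫ U.ι = j ≫ f := morphismRestrict_ι f U
      rw [h]
      exact hf m x
    have key := torAmplitude_rpush_gen g n (fun M hM p hp => hn M hM p hp.le) ((rho j).obj E)
      (isQCohD_rho j hq) a b (fun F _ M eM _ k hk => isZero_hd_ltensor_lpull g hamp F M eM k hk)
    exact (key G i (Or.inl hi)).of_iso
      ((DerivedCategory.homologyFunctor _ i).mapIso ((DCoh.LTensorMod G).mapIso (eR.app E)))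
  · refine isZero_hd_ltensorMod_of_isLE G _ (b + N) (fun k hk => ?_) i hi
    exact ((Scheme.Modules.restrictFunctor U.ι).map_isZero
      (isZero_hd_rpush_range f N hN a b E hq hz k (Or.inr hk))).of_iso (restrictHDIso U.ι _ k)

end Groth.Agent.KFlatLib
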