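import Groth.Agent.PerfMor.Spread
import Groth.Agent.KFlatLib.Scheme.StalkTorAmpComp
import Groth.Agent.KFlatLib.Scheme.StalkTorAmp
import Groth.Agent.KFlatLib.Scheme.RpushPerfect
import Groth.Agent.KFlatLib.Scheme.TorAmpPushRel
import Groth.Agent.H9Misc.DRingTorDim
import Groth.Agent.S6946

/-!
# Perfect morphisms have bounded tor dimension; their direct images preserve perfect objects
-/

set_option linter.style.haveILetI false
set_option backward.isDefEq.respectTransparency false

universe u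

open CategoryTheory CategoryTheory.Limits AlgebraicGeometry TopologicalSpace TensorProduct

attribute [local instance] HasDerivedCategory.standard

namespace Groth.Agent.KFlatLib.PerfMorTor

variable {X Y : Scheme.{u}}

/-- Tor dimension at the stalks from tor dimension on an affine chart. -/
lemma exists_stalk_bound (f : X ⟶ Y) (hf : MoreMor.IsPerfectMor f) (x : X) :
    ∃ (U : X.Opens) (d : ℕ), x ∈ U ∧ ∀ y ∈ U,
      letI := (f.stalkMap y).hom.toAlgebra
      DRing.HasTorDimLE (Y.presheaf.stalk (f.base y)) d (X.presheaf.stalk y) := by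
  obtain ⟨V, hV, hxV, -⟩ := exists_isAffineOpen_mem_and_subset (U := (⊤ : Y.Opens)) (x := f x) trivial
  obtain ⟨U, hU, hxU, hUV⟩ := exists_isAffineOpen_mem_and_subset (U := f ⁻¹ᵁ V) (x := x) hxV
  let A := Γ(Y, V)
  let B := Γ(X, U)
  letI algB : Algebra A B := (f.appLE V U hUV).hom.toAlgebra
  obtain ⟨d, hd⟩ : DRing.HasFiniteTorDim A B :=
    PerfMor.ftd_algebraMap_iff.1 ((PerfMor.perfMor_iff f).1 hf ⟨V, hV⟩ ⟨U, hU⟩ hUV).2
  refine ⟨U, d, hxU, fun y hyU => ?_⟩
  let Aₚ := Y.presheaf.stalk (f.base y)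
  let C := X.presheaf.stalk y
  letI : Algebra B C := (X.presheaf.germ U y hyU).hom.toAlgebra
  haveI hBC : IsLocalization.AtPrime C (hU.primeIdealOf ⟨y, hyU⟩).asIdeal :=
    hU.isLocalization_stalk ⟨y, hyU⟩
  letI : Algebra A Aₚ := (Y.presheaf.germ V (f.base y) (hUV hyU)).hom.toAlgebra
  haveI hAA : IsLocalization.AtPrime Aₚ (hV.primeIdealOf ⟨f.base y, hUV hyU⟩).asIdeal :=
    hV.isLocalization_stalk ⟨f.base y, hUV hyU⟩
  letI algC : Algebra A C := ((X.presheaf.germ U y hyU).hom.comp (f.appLE V U hUV).hom).toAlgebra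
  haveI : IsScalarTower A B C := IsScalarTower.of_algebraMap_eq fun _ => rfl
  haveI : Module.Flat B C := IsLocalization.flat C (hU.primeIdealOf ⟨y, hyU⟩).asIdeal.primeCompl
  have hC : DRing.HasTorDimLE A d C :=
    PerfMor.torDimLE_restrict A B hd 0 C ((H9Misc.DRingTor.torDimLE_zero_iff (ModuleCat.of B C)).2 ‹_›)
  letI : Algebra Aₚ C := (f.stalkMap y).hom.toAlgebra
  haveI : IsScalarTower A Aₚ C := IsScalarTower.of_algebraMap_eq' (PerfMor.germ_appLE_stalkMap f hUV hyU)
  haveI : Module.Flat A Aₚ := IsLocalization.flat Aₚ (hV.primeIdealOf ⟨f.base y, hUV hyU⟩).asIdeal.primeCompl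
  exact DiagSmooth.torDimLE_of_equiv
    (IsLocalization.moduleLid (hV.primeIdealOf ⟨f.base y, hUV hyU⟩).asIdeal.primeCompl Aₚ C)
    (PerfMor.torDimLE_baseChange A Aₚ d C hC)

/-- A perfect morphism from a quasi-compact scheme has bounded tor dimension. -/
theorem exists_hasTorDimLE [CompactSpace X] (f : X ⟶ Y) (hf : MoreMor.IsPerfectMor f) :
    ∃ n : ℕ, DerSch.HasTorDimLE f n := by
  choose U d hxU hd using exists_stalk_bound f hf
  obtain ⟨t, ht⟩ := isCompact_univ.elim_finite_subcover (fun x : X => (U x : Set X)) (fun x => (U x).2)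
    (fun x _ => Set.mem_iUnion.2 ⟨x, hxU x⟩)
  refine ⟨t.sup d, fun y => ?_⟩
  obtain ⟨x, hxt, hy⟩ := Set.mem_iUnion₂.1 (ht (Set.mem_univ y))
  let A := Y.presheaf.stalk (f.base y)
  let B := X.presheaf.stalk y
  let φ : A →+* B := (f.stalkMap y).hom
  letI : Algebra A B := φ.toAlgebra
  have h := (S6946.result A B (t.sup d)).1.1
    (PerfMor.torDimLE_mono (Finset.le_sup hxt) (hd x y hy))
  obtain ⟨E, hv, hf', ⟨e⟩⟩ := h
  obtain ⟨l⟩ := nonempty_stalk_structure y
  let i₀ : (DerSch.stalkOver f y).obj (Coh.structureModule X) ≅ ModuleCat.of A B :=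
    (ModuleCat.restrictScalars φ).mapIso l.symm.toModuleIso ≪≫
      (LinearEquiv.toModuleIso
        (m₁ := ((ModuleCat.restrictScalars φ).obj (ModuleCat.of B B)).isModule)
        { toFun := fun z => z, invFun := fun z => z, left_inv := fun _ => rfl, right_inv := fun _ => rfl,
          map_add' := fun _ _ => rfl, map_smul' := fun _ _ => rfl })
  exact ⟨E, hv, hf', ⟨e ≪≫ (DerivedCategory.singleFunctorIsoCompQ _ 0).app _ ≪≫
    (DerivedCategory.Q.mapIso
      ((HomologicalComplex.singleMapHomologicalComplex (DerSch.stalkOver f y) _ 0).app _ ≪≫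
        (HomologicalComplex.single _ (ComplexShape.up ℤ) 0).mapIso i₀)).symm⟩⟩

/-- `Rf_*` of a perfect object along a proper perfect morphism to a noetherian scheme is perfect. -/
theorem locSP_rpush_of_perfMor (f : X ⟶ Y) [IsNoetherian Y] [IsProper f] [DCoh.HasRpush f]
    (hperf : MoreMor.IsPerfectMor f) {E : DCoh.D X} (hE : LocSP E) : LocSP ((DCoh.Rpush f).obj E) := by
  haveI : IsLocallyNoetherian X := LocallyOfFiniteType.isLocallyNoetherian f
  haveI : CompactSpace X := QuasiCompact.compactSpace_of_compactSpace f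
  haveI : HasInjectiveResolutions X.Modules := hasInjectiveResolutions_modules
  haveI := hasLpull f
  obtain ⟨n, hn⟩ := exists_hasTorDimLE f hperf
  obtain ⟨a, b, hab⟩ := exists_torAmplitude_of_locSP hE
  obtain ⟨c, hc⟩ := exists_lower_bound_of_locSP hE
  obtain ⟨d, hd⟩ := exists_bound_of_locPC (hE.locPC 0)
  haveI : E.IsLE d := (DerivedCategory.isLE_iff _ _).2 hd
  haveI : E.IsGE c := (DerivedCategory.isGE_iff _ _).2 hc
  have hflat : DCoh.HasFlatAmplitudeIn a (max a b) E :=
    flatAmplitude_of_torAmplitude hasLTensorMod (le_max_left a b)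
      (fun G _ i hi => hab G i (by omega))
  let R := DerivedCategory.Q.objPreimage E
  let eR : DerivedCategory.Q.obj R ≅ E := DerivedCategory.Q.objObjPreimageIso E
  have hR : DerSch.HasTorAmplitude f (a - n) (max a b) R := by
    obtain ⟨F, hv, hf', ⟨eF⟩⟩ := hflat
    have h := hasTorAmplitude_comp (𝟙 X) f n hn R a (max a b)
      (hasTorAmplitude_id_of_flatAmplitude ⟨F, hv, hf', ⟨eF ≪≫ eR.symm⟩⟩)
    rwa [Category.id_comp] at h
  have hq : DCoh.IsQCohD E := fun i =>
    isQCoh_HD_of_pseudoCoherent ((isPseudoCoherentD_iff (i - 1) E).2 (hE.locPC _)) i (by omega)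
  obtain ⟨N, hN⟩ := exists_Rpush_bound f
  have hamp := torAmplitude_rpush_gen f N (fun M hM p hp => hN M hM p hp.le) E hq (a - n) (max a b)
    fun F _ M eM _ i hi => (isZero_hd_ltensor_lpull_stalk f hR F M eM i hi).of_iso
      ((DerivedCategory.homologyFunctor X.Modules i).mapIso ((DCoh.LTensorCx M).mapIso eR.symm))
  obtain ⟨hcoh, hbd⟩ := rpush_coherent_bounded f (d - c).toNat c E inferInstance
    (DerivedCategory.TStructure.t.isLE_of_le E d _ (by omega))
    (fun i => properCoh_of_isCoh f (isCoh_of_locPC hq (hE.locPC i) i le_rfl))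
  obtain ⟨b', hb'⟩ := hbd inferInstance
  refine locSP_of_flat_pc (le_max_left (a - n) (max a b + N))
    (flatAmplitude_of_torAmplitude hasLTensorMod (le_max_left (a - n) (max a b + N))
      (fun G _ i hi => hamp G i (by omega))) ?_
  exact locPC_of_coh (isCohD_isQCohD hcoh) (fun i _ => hcoh i) b' hb'

end Groth.Agent.KFlatLib.PerfMorTor
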