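import Groth.Agent.KFlatLib.Scheme.AffineLift
import Groth.Agent.KFlatLib.Perfect.Top
import Groth.Agent.QCoh.SpecFT
import Groth.Agent.QCoh.Pullback
import Mathlib.RingTheory.Localization.BaseChange

/-!
# Top cohomology over an open of an affine scheme is generated by finitely many global classes
-/

set_option linter.style.haveILetI false
set_option backward.isDefEq.respectTransparency false

universe u

open CategoryTheory CategoryTheory.Limits AlgebraicGeometry TensorProduct

attribute [local instance] HasDerivedCategory.standard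

namespace Groth.Agent.KFlatLib.LocFinite

/-- Finitely many elements generate after inverting `f`. -/
theorem exists_finset_span {A : Type u} [CommRing A] (H : Type u) [AddCommGroup H] [Module A H] (f : A)
    [Module.Finite (Localization.Away f) (Localization.Away f ⊗[A] H)] :
    ∃ S : Finset H, ∀ h : H, ∃ k : ℕ, f ^ k • h ∈ Submodule.span A (S : Set H) := by
  classical
  let ι : H →ₗ[A] Localization.Away f ⊗[A] H := TensorProduct.mk A (Localization.Away f) H 1
  obtain ⟨T, hT⟩ := (Module.Finite.fg_top : (⊤ : Submodule (Localization.Away f)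
    (Localization.Away f ⊗[A] H)).FG)
  have hs : ∀ t : Localization.Away f ⊗[A] H, ∃ (k : ℕ) (x : H), f ^ k • t = ι x := fun t => by
    obtain ⟨⟨x, ⟨_, k, rfl⟩⟩, hx⟩ := IsLocalizedModule.surj (Submonoid.powers f) ι t
    exact ⟨k, x, hx⟩
  choose kT xT hxT using hs
  refine ⟨T.image xT, fun h => ?_⟩
  let N := Submodule.span A ((T.image xT : Finset H) : Set H)
  suffices key : ∀ z ∈ Submodule.span (Localization.Away f) (T : Set (Localization.Away f ⊗[A] H)),
      ∃ (k : ℕ) (x : H), x ∈ N ∧ f ^ k • z = ι x by
    obtain ⟨k, x, hx, he⟩ := key (ι h) (by rw [hT]; trivial)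
    rw [← map_smul] at he
    obtain ⟨⟨_, j, rfl⟩, hc⟩ := (IsLocalizedModule.eq_iff_exists (Submonoid.powers f) ι).1 he
    refine ⟨j + k, ?_⟩
    rw [pow_add, mul_smul]
    exact (show f ^ j • (f ^ k • h) = f ^ j • x from hc).symm ▸ N.smul_mem _ hx
  intro z hz
  induction hz using Submodule.span_induction with
  | mem t ht => exact ⟨kT t, xT t, Submodule.subset_span (Finset.mem_image_of_mem xT ht), hxT t⟩
  | zero => exact ⟨0, 0, N.zero_mem, by simp⟩
  | add a b _ _ iha ihb =>
    obtain ⟨k, x, hx, hxe⟩ := iha
    obtain ⟨l, y, hy, hye⟩ := ihb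
    refine ⟨k + l, f ^ l • x + f ^ k • y, N.add_mem (N.smul_mem _ hx) (N.smul_mem _ hy), ?_⟩
    rw [map_add, map_smul, map_smul, ← hxe, ← hye, smul_add, smul_smul, smul_smul, ← pow_add, ← pow_add,
      add_comm l k]
  | smul c a _ iha =>
    obtain ⟨k, x, hx, hxe⟩ := iha
    obtain ⟨⟨r, ⟨_, l, rfl⟩⟩, hr⟩ := IsLocalization.surj (Submonoid.powers f) c
    refine ⟨l + k, r • x, N.smul_mem _ hx, ?_⟩
    simp only at hr
    rw [map_smul, ← hxe, pow_add, mul_smul, smul_comm (f ^ k) c, ← smul_assoc (f ^ l) c,
      Algebra.smul_def (f ^ l) c, mul_comm, hr, algebraMap_smul]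

/-- The two descriptions of `A_f ⊗ H`. -/
theorem finite_tensor_of_extendScalars {A : Type u} [CommRing A] (H : Type u) [AddCommGroup H] [Module A H] (f : A)
    (h : Module.Finite (Localization.Away f)
      ((ModuleCat.extendScalars.{u, u, u} (algebraMap A (Localization.Away f))).obj (ModuleCat.of A H))) :
    Module.Finite (Localization.Away f) (Localization.Away f ⊗[A] H) := by
  let R := (ModuleCat.restrictScalars (algebraMap A (Localization.Away f))).obj
    (ModuleCat.of (Localization.Away f) (Localization.Away f))
  let e : R ≃ₗ[A] Localization.Away f :=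
    { toFun := fun x => x
      invFun := fun x => x
      map_add' := fun _ _ => rfl
      map_smul' := fun r x => (Algebra.smul_def r (show Localization.Away f from x)).symm
      left_inv := fun _ => rfl
      right_inv := fun _ => rfl }
  let c : (R ⊗[A] H) ≃ₗ[A] Localization.Away f ⊗[A] H := TensorProduct.congr e (LinearEquiv.refl A H)
  let c' : ((ModuleCat.extendScalars.{u, u, u} (algebraMap A (Localization.Away f))).obj (ModuleCat.of A H)) →ₗ[Localization.Away f]
      Localization.Away f ⊗[A] H :=
    { toFun := c
      map_add' := c.map_add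
      map_smul' := fun s z => by
        induction z using TensorProduct.induction_on with
        | zero => exact (congrArg c (smul_zero s)).trans (by simp)
        | tmul x y => rfl
        | add a b ha hb => exact (congrArg c (smul_add s a b)).trans ((c.map_add _ _).trans
            ((congrArg₂ (· + ·) ha hb).trans ((smul_add _ _ _).symm.trans (congrArg (s • ·) (c.map_add a b).symm)))) }
  exact Module.Finite.of_surjective c' c.surjective

variable {A : Type u} [CommRing A] [PreservesFiniteLimits (tilde.functor (CommRingCat.of A))]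

/-- On a basic open inside an open where the object is perfect, the top cohomology is finitely generated. -/
theorem exists_finset_top (O : (Spec (CommRingCat.of A)).Opens) (C : Dual.D A) (m : ℤ)
    (hC : LocSP ((rho O.ι).obj (KoszulOrth.tld C)))
    (hz : ∀ i, m < i → IsZero (DCoh.HD ((rho O.ι).obj (KoszulOrth.tld C)) i))
    (f : A) (hf : (PrimeSpectrum.basicOpen f : Set (PrimeSpectrum A)) ⊆ (O : Set (Spec (CommRingCat.of A)))) :
    ∃ S : Finset (Dual.HD A C m), ∀ h : Dual.HD A C m, ∃ k : ℕ, f ^ k • h ∈ Submodule.span A (S : Set _) := by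
  let φ : CommRingCat.of A ⟶ CommRingCat.of (Localization.Away f) :=
    CommRingCat.ofHom (algebraMap A (Localization.Away f))
  let j : Spec (CommRingCat.of (Localization.Away f)) ⟶ Spec (CommRingCat.of A) := Spec.map φ
  haveI : IsOpenImmersion j := IsOpenImmersion.of_isLocalization f
  have hr : Set.range j.base ⊆ Set.range O.ι.base := by
    rw [Scheme.Opens.range_ι]
    intro x hx
    refine hf ?_
    rw [← PrimeSpectrum.localization_away_comap_range (Localization.Away f) f]
    exact hx
  let k := IsOpenImmersion.lift O.ι j hr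
  haveI : IsOpenImmersion k := by
    haveI : IsOpenImmersion (k ≫ O.ι) := by rw [IsOpenImmersion.lift_fac]; infer_instance
    exact IsOpenImmersion.of_comp k O.ι
  let e := rhoComp k O.ι j (IsOpenImmersion.lift_fac O.ι j hr) (KoszulOrth.tld C)
  have hz' : ∀ i, m < i → IsZero (DCoh.HD ((rho j).obj (KoszulOrth.tld C)) i) := fun i hi =>
    (((Scheme.Modules.restrictFunctor k).map_isZero (hz i hi)).of_iso (restrictHDIso k _ i)).of_iso
      ((DerivedCategory.homologyFunctor _ i).mapIso e.symm)
  have hFT := isFT_top (((hC.restrict' k).of_iso e).locPC m) hz'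
  obtain ⟨eH⟩ := KoszulOrth.nonempty_hd_tld C m
  let H : ModuleCat.{u} (CommRingCat.of A) := (DerivedCategory.homologyFunctor (ModuleCat.{u} A) m).obj C
  let e' : DCoh.HD ((rho j).obj (KoszulOrth.tld C)) m ≅
      tilde ((ModuleCat.extendScalars.{u, u, u} φ.hom).obj H) :=
    restrictHDIso j _ m ≪≫ (Scheme.Modules.restrictFunctor j).mapIso eH ≪≫
      (Scheme.Modules.restrictFunctorIsoPullback j).app _ ≪≫ (QCoh.tildePullbackIso φ).app H
  have hfin := (QCoh.isFT_tilde_iff _).1 (isFT_of_iso' e' hFT)
  haveI : Module.Finite (Localization.Away f) (Localization.Away f ⊗[A] Dual.HD A C m) :=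
    finite_tensor_of_extendScalars (Dual.HD A C m) f hfin
  exact exists_finset_span _ f

end Groth.Agent.KFlatLib.LocFinite
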