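import Groth.Agent.KFlatLib.Scheme.ApproxGlue

/-!
# Approximation by perfect complexes on quasi-compact quasi-separated schemes
-/

set_option linter.style.haveILetI false
set_option backward.isDefEq.respectTransparency false

universe u

open CategoryTheory CategoryTheory.Limits AlgebraicGeometry Pretriangulated TopologicalSpace ZeroObject

attribute [local instance] HasDerivedCategory.standard

namespace Groth.Agent.KFlatLib.Approx

open Generator PerfectLift

/-- Approximation on a scheme covered by finitely many affine opens. -/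
lemma hasApprox_of_cover : ∀ (n : ℕ) (Y : Scheme.{u}) [CompactSpace Y] [QuasiSeparatedSpace Y]
    (W : Fin n → Y.Opens), (∀ k, IsAffineOpen (W k)) → (⨆ k, W k) = ⊤ →
    ∀ T : Set Y, IsClosed T → IsCompact Tᶜ → HasApprox Y T := by
  intro n
  induction n with
  | zero =>
    intro Y _ _ W _ hW T _ _
    have he : ∀ y : Y, False := fun y => by
      have h : y ∈ (⊤ : Y.Opens) := trivial
      rw [← hW] at h
      exact (Opens.mem_iSup.1 h).choose.elim0
    refine ⟨0, fun m E _ _ _ => ⟨0, 0, locSP_of_isZero (isZero_zero _), fun i x => (he x).elim, ?_⟩⟩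
    haveI : IsIso (0 : (0 : DCoh.D Y) ⟶ E) := isIso_of_source_target_iso_zero _
      (Iso.refl _) ((isZero_of_subsingleton_stalk fun i x => (he x).elim : IsZero E).isoZero)
    exact isPcMap_of_isIso m _
  | succ n ih =>
    intro Y _ _ W hW hsup T hT hTc
    let U : Y.Opens := ⨆ k : Fin n, W k.succ
    have hUc : IsCompact (U : Set Y) := by
      rw [Opens.coe_iSup]
      exact isCompact_iUnion fun k => (hW k.succ).isCompact
    have hUV : U ⊔ W 0 = ⊤ := by
      refine top_le_iff.1 ?_
      rw [← hsup]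
      refine iSup_le fun k => ?_
      refine Fin.cases le_sup_right (fun k => ?_) k
      exact (le_iSup (fun k : Fin n => W k.succ) k).trans le_sup_left
    haveI : CompactSpace U := isCompact_iff_compactSpace.1 hUc
    haveI : QuasiSeparatedSpace U := quasiSeparatedSpace_of_quasiSeparated U.ι
    refine hasApprox_step U (W 0) hUc (hW 0)
      (QuasiSeparatedSpace.inter_isCompact _ _ U.2 hUc (W 0).2 (hW 0).isCompact) hUV T hT
      (QuasiSeparatedSpace.inter_isCompact _ _ hT.isOpen_compl hTc (W 0).2 (hW 0).isCompact) ?_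
    exact ih (U : Scheme.{u}) (fun k => U.ι ⁻¹ᵁ W k.succ)
      (fun k => (hW k.succ).preimage_of_isOpenImmersion U.ι (by
        rw [Scheme.Opens.opensRange_ι]
        exact le_iSup (fun k : Fin n => W k.succ) k))
      (top_le_iff.1 fun y _ => by
        obtain ⟨k, hk⟩ := Opens.mem_iSup.1 y.2
        exact Opens.mem_iSup.2 ⟨k, hk⟩)
      _ (hT.preimage U.ι.continuous) (isCompact_preimage ⟨Tᶜ, hT.isOpen_compl⟩ U hTc hUc)

/-- Approximation holds on quasi-compact quasi-separated schemes. -/
theorem hasApprox (X : Scheme.{u}) [CompactSpace X] [QuasiSeparatedSpace X] (T : Set X) (hT : IsClosed T)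
    (hTc : IsCompact Tᶜ) : HasApprox X T := by
  have hex : ∀ x : X, ∃ V : X.Opens, IsAffineOpen V ∧ x ∈ V := fun x => by
    obtain ⟨_, ⟨V, hV, rfl⟩, hxV, -⟩ :=
      X.isBasis_affineOpens.exists_subset_of_mem_open (Set.mem_univ x) isOpen_univ
    exact ⟨V, hV, hxV⟩
  choose V hV hxV using hex
  obtain ⟨t, ht⟩ := isCompact_univ.elim_finite_subcover (fun x : X => (V x : Set X)) (fun x => (V x).2)
    (fun x _ => Set.mem_iUnion.2 ⟨x, hxV x⟩)
  refine hasApprox_of_cover t.card X (fun k => V (t.equivFin.symm k)) (fun k => hV _) ?_ T hT hTc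
  refine top_le_iff.1 fun x _ => ?_
  obtain ⟨y, hy, hxy⟩ := Set.mem_iUnion₂.1 (ht (Set.mem_univ x))
  refine Opens.mem_iSup.2 ⟨t.equivFin ⟨y, hy⟩, ?_⟩
  rw [Equiv.symm_apply_apply]
  exact hxy

end Groth.Agent.KFlatLib.Approx
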