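import Groth.Agent.KFlatLib.Scheme.RelTensorAmp
import Groth.Agent.KFlatLib.Scheme.RpushFF
import Groth.Agent.KFlatLib.Scheme.LpullComp
import Groth.Agent.KFlatLib.Perfect.Amplitude

/-!
# Relative flat amplitude, tested locally
-/

set_option linter.style.haveILetI false
set_option backward.isDefEq.respectTransparency false

universe u

open CategoryTheory CategoryTheory.Limits AlgebraicGeometry

attribute [local instance] HasDerivedCategory.standard

namespace Groth.Agent.KFlatLib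

variable {X Y : Scheme.{u}} (f : X ⟶ Y)

/-- Derived tensor products with pullbacks, for objects locally of flat amplitude `[a, b]` over the base. -/
theorem isZero_hd_ltensor_lpull_local [DCoh.HasLpull f] (E : DCoh.D X) (a b : ℤ)
    (hE : ∀ x : X, ∃ (U : Scheme.{u}) (j : U ⟶ X) (_ : IsOpenImmersion j), x ∈ Set.range j.base ∧
      DCoh.HasRelFlatAmplitudeIn (j ≫ f) a b ((rho j).obj E))
    (F : Y.Modules) (M : CochainComplex X.Modules ℤ)
    (eM : DerivedCategory.Q.obj M ≅ (DCoh.Lpull f).obj (DCoh.inD Y F)) [DCoh.HasLTensorCx M]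
    (i : ℤ) (hi : i < a ∨ b < i) : IsZero (DCoh.HD ((DCoh.LTensorCx M).obj E) i) := by
  refine isZero_of_stalk _ fun x => ?_
  obtain ⟨U, j, hj, ⟨v, rfl⟩, hU⟩ := hE x
  haveI := hasLpull j
  haveI := hasLpull (j ≫ f)
  let C := (kRes X).obj M
  have hC : DCoh.IsKFlat C := isKFlat_kRes M
  haveI := (flatCover X).quasiIso_ψ M
  haveI := hasLTensorCx C
  haveI := hasLTensorCx ((pullCx j).obj C)
  haveI : DCoh.HasLTensorCx ((𝟭 (CochainComplex X.Modules ℤ)).obj M) := ‹DCoh.HasLTensorCx M›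
  obtain ⟨c⟩ := nonempty_LTensorCx_congr ((flatCover X).ψ.app M)
  obtain ⟨q⟩ := nonempty_rho_iso_lpull j
  obtain ⟨l⟩ := nonempty_lpull_ltensor j C hC E
  obtain ⟨d⟩ := nonempty_lpull_comp j f
  haveI := isIso_Q_map ((flatCover X).ψ.app M) inferInstance
  let eC : DerivedCategory.Q.obj ((pullCx j).obj C) ≅ (DCoh.Lpull (j ≫ f)).obj (DCoh.inD Y F) :=
    (lpullIso j hC).symm ≪≫ (DCoh.Lpull j).mapIso
      (asIso (DerivedCategory.Q.map ((flatCover X).ψ.app M)) ≪≫ eM) ≪≫ d.app _
  have hz := (isZero_hd_ltensor_lpull (j ≫ f) hU F ((pullCx j).obj C) eC i hi).of_iso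
    ((restrictHDIso j _ i).symm ≪≫ (DerivedCategory.homologyFunctor U.Modules i).mapIso
      ((rho j).mapIso (c.app E).symm ≪≫ q.app _ ≪≫ l ≪≫ (DCoh.LTensorCx _).mapIso (q.app E).symm))
  exact isZero_stalk_of_restrict j v ((DerSch.stalkFunctor U v).map_isZero hz)

end Groth.Agent.KFlatLib
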