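import Groth.Agent.KFlatLib.Scheme.TorAmpPushRel
import Groth.Agent.KFlatLib.Scheme.RelTensorLocal
import Groth.Agent.KFlatLib.Scheme.RpushPerfect
import Groth.Agent.KFlatLib.Scheme.SupportPush
import Groth.Agent.KFlatLib.Scheme.Adjoint

/-!
# Perfect direct images of objects with proper support
-/

set_option linter.style.haveILetI false
set_option backward.isDefEq.respectTransparency false

universe u

open CategoryTheory CategoryTheory.Limits AlgebraicGeometry TopologicalSpace

attribute [local instance] HasDerivedCategory.standard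

namespace Groth.Agent.KFlatLib

variable {X S : Scheme.{u}}

lemma relAmp_mono {f : X ⟶ S} {a b a' b' : ℤ} {K : DCoh.D X} (h : DCoh.HasRelFlatAmplitudeIn f a b K)
    (ha : a' ≤ a) (hb : b ≤ b') : DCoh.HasRelFlatAmplitudeIn f a' b' K := by
  obtain ⟨E, hv, hf, e⟩ := h
  exact ⟨E, fun i hi => hv i (by omega), hf, e⟩

lemma isZero_hd_of_relAmp {f : X ⟶ S} {a b : ℤ} {K : DCoh.D X} (h : DCoh.HasRelFlatAmplitudeIn f a b K)
    (i : ℤ) (hi : i < a ∨ b < i) : IsZero (DCoh.HD K i) := by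
  obtain ⟨E, hv, -, ⟨e⟩⟩ := h
  exact (ShortComplex.isZero_homology_of_isZero_X₂ _ (hv i hi)).of_iso
    ((DerivedCategory.homologyFunctor X.Modules i).mapIso e.symm ≪≫
      (DerivedCategory.homologyFunctorFactors X.Modules i).app E)

/-- Locally finite tor dimension over the base gives a common range on quasi-compact schemes. -/
theorem exists_uniform_relAmp [CompactSpace X] (f : X ⟶ S) (K : DCoh.D X) (h : RelTor.LocRTD f K) :
    ∃ a b : ℤ, ∀ x : X, ∃ (U : Scheme.{u}) (j : U ⟶ X) (_ : IsOpenImmersion j),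
      x ∈ Set.range j.base ∧ DCoh.HasRelFlatAmplitudeIn (j ≫ f) a b ((rho j).obj K) := by
  choose U j hj hx a b hab using h
  obtain ⟨t, ht⟩ := isCompact_univ.elim_finite_subcover (fun x : X => Set.range (j x).base)
    (fun x => haveI := hj x; (j x).isOpenEmbedding.isOpen_range) (fun x _ => Set.mem_iUnion.2 ⟨x, hx x⟩)
  let N : ℤ := ((∑ x ∈ t, ((a x).natAbs + (b x).natAbs) : ℕ) : ℤ)
  refine ⟨-N, N, fun y => ?_⟩
  obtain ⟨x, hxt, hyx⟩ := Set.mem_iUnion₂.1 (ht (Set.mem_univ y))
  have hbx : (a x).natAbs + (b x).natAbs ≤ ∑ x ∈ t, ((a x).natAbs + (b x).natAbs) :=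
    Finset.single_le_sum (f := fun x => (a x).natAbs + (b x).natAbs) (fun _ _ => Nat.zero_le _) hxt
  exact ⟨U x, j x, hj x, hyx, relAmp_mono (hab x) (by omega) (by omega)⟩

/-- Direct images of coherent objects with proper support and finite tor dimension over a noetherian base
are perfect. -/
theorem locSP_rpush_of_relTor [IsNoetherian S] (f : X ⟶ S) [LocallyOfFiniteType f] [DCoh.HasRpush f]
    (K : DCoh.D X) (hK : ∀ i, ProperCoh f (DCoh.HD K i)) (Z : Set X) (hZ : IsClosed Z) (hZc : IsCompact Z)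
    (hsupp : ∀ i, CohB1.support (DCoh.HD K i) ⊆ Z) (htor : RelTor.LocRTD f K) :
    LocSP ((DCoh.Rpush f).obj K) := by
  haveI : IsLocallyNoetherian X := LocallyOfFiniteType.isLocallyNoetherian f
  have hex : ∀ x : Z, ∃ V : X.Opens, IsAffineOpen V ∧ (x : X) ∈ V := fun x => by
    obtain ⟨V, hV, hxV, -⟩ := exists_isAffineOpen_mem_and_subset (x := (x : X)) (U := (⊤ : X.Opens)) trivial
    exact ⟨V, hV, hxV⟩
  choose V hV hxV using hex
  obtain ⟨t, ht⟩ := hZc.elim_finite_subcover (fun x : Z => (V x : Set X)) (fun x => (V x).2)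
    (fun x hx => Set.mem_iUnion.2 ⟨⟨x, hx⟩, hxV ⟨x, hx⟩⟩)
  let U : X.Opens := ⨆ x : t, V x
  have hUc : IsCompact (U : Set X) := by
    rw [Opens.coe_iSup]
    exact isCompact_iUnion fun x => (hV x).isCompact
  have hZU : Z ⊆ (U : Set X) := fun x hx => by
    obtain ⟨y, hy, hxy⟩ := Set.mem_iUnion₂.1 (ht hx)
    exact Opens.mem_iSup.2 ⟨⟨y, hy⟩, hxy⟩
  haveI : CompactSpace U := isCompact_iff_compactSpace.1 hUc
  let g := U.ι ≫ f
  haveI := hasRpush_scheme U.ι
  haveI := hasRpush_scheme g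
  haveI := hasLpull g
  haveI : IsLocallyNoetherian (U : Scheme.{u}) := isLocallyNoetherian_of_isOpenImmersion U.ι
  haveI : QuasiCompact g := quasiCompact_of_compactSpace g
  haveI : QuasiSeparated g := QuasiSeparated.of_quasiSeparatedSpace g
  let K' := (rho U.ι).obj K
  have hq : DCoh.IsQCohD K' := isQCohD_rho U.ι fun i => (hK i).1.1
  obtain ⟨a, b, hab⟩ := exists_uniform_relAmp g K' (htor.restrict U.ι)
  have hz : ∀ i : ℤ, i < a ∨ b < i → IsZero (DCoh.HD K i) := fun i hi => isZero_of_stalk _ fun x => by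
    by_cases hx : x ∈ U
    · obtain ⟨W, k, hk, ⟨w, hw⟩, hW⟩ := hab ⟨x, hx⟩
      have h1 := (isZero_hd_of_relAmp hW i hi).of_iso (restrictHDIso k K' i).symm
      have h2 := isZero_stalk_of_restrict k w ((DerSch.stalkFunctor W w).map_isZero h1)
      rw [hw] at h2
      exact isZero_stalk_of_restrict U.ι ⟨x, hx⟩
        (h2.of_iso ((DerSch.stalkFunctor _ _).mapIso (restrictHDIso U.ι K i)).symm)
    · have h : Subsingleton ((DCoh.HD K i).presheaf.stalk x) := not_not.1 fun h => hx (hZU (hsupp i h))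
      exact @ModuleCat.isZero_of_subsingleton _ _ _ h
  haveI : K.IsGE a := (DerivedCategory.isGE_iff _ _).2 fun i hi => hz i (Or.inl hi)
  obtain ⟨hcoh, hbd⟩ := rpush_coherent_bounded f (b - a).toNat a K inferInstance
    ((DerivedCategory.isLE_iff _ _).2 fun i hi => hz i (Or.inr (by omega))) hK
  obtain ⟨b', hb'⟩ := hbd inferInstance
  obtain ⟨eK⟩ := nonempty_iso_rpush_restrict U Z hZ hZU K hsupp
  haveI := hasRpush_scheme (U.ι ≫ f)
  obtain ⟨c⟩ := nonempty_rpush_comp U.ι f
  let e : (DCoh.Rpush f).obj K ≅ (DCoh.Rpush g).obj K' := (DCoh.Rpush f).mapIso eK ≪≫ c.app K'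
  obtain ⟨n, hn⟩ := exists_Rpush_bound g
  have hamp := torAmplitude_rpush_gen g n (fun M hM p hp => hn M hM p hp.le) K' hq a b
    (fun F _ M eM _ i hi => isZero_hd_ltensor_lpull_local g K' a b hab F M eM i hi)
  refine LocSP.of_iso e.symm (locSP_of_flat_pc (le_max_left a (b + n))
    (flatAmplitude_of_torAmplitude hasLTensorMod (le_max_left a (b + n))
      (fun G _ i hi => hamp G i (by omega))) ?_)
  exact (locPC_of_coh (isCohD_isQCohD hcoh) (fun i _ => hcoh i) b' hb').of_iso e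

end Groth.Agent.KFlatLib
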