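import Groth.Agent.KFlatLib.Scheme.ProperFlatPerfect
import Groth.Agent.KFlatLib.Scheme.ApproxQcqs
import Groth.Agent.KFlatLib.Scheme.CohWindow
import Groth.Agent.KFlatLib.Scheme.RpushPerfectSupport
import Groth.Agent.KFlatLib.Perfect.Retract

/-!
# Proper flat morphisms of finite presentation preserve pseudo-coherence and relative perfection
-/

set_option linter.style.haveILetI false
set_option backward.isDefEq.respectTransparency false

universe u

open CategoryTheory CategoryTheory.Limits AlgebraicGeometry CategoryTheory.Pretriangulated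

attribute [local instance] HasDerivedCategory.standard

namespace Groth.Agent.KFlatLib.TorBC

variable {X S : Scheme.{u}}

lemma isQCohD_of_locPC' {E : DCoh.D X} (hE : ∀ m, LocPC m E) : DCoh.IsQCohD E := fun i =>
  isQCoh_HD_of_pseudoCoherent ((isPseudoCoherentD_iff (i - 1) E).2 (hE _)) i (by omega)

/-- Direct images of pseudo-coherent objects, over an affine base. -/
lemma locPC_rpush_affine (f : X ⟶ S) [IsAffine S] [IsProper f] [Flat f] [LocallyOfFinitePresentation f]
    [DCoh.HasRpush f] (E : DCoh.D X) (hE : ∀ m, LocPC m E) (m : ℤ) : LocPC m ((DCoh.Rpush f).obj E) := by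
  haveI : CompactSpace X := QuasiCompact.compactSpace_of_compactSpace f
  haveI : QuasiSeparatedSpace X := quasiSeparatedSpace_of_quasiSeparated f
  obtain ⟨N, hN⟩ := Window.exists_rpush_window f
  obtain ⟨r, hr⟩ := Approx.hasApprox X Set.univ isClosed_univ (by rw [Set.compl_univ]; exact isCompact_empty)
  have hq := isQCohD_of_locPC' hE
  let n : ℤ := m - N - 2
  obtain ⟨P, α, hP, -, hα⟩ := hr n E hq (hE _) fun i _ => Set.subset_univ _
  obtain ⟨Z, g, δ, hT⟩ := distinguished_cocone_triangle α
  have hZ : DCoh.IsQCohD Z := isQCohD_obj₁ (rot_of_distTriang _ (rot_of_distTriang _ hT))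
    (isQCohD_shift (AffineLift.isQCohD_of_locSP hP) 1) (isQCohD_shift hq 1)
  obtain ⟨c, hc⟩ := exists_rpush_triangle f _ hT
  have h₃ : LocPC m ((DCoh.Rpush f).obj Z) := locPC_of_isZero m _ fun i hi =>
    hN _ hZ i fun j hj _ => Approx.isZero_cone_of_isPcMap _ hT hα j (by omega)
  exact (locPC_two_of_three m _ hc).2.1 ((locSP_rpush_properFlat f hP).locPC m) h₃

/-- Proper flat morphisms of finite presentation preserve pseudo-coherence. -/
theorem locPC_rpush_properFlat (f : X ⟶ S) [IsProper f] [Flat f] [LocallyOfFinitePresentation f]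
    [DCoh.HasRpush f] (E : DCoh.D X) (hE : ∀ m, LocPC m E) (m : ℤ) : LocPC m ((DCoh.Rpush f).obj E) := by
  refine LocPC.of_local fun x => ?_
  obtain ⟨V, hV, hxV, -⟩ := exists_isAffineOpen_mem_and_subset (X := S) (x := x) (U := ⊤) trivial
  haveI : IsAffine (V : Scheme.{u}) := hV
  haveI : IsProper (f ∣_ V) := MorphismProperty.of_isPullback (isPullback_morphismRestrict f V).flip inferInstance
  haveI : Flat (f ∣_ V) := MorphismProperty.of_isPullback (isPullback_morphismRestrict f V).flip inferInstance
  haveI : LocallyOfFinitePresentation (f ∣_ V) :=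
    MorphismProperty.of_isPullback (isPullback_morphismRestrict f V).flip inferInstance
  haveI := hasRpush_scheme (f ∣_ V)
  obtain ⟨e⟩ := nonempty_rpush_restrictD_iso f V
  exact ⟨_, V.ι, inferInstance, ⟨⟨x, hxV⟩, rfl⟩,
    (locPC_rpush_affine (f ∣_ V) _ (fun k => (hE k).restrict (f ⁻¹ᵁ V).ι) m).of_iso (e.app E).symm⟩

/-- Direct images of relatively perfect objects, over an affine base. -/
lemma locSP_rpush_relPerf_affine (f : X ⟶ S) [IsAffine S] [IsProper f] [Flat f] [LocallyOfFinitePresentation f]
    [DCoh.HasRpush f] (E : DCoh.D X) (hE : ∀ m, LocPC m E) (htor : RelTor.LocRTD f E) :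
    LocSP ((DCoh.Rpush f).obj E) := by
  haveI : CompactSpace X := QuasiCompact.compactSpace_of_compactSpace f
  haveI := hasLpull f
  obtain ⟨a, b, hab⟩ := exists_uniform_relAmp f E htor
  obtain ⟨n, hn⟩ := exists_Rpush_bound f
  have hamp := torAmplitude_rpush_gen f n (fun M hM p hp => hn M hM p hp.le) E (isQCohD_of_locPC' hE) a b
    (fun F _ M eM _ i hi => isZero_hd_ltensor_lpull_local f E a b hab F M eM i hi)
  exact locSP_of_flat_pc (le_max_left a (b + n))
    (flatAmplitude_of_torAmplitude hasLTensorMod (le_max_left a (b + n))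
      (fun G _ i hi => hamp G i (by omega))) (locPC_rpush_properFlat f E hE _)

/-- Proper flat morphisms of finite presentation send relatively perfect objects to perfect ones. -/
theorem locSP_rpush_relPerf (f : X ⟶ S) [IsProper f] [Flat f] [LocallyOfFinitePresentation f]
    [DCoh.HasRpush f] (E : DCoh.D X) (hE : ∀ m, LocPC m E) (htor : RelTor.LocRTD f E) :
    LocSP ((DCoh.Rpush f).obj E) := by
  refine LocSP.of_local fun x => ?_
  obtain ⟨V, hV, hxV, -⟩ := exists_isAffineOpen_mem_and_subset (X := S) (x := x) (U := ⊤) trivial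
  haveI : IsAffine (V : Scheme.{u}) := hV
  haveI : IsProper (f ∣_ V) := MorphismProperty.of_isPullback (isPullback_morphismRestrict f V).flip inferInstance
  haveI : Flat (f ∣_ V) := MorphismProperty.of_isPullback (isPullback_morphismRestrict f V).flip inferInstance
  haveI : LocallyOfFinitePresentation (f ∣_ V) :=
    MorphismProperty.of_isPullback (isPullback_morphismRestrict f V).flip inferInstance
  haveI := hasRpush_scheme (f ∣_ V)
  obtain ⟨e⟩ := nonempty_rpush_restrictD_iso f V
  have htor' : RelTor.LocRTD (f ∣_ V) ((rho (f ⁻¹ᵁ V).ι).obj E) := by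
    rw [RelTor.locRTD_comp_iff (f ∣_ V) V.ι, morphismRestrict_ι]
    exact htor.restrict _
  exact ⟨_, V.ι, inferInstance, ⟨⟨x, hxV⟩, rfl⟩,
    (locSP_rpush_relPerf_affine (f ∣_ V) _ (fun k => (hE k).restrict (f ⁻¹ᵁ V).ι) htor').of_iso (e.app E).symm⟩

end Groth.Agent.KFlatLib.TorBC
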