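import Groth.Agent.KFlatLib.Scheme.RelPerfectSch
import Groth.Agent.KFlatLib.Scheme.DualizingCharts
import Groth.Agent.KFlatLib.Ring.RelPerfectRows

/-!
# Relatively perfect objects and base change
-/

set_option linter.style.haveILetI false
set_option backward.isDefEq.respectTransparency false

universe u

open CategoryTheory CategoryTheory.Limits AlgebraicGeometry TensorProduct

attribute [local instance] HasDerivedCategory.standard

namespace Groth.Agent.KFlatLib.RelPerfectBC

open RelTor RelPerfectSch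

variable {X S S' : Scheme.{u}} (f : X ⟶ S) (g : S' ⟶ S)
  {R A R' : Type u} [CommRing R] [CommRing A] [Algebra R A] [CommRing R'] [Algebra R R']

/-- The chart of a fibre product given by charts of the factors. -/
lemma exists_pullback_chart (j : Spec (CommRingCat.of A) ⟶ X) [IsOpenImmersion j]
    (k : Spec (CommRingCat.of R) ⟶ S) [IsOpenImmersion k]
    (h : Spec.map (CommRingCat.ofHom (algebraMap R A)) ≫ k = j ≫ f)
    (l : Spec (CommRingCat.of R') ⟶ S') [IsOpenImmersion l]
    (h' : Spec.map (CommRingCat.ofHom (algebraMap R R')) ≫ k = l ≫ g) :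
    ∃ (j' : Spec (CommRingCat.of (R' ⊗[R] A)) ⟶ pullback f g) (_ : IsOpenImmersion j'),
      j' ≫ pullback.fst f g =
        Spec.map (CommRingCat.ofHom (Algebra.TensorProduct.includeRight.toRingHom : A →+* R' ⊗[R] A)) ≫ j ∧
      Spec.map (CommRingCat.ofHom (algebraMap R' (R' ⊗[R] A))) ≫ l = j' ≫ pullback.snd f g ∧
      Set.range j'.base = (pullback.fst f g).base ⁻¹' Set.range j.base ∩ (pullback.snd f g).base ⁻¹' Set.range l.base := by
  let m := pullback.map _ _ f g j l k h h'
  let e := (pullbackSpecIso R R' A).inv ≫ (pullbackSymmetry _ _).hom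
  refine ⟨e ≫ m, inferInstance, ?_, ?_, ?_⟩
  · simp only [e, m, Category.assoc]
    rw [pullback.lift_fst, pullbackSymmetry_hom_comp_fst_assoc, pullbackSpecIso_inv_snd_assoc]
    rfl
  · simp only [e, m, Category.assoc]
    rw [pullback.lift_snd, pullbackSymmetry_hom_comp_snd_assoc, pullbackSpecIso_inv_fst_assoc]
    rfl
  · have hs : Function.Surjective e.base := (Scheme.homeoOfIso (asIso e)).surjective
    rw [Scheme.Hom.comp_base, TopCat.coe_comp, Set.range_comp, hs.range_eq, Set.image_univ]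
    exact Scheme.Pullback.range_map _ _ _ _ _ _ _ _ _

/-- Pullback of a chart representative. -/
lemma nonempty_rho_lpull_iso {A B : Type u} [CommRing A] [CommRing B] (φ : A →+* B)
    [DRing.HasLBaseChange φ] [PreservesFiniteLimits (tilde.functor (CommRingCat.of A))]
    [PreservesFiniteLimits (tilde.functor (CommRingCat.of B))]
    {Y : Scheme.{u}} (p : Y ⟶ X) [DCoh.HasLpull p]
    (j : Spec (CommRingCat.of A) ⟶ X) [IsOpenImmersion j]
    (j' : Spec (CommRingCat.of B) ⟶ Y) [IsOpenImmersion j']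
    (h : j' ≫ p = Spec.map (CommRingCat.ofHom φ) ≫ j) {K : DCoh.D X} (M : Dual.D A)
    (e : (rho j).obj K ≅ (DCoh.tildeD (CommRingCat.of A)).obj M) :
    Nonempty ((rho j').obj ((DCoh.Lpull p).obj K) ≅
      (DCoh.tildeD (CommRingCat.of B)).obj ((DRing.LBaseChange φ).obj M)) := by
  haveI := hasLpull j'
  haveI := hasLpull (Spec.map (CommRingCat.ofHom φ))
  haveI := hasLpull (j' ≫ p)
  obtain ⟨a⟩ := nonempty_tildeD_lpull_iso φ
  obtain ⟨c⟩ := nonempty_lpull_comp j' p
  obtain ⟨b⟩ := nonempty_lpull_factor (Spec.map (CommRingCat.ofHom φ)) j (j' ≫ p) h.symm K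
  exact ⟨rhoLpullIso j' _ ≪≫ c.app K ≪≫ b.symm ≪≫ (DCoh.Lpull _).mapIso e ≪≫ (a.app M).symm⟩

variable [Flat f] [LocallyOfFinitePresentation f]

omit [LocallyOfFinitePresentation f] in
/-- Relative perfection is preserved by base change. -/
theorem relPerf_lpull [DCoh.HasLpull (pullback.fst f g)] {K : DCoh.D X} (hK : RelPerf f K) :
    RelPerf (pullback.snd f g) ((DCoh.Lpull (pullback.fst f g)).obj K) := by
  refine RelPerf.of_local fun z => ?_
  obtain ⟨R, A, _, _, _, j, hj, k, hk, h, hx⟩ := exists_chart_pair f ((pullback.fst f g).base z)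
  have hs : g.base ((pullback.snd f g).base z) ∈ k.opensRange := by
    obtain ⟨a, ha⟩ := hx
    refine ⟨(Spec.map (CommRingCat.ofHom (algebraMap R A))).base a, ?_⟩
    rw [← Scheme.Hom.comp_apply, h, Scheme.Hom.comp_apply, ha, ← Scheme.Hom.comp_apply,
      pullback.condition, Scheme.Hom.comp_apply]
  obtain ⟨W, hW, hsW, hWk⟩ := exists_isAffineOpen_mem_and_subset (U := g ⁻¹ᵁ k.opensRange)
    (x := (pullback.snd f g).base z) hs
  have hrange : Set.range (hW.fromSpec ≫ g).base ⊆ Set.range k.base := by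
    rintro _ ⟨t, rfl⟩
    exact hWk (hW.range_fromSpec ▸ ⟨t, rfl⟩ : hW.fromSpec.base t ∈ (W : Set S'))
  let ρ := Spec.preimage (IsOpenImmersion.lift k _ hrange)
  letI : Algebra R Γ(S', W) := ρ.hom.toAlgebra
  have h' : Spec.map (CommRingCat.ofHom (algebraMap R Γ(S', W))) ≫ k = hW.fromSpec ≫ g :=
    (congrArg (· ≫ k) (Spec.map_preimage _)).trans (IsOpenImmersion.lift_fac _ _ _)
  obtain ⟨j', hj', h₁, h₂, hr⟩ := exists_pullback_chart f g j k h hW.fromSpec h'
  haveI := flat_chart f j k h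
  haveI : PreservesFiniteLimits (tilde.functor (CommRingCat.of A)) := QCoh.tilde_preservesFiniteLimits
  haveI : PreservesFiniteLimits (tilde.functor (CommRingCat.of (Γ(S', W) ⊗[R] A))) :=
    QCoh.tilde_preservesFiniteLimits
  haveI := hasLBase (Algebra.TensorProduct.includeRight.toRingHom : A →+* Γ(S', W) ⊗[R] A)
  haveI := H9Misc.DRingLBase.hasLBaseChange
    (Algebra.TensorProduct.includeRight.toRingHom : A →+* Γ(S', W) ⊗[R] A)
  obtain ⟨M, ⟨eM⟩⟩ := exists_tildeD_iso (R := CommRingCat.of A) (hK.restrict j).isQCohD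
  obtain ⟨e'⟩ := nonempty_rho_lpull_iso _ (pullback.fst f g) j j' h₁ M eM.symm
  refine ⟨_, j', hj', hr ▸ ⟨hx, hW.range_fromSpec.symm ▸ hsW⟩, ?_⟩
  exact (relPerf_chart_iff (pullback.snd f g) j' hW.fromSpec h₂ _ e').2
    (isRelPerfect_baseChange _ ((relPerf_chart_iff f j k h M eM.symm).1 (hK.restrict j)))

end Groth.Agent.KFlatLib.RelPerfectBC
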