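import Groth.Agent.KFlatLib.Scheme.TorBCTensorSupport
import Groth.Agent.KFlatLib.Scheme.RelTensorAmp
import Groth.Agent.KFlatLib.Scheme.EvalPerfect
import Groth.Agent.KFlatLib.Scheme.TensorPCTest
import Groth.Agent.QCoh.AnnIdeal
import Groth.Agent.QCoh.ProperOver2

/-!
# Direct images of perfect objects tensored with complexes flat over the base with proper support
-/

set_option linter.style.haveILetI false
set_option backward.isDefEq.respectTransparency false

universe u

open CategoryTheory CategoryTheory.Limits AlgebraicGeometry CategoryTheory.Pretriangulated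

attribute [local instance] HasDerivedCategory.standard

namespace Groth.Agent.KFlatLib.TorBC

variable {X S : Scheme.{u}} (f : X ⟶ S)

/-- Finitely presented, flat over the base, with proper support. -/
def GoodTerm (G : X.Modules) : Prop :=
  CohB1.IsFP G ∧ FlatMod.IsFlatOver f G ∧ ClSub.IsProperOver f (CohB1.support G)

lemma GoodTerm.of_iso {G G' : X.Modules} (e : G ≅ G') (h : GoodTerm f G) : GoodTerm f G' :=
  ⟨FPEnough.isFP_of_retract (QCoh.isQCoh_of_isFP h.1) h.1 (isQCoh_of_iso e (QCoh.isQCoh_of_isFP h.1))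
      e.hom e.inv e.inv_hom_id,
    isFlatOver_of_iso' f e h.2.1, support_congr_iso e ▸ h.2.2⟩

/-- One term. -/
lemma locSP_rpush_tensorCx_single [LocallyOfFinitePresentation f] [DCoh.HasRpush f]
    (R : CochainComplex X.Modules ℤ) (hR : DCoh.IsKFlat R) (hE : LocSP (DerivedCategory.Q.obj R))
    (G : X.Modules) (hG : GoodTerm f G) (n : ℤ) :
    LocSP ((DCoh.Rpush f).obj (DerivedCategory.Q.obj ((DCoh.tensorCx.obj R).obj
      ((HomologicalComplex.single X.Modules (ComplexShape.up ℤ) n).obj G)))) := by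
  haveI := hasLTensorMod G
  let T := DCoh.tensorBi (X := X)
  let e₁ : Inner.tenX T ((HomologicalComplex.single X.Modules (ComplexShape.up ℤ) n).obj G) ≅
      (T.flip.obj G).mapHomologicalComplex (ComplexShape.up ℤ) ⋙ shiftFunctor _ (-n) :=
    T.map₂CochainComplex.flip.mapIso
        (((CochainComplex.singleFunctors X.Modules).shiftIso (-n) n 0 (by omega)).app G).symm ≪≫
      Inner.tensorShiftIso T _ (-n) ≪≫ Functor.isoWhiskerRight (singleIso T G) _
  haveI := isIso_ltensorModComparison G hR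
  let e : DerivedCategory.Q.obj ((DCoh.tensorCx.obj R).obj
      ((HomologicalComplex.single X.Modules (ComplexShape.up ℤ) n).obj G)) ≅
      ((DCoh.LTensorMod G).obj (DerivedCategory.Q.obj R))⟦-n⟧ :=
    DerivedCategory.Q.mapIso (e₁.app R) ≪≫ (DerivedCategory.Q.commShiftIso (-n)).app _ ≪≫
      (shiftFunctor _ (-n)).mapIso (asIso ((ltensorModComparison G).app R)).symm
  obtain ⟨s⟩ := nonempty_rpush_shift f ((DCoh.LTensorMod G).obj (DerivedCategory.Q.obj R)) (-n)
  exact ((locSP_rpush_tensor_support f G hG.1 hG.2.1 hG.2.2 hE).shift (-n)).of_iso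
    ((DCoh.Rpush f).mapIso e ≪≫ s).symm

/-- Bounded complexes, on a flat representative. -/
lemma locSP_rpush_tensorCx_bounded [LocallyOfFinitePresentation f] [DCoh.HasRpush f]
    (R : CochainComplex X.Modules ℤ) (hRf : ∀ p, FlatMod.IsFlat (R.X p)) (hR : DCoh.IsKFlat R)
    (hE : LocSP (DerivedCategory.Q.obj R)) (a : ℤ) :
    ∀ (m : ℕ) (K : CochainComplex X.Modules ℤ), (∀ i : ℤ, (i < a ∨ a + m ≤ i) → IsZero (K.X i)) →
      (∀ i, IsZero (K.X i) ∨ GoodTerm f (K.X i)) →
      LocSP ((DCoh.Rpush f).obj (DerivedCategory.Q.obj ((DCoh.tensorCx.obj R).obj K)))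
  | 0, K, hz, _ => by
    have h0 : IsZero ((DCoh.Rpush f).obj (DerivedCategory.Q.obj ((DCoh.tensorCx.obj R).obj K))) :=
      (TriNat.presTri_rpush f).isZero_obj (DerivedCategory.Q.map_isZero
        ((DCoh.tensorCx.obj R).map_isZero ((IsZero.iff_id_eq_zero _).2
          (HomologicalComplex.hom_ext _ _ fun j => (hz j (by omega)).eq_of_src _ _))))
    exact (CompactPerfect.perfD S).prop_of_iso ((isZero_zero (DCoh.D S)).iso h0) (CompactPerfect.perfD S).prop_zero
  | m + 1, K, hz, hK => by
    have hle := isStrictlyLE_sigmaSES_X₃ K (a + m)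
    rw [CochainComplex.isStrictlyLE_iff] at hle
    have hse := fun n => (sigmaSES_shortExact K (a + m)).map_of_exact
      (HomologicalComplex.eval X.Modules (ComplexShape.up ℤ) n)
    let T := sigmaSES K (a + m)
    have hS := shortExact_tensorCx_of_flat R hRf (sigmaSES_shortExact K (a + m))
    obtain ⟨c, hc⟩ := exists_rpush_triangle f _ (DerivedCategory.triangleOfSES_distinguished hS)
    have hX₁ : ∀ k, k ≠ a + m → IsZero (T.X₁.X k) := fun k hk => by
      by_cases h : k < a + m
      · exact isZero_stupidTrunc_of_lt K (a + m) k h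
      · haveI := (hse k).mono_f
        exact IsZero.of_mono (T.map (HomologicalComplex.eval _ _ k)).f (hz k (by omega))
    haveI : IsIso (T.f.f (a + m)) := (hse (a + m)).isIso_f_iff.2 (hle (a + m) (by omega))
    let e : (HomologicalComplex.single X.Modules (ComplexShape.up ℤ) (a + m)).obj (K.X (a + m)) ≅ T.X₁ :=
      (HomologicalComplex.single X.Modules (ComplexShape.up ℤ) (a + m)).mapIso
        (asIso (T.f.f (a + m))).symm ≪≫
      HomologicalComplex.Hom.isoOfComponents
        (fun k => if h : k = a + m then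
            HomologicalComplex.singleObjXIsoOfEq (ComplexShape.up ℤ) (a + m) _ k h ≪≫
              (T.X₁.XIsoOfEq h).symm
          else (HomologicalComplex.isZero_single_obj_X _ _ _ _ h).iso (hX₁ k h))
        (fun k l hkl => by
          by_cases h : k = a + m
          · exact (hX₁ l (by change k + 1 = l at hkl; omega)).eq_of_tgt _ _
          · exact (HomologicalComplex.isZero_single_obj_X _ _ _ _ h).eq_of_src _ _)
    have h₁ : LocSP ((DCoh.Rpush f).obj (DerivedCategory.Q.obj ((DCoh.tensorCx.obj R).obj T.X₁))) := by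
      rcases hK (a + m) with h0 | hg
      · have h0' : IsZero ((DCoh.Rpush f).obj (DerivedCategory.Q.obj ((DCoh.tensorCx.obj R).obj T.X₁))) :=
          (TriNat.presTri_rpush f).isZero_obj (DerivedCategory.Q.map_isZero ((DCoh.tensorCx.obj R).map_isZero
            (((HomologicalComplex.single X.Modules (ComplexShape.up ℤ) (a + m)).map_isZero h0).of_iso e.symm)))
        exact (CompactPerfect.perfD S).prop_of_iso ((isZero_zero (DCoh.D S)).iso h0')
          (CompactPerfect.perfD S).prop_zero
      · exact (locSP_rpush_tensorCx_single f R hR hE _ hg (a + m)).of_iso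
          ((DCoh.Rpush f).mapIso (DerivedCategory.Q.mapIso ((DCoh.tensorCx.obj R).mapIso e)))
    have h₃ := locSP_rpush_tensorCx_bounded R hRf hR hE a m T.X₃ (fun k hk => by
        rcases hk with hk | hk
        · haveI := (hse k).epi_g
          exact IsZero.of_epi (T.map (HomologicalComplex.eval _ _ k)).g (hz k (Or.inl hk))
        · exact hle k (by omega))
      (fun k => by
        by_cases h : k < a + m
        · obtain ⟨ek⟩ := nonempty_sigmaSES_X₃_iso K (a + m) k h
          exact (hK k).imp (fun hz' => hz'.of_iso ek.symm) (GoodTerm.of_iso f ek)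
        · exact Or.inl (hle k (by omega)))
    exact ObjectProperty.ext_of_isTriangulatedClosed₂ (CompactPerfect.perfD S) _ hc h₁ h₃

/-- Direct images of perfect objects tensored with bounded complexes of finitely presented modules flat over the
base with proper support are perfect. -/
theorem locSP_rpush_ltensorCx [LocallyOfFinitePresentation f] [DCoh.HasRpush f]
    (K : CochainComplex X.Modules ℤ) [DCoh.HasLTensorCx K] (a b : ℤ) (hb : DCoh.VanishesOutside K a b)
    (hK : ∀ i, IsZero (K.X i) ∨ GoodTerm f (K.X i)) {E : DCoh.D X} (hE : LocSP E) :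
    LocSP ((DCoh.Rpush f).obj ((DCoh.LTensorCx K).obj E)) := by
  let R := (kRes X).obj (DerivedCategory.Q.objPreimage E)
  let eR : DerivedCategory.Q.obj R ≅ E := (resQIso X).app _ ≪≫ DerivedCategory.Q.objObjPreimageIso E
  have h := locSP_rpush_tensorCx_bounded f R (isFlat_kRes _) (isKFlat_kRes _) (hE.of_iso eR.symm) a
    ((b + 1 - a).toNat) K (fun i hi => hb i (by omega)) hK
  exact h.of_iso ((DCoh.Rpush f).mapIso
    ((ltensorCxIso K (isKFlat_kRes (DerivedCategory.Q.objPreimage E))).symm ≪≫ (DCoh.LTensorCx K).mapIso eR))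

/-- Bounded above complexes and perfect objects. -/
theorem locPC_rpush_ltensorCx_perfect [CompactSpace X] [CompactSpace S] [QuasiSeparated f] [QuasiCompact f]
    [LocallyOfFinitePresentation f] [DCoh.HasRpush f]
    (K : CochainComplex X.Modules ℤ) [DCoh.HasLTensorCx K] (b : ℤ) (hb : ∀ i : ℤ, b < i → IsZero (K.X i))
    (hK : ∀ i, IsZero (K.X i) ∨ GoodTerm f (K.X i)) {E : DCoh.D X} (hE : LocSP E) (m : ℤ) :
    LocPC m ((DCoh.Rpush f).obj ((DCoh.LTensorCx K).obj E)) := by
  obtain ⟨N, hN⟩ := Window.exists_rpush_window f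
  obtain ⟨bE, hbE⟩ := exists_bound_of_locPC (hE.locPC 0)
  let R := (kRes X).obj (DerivedCategory.Q.objPreimage E)
  let eR : DerivedCategory.Q.obj R ≅ E := (resQIso X).app _ ≪≫ DerivedCategory.Q.objObjPreimageIso E
  have hR : DCoh.IsKFlat R := isKFlat_kRes _
  let p : ℤ := m - N - bE - 2
  have hle := isStrictlyLE_sigmaSES_X₃ K p
  rw [CochainComplex.isStrictlyLE_iff] at hle
  have hse := fun n => (sigmaSES_shortExact K p).map_of_exact
    (HomologicalComplex.eval X.Modules (ComplexShape.up ℤ) n)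
  let T := sigmaSES K p
  have hq : ∀ i, Coh.IsQCoh (K.X i) := fun i => by
    rcases hK i with h | h
    · exact isQCoh_of_isZero h
    · exact QCoh.isQCoh_of_isFP h.1
  have h1 : ∀ i, IsZero (T.X₁.X i) ∨ GoodTerm f (T.X₁.X i) := fun i => by
    by_cases h : i < p
    · exact Or.inl (isZero_stupidTrunc_of_lt K p i h)
    · haveI : IsIso (T.f.f i) := (hse i).isIso_f_iff.2 (hle i (by omega))
      exact (hK i).imp (fun hz => hz.of_iso (asIso (T.f.f i))) (GoodTerm.of_iso f (asIso (T.f.f i)).symm)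
  have hX₁ : LocSP ((DCoh.Rpush f).obj (DerivedCategory.Q.obj ((DCoh.tensorCx.obj R).obj T.X₁))) :=
    locSP_rpush_tensorCx_bounded f R (isFlat_kRes _) hR (hE.of_iso eR.symm) p ((b + 1 - p).toNat) T.X₁
      (fun i hi => by
        rcases hi with hi | hi
        · exact isZero_stupidTrunc_of_lt K p i hi
        · haveI := (hse i).mono_f
          exact IsZero.of_mono (T.map (HomologicalComplex.eval _ _ i)).f (hb i (by omega))) h1
  have hS := shortExact_tensorCx_of_flat R (isFlat_kRes _) (sigmaSES_shortExact K p)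
  obtain ⟨c, hc⟩ := exists_rpush_triangle f _ (DerivedCategory.triangleOfSES_distinguished hS)
  haveI := hasLTensorCx T.X₃
  have hq₃ : DCoh.IsQCohD (DCoh.toD X T.X₃) := (isQCohD_Q_iff _).2 <| isQCoh_homology_of_terms _ fun i => by
    by_cases h : i < p
    · obtain ⟨ei⟩ := nonempty_sigmaSES_X₃_iso K p i h
      exact isQCoh_of_iso ei (hq i)
    · exact isQCoh_of_isZero (hle i (by omega))
  haveI : CochainComplex.IsStrictlyLE T.X₃ (p - 1) := (CochainComplex.isStrictlyLE_iff _ _).2 fun i hi => hle i hi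
  have hle₃ : (DCoh.toD X T.X₃).IsLE (p - 1) := (DerivedCategory.isLE_Q_obj_iff _ _).2 inferInstance
  have h₃ : LocPC m ((DCoh.Rpush f).obj (DerivedCategory.Q.obj ((DCoh.tensorCx.obj R).obj T.X₃))) :=
    (locPC_of_isZero m _ fun i hi => hN _ (isQCohD_ltensor T.X₃ hq₃ (AffineLift.isQCohD_of_locSP hE)) i
      fun j hj _ => TensorTest.isZero_hd_ltensor_of_isLE T.X₃ (p - 1) hle₃ E bE hbE j (by omega)).of_iso
      ((DCoh.Rpush f).mapIso ((DCoh.LTensorCx T.X₃).mapIso eR.symm ≪≫ ltensorCxIso T.X₃ hR))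
  exact ((locPC_two_of_three m _ hc).2.1 (hX₁.locPC m) h₃).of_iso ((DCoh.Rpush f).mapIso
    ((ltensorCxIso K hR).symm ≪≫ (DCoh.LTensorCx K).mapIso eR))

/-- Good terms restrict to opens of the base. -/
lemma GoodTerm.restrict [LocallyOfFinitePresentation f] {G : X.Modules} (h : GoodTerm f G) (V : S.Opens) :
    GoodTerm (f ∣_ V) ((Scheme.Modules.pullback (f ⁻¹ᵁ V).ι).obj G) := by
  let U := f ⁻¹ᵁ V
  have hq := QCoh.isQCoh_of_isFP h.1
  refine ⟨LimModLib.isFP_pullback U.ι hq h.1, fun v => ?_, ?_⟩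
  · rw [RelTor.flatOverAt_comp_iff (f ∣_ V) V.ι _ v, morphismRestrict_ι]
    exact RelTor.flatOverAt_of_iso ((Scheme.Modules.restrictFunctorIsoPullback U.ι).app G)
      ((RelTor.flatOverAt_restrict_iff U.ι f G v).1 (h.2.1 (U.ι.base v)))
  · rw [QCoh.support_pullback U.ι hq (QCoh.isFT_of_isFP h.1)]
    exact QCoh.IsProperOver.baseChange (isPullback_morphismRestrict f V).flip h.2.2

/-- Direct images of pseudo-coherent objects tensored with bounded above complexes of finitely presented modules
flat over the base with proper support are pseudo-coherent. -/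
theorem locPC_rpush_ltensorCx [QuasiCompact f] [QuasiSeparated f] [LocallyOfFinitePresentation f] [DCoh.HasRpush f]
    (K : CochainComplex X.Modules ℤ) [DCoh.HasLTensorCx K] (b : ℤ) (hb : ∀ i : ℤ, b < i → IsZero (K.X i))
    (hK : ∀ i, IsZero (K.X i) ∨ GoodTerm f (K.X i)) (E : DCoh.D X) (hE : ∀ m, LocPC m E) (m : ℤ) :
    LocPC m ((DCoh.Rpush f).obj ((DCoh.LTensorCx K).obj E)) := by
  refine LocPC.of_local fun x => ?_
  obtain ⟨V, hV, hxV, -⟩ := exists_isAffineOpen_mem_and_subset (X := S) (x := x) (U := ⊤) trivial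
  haveI : IsAffine (V : Scheme.{u}) := hV
  haveI : QuasiCompact (f ∣_ V) :=
    MorphismProperty.of_isPullback (isPullback_morphismRestrict f V).flip inferInstance
  haveI : QuasiSeparated (f ∣_ V) :=
    MorphismProperty.of_isPullback (isPullback_morphismRestrict f V).flip inferInstance
  haveI : LocallyOfFinitePresentation (f ∣_ V) :=
    MorphismProperty.of_isPullback (isPullback_morphismRestrict f V).flip inferInstance
  let U := f ⁻¹ᵁ V
  haveI : CompactSpace (U : Scheme.{u}) := QuasiCompact.compactSpace_of_compactSpace (f ∣_ V)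
  haveI : QuasiSeparatedSpace (U : Scheme.{u}) := quasiSeparatedSpace_of_quasiSeparated (f ∣_ V)
  haveI := hasRpush_scheme (f ∣_ V)
  obtain ⟨e⟩ := nonempty_rpush_restrictD_iso f V
  let K' := (pullCx U.ι).obj K
  haveI := hasLTensorCx K'
  let E' := (rho U.ι).obj E
  have hK' : ∀ i, IsZero (K'.X i) ∨ GoodTerm (f ∣_ V) (K'.X i) := fun i =>
    (hK i).imp (fun h => (Scheme.Modules.pullback U.ι).map_isZero h) fun h => h.restrict f V
  have hb' : ∀ i : ℤ, b < i → IsZero (K'.X i) := fun i hi => (Scheme.Modules.pullback U.ι).map_isZero (hb i hi)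
  have hq : DCoh.IsQCohD (DCoh.toD _ K') := (isQCohD_Q_iff _).2 <| isQCoh_homology_of_terms _ fun i => by
    rcases hK' i with h | h
    · exact isQCoh_of_isZero h
    · exact QCoh.isQCoh_of_isFP h.1
  haveI : CochainComplex.IsStrictlyLE K' b := (CochainComplex.isStrictlyLE_iff _ _).2 hb'
  have hle : (DCoh.toD _ K').IsLE b := (DerivedCategory.isLE_Q_obj_iff _ _).2 inferInstance
  have hpc := TensorTest.locPC_rpush_ltensor (f ∣_ V) K' hq b hle
    (fun P hP k => locPC_rpush_ltensorCx_perfect (f ∣_ V) K' b hb' hK' hP k) E'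
    (fun k => (hE k).restrict U.ι) m
  let C := (kRes X).obj K
  haveI := (flatCover X).quasiIso_ψ K
  haveI := hasLTensorCx C
  haveI : DCoh.HasLTensorCx ((𝟭 (CochainComplex X.Modules ℤ)).obj K) := ‹DCoh.HasLTensorCx K›
  obtain ⟨c⟩ := nonempty_LTensorCx_congr ((flatCover X).ψ.app K)
  let P := (kRes (U : Scheme.{u})).obj (DerivedCategory.Q.objPreimage E')
  let eP : DerivedCategory.Q.obj P ≅ E' := (resQIso _).app _ ≪≫ DerivedCategory.Q.objObjPreimageIso E'
  obtain ⟨r⟩ := nonempty_rho_ltensorCx U.ι C (isKFlat_kRes K) E P (isKFlat_kRes _) eP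
  haveI := preservesHomology_pullback U.ι
  haveI : QuasiIso ((pullCx U.ι).map ((flatCover X).ψ.app K)) :=
    inferInstanceAs (QuasiIso (((Scheme.Modules.pullback U.ι).mapHomologicalComplex (ComplexShape.up ℤ)).map _))
  obtain ⟨s⟩ := nonempty_tensorCx_congr P (isKFlat_kRes _) ((pullCx U.ι).map ((flatCover X).ψ.app K))
  let key : (DCoh.LTensorCx K').obj E' ≅ (rho U.ι).obj ((DCoh.LTensorCx K).obj E) :=
    (DCoh.LTensorCx K').mapIso eP.symm ≪≫ ltensorCxIso K' (isKFlat_kRes _) ≪≫ s.symm ≪≫ r.symm ≪≫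
      (rho U.ι).mapIso (c.app E)
  exact ⟨_, V.ι, inferInstance, ⟨⟨x, hxV⟩, rfl⟩,
    hpc.of_iso ((DCoh.Rpush (f ∣_ V)).mapIso key ≪≫ (e.app _).symm)⟩

end Groth.Agent.KFlatLib.TorBC
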