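import Groth.Agent.KFlatLib.Scheme.TorBC
import Groth.Agent.KFlatLib.Scheme.RpushPerfect
import Groth.Agent.KFlatLib.Scheme.CompactPerfect
import Groth.Agent.KFlatLib.Scheme.AffineRpush
import Groth.Agent.KFlatLib.Scheme.QcInduction
import Groth.Agent.KFlatLib.Scheme.CohExtend

/-!
# Direct images of perfect objects along base changes of proper flat morphisms
-/

set_option linter.style.haveILetI false
set_option backward.isDefEq.respectTransparency false

universe u

open CategoryTheory CategoryTheory.Limits CategoryTheory.Pretriangulated AlgebraicGeometry TopologicalSpace Opposite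

attribute [local instance] HasDerivedCategory.standard

namespace Groth.Agent.KFlatLib.TorBC

variable {X X' S S' : Scheme.{u}}

/-- Orthogonality, with the shift on the other side. -/
lemma orth_iff_shift_right (P E : DCoh.D X) :
    Generator.Orth P E ↔ ∀ (m : ℤ) (ψ : P ⟶ E⟦m⟧), ψ = 0 := by
  constructor
  · intro h m ψ
    have h0 := h (-m) ((shiftFunctor (DCoh.D X) (-m)).map ψ ≫
      ((shiftFunctorCompIsoId (DCoh.D X) m (-m) (add_neg_cancel m)).app E).hom)
    rw [Preadditive.IsIso.comp_right_eq_zero] at h0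
    exact (shiftFunctor (DCoh.D X) (-m)).map_eq_zero_iff.1 h0
  · intro h n φ
    have h0 := h (-n) (((shiftFunctorCompIsoId (DCoh.D X) n (-n) (add_neg_cancel n)).app P).inv ≫
      (shiftFunctor (DCoh.D X) (-n)).map φ)
    rw [Preadditive.IsIso.comp_left_eq_zero] at h0
    exact (shiftFunctor (DCoh.D X) (-n)).map_eq_zero_iff.1 h0

/-- On an affine scheme the structure sheaf generates. -/
theorem isZero_of_orth_structure [IsAffine X] {E : DCoh.D X} (hE : DCoh.IsQCohD E)
    (h : Generator.Orth (DCoh.inD X (Coh.structureModule X)) E) : IsZero E := by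
  let eS : secObj (⊤ : X.Opens) ≅ Coh.structureModule X :=
    { hom := (SecPoint.secEq (⊤ : X.Opens) _).symm (topEquiv (Coh.structureModule X) (𝟙 _))
      inv := (topEquiv _).symm (SecPoint.gen (⊤ : X.Opens))
      hom_inv_id := (SecPoint.secEq ⊤ _).injective (by
        rw [SecPoint.secEq_comp, Equiv.apply_symm_apply]
        have h1 := topEquiv_naturality (𝟙 (Coh.structureModule X))
          ((topEquiv (secObj (⊤ : X.Opens))).symm (SecPoint.gen (⊤ : X.Opens)))
        rw [Category.id_comp, Equiv.apply_symm_apply] at h1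
        exact h1.symm)
      inv_hom_id := (topEquiv _).injective (by
        rw [topEquiv_naturality, Equiv.apply_symm_apply]
        exact (SecPoint.secEq_eq _ _).symm.trans ((SecPoint.secEq _ _).apply_symm_apply _)) }
  have hH : ∀ i : ℤ, IsZero (DCoh.HD E i) := fun i => by
    refine isZero_of_sections (hE i) fun x => ⟨⊤, trivial, isAffineOpen_top X, ?_⟩
    have hb := bijH0_of_isQCohD (isQCohD_shift hE i) (isAffineOpen_top X)
    let eH : DCoh.HD (E⟦i⟧) 0 ≅ DCoh.HD E i :=
      ((DerivedCategory.homologyFunctor X.Modules 0).shiftIso i 0 i (add_zero i)).app E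
    have hs : ∀ s : secObj (⊤ : X.Opens) ⟶ DCoh.HD E i, s = 0 := fun s => by
      obtain ⟨φ, hφ⟩ := hb.2 (s ≫ eH.inv)
      have h0 : φ = 0 := by
        have := (orth_iff_shift_right _ E).1 h i
          (((DerivedCategory.singleFunctor X.Modules 0).mapIso eS).inv ≫ φ)
        rwa [Preadditive.IsIso.comp_left_eq_zero] at this
      rw [← cancel_mono eH.inv, zero_comp, ← hφ, h0, psi_zero]
    exact ⟨fun a b => (SecPoint.secEq ⊤ _).symm.injective ((hs _).trans (hs _).symm)⟩
  haveI : IsIso (0 : E ⟶ E) := (DerivedCategory.isIso_iff _ _).2 fun n =>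
    ⟨0, (hH n).eq_of_src _ _, (hH n).eq_of_src _ _⟩
  exact (IsZero.iff_id_eq_zero _).2 ((isIsoZeroEquiv E E).toFun inferInstance).1

variable (f : X ⟶ S)

/-- A property of `D(X)` stable under triangles and retracts that holds for all `Rj_*O` holds for perfect objects. -/
theorem prop_of_locSP [CompactSpace X] [QuasiSeparatedSpace X] (Q : ObjectProperty (DCoh.D X))
    [Q.IsClosedUnderIsomorphisms] [Q.IsStableUnderRetracts] [Q.IsTriangulated]
    (hQ : ∀ (W : Scheme.{u}) (j : W ⟶ X) [IsOpenImmersion j] [IsAffine W] [DCoh.HasRpush j],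
      Q ((DCoh.Rpush j).obj (DCoh.inD W (Coh.structureModule W))))
    (L : DCoh.D X) (hL : LocSP L) : Q L := by
  let P : X.Opens → Prop := fun O => ∀ (W : Scheme.{u}) (j : W ⟶ X) [IsOpenImmersion j] [DCoh.HasRpush j],
    j.opensRange = O → Q ((DCoh.Rpush j).obj ((rho j).obj L))
  have key : P ⊤ := by
    refine qc_induction P ?_ ?_ ⊤ (by simpa using isCompact_univ)
    · intro O hO W j _ _ hj
      haveI : IsAffine (j.opensRange : Scheme.{u}) := hj ▸ hO
      haveI : IsAffine W := .of_isIso j.isoOpensRange.hom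
      haveI := TriNat.isTriangulated_comap Q (DCoh.Rpush j) (TriNat.presTri_rpush j)
        (fun K n => nonempty_rpush_shift j K n)
      have hP : LocSP (DCoh.inD W (Coh.structureModule W)) :=
        locSP_structure.of_iso ((DerivedCategory.singleFunctorIsoCompQ W.Modules 0).app _).symm
      exact CompactPerfect.prop_of_finSums (TriNat.comap Q (DCoh.Rpush j)) hP
        (fun E hE h => isZero_of_orth_structure hE h) (hQ W j) (AffineLift.isQCohD_of_locSP (hL.restrict' j))
        (CompactPerfect.finSums_of_isPerfect ((isPerfect_iff _).2 (hL.restrict' j)))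
    · intro U V _ _ hU hV hUV W j _ _ hj
      let U' := j ⁻¹ᵁ U
      let V' := j ⁻¹ᵁ V
      have htop : U' ⊔ V' = ⊤ := top_unique fun w _ => by
        have : j w ∈ U ⊔ V := hj ▸ (⟨w, rfl⟩ : j w ∈ j.opensRange)
        exact Opens.mem_sup.2 ((Opens.mem_sup.1 this).imp id id)
      have hr : ∀ O : X.Opens, O ≤ U ⊔ V → ((j ⁻¹ᵁ O).ι ≫ j).opensRange = O := fun O hO => by
        rw [Scheme.Hom.opensRange_comp, Scheme.Opens.opensRange_ι,
          Scheme.Hom.image_preimage_eq_opensRange_inf, hj, inf_eq_right.2 hO]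
      haveI := hasRpush_scheme U'.ι
      haveI := hasRpush_scheme V'.ι
      haveI := hasRpush_scheme (U' ⊓ V').ι
      haveI := hasRpush_scheme (U'.ι ≫ j)
      haveI := hasRpush_scheme (V'.ι ≫ j)
      haveI := hasRpush_scheme ((U' ⊓ V').ι ≫ j)
      obtain ⟨a, b, c, h⟩ := exists_mvRpush_triangle U' V' htop ((rho j).obj L)
      haveI : (DCoh.Rpush j).Additive :=
        (exists_rightDerived_triangle (Scheme.Modules.pushforward j) _
          (contractible_distinguished ((rho j).obj L))).1
      obtain ⟨cU⟩ := nonempty_rpush_comp U'.ι j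
      obtain ⟨cV⟩ := nonempty_rpush_comp V'.ι j
      obtain ⟨cW⟩ := nonempty_rpush_comp (U' ⊓ V').ι j
      obtain ⟨a', b', c', h'⟩ := exists_map_mv_triangle (DCoh.Rpush j) (fun T hT => exists_rpush_triangle j T hT)
        a b c h (Iso.refl _)
        (cU.app _ ≪≫ (DCoh.Rpush (U'.ι ≫ j)).mapIso (rhoComp U'.ι j (U'.ι ≫ j) rfl L))
        (cV.app _ ≪≫ (DCoh.Rpush (V'.ι ≫ j)).mapIso (rhoComp V'.ι j (V'.ι ≫ j) rfl L))
        (cW.app _ ≪≫ (DCoh.Rpush ((U' ⊓ V').ι ≫ j)).mapIso (rhoComp (U' ⊓ V').ι j ((U' ⊓ V').ι ≫ j) rfl L))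
      have hA := hU _ (U'.ι ≫ j) (hr U le_sup_left)
      have hB := hV _ (V'.ι ≫ j) (hr V le_sup_right)
      have hC := hUV _ ((U' ⊓ V').ι ≫ j) (hr (U ⊓ V) (inf_le_left.trans le_sup_left))
      have hAB := ObjectProperty.ext_of_isTriangulatedClosed₂ Q _
        (binaryBiproductTriangle_distinguished ((DCoh.Rpush (U'.ι ≫ j)).obj ((rho (U'.ι ≫ j)).obj L))
          ((DCoh.Rpush (V'.ι ≫ j)).obj ((rho (V'.ι ≫ j)).obj L))) hA hB
      exact ObjectProperty.ext_of_isTriangulatedClosed₁ Q _ h' hAB hC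
  haveI := hasRpush_scheme (Iso.refl X).hom
  obtain ⟨e₁⟩ := AffineRpush.nonempty_rpush_iso_inv (Iso.refl X) ((rho (Iso.refl X).hom).obj L)
  obtain ⟨e₂⟩ := AffineLift.nonempty_rho_id (Iso.refl X).hom rfl
  obtain ⟨e₃⟩ := AffineLift.nonempty_rho_id (Iso.refl X).inv rfl
  exact Q.prop_of_iso (e₁ ≪≫ e₃.app _ ≪≫ e₂.app _) (key X (Iso.refl X).hom (Scheme.Hom.opensRange_of_isIso _))

/-- `Rf_*` of a perfect object is perfect for a base change of a proper flat morphism over an affine noetherian
scheme. -/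
theorem locSP_rpush_of_model {X₀ S₀ : Scheme.{u}} [IsAffine S] [IsAffine S₀] [IsNoetherian S₀] {f₀ : X₀ ⟶ S₀}
    {g : S ⟶ S₀} {g' : X ⟶ X₀} (h : IsPullback g' f f₀ g) [IsProper f₀] [Flat f₀] [DCoh.HasRpush f]
    {E : DCoh.D X} (hE : LocSP E) : LocSP ((DCoh.Rpush f).obj E) := by
  haveI : IsProper f := MorphismProperty.of_isPullback (P := @IsProper) h inferInstance
  haveI : IsAffineHom g' := MorphismProperty.of_isPullback (P := @IsAffineHom) h.flip inferInstance
  haveI : CompactSpace X₀ := QuasiCompact.compactSpace_of_compactSpace f₀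
  haveI : QuasiSeparatedSpace X₀ := quasiSeparatedSpace_of_quasiSeparated f₀
  haveI : CompactSpace X := QuasiCompact.compactSpace_of_compactSpace f
  haveI : QuasiSeparatedSpace X := quasiSeparatedSpace_of_quasiSeparated f
  haveI := hasRpush_scheme f₀
  haveI := hasRpush_scheme g
  haveI := hasRpush_scheme g'
  haveI := hasLpull g
  haveI := hasLpull g'
  obtain ⟨τ, hτ⟩ := exists_theta_gen h
  haveI := TriNat.isTriangulated_good τ
    (TriNat.presTri_comp (TriNat.presTri_rpush f₀) (TriNat.presTri_lpull g))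
    (TriNat.presTri_comp (TriNat.presTri_lpull g') (TriNat.presTri_rpush f))
  have hgood : ∀ L, LocSP L → TriNat.good τ L := fun L hL => by
    refine prop_of_locSP (TriNat.good τ) (fun W j _ _ _ => ?_) L hL
    haveI : IsAffineHom (j ≫ f₀) := isAffineHom_of_isAffine _
    haveI : IsAffineHom j :=
      MorphismProperty.of_postcomp (W := @IsAffineHom) (W' := @IsSeparated) j f₀ inferInstance inferInstance
    obtain ⟨e⟩ := AffineRpush.nonempty_rpush_inD j (Coh.structureModule W) QCoh.isQCoh_structureModule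
    refine (TriNat.good τ).prop_of_iso e.symm fun k => ?_
    exact (NatTrans.isIso_app_iff_of_iso τ
      (((DerivedCategory.singleFunctors X₀.Modules).shiftIso k (-k) 0 (by omega)).app _).symm).1 (hτ W j (-k))
  obtain ⟨P₀, hP₀, hgen₀⟩ := Generator.exists_gen X₀
  let G := (DCoh.Lpull g').obj P₀
  have hG : LocSP G := (isPerfect_iff _).1 (isPerfect_lpull g' ((isPerfect_iff _).2 hP₀))
  have hgen : ∀ F, DCoh.IsQCohD F → Generator.Orth G F → IsZero F := fun F hF ho => by
    obtain ⟨adj⟩ := nonempty_lpull_rpush_adj g'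
    refine isZero_of_rpush_isZero g' hF (hgen₀ _ (isQCohD_rpush g' hF) ?_)
    rw [orth_iff_shift_right]
    intro m ψ
    obtain ⟨es⟩ := nonempty_rpush_shift g' F m
    have h0 := (orth_iff_shift_right G F).1 ho m ((adj.homEquiv _ _).symm (ψ ≫ es.inv))
    have h1 := congrArg (adj.homEquiv P₀ (F⟦m⟧)) h0
    rw [Equiv.apply_symm_apply] at h1
    haveI : (DCoh.Rpush g').Additive :=
      (exists_rightDerived_triangle (Scheme.Modules.pushforward g') _ (contractible_distinguished F)).1
    rw [← cancel_mono es.inv, zero_comp, h1, adj.homEquiv_unit, Functor.map_zero, comp_zero]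
  haveI := TriNat.isTriangulated_comap (CompactPerfect.perfD S) (DCoh.Rpush f) (TriNat.presTri_rpush f)
    (fun K n => nonempty_rpush_shift f K n)
  refine CompactPerfect.prop_of_finSums (TriNat.comap (CompactPerfect.perfD S) (DCoh.Rpush f)) hG hgen ?_
    (AffineLift.isQCohD_of_locSP hE) (CompactPerfect.finSums_of_isPerfect ((isPerfect_iff _).2 hE))
  haveI : IsIso (τ.app P₀) :=
    (NatTrans.isIso_app_iff_of_iso τ ((shiftFunctorZero (DCoh.D X₀) ℤ).app P₀)).1 (hgood P₀ hP₀ 0)
  exact LocSP.of_iso (asIso (τ.app P₀))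
    ((isPerfect_iff _).1 (isPerfect_lpull g ((isPerfect_iff _).2 (locSP_rpush f₀ hP₀))))

end Groth.Agent.KFlatLib.TorBC
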