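import Groth.Agent.KFlatLib.Scheme.RelPerfectFibre
import Groth.Agent.KFlatLib.Ring.PerfectFibres

/-!
# Perfection from relative perfection and perfect fibres
-/

set_option linter.style.haveILetI false
set_option backward.isDefEq.respectTransparency false

universe u

open CategoryTheory CategoryTheory.Limits AlgebraicGeometry TensorProduct

attribute [local instance] HasDerivedCategory.standard

namespace Groth.Agent.KFlatLib.RelPerfectBC

open RelTor RelPerfectSch

variable {X S : Scheme.{u}} (f : X ⟶ S)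

/-- Perfection of a derived base change of a chart representative. -/
lemma perfect_LBase_of_fibre {R A R' : Type u} [CommRing R] [CommRing A] [Algebra R A] [CommRing R'] [Algebra R R']
    [PreservesFiniteLimits (tilde.functor (CommRingCat.of A))] {T : Scheme.{u}} (g : T ⟶ S)
    [DCoh.HasLpull (pullback.fst f g)]
    [DRing.HasLBaseChange (Algebra.TensorProduct.includeRight.toRingHom : A →+* R' ⊗[R] A)]
    (j : Spec (CommRingCat.of A) ⟶ X) [IsOpenImmersion j]
    (k : Spec (CommRingCat.of R) ⟶ S) [IsOpenImmersion k]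
    (h : Spec.map (CommRingCat.ofHom (algebraMap R A)) ≫ k = j ≫ f)
    (l : Spec (CommRingCat.of R') ⟶ T) [IsOpenImmersion l]
    (h' : Spec.map (CommRingCat.ofHom (algebraMap R R')) ≫ k = l ≫ g)
    {E : DCoh.D X} (M : Dual.D A) (e : (rho j).obj E ≅ (DCoh.tildeD (CommRingCat.of A)).obj M)
    (hE : DCoh.IsPerfect ((DCoh.Lpull (pullback.fst f g)).obj E)) :
    DRing.IsPerfect (R' ⊗[R] A)
      ((DRing.LBaseChange (Algebra.TensorProduct.includeRight.toRingHom : A →+* R' ⊗[R] A)).obj M) := by
  obtain ⟨j', hj', h₁, -, -⟩ := exists_pullback_chart f g j k h l h'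
  haveI : PreservesFiniteLimits (tilde.functor (CommRingCat.of (R' ⊗[R] A))) :=
    QCoh.tilde_preservesFiniteLimits
  obtain ⟨e'⟩ := nonempty_rho_lpull_iso (A := A) (B := R' ⊗[R] A)
    (Algebra.TensorProduct.includeRight.toRingHom : A →+* R' ⊗[R] A) (pullback.fst f g) j j' h₁ M e
  exact (perfect_tildeD_iff (R := CommRingCat.of (R' ⊗[R] A)) _).1
    ((isPerfect_iff _).2 ((((isPerfect_iff _).1 hE).restrict' j').of_iso e'))

variable [Flat f] [LocallyOfFinitePresentation f]

/-- A relatively perfect object with perfect fibres is perfect. -/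
theorem isPerfect_of_fibres [∀ s : S, DCoh.HasLpull (f.fiberι s)] {E : DCoh.D X} (hE : RelPerf f E)
    (hfib : ∀ s : S, DCoh.IsPerfect ((DCoh.Lpull (f.fiberι s)).obj E)) : DCoh.IsPerfect E := by
  refine (isPerfect_iff E).2 (LocSP.of_local fun x => ?_)
  obtain ⟨R, A, _, _, _, j, hj, k, hk, h, hx⟩ := exists_chart_pair f x
  haveI : PreservesFiniteLimits (tilde.functor (CommRingCat.of A)) := QCoh.tilde_preservesFiniteLimits
  haveI := flat_chart f j k h
  obtain ⟨M, ⟨eM⟩⟩ := exists_tildeD_iso (R := CommRingCat.of A) (hE.restrict j).isQCohD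
  obtain ⟨hpc, -⟩ := (relPerf_chart_iff f j k h M eM.symm).1 (hE.restrict j)
  haveI : ∀ p : PrimeSpectrum R, DRing.HasLBaseChange
      (Algebra.TensorProduct.includeRight.toRingHom : A →+* p.asIdeal.ResidueField ⊗[R] A) :=
    fun p => H9Misc.DRingLBase.hasLBaseChange _
  refine ⟨_, j, hj, hx, ((isPerfect_iff _).1 ((perfect_tildeD_iff (R := CommRingCat.of A) M).2
    (Groth.Agent.KFlatLib.isPerfect_of_fibres R A M hpc ((locGE_tilde_iff M).1 ((hE.2.locGE.restrict j).of_iso eM.symm))
      fun p => ?_))).of_iso eM⟩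
  obtain ⟨l, hl, h'⟩ := exists_residue_chart k p
  haveI : DCoh.HasLpull (pullback.fst f (S.fromSpecResidueField (k.base p))) :=
    inferInstanceAs (DCoh.HasLpull (f.fiberι (k.base p)))
  exact perfect_LBase_of_fibre f (S.fromSpecResidueField (k.base p)) j k h l h' M eM.symm (hfib (k.base p))

end Groth.Agent.KFlatLib.RelPerfectBC
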