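import Groth.Agent.KFlatLib.Scheme.TildeD
import Groth.Agent.KFlatLib.Perfect.DLocal
import Groth.Agent.QCoh.LocFree
import Mathlib.Algebra.Homology.HomotopyCategory.KProjective

/-!
# Complexes of finite locally free modules on affine schemes behave as K-projective ones
-/

set_option linter.style.haveILetI false
set_option backward.isDefEq.respectTransparency false

universe w w' v v' u u'

open CategoryTheory CategoryTheory.Limits AlgebraicGeometry

attribute [local instance] HasDerivedCategory.standard

namespace Groth.Agent.KFlatLib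

section general

variable {C : Type u} [Category.{v} C] [Abelian C] [HasDerivedCategory C]

/-- `Hom_K(E, F) = Hom_D(E, F)`. -/
structure HomEq (E F : CochainComplex C ℤ) : Prop where
  surj : ∀ a : DerivedCategory.Q.obj E ⟶ DerivedCategory.Q.obj F,
    ∃ g : E ⟶ F, DerivedCategory.Q.map g = a
  inj : ∀ f g : E ⟶ F, DerivedCategory.Q.map f = DerivedCategory.Q.map g → Nonempty (Homotopy f g)

lemma homEq_of_isKProjective (P M : CochainComplex C ℤ) [P.IsKProjective] : HomEq P M where
  surj a := by
    obtain ⟨g', hg'⟩ := (CochainComplex.IsKProjective.Qh_map_bijective P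
      ((HomotopyCategory.quotient C _).obj M)).2
        ((DerivedCategory.quotientCompQhIso C).hom.app P ≫ a ≫
          (DerivedCategory.quotientCompQhIso C).inv.app M)
    obtain ⟨g, rfl⟩ := (HomotopyCategory.quotient C _).map_surjective g'
    refine ⟨g, ?_⟩
    rw [← cancel_epi ((DerivedCategory.quotientCompQhIso C).hom.app P)]
    refine ((DerivedCategory.quotientCompQhIso C).hom.naturality g).symm.trans ?_
    refine (congrArg (· ≫ (DerivedCategory.quotientCompQhIso C).hom.app M) hg').trans ?_
    simp only [Category.assoc]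
    exact congrArg _ ((congrArg (a ≫ ·)
      ((DerivedCategory.quotientCompQhIso C).inv_hom_id_app M)).trans (Category.comp_id a))
  inj f g h := by
    refine ⟨HomotopyCategory.homotopyOfEq _ _
      ((CochainComplex.IsKProjective.Qh_map_bijective P _).1 ?_)⟩
    rw [← cancel_mono ((DerivedCategory.quotientCompQhIso C).hom.app M)]
    refine ((DerivedCategory.quotientCompQhIso C).hom.naturality f).trans ?_
    rw [h]
    exact ((DerivedCategory.quotientCompQhIso C).hom.naturality g).symm

lemma HomEq.bijective {E F : CochainComplex C ℤ} (h : HomEq E F) :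
    Function.Bijective (fun φ : (HomotopyCategory.quotient C (ComplexShape.up ℤ)).obj E ⟶
        (HomotopyCategory.quotient C (ComplexShape.up ℤ)).obj F =>
      (DerivedCategory.Qh (C := C)).map φ) := by
  refine ⟨fun a b hab => ?_, fun y => ?_⟩
  · obtain ⟨f, rfl⟩ := (HomotopyCategory.quotient C _).map_surjective a
    obtain ⟨g, rfl⟩ := (HomotopyCategory.quotient C _).map_surjective b
    obtain ⟨H⟩ := h.inj f g (by
      rw [← cancel_epi ((DerivedCategory.quotientCompQhIso C).hom.app E)]
      refine ((DerivedCategory.quotientCompQhIso C).hom.naturality f).symm.trans ?_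
      refine Eq.trans ?_ ((DerivedCategory.quotientCompQhIso C).hom.naturality g)
      exact congrArg (· ≫ _) hab)
    exact HomotopyCategory.eq_of_homotopy _ _ H
  · obtain ⟨g, hg⟩ := h.surj ((DerivedCategory.quotientCompQhIso C).inv.app E ≫ y ≫
      (DerivedCategory.quotientCompQhIso C).hom.app F)
    refine ⟨(HomotopyCategory.quotient C _).map g, ?_⟩
    rw [← cancel_mono ((DerivedCategory.quotientCompQhIso C).hom.app F)]
    refine ((DerivedCategory.quotientCompQhIso C).hom.naturality g).trans ?_
    rw [hg]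
    exact (Iso.hom_inv_id_app_assoc _ _ _)

lemma HomEq.of_iso {E E' F F' : CochainComplex C ℤ} (h : HomEq E F) (e : E ≅ E') (e' : F ≅ F') :
    HomEq E' F' where
  surj a := by
    obtain ⟨g, hg⟩ := h.surj (DerivedCategory.Q.map e.hom ≫ a ≫ DerivedCategory.Q.map e'.inv)
    refine ⟨e.inv ≫ g ≫ e'.hom, ?_⟩
    simp only [Functor.map_comp, hg, Category.assoc]
    rw [← Functor.map_comp_assoc, e.inv_hom_id, ← Functor.map_comp, e'.inv_hom_id]
    simp
  inj f g hfg := by
    obtain ⟨H⟩ := h.inj (e.hom ≫ f ≫ e'.inv) (e.hom ≫ g ≫ e'.inv) (by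
      simp only [Functor.map_comp, hfg])
    exact ⟨(Homotopy.ofEq (by simp)).trans (((H.compLeft e.inv).compRight e'.hom).trans
      (Homotopy.ofEq (by simp)))⟩

variable {D : Type u'} [Category.{v'} D] [Abelian D] [HasDerivedCategory D]

/-- Invariance under an exact equivalence. -/
lemma HomEq.of_equivalence (G : C ⥤ D) (G' : D ⥤ C) (η : G ⋙ G' ≅ 𝟭 C) [G.Additive] [G'.Additive]
    [PreservesFiniteLimits G] [PreservesFiniteColimits G] [PreservesFiniteLimits G']
    [PreservesFiniteColimits G'] [G.Full] [G.Faithful] (E F : CochainComplex C ℤ)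
    (h : HomEq ((G.mapHomologicalComplex (ComplexShape.up ℤ)).obj E)
      ((G.mapHomologicalComplex (ComplexShape.up ℤ)).obj F)) : HomEq E F := by
  let T := G.mapHomologicalComplex (ComplexShape.up ℤ)
  let T' := G'.mapHomologicalComplex (ComplexShape.up ℤ)
  let θ : DerivedCategory.Q ⋙ G.mapDerivedCategory ⋙ G'.mapDerivedCategory ≅
      (DerivedCategory.Q : CochainComplex C ℤ ⥤ _) :=
    (Functor.associator _ _ _).symm ≪≫
      Functor.isoWhiskerRight G.mapDerivedCategoryFactors G'.mapDerivedCategory ≪≫
      Functor.associator _ _ _ ≪≫ Functor.isoWhiskerLeft T G'.mapDerivedCategoryFactors ≪≫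
      (Functor.associator _ _ _).symm ≪≫
      Functor.isoWhiskerRight
        (show T ⋙ T' ≅ 𝟭 (CochainComplex C ℤ) from
          NatIso.ofComponents (fun K => (NatIso.mapHomologicalComplex η _).app K)
            (fun f => (NatIso.mapHomologicalComplex η _).hom.naturality f))
        DerivedCategory.Q ≪≫ DerivedCategory.Q.leftUnitor
  let θ' : G.mapDerivedCategory ⋙ G'.mapDerivedCategory ≅ 𝟭 (DerivedCategory C) :=
    Localization.liftNatIso DerivedCategory.Q
      (HomologicalComplex.quasiIso C (ComplexShape.up ℤ))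
      (DerivedCategory.Q ⋙ G.mapDerivedCategory ⋙ G'.mapDerivedCategory) DerivedCategory.Q _ _ θ
  refine ⟨fun a => ?_, fun f g hfg => ?_⟩
  · obtain ⟨k, hk⟩ := h.surj ((G.mapDerivedCategoryFactors.app E).inv ≫ G.mapDerivedCategory.map a ≫
      (G.mapDerivedCategoryFactors.app F).hom)
    obtain ⟨g, hg⟩ : ∃ g : E ⟶ F, T.map g = k := by
      refine ⟨⟨fun i => G.preimage (k.f i), fun i j hij => G.map_injective ?_⟩, ?_⟩
      · simp only [Functor.map_comp, Functor.map_preimage]
        exact k.comm' i j hij
      · ext i : 1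
        exact G.map_preimage _
    refine ⟨g, ?_⟩
    have hG : G.mapDerivedCategory.map (DerivedCategory.Q.map g) = G.mapDerivedCategory.map a := by
      rw [← cancel_mono (G.mapDerivedCategoryFactors.app F).hom]
      refine (G.mapDerivedCategoryFactors.hom.naturality g).trans ?_
      refine (congrArg (fun z => _ ≫ DerivedCategory.Q.map z) hg).trans ?_
      rw [hk]
      exact Iso.hom_inv_id_assoc (G.mapDerivedCategoryFactors.app E) _
    have n₁ := θ'.hom.naturality (DerivedCategory.Q.map g)
    have n₂ := θ'.hom.naturality a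
    simp only [Functor.comp_map, hG] at n₁ n₂
    exact (cancel_epi (θ'.hom.app _)).1 (n₁.symm.trans n₂)
  · obtain ⟨H⟩ := h.inj (T.map f) (T.map g) (by
      rw [← cancel_epi (G.mapDerivedCategoryFactors.app E).hom]
      refine (G.mapDerivedCategoryFactors.hom.naturality f).symm.trans ?_
      refine Eq.trans ?_ (G.mapDerivedCategoryFactors.hom.naturality g)
      simp only [Functor.comp_map, hfg])
    refine ⟨{ hom := fun i j => G.preimage (H.hom i j), zero := fun i j hij => ?_, comm := fun i => ?_ }⟩
    · exact G.map_injective (by simp [H.zero i j hij])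
    · refine G.map_injective ((H.comm i).trans ?_)
      simp [dNext, prevD, T]

end general

/-- The affine model. -/
lemma homEq_spec {R : CommRingCat.{u}} (E F : CochainComplex (Spec R).Modules ℤ) (b : ℤ)
    (hEb : ∀ i : ℤ, b < i → IsZero (E.X i)) (hE : ∀ i : ℤ, FlatMod.IsFinLocFree (E.X i))
    (hF : ∀ i : ℤ, Coh.IsQCoh (F.X i)) : HomEq E F := by
  haveI : (moduleSpecΓFunctor (R := R)).Additive :=
    (tilde.adjunction (R := R)).right_adjoint_additive
  have ci : ∀ (K : CochainComplex (Spec R).Modules ℤ), (∀ i, Coh.IsQCoh (K.X i)) →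
      IsIso (counitCx K) := fun K hK => by
    haveI : ∀ i, IsIso ((counitCx K).f i) := fun i =>
      (isQuasicoherent_iff_isIso_fromTildeΓ _).1 (hK i)
    exact HomologicalComplex.Hom.isIso_of_components _
  haveI := ci E fun i => QCoh.isQCoh_of_isFinLocFree (hE i)
  haveI := ci F hF
  let P := gammaCx.obj E
  let M := gammaCx.obj F
  haveI : ∀ i, Projective (P.X i) := fun i => by
    have hP : Module.Projective R (P.X i) := ((QCoh.isFinLocFree_tilde_iff (P.X i)).1 (H23.PullPush.isFinLocFree_of_iso
      (@asIso _ _ _ _ ((counitCx E).f i)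
        ((isQuasicoherent_iff_isIso_fromTildeΓ _).1 (QCoh.isQCoh_of_isFinLocFree (hE i)))).symm
      (hE i))).2
    exact @ModuleCat.projective_of_categoryTheory_projective _ _ (P.X i) hP
  haveI : P.IsStrictlyLE b := by
    rw [CochainComplex.isStrictlyLE_iff]
    exact fun i hi => (moduleSpecΓFunctor (R := R)).map_isZero (hEb i hi)
  haveI := CochainComplex.isKProjective_of_projective P b
  have h := homEq_of_isKProjective P M
  refine HomEq.of_iso ?_ (asIso (counitCx E)) (asIso (counitCx F))
  refine ⟨fun a => ?_, fun f g hfg => ?_⟩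
  · obtain ⟨c, hc⟩ := (tildeD_map_bijective (DerivedCategory.Q.obj P) (DerivedCategory.Q.obj M)).2
      ((tildeQ P).hom ≫ a ≫ (tildeQ M).inv)
    obtain ⟨k, rfl⟩ := h.surj c
    refine ⟨((tilde.functor R).mapHomologicalComplex _).map k, ?_⟩
    rw [← cancel_epi (tildeQ P).hom, ← tildeQ_naturality, hc]
    simp only [Category.assoc]
    exact congrArg _ ((congrArg (a ≫ ·) (tildeQ M).inv_hom_id).trans (Category.comp_id a))
  · obtain ⟨f, rfl⟩ := ((tilde.functor R).mapHomologicalComplex _).map_surjective f
    obtain ⟨g, rfl⟩ := ((tilde.functor R).mapHomologicalComplex _).map_surjective g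
    obtain ⟨H⟩ := h.inj f g ((tildeD_map_bijective _ _).1 (by
      rw [← cancel_mono (tildeQ M).hom, tildeQ_naturality, tildeQ_naturality, hfg]))
    exact ⟨(tilde.functor R).mapHomotopy H⟩

/-- Transfer to an arbitrary affine scheme. -/
lemma homEq_affine {X : Scheme.{u}} [IsAffine X] (E F : CochainComplex X.Modules ℤ) (b : ℤ)
    (hEb : ∀ i : ℤ, b < i → IsZero (E.X i)) (hE : ∀ i : ℤ, FlatMod.IsFinLocFree (E.X i))
    (hF : ∀ i : ℤ, Coh.IsQCoh (F.X i)) : HomEq E F := by
  let j : Spec Γ(X, ⊤) ⟶ X := X.isoSpec.inv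
  let k : X ⟶ Spec Γ(X, ⊤) := X.isoSpec.hom
  let G := Scheme.Modules.restrictFunctor j
  let G' := Scheme.Modules.restrictFunctor k
  let η : G ⋙ G' ≅ 𝟭 _ := (Scheme.Modules.restrictFunctorComp k j).symm ≪≫
    Scheme.Modules.restrictFunctorCongr (X.isoSpec.hom_inv_id) ≪≫ Scheme.Modules.restrictFunctorId
  let η' : G' ⋙ G ≅ 𝟭 _ := (Scheme.Modules.restrictFunctorComp j k).symm ≪≫
    Scheme.Modules.restrictFunctorCongr (X.isoSpec.inv_hom_id) ≪≫ Scheme.Modules.restrictFunctorId
  haveI : G.IsEquivalence := (CategoryTheory.Equivalence.mk G G' η.symm η').isEquivalence_functor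
  refine HomEq.of_equivalence G G' η E F (homEq_spec _ _ b (fun i hi => G.map_isZero (hEb i hi))
    (fun i => H23.PullPush.isFinLocFree_of_iso ((Scheme.Modules.restrictFunctorIsoPullback j).app _).symm
      (isFinLocFree_pullback j (hE i))) (fun i => ?_))
  exact isQCoh_of_iso ((Scheme.Modules.restrictFunctorIsoPullback j).app _).symm
    (QCoh.isQCoh_pullback j (hF i))

end Groth.Agent.KFlatLib
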