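import Groth.Agent.KFlatLib.Scheme.PushLocal
import Groth.Agent.KFlatLib.Scheme.LocalDevissage
import Groth.Agent.KFlatLib.Mate
import Groth.Agent.KFlatLib.TotalMapFlip

/-!
# The projection map on complexes
-/

set_option linter.style.haveILetI false
set_option backward.isDefEq.respectTransparency false

universe u

open CategoryTheory CategoryTheory.Limits AlgebraicGeometry

attribute [local instance] HasDerivedCategory.standard

namespace Groth.Agent.KFlatLib

variable {X Y : Scheme.{u}} (f : X ⟶ Y)

/-- Pushforward of complexes. -/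
noncomputable abbrev pushCxF : CochainComplex X.Modules ℤ ⥤ CochainComplex Y.Modules ℤ :=
  mapCx (Scheme.Modules.pushforward f)

/-- Pullback of complexes is left adjoint to pushforward. -/
noncomputable abbrev pullPushCxAdj : pullCx f ⊣ pushCxF f :=
  adjCx (Scheme.Modules.pullbackPushforwardAdjunction f) (ComplexShape.up ℤ)

variable (R : CochainComplex Y.Modules ℤ) (I : CochainComplex X.Modules ℤ) (a : R ⟶ (pushCxF f).obj I)

/-- The projection map `R ⊗ P ⟶ f_* (I ⊗ f^* P)`. -/
noncomputable def projCx (P : CochainComplex Y.Modules ℤ) :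
    (DCoh.tensorCx.obj R).obj P ⟶ (pushCxF f).obj ((DCoh.tensorCx.obj I).obj ((pullCx f).obj P)) :=
  (pullPushCxAdj f).homEquiv _ _ ((pullTensorCxIso f R P).inv ≫
    (DCoh.tensorCx.map (((pullPushCxAdj f).homEquiv R I).symm a)).app ((pullCx f).obj P))

lemma projCx_naturality {A B : CochainComplex Y.Modules ℤ} (g : A ⟶ B) :
    (DCoh.tensorCx.obj R).map g ≫ projCx f R I a B =
      projCx f R I a A ≫ (pushCxF f).map ((DCoh.tensorCx.obj I).map ((pullCx f).map g)) := by
  refine ((pullPushCxAdj f).homEquiv_naturality_left _ _).symm.trans ?_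
  refine Eq.trans (congrArg _ ?_) ((pullPushCxAdj f).homEquiv_naturality_right _ _)
  have w := totalMapHom_naturality₂ (pullTensorBiIso f) R g
  have w' : (pullCx f).map ((DCoh.tensorCx.obj R).map g) ≫ (pullTensorCxIso f R B).inv =
      (pullTensorCxIso f R A).inv ≫ (DCoh.tensorCx.obj ((pullCx f).obj R)).map ((pullCx f).map g) := by
    rw [Iso.comp_inv_eq, Category.assoc, Iso.eq_inv_comp]
    exact w.symm
  refine ((Category.assoc _ _ _).symm.trans (congrArg (· ≫ _) w')).trans ?_
  refine (Category.assoc _ _ _).trans (Eq.trans ?_ (Category.assoc _ _ _).symm)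
  exact congrArg (_ ≫ ·) ((DCoh.tensorCx.map _).naturality _)

/-- The projection map is a quasi-isomorphism at shifts of the structure module, with a K-injective
target on any open. -/
theorem quasiIso_projCx_single [QuasiIso a] [I.IsKInjective] (n : ℤ) {U : Scheme.{u}} (k : U ⟶ X)
    [IsOpenImmersion k] :
    QuasiIso (projCx f R I a ((HomologicalComplex.single Y.Modules (ComplexShape.up ℤ) n).obj
      (Coh.structureModule Y))) ∧
    ((rCx k).obj ((DCoh.tensorCx.obj I).obj ((pullCx f).obj
      ((HomologicalComplex.single Y.Modules (ComplexShape.up ℤ) n).obj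
        (Coh.structureModule Y))))).IsKInjective := by
  let P := (HomologicalComplex.single Y.Modules (ComplexShape.up ℤ) n).obj (Coh.structureModule Y)
  haveI : IsIso (SheafOfModules.pullbackObjUnitToUnit f.toRingCatSheafHom) := inferInstance
  let e : (Scheme.Modules.pullback f).obj (Coh.structureModule Y) ≅ Coh.structureModule X :=
    asIso (SheafOfModules.pullbackObjUnitToUnit f.toRingCatSheafHom)
  let eS : (pullCx f).obj P ≅
      (HomologicalComplex.single X.Modules (ComplexShape.up ℤ) n).obj (Coh.structureModule X) :=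
    (HomologicalComplex.singleMapHomologicalComplex (Scheme.Modules.pullback f) _ n).app _ ≪≫
      (HomologicalComplex.single _ _ n).mapIso e
  let F₁ := Inner.tenX (DCoh.tensorBi (X := Y)) P
  let F₂ := Inner.tenX (DCoh.tensorBi (X := X)) ((pullCx f).obj P)
  let e₁ : F₁ ≅ shiftFunctor (CochainComplex Y.Modules ℤ) (-n) :=
    Inner.tensorUnitShiftIso (DCoh.tensorBi (X := Y)) (Coh.structureModule Y) (tensorStructureIso Y) n
  let e₂ : F₂ ≅ shiftFunctor (CochainComplex X.Modules ℤ) (-n) :=
    DCoh.tensorBi.map₂CochainComplex.flip.mapIso eS ≪≫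
      Inner.tensorUnitShiftIso (DCoh.tensorBi (X := X)) (Coh.structureModule X) (tensorStructureIso X) n
  haveI : F₁.IsEquivalence := Functor.isEquivalence_of_iso e₁.symm
  haveI : F₂.IsEquivalence := Functor.isEquivalence_of_iso e₂.symm
  let α : F₁ ⋙ pullCx f ≅ pullCx f ⋙ F₂ := (totalMapNatIso (pullTensorBiIso f) P).symm
  constructor
  · haveI := isIso_mate (pullPushCxAdj f) α I
    haveI : QuasiIso (F₁.map a) :=
      (quasiIso_iff_of_arrow_mk_iso _ _ (((Functor.mapArrowFunctor _ _).mapIso e₁).app (Arrow.mk a))).2
        ((MorphismProperty.IsCompatibleWithShift.iff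
          (HomologicalComplex.quasiIso Y.Modules (ComplexShape.up ℤ)) a (-n)).2 (by assumption))
    have h := adjunct_eq_mate (pullPushCxAdj f) α a
    change projCx f R I a P = _ at h
    change QuasiIso (projCx f R I a P)
    rw [h]
    infer_instance
  · haveI : ((shiftFunctor (CochainComplex X.Modules ℤ) (-n)).obj I).IsKInjective := inferInstance
    haveI := isKInjective_rCx k ((shiftFunctor (CochainComplex X.Modules ℤ) (-n)).obj I)
    exact CochainComplex.isKInjective_of_iso ((rCx k).mapIso (e₂.app I).symm)

end Groth.Agent.KFlatLib
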