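import Groth.Agent.KFlatLib.Scheme.TorBCMod
import Groth.Agent.KFlatLib.Scheme.TriNatTrans
import Groth.Agent.KFlatLib.Scheme.ProjAffineFlat

/-!
# The base change map on pushforwards of affine opens, for a flat morphism and an arbitrary base change
-/

set_option linter.style.haveILetI false
set_option backward.isDefEq.respectTransparency false

universe u

open CategoryTheory CategoryTheory.Limits AlgebraicGeometry Opposite

attribute [local instance] HasDerivedCategory.standard

namespace Groth.Agent.KFlatLib.TorBC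

open FlatBC

variable {X Y X' S S' : Scheme.{u}}

local notation "Kh" X:max => HomotopyCategory (Scheme.Modules X) (ComplexShape.up ℤ)
local notation "qq" X:max => HomotopyCategory.quotient (Scheme.Modules X) (ComplexShape.up ℤ)

/-- `Rf_*` of the direct image of a complex of quasi-coherent modules along an affine `j` with affine `j ≫ f`. -/
theorem isIso_beta_pushH {U : Scheme.{u}} (j : U ⟶ X) [IsAffineHom j] (f : X ⟶ Y) [IsAffineHom (j ≫ f)]
    [DCoh.HasRpush f] (C : CochainComplex U.Modules ℤ) (hC : ∀ n, Coh.IsQCoh (C.X n)) :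
    IsIso ((beta f).app ((pushH j).obj ((qq U).obj C))) := by
  haveI := hasRpush_scheme j
  haveI := hasRpush_scheme (j ≫ f)
  obtain ⟨I, s, hI, hs⟩ := exists_kInjective_res C
  haveI := hs
  haveI : IsIso (DerivedCategory.Qh.map ((qq U).map s)) :=
    Localization.inverts DerivedCategory.Qh (HomotopyCategory.quasiIso U.Modules (ComplexShape.up ℤ)) _
      ((HomotopyCategory.quotient_map_mem_quasiIso_iff s).2 hs)
  haveI := hI
  have key : ∀ {Z : Scheme.{u}} (p : U ⟶ Z) [IsAffineHom p] [DCoh.HasRpush p],
      IsIso (DerivedCategory.Qh.map ((pushH p).map ((qq U).map s))) := fun {Z} p _ _ => by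
    haveI : IsIso ((beta p).app ((qq U).obj C)) := isIso_unit_of_isAffineHom p C hC
    haveI : IsIso ((beta p).app ((qq U).obj I)) := isIso_rightDerivedUnit_of_kInjective (DCoh.pushKh p) I
    have hR : IsIso ((DCoh.Rpush p).map (DerivedCategory.Qh.map ((qq U).map s))) := inferInstance
    haveI : IsIso (DerivedCategory.Qh.map ((pushH p).map ((qq U).map s)) ≫ (beta p).app ((qq U).obj I)) :=
      ((beta p).naturality ((qq U).map s)).symm ▸ IsIso.comp_isIso' inferInstance hR
    exact IsIso.of_isIso_comp_right _ ((beta p).app ((qq U).obj I))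
  haveI h1 := key j
  haveI := key (j ≫ f)
  haveI : IsIso ((DCoh.pushKh f).map ((pushH j).map ((qq U).map s))) := by
    refine (NatIso.isIso_map_iff (Functor.isoWhiskerRight
      (Functor.mapHomotopyCategoryCompIso (Scheme.Modules.pushforwardComp j f) (ComplexShape.up ℤ))
      DerivedCategory.Qh) ((qq U).map s)).1 ?_
    assumption
  haveI : IsIso ((beta f).app ((pushH j).obj ((qq U).obj I))) := by
    haveI := hasLpull f
    exact isIso_beta_push (f := j) f I
  haveI : IsIso ((DCoh.Rpush f).map (DerivedCategory.Qh.map ((pushH j).map ((qq U).map s)))) := inferInstance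
  have h := (beta f).naturality ((pushH j).map ((qq U).map s))
  haveI : IsIso ((beta f).app ((pushH j).obj ((qq U).obj C)) ≫
      (DCoh.Rpush f).map (DerivedCategory.Qh.map ((pushH j).map ((qq U).map s)))) := by
    have : IsIso ((DCoh.pushKh f).map ((pushH j).map ((qq U).map s)) ≫
        (beta f).app ((pushH j).obj ((qq U).obj I))) := inferInstance
    exact h ▸ this
  exact IsIso.of_isIso_comp_right _
    ((DCoh.Rpush f).map (DerivedCategory.Qh.map ((pushH j).map ((qq U).map s))))

section BC

variable {f : X ⟶ S} {g : S' ⟶ S} {g' : X' ⟶ X} {f' : X' ⟶ S'}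
  [DCoh.HasRpush f] [DCoh.HasRpush g] [DCoh.HasLpull g] [DCoh.HasRpush f'] [DCoh.HasRpush g']
  [DCoh.HasLpull g']

/-- Naturality of the base change map. -/
lemma baseChangeApp_naturality (A : DCoh.Lpull g ⊣ DCoh.Rpush g) (A' : DCoh.Lpull g' ⊣ DCoh.Rpush g')
    (e : DCoh.Rpush g' ⋙ DCoh.Rpush f ≅ DCoh.Rpush f' ⋙ DCoh.Rpush g) {E₁ E₂ : DCoh.D X} (i : E₁ ⟶ E₂) :
    DCoh.baseChangeApp A A' e E₁ ≫ (DCoh.Rpush f').map ((DCoh.Lpull g').map i) =
      (DCoh.Lpull g).map ((DCoh.Rpush f).map i) ≫ DCoh.baseChangeApp A A' e E₂ := by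
  dsimp only [DCoh.baseChangeApp]
  rw [← Adjunction.homEquiv_naturality_right_symm, ← Adjunction.homEquiv_naturality_left_symm]
  refine congrArg _ ?_
  rw [Category.assoc]
  erw [← e.hom.naturality ((DCoh.Lpull g').map i)]
  rw [← Category.assoc, ← Category.assoc]
  refine congrArg (· ≫ e.hom.app ((DCoh.Lpull g').obj E₂)) ?_
  erw [← Functor.map_comp, ← Functor.map_comp]
  exact congrArg _ (A'.unit.naturality i).symm

/-- The base change map as a natural transformation. -/
noncomputable def thetaTrans (A : DCoh.Lpull g ⊣ DCoh.Rpush g) (A' : DCoh.Lpull g' ⊣ DCoh.Rpush g')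
    (e : DCoh.Rpush g' ⋙ DCoh.Rpush f ≅ DCoh.Rpush f' ⋙ DCoh.Rpush g) :
    DCoh.Rpush f ⋙ DCoh.Lpull g ⟶ DCoh.Lpull g' ⋙ DCoh.Rpush f' where
  app E := DCoh.baseChangeApp (f := f) (g := g) (g' := g') (f' := f') A A' e E
  naturality E₁ E₂ i := by
    have h := baseChangeApp_naturality (f := f) (g := g) (g' := g') (f' := f') A A' e i
    simp only [Functor.comp_map]
    exact h.symm

/-- The transpose of the base change map, read on a complex: first step. -/
lemma unit_map_comp {A' : DCoh.Lpull g' ⊣ DCoh.Rpush g'}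
    (hA' : ∀ K : Kh X, A'.unit.app (DerivedCategory.Qh.obj K) ≫ (DCoh.Rpush g').map ((alpha g').app K) =
      DerivedCategory.Qh.map ((adjH g').unit.app K) ≫ (beta g').app ((pullH g').obj K))
    (hw : g' ≫ f = f' ≫ g) (e : DCoh.Rpush g' ⋙ DCoh.Rpush f ≅ DCoh.Rpush f' ⋙ DCoh.Rpush g)
    (he : ∀ M : Kh X', ((beta f).app ((pushH g').obj M) ≫ (DCoh.Rpush f).map ((beta g').app M)) ≫
        e.hom.app (DerivedCategory.Qh.obj M) =
      (squareH hw).hom.app M ≫ (beta g).app ((pushH f').obj M) ≫ (DCoh.Rpush g).map ((beta f').app M))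
    (K : Kh X) :
    (beta f).app K ≫ ((DCoh.Rpush f).map (A'.unit.app (DerivedCategory.Qh.obj K)) ≫
        e.hom.app ((DCoh.Lpull g').obj (DerivedCategory.Qh.obj K))) ≫
        (DCoh.Rpush g).map ((DCoh.Rpush f').map ((alpha g').app K)) =
      ((DCoh.pushKh f).map ((adjH g').unit.app K) ≫ (squareH hw).hom.app ((pullH g').obj K)) ≫
        (beta g).app ((pushH f').obj ((pullH g').obj K)) ≫
          (DCoh.Rpush g).map ((beta f').app ((pullH g').obj K)) := by
  have h1 := e.hom.naturality ((alpha g').app K)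
  dsimp only [Functor.comp_map, Functor.comp_obj] at h1
  simp only [Category.assoc]
  erw [← h1]
  rw [← Functor.map_comp_assoc]
  erw [hA' K]
  rw [Functor.map_comp, Category.assoc]
  erw [← (beta f).naturality_assoc ((adjH g').unit.app K)]
  refine congrArg ((DCoh.pushKh f).map ((adjH g').unit.app K) ≫ ·) ?_
  exact (Category.assoc _ _ _).symm.trans (he _)

/-- The base change map is invertible on complexes where all the functors are computed termwise. -/
theorem isIso_baseChangeApp_of_termwise {A : DCoh.Lpull g ⊣ DCoh.Rpush g}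
    (hA : ∀ K : Kh S, A.unit.app (DerivedCategory.Qh.obj K) ≫ (DCoh.Rpush g).map ((alpha g).app K) =
      DerivedCategory.Qh.map ((adjH g).unit.app K) ≫ (beta g).app ((pullH g).obj K))
    {A' : DCoh.Lpull g' ⊣ DCoh.Rpush g'}
    (hA' : ∀ K : Kh X, A'.unit.app (DerivedCategory.Qh.obj K) ≫ (DCoh.Rpush g').map ((alpha g').app K) =
      DerivedCategory.Qh.map ((adjH g').unit.app K) ≫ (beta g').app ((pullH g').obj K))
    (hw : g' ≫ f = f' ≫ g) (e : DCoh.Rpush g' ⋙ DCoh.Rpush f ≅ DCoh.Rpush f' ⋙ DCoh.Rpush g)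
    (he : ∀ M : Kh X', ((beta f).app ((pushH g').obj M) ≫ (DCoh.Rpush f).map ((beta g').app M)) ≫
        e.hom.app (DerivedCategory.Qh.obj M) =
      (squareH hw).hom.app M ≫ (beta g).app ((pushH f').obj M) ≫ (DCoh.Rpush g).map ((beta f').app M))
    (I : CochainComplex X.Modules ℤ)
    (h₁ : IsIso ((alpha g').app ((qq X).obj I))) (h₂ : IsIso ((alpha g).app ((pushH f).obj ((qq X).obj I))))
    (h₃ : IsIso ((beta f).app ((qq X).obj I))) (h₄ : IsIso ((beta f').app ((qq X').obj ((pullCx g').obj I))))
    (hbc : ∀ n, IsIso (bcMod hw (I.X n))) :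
    IsIso (DCoh.baseChangeApp A A' e (DerivedCategory.Qh.obj ((qq X).obj I))) := by
  let G := fun {W W' : Scheme.{u}} (u : W ⟶ W') =>
    (Scheme.Modules.pushforward u).mapHomologicalComplex (ComplexShape.up ℤ)
  let J := (pullCx g').obj I
  let m : I ⟶ (G g').obj J :=
    { f := fun n => (Scheme.Modules.pullbackPushforwardAdjunction g').unit.app (I.X n)
      comm' := fun i j _ => ((Scheme.Modules.pullbackPushforwardAdjunction g').unit.naturality (I.d i j)).symm }
  let c : (G f).obj I ⟶ (G g).obj ((G f').obj J) := (G f).map m ≫ (squareCx hw J).hom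
  let χ := transposeCx c
  haveI : ∀ n, IsIso (χ.f n) := fun n => hbc n
  haveI : IsIso χ := HomologicalComplex.Hom.isIso_of_components χ
  let qI := (qq X).obj I
  let qJ := (qq X').obj J
  let θ := DCoh.baseChangeApp A A' e (DerivedCategory.Qh.obj qI)
  have h5 : DerivedCategory.Qh.map ((qq S).map c) =
      (DCoh.pushKh f).map ((adjH g').unit.app qI) ≫ (squareH hw).hom.app ((pullH g').obj qI) :=
    (congrArg DerivedCategory.Qh.map ((qq S).map_comp ((G f).map m) (squareCx hw J).hom)).trans
      (DerivedCategory.Qh.map_comp _ _)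
  have h6 : A.homEquiv _ _ ((DCoh.Lpull g).map ((beta f).app qI) ≫ θ ≫
      (DCoh.Rpush f').map ((alpha g').app qI)) =
        A.homEquiv _ _ ((alpha g).app ((qq S).obj ((G f).obj I)) ≫ DerivedCategory.Qh.map ((qq S').map χ) ≫
          (beta f').app qJ) := by
    dsimp only [θ, DCoh.baseChangeApp]
    rw [A.homEquiv_naturality_left]
    erw [A.homEquiv_naturality_right]
    erw [Equiv.apply_symm_apply]
    refine (unit_map_comp hA' hw e he qI).trans ?_
    erw [← h5]
    refine Eq.trans ?_ (congrArg (A.homEquiv _ _) (Category.assoc _ _ _))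
    rw [A.homEquiv_naturality_right]
    erw [homEquiv_alpha hA, homEquiv_transposeCx, Category.assoc]
    rfl
  have key := (A.homEquiv _ _).injective h6
  haveI := h₁
  haveI := h₃
  change IsIso θ
  haveI : IsIso ((DCoh.Lpull g).map ((beta f).app qI) ≫ θ ≫ (DCoh.Rpush f').map ((alpha g').app qI)) := by
    rw [key]
    exact IsIso.comp_isIso' h₂ (IsIso.comp_isIso' inferInstance h₄)
  haveI : IsIso (θ ≫ (DCoh.Rpush f').map ((alpha g').app qI)) :=
    IsIso.of_isIso_comp_left ((DCoh.Lpull g).map ((beta f).app qI)) _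
  exact IsIso.of_isIso_comp_right θ ((DCoh.Rpush f').map ((alpha g').app qI))

/-- A natural base change map, invertible on the complexes where all functors are computed termwise. -/
theorem exists_theta (h : IsPullback g' f' f g) :
    ∃ τ : DCoh.Rpush f ⋙ DCoh.Lpull g ⟶ DCoh.Lpull g' ⋙ DCoh.Rpush f',
      ∀ I : CochainComplex X.Modules ℤ,
        IsIso ((alpha g').app ((qq X).obj I)) → IsIso ((alpha g).app ((pushH f).obj ((qq X).obj I))) →
        IsIso ((beta f).app ((qq X).obj I)) → IsIso ((beta f').app ((qq X').obj ((pullCx g').obj I))) →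
        (∀ n, IsIso (bcMod h.w (I.X n))) → IsIso (τ.app (DerivedCategory.Qh.obj ((qq X).obj I))) := by
  obtain ⟨A, hA⟩ := exists_adj g
  obtain ⟨A', hA'⟩ := exists_adj g'
  obtain ⟨e, he⟩ := exists_square_derived (f := f) (g := g) (g' := g') (f' := f') h.w
  refine ⟨thetaTrans A A' e, fun I h₁ h₂ h₃ h₄ hbc => ?_⟩
  have key := isIso_baseChangeApp_of_termwise hA hA' h.w e he I h₁ h₂ h₃ h₄ hbc
  unfold thetaTrans
  exact key

/-- The base change map is invertible on direct images of affine opens. -/
theorem exists_theta_gen [IsAffine S] [IsAffine S'] (h : IsPullback g' f' f g) [IsProper f] [Flat f] :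
    ∃ τ : DCoh.Rpush f ⋙ DCoh.Lpull g ⟶ DCoh.Lpull g' ⋙ DCoh.Rpush f',
      ∀ (W : Scheme.{u}) (j : W ⟶ X) [IsOpenImmersion j] [IsAffine W] (n : ℤ),
        IsIso (τ.app ((DerivedCategory.singleFunctor X.Modules n).obj
          ((Scheme.Modules.pushforward j).obj (Coh.structureModule W)))) := by
  obtain ⟨τ, hτ⟩ := exists_theta h
  refine ⟨τ, fun W j _ _ n => ?_⟩
  let V := j.opensRange
  have hV : IsAffineOpen V := isAffineOpen_opensRange j
  haveI : IsAffine (V : Scheme.{u}) := hV
  haveI : IsAffineHom g' := MorphismProperty.of_isPullback (P := @IsAffineHom) h.flip inferInstance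
  haveI hj : IsAffineHom j := by
    haveI : IsAffineHom (j ≫ f) := isAffineHom_of_isAffine _
    exact MorphismProperty.of_postcomp (W := @IsAffineHom) (W' := @IsSeparated) j f inferInstance inferInstance
  haveI : IsAffineHom V.ι := by
    haveI : IsAffineHom (V.ι ≫ f) := isAffineHom_of_isAffine _
    exact MorphismProperty.of_postcomp (W := @IsAffineHom) (W' := @IsSeparated) V.ι f inferInstance inferInstance
  let M := (Scheme.Modules.pushforward j).obj (Coh.structureModule W)
  let C := (HomologicalComplex.single X.Modules (ComplexShape.up ℤ) n).obj M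
  have hM : Coh.IsQCoh M := QCoh.isQCoh_pushforward j QCoh.isQCoh_structureModule
  have hMf : FlatMod.IsFlat M := isFlat_pushforward_structure j
  have hb : ∀ O : X.Opens, Function.Bijective (QCoh.rs M (inf_le_left : O ⊓ V ≤ O)) := fun O => by
    have e : j ⁻¹ᵁ (O ⊓ V) = j ⁻¹ᵁ O := by
      ext x
      exact ⟨fun hx => hx.1, fun hx => ⟨hx, ⟨x, rfl⟩⟩⟩
    exact bijective_rs_of_eq (Coh.structureModule W) e
  let sIso := (HomologicalComplex.singleMapHomologicalComplex (Scheme.Modules.pushforward f)
    (ComplexShape.up ℤ) n).app M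
  have a₁ : IsIso ((alpha g').app ((qq X).obj C)) := by
    haveI : CochainComplex.IsStrictlyLE C n := (CochainComplex.isStrictlyLE_iff _ n).2
      fun i hi => HomologicalComplex.isZero_single_obj_X (ComplexShape.up ℤ) n _ i (by omega)
    exact isIso_Lpull_counit g' (isKFlat_of_isStrictlyLE C n (isFlat_single n hMf))
  have a₂ : IsIso ((alpha g).app ((pushH f).obj ((qq X).obj C))) := by
    let C' := (HomologicalComplex.single S.Modules (ComplexShape.up ℤ) n).obj ((Scheme.Modules.pushforward f).obj M)
    haveI : CochainComplex.IsStrictlyLE C' n := (CochainComplex.isStrictlyLE_iff _ n).2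
      fun i hi => HomologicalComplex.isZero_single_obj_X (ComplexShape.up ℤ) n _ i (by omega)
    haveI : IsAffineHom (j ≫ f) := isAffineHom_of_isAffine _
    haveI : Flat (j ≫ f) := inferInstance
    have hf : FlatMod.IsFlat ((Scheme.Modules.pushforward f).obj M) :=
      IsFlat.of_iso ((Scheme.Modules.pushforwardComp j f).app _).symm (isFlat_pushforward_structure (j ≫ f))
    exact (NatTrans.isIso_app_iff_of_iso (alpha g) ((qq S).mapIso sIso)).2
      (isIso_Lpull_counit g (isKFlat_of_isStrictlyLE C' n (isFlat_single n hf)))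
  have b₁ : IsIso ((beta f).app ((qq X).obj C)) := by
    haveI : IsAffineHom (j ≫ f) := isAffineHom_of_isAffine _
    let C₀ := (HomologicalComplex.single W.Modules (ComplexShape.up ℤ) n).obj (Coh.structureModule W)
    refine (NatTrans.isIso_app_iff_of_iso (beta f) ((qq X).mapIso
      ((HomologicalComplex.singleMapHomologicalComplex (Scheme.Modules.pushforward j)
        (ComplexShape.up ℤ) n).app (Coh.structureModule W)))).1 (isIso_beta_pushH j f C₀ fun k => ?_)
    by_cases hk : k = n
    · subst hk
      exact isQCoh_of_iso (HomologicalComplex.singleObjXSelf (ComplexShape.up ℤ) k _).symm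
        QCoh.isQCoh_structureModule
    · exact isQCoh_of_isZero (HomologicalComplex.isZero_single_obj_X _ _ _ _ hk)
  have b₂ : IsIso ((beta f').app ((qq X').obj ((pullCx g').obj C))) := by
    let H := (Scheme.Modules.pullback g').obj M
    let V' := g' ⁻¹ᵁ V
    haveI := isIso_pushUnit_pullback h hM V hb
    haveI : IsAffine (V' : Scheme.{u}) := hV.preimage g'
    haveI : IsAffineHom (V'.ι ≫ f') := isAffineHom_of_isAffine _
    haveI : IsAffineHom V'.ι :=
      MorphismProperty.of_isPullback (P := @IsAffineHom) (isPullback_morphismRestrict g' V) inferInstance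
    let H₀ := (Scheme.Modules.restrictFunctor V'.ι).obj H
    let C₀ := (HomologicalComplex.single (V' : Scheme.{u}).Modules (ComplexShape.up ℤ) n).obj H₀
    let eC : ((Scheme.Modules.pushforward V'.ι).mapHomologicalComplex (ComplexShape.up ℤ)).obj C₀ ≅
        (pullCx g').obj C :=
      (HomologicalComplex.singleMapHomologicalComplex (Scheme.Modules.pushforward V'.ι) _ n).app H₀ ≪≫
        (HomologicalComplex.single X'.Modules _ n).mapIso (asIso ((pushUnit V').app H)).symm ≪≫
        ((HomologicalComplex.singleMapHomologicalComplex (Scheme.Modules.pullback g') _ n).app M).symm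
    refine (NatTrans.isIso_app_iff_of_iso (beta f') ((qq X').mapIso eC)).1
      (isIso_beta_pushH V'.ι f' C₀ fun k => ?_)
    by_cases hk : k = n
    · subst hk
      exact isQCoh_of_iso (HomologicalComplex.singleObjXSelf (ComplexShape.up ℤ) k _).symm
        (QCoh.isQCoh_restrict V'.ι (QCoh.isQCoh_pullback g' hM))
    · exact isQCoh_of_isZero (HomologicalComplex.isZero_single_obj_X _ _ _ _ hk)
  have hbc : ∀ k, IsIso (bcMod h.w (C.X k)) := fun k => by
    by_cases hk : k = n
    · subst hk
      let e := HomologicalComplex.singleObjXSelf (ComplexShape.up ℤ) k M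
      refine isIso_bcMod h (isQCoh_of_iso e.symm hM) V hV fun O => ?_
      have key : ∀ x, e.hom.app (O ⊓ V) (QCoh.rs _ (inf_le_left : O ⊓ V ≤ O) x) =
          QCoh.rs M inf_le_left (e.hom.app O x) := fun x => QCoh.app_rs e.hom _ x
      refine (Function.Bijective.of_comp_iff'
        (ConcreteCategory.bijective_of_isIso (e.hom.app (O ⊓ V))) _).1 ?_
      rw [show (e.hom.app (O ⊓ V) : _ → _) ∘ QCoh.rs _ (inf_le_left : O ⊓ V ≤ O) = _ from funext key]
      exact (hb O).comp (ConcreteCategory.bijective_of_isIso (e.hom.app O))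
    · have hz : IsZero (C.X k) := HomologicalComplex.isZero_single_obj_X _ _ _ _ hk
      exact ⟨0, ((Scheme.Modules.pullback g).map_isZero ((Scheme.Modules.pushforward f).map_isZero hz)).eq_of_src _ _,
        ((Scheme.Modules.pushforward f').map_isZero ((Scheme.Modules.pullback g').map_isZero hz)).eq_of_src _ _⟩
  exact (NatTrans.isIso_app_iff_of_iso τ
    ((DerivedCategory.quotientCompQhIso X.Modules).app C ≪≫
      ((DerivedCategory.singleFunctorIsoCompQ X.Modules n).app M).symm)).1 (hτ C a₁ a₂ b₁ b₂ hbc)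

end BC

end Groth.Agent.KFlatLib.TorBC
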