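import Groth.Agent.KFlatLib.Scheme.RightAdjLocal
import Groth.Agent.KFlatLib.Scheme.AffineLift
import Groth.Agent.KFlatLib.Scheme.TildePerf
import Groth.Agent.KFlatLib.Scheme.CohD
import Groth.Agent.KFlatLib.Ring.PerfectInduction
import Mathlib.Algebra.FiveLemma

/-!
# Morphisms in the derived category of an affine scheme after a flat base change

`B ⊗_A Hom(P, E) = Hom(h^* P, h^* E)` for `P` perfect, and for `P` pseudo-coherent if `E` is bounded below.
-/

set_option linter.style.haveILetI false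
set_option backward.isDefEq.respectTransparency false

universe u

open CategoryTheory CategoryTheory.Limits AlgebraicGeometry Opposite Pretriangulated
open scoped TensorProduct

attribute [local instance] HasDerivedCategory.standard
attribute [local instance] Groth.Agent.KFlatLib.ScalarD.linMod

namespace Groth.Agent.KFlatLib.AffineHomBC

open ScalarD SecPoint

variable {A B : Type u} [CommRing A] [CommRing B] [Algebra A B] {S S' : Scheme.{u}}

/-- Morphisms downstairs, as a module over `A`. -/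
def HomR (_φ : A →+* Γ(S, ⊤)) (P E : DCoh.D S) : Type (u + 1) := P ⟶ E

noncomputable instance (φ : A →+* Γ(S, ⊤)) (P E : DCoh.D S) : AddCommGroup (HomR φ P E) :=
  inferInstanceAs (AddCommGroup (P ⟶ E))

noncomputable instance (φ : A →+* Γ(S, ⊤)) (P E : DCoh.D S) : Module A (HomR φ P E) :=
  Module.compHom (P ⟶ E) φ

/-- Morphisms upstairs, as a module over `A` and `B`. -/
def HomT (A : Type u) {B : Type u} [CommRing B] (_ψ : B →+* Γ(S', ⊤)) (P E : DCoh.D S') : Type (u + 1) :=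
  P ⟶ E

noncomputable instance (ψ : B →+* Γ(S', ⊤)) (P E : DCoh.D S') : AddCommGroup (HomT A ψ P E) :=
  inferInstanceAs (AddCommGroup (P ⟶ E))

noncomputable instance instModuleHomT (ψ : B →+* Γ(S', ⊤)) (P E : DCoh.D S') :
    Module B (HomT A ψ P E) :=
  Module.compHom (P ⟶ E) ψ

noncomputable instance instModuleHomTBase (ψ : B →+* Γ(S', ⊤)) (P E : DCoh.D S') :
    Module A (HomT A ψ P E) :=
  Module.compHom (P ⟶ E) (ψ.comp (algebraMap A B))

instance (ψ : B →+* Γ(S', ⊤)) (P E : DCoh.D S') : IsScalarTower A B (HomT A ψ P E) :=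
  IsScalarTower.of_algebraMap_smul fun _ _ => rfl

/-- Precomposition downstairs. -/
noncomputable def preR (φ : A →+* Γ(S, ⊤)) {P P' : DCoh.D S} (q : P' ⟶ P) (E : DCoh.D S) :
    HomR φ P E →ₗ[A] HomR φ P' E where
  toFun t := (q ≫ (show P ⟶ E from t) : P' ⟶ E)
  map_add' _ _ := Preadditive.comp_add _ _ _ _ _ _
  map_smul' a t := Linear.comp_smul _ _ _ q (φ a) (show P ⟶ E from t)

/-- Precomposition upstairs. -/
noncomputable def preT (ψ : B →+* Γ(S', ⊤)) {P P' : DCoh.D S'} (q : P' ⟶ P) (E : DCoh.D S') :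
    HomT A ψ P E →ₗ[B] HomT A ψ P' E where
  toFun t := (q ≫ (show P ⟶ E from t) : P' ⟶ E)
  map_add' _ _ := Preadditive.comp_add _ _ _ _ _ _
  map_smul' b t := Linear.comp_smul _ _ _ q (ψ b) (show P ⟶ E from t)

variable (h : S' ⟶ S) [Flat h] (φ : A →+* Γ(S, ⊤)) (ψ : B →+* Γ(S', ⊤))
  (hc : ∀ a, h.appTop (φ a) = ψ (algebraMap A B a))

include hc in
lemma pullD_map_smul {P E : DCoh.D S} (a : A) (t : P ⟶ E) :
    (pullD h).map (φ a • t) = ψ (algebraMap A B a) • (pullD h).map t := by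
  have e1 : φ a • t = t ≫ mu (φ a) E := by simp [mu]
  rw [e1, Functor.map_comp,
    mapDerived_mu _ (φ a) (ψ (algebraMap A B a)) (fun M => by rw [pullback_mulMod, hc]) E]
  simp [mu]

/-- `Hom(P, E) ⟶ Hom(h^* P, h^* E)`. -/
noncomputable def theta (P E : DCoh.D S) :
    HomR φ P E →ₗ[A] HomT A ψ ((pullD h).obj P) ((pullD h).obj E) where
  toFun t := ((pullD h).map (show P ⟶ E from t) : (pullD h).obj P ⟶ (pullD h).obj E)
  map_add' _ _ := (pullD h).map_add
  map_smul' a t := pullD_map_smul h φ ψ hc a (show P ⟶ E from t)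

/-- Base change for morphisms out of `P`. -/
def Good (P E : DCoh.D S) : Prop :=
  Function.Bijective ((theta h φ ψ hc P E).liftBaseChange B)

lemma lift_pre {P P' E : DCoh.D S} (q : P' ⟶ P) :
    (preT ψ ((pullD h).map q) ((pullD h).obj E)).comp ((theta h φ ψ hc P E).liftBaseChange B) =
      ((theta h φ ψ hc P' E).liftBaseChange B).comp ((preR φ q E).baseChange B) := by
  refine TensorProduct.AlgebraTensorModule.ext fun b t => ?_
  simp only [LinearMap.comp_apply, LinearMap.liftBaseChange_tmul, LinearMap.baseChange_tmul]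
  change (pullD h).map q ≫ (ψ b • (pullD h).map (show P ⟶ E from t)) =
    ψ b • (pullD h).map (q ≫ (show P ⟶ E from t))
  rw [Linear.comp_smul, Functor.map_comp]

lemma Good.of_retract {P P' E : DCoh.D S} (i : P ⟶ P') (r : P' ⟶ P) (hir : i ≫ r = 𝟙 P)
    (hg : Good h φ ψ hc P' E) : Good h φ ψ hc P E := by
  have hR : ∀ z, (preR φ i E).baseChange B ((preR φ r E).baseChange B z) = z := fun z => by
    induction z using TensorProduct.induction_on with
    | zero => simp
    | tmul b t =>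
      simp only [LinearMap.baseChange_tmul]
      congr 1
      change i ≫ r ≫ (show P ⟶ E from t) = (show P ⟶ E from t)
      rw [← Category.assoc, hir, Category.id_comp]
    | add p q hp hq => simp only [map_add, hp, hq]
  have hT : ∀ t, preT (A := A) ψ ((pullD h).map i) ((pullD h).obj E)
      (preT ψ ((pullD h).map r) ((pullD h).obj E) t) = t := fun t => by
    change (pullD h).map i ≫ (pullD h).map r ≫
      (show (pullD h).obj P ⟶ (pullD h).obj E from t) = (show (pullD h).obj P ⟶ (pullD h).obj E from t)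
    rw [← Category.assoc, ← Functor.map_comp, hir, CategoryTheory.Functor.map_id, Category.id_comp]
  refine ⟨fun x y hxy => ?_, fun t => ?_⟩
  · have hh := fun z => LinearMap.congr_fun (lift_pre h φ ψ hc (E := E) r) z
    simp only [LinearMap.comp_apply] at hh
    have := hg.1 ((hh x).symm.trans ((congrArg _ hxy).trans (hh y)))
    rw [← hR x, ← hR y, this]
  · obtain ⟨z, hz⟩ := hg.2 (preT ψ ((pullD h).map r) ((pullD h).obj E) t)
    refine ⟨(preR φ i E).baseChange B z, ?_⟩
    have hh := LinearMap.congr_fun (lift_pre h φ ψ hc (E := E) i) z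
    simp only [LinearMap.comp_apply] at hh
    rw [← hh, hz, hT]

lemma Good.of_iso {P P' E : DCoh.D S} (e : P ≅ P') (hg : Good h φ ψ hc P E) : Good h φ ψ hc P' E :=
  hg.of_retract h φ ψ hc e.inv e.hom e.inv_hom_id

lemma exact_preR {T : Triangle (DCoh.D S)} (hT : T ∈ distTriang _) (E : DCoh.D S) :
    Function.Exact (preR φ T.mor₂ E) (preR φ T.mor₁ E) := fun t =>
  ⟨fun ht => by
    obtain ⟨s, hs⟩ := Triangle.yoneda_exact₂ T hT (show T.obj₂ ⟶ E from t) ht
    exact ⟨s, hs.symm⟩,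
    fun ⟨s, hs⟩ => by
      rw [← hs]
      change T.mor₁ ≫ T.mor₂ ≫ (show T.obj₃ ⟶ E from s) = 0
      rw [← Category.assoc, comp_distTriang_mor_zero₁₂ T hT, zero_comp]⟩

lemma exact_preT {T : Triangle (DCoh.D S')} (hT : T ∈ distTriang _) (E : DCoh.D S') :
    Function.Exact (preT (A := A) ψ T.mor₂ E) (preT (A := A) ψ T.mor₁ E) := fun t =>
  ⟨fun ht => by
    obtain ⟨s, hs⟩ := Triangle.yoneda_exact₂ T hT (show T.obj₂ ⟶ E from t) ht
    exact ⟨s, hs.symm⟩,
    fun ⟨s, hs⟩ => by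
      rw [← hs]
      change T.mor₁ ≫ T.mor₂ ≫ (show T.obj₃ ⟶ E from s) = 0
      rw [← Category.assoc, comp_distTriang_mor_zero₁₂ T hT, zero_comp]⟩

/-- The five lemma, for two triangles of morphisms. -/
theorem Good.of_sequence [Module.Flat A B] {P₁ P₂ P₃ P₄ P₅ E : DCoh.D S} (q₁ : P₂ ⟶ P₁) (q₂ : P₃ ⟶ P₂)
    (q₃ : P₄ ⟶ P₃) (q₄ : P₅ ⟶ P₄)
    (e₁ : Function.Exact (preR φ q₁ E) (preR φ q₂ E)) (e₂ : Function.Exact (preR φ q₂ E) (preR φ q₃ E))
    (e₃ : Function.Exact (preR φ q₃ E) (preR φ q₄ E))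
    (d₁ : Function.Exact (preT (A := A) ψ ((pullD h).map q₁) ((pullD h).obj E))
      (preT (A := A) ψ ((pullD h).map q₂) ((pullD h).obj E)))
    (d₂ : Function.Exact (preT (A := A) ψ ((pullD h).map q₂) ((pullD h).obj E))
      (preT (A := A) ψ ((pullD h).map q₃) ((pullD h).obj E)))
    (d₃ : Function.Exact (preT (A := A) ψ ((pullD h).map q₃) ((pullD h).obj E))
      (preT (A := A) ψ ((pullD h).map q₄) ((pullD h).obj E)))
    (h₁ : Good h φ ψ hc P₁ E) (h₂ : Good h φ ψ hc P₂ E) (h₄ : Good h φ ψ hc P₄ E)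
    (h₅ : Good h φ ψ hc P₅ E) : Good h φ ψ hc P₃ E :=
  LinearMap.bijective_of_surjective_of_bijective_of_bijective_of_injective
    ((preR φ q₁ E).baseChange B) ((preR φ q₂ E).baseChange B)
    ((preR φ q₃ E).baseChange B) ((preR φ q₄ E).baseChange B)
    (preT (A := A) ψ ((pullD h).map q₁) ((pullD h).obj E)) (preT (A := A) ψ ((pullD h).map q₂) ((pullD h).obj E))
    (preT (A := A) ψ ((pullD h).map q₃) ((pullD h).obj E)) (preT (A := A) ψ ((pullD h).map q₄) ((pullD h).obj E))
    ((theta h φ ψ hc P₁ E).liftBaseChange B) ((theta h φ ψ hc P₂ E).liftBaseChange B)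
    ((theta h φ ψ hc P₃ E).liftBaseChange B) ((theta h φ ψ hc P₄ E).liftBaseChange B)
    ((theta h φ ψ hc P₅ E).liftBaseChange B)
    (lift_pre h φ ψ hc q₁) (lift_pre h φ ψ hc q₂) (lift_pre h φ ψ hc q₃) (lift_pre h φ ψ hc q₄)
    (Module.Flat.lTensor_exact (R := A) B e₁) (Module.Flat.lTensor_exact (R := A) B e₂)
    (Module.Flat.lTensor_exact (R := A) B e₃) d₁ d₂ d₃ h₁.2 h₂ h₄ h₅.1

/-- Exactness upstairs, from a triangle downstairs. -/
lemma exact_preT_map {T : Triangle (DCoh.D S)} (hT : T ∈ distTriang _) (E : DCoh.D S') :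
    Function.Exact (preT (A := A) ψ ((pullD h).map T.mor₂) E) (preT (A := A) ψ ((pullD h).map T.mor₁) E) :=
  exact_preT ψ (T := (pullD h).mapTriangle.obj T) ((pullD h).map_distinguished T hT) E

/-- The five lemma. -/
theorem Good.of_triangle [Module.Flat A B] {T : Triangle (DCoh.D S)} (hT : T ∈ distTriang _) {E : DCoh.D S}
    (h₁ : Good h φ ψ hc T.obj₁ E) (h₁' : Good h φ ψ hc (T.obj₁⟦(1 : ℤ)⟧) E)
    (h₃ : Good h φ ψ hc T.obj₃ E) (h₃' : Good h φ ψ hc (T.obj₃⟦(-1 : ℤ)⟧) E) :
    Good h φ ψ hc T.obj₂ E :=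
  Good.of_sequence h φ ψ hc (E := E) T.mor₃ T.mor₂ T.mor₁ T.invRotate.mor₁
    (exact_preR φ (rot_of_distTriang T hT) E) (exact_preR φ hT E)
    (exact_preR φ (inv_rot_of_distTriang T hT) E)
    (exact_preT_map h ψ (rot_of_distTriang T hT) _) (exact_preT_map h ψ hT _)
    (exact_preT_map h ψ (inv_rot_of_distTriang T hT) _) h₁' h₃ h₁ h₃'

/-- The datum of the whole schemes. -/
noncomputable def topDatum : FlatBC.Datum A B h where
  W := ⊤
  W' := ⊤
  hle := le_top
  φ := φ
  ψ := ψ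
  compat a := by
    rw [← hc]
    simp [Scheme.Hom.appLE, Scheme.Hom.appTop]

lemma mu_pt (r : Γ(S, ⊤)) (k : ℤ) : mu r (pt (⊤ : S.Opens) k) = ptMul k r := by
  rw [mu_single, ptMul]
  congr 1
  refine (secEq ⊤ _).injective ?_
  rw [secEq_eq, mulMod_app, sMul, Equiv.apply_symm_apply]
  congr 1
  exact (ConcreteCategory.congr_hom (S.presheaf.map_id _) r)

variable [IsAffine S] [IsAffine S']

lemma isIso_iota_top (k : ℤ) : IsIso (iota h (W := (⊤ : S.Opens)) (W' := (⊤ : S'.Opens)) le_top k) := by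
  haveI := AffineLift.isEquivalence_rho (𝟙 S')
  haveI := isIso_rho_iota h (W := (⊤ : S.Opens)) (W' := (⊤ : S'.Opens)) le_top (𝟙 S') (by simp) k
  exact isIso_of_reflects_iso _ (rho (𝟙 S'))

lemma el_smul (r : Γ(S, ⊤)) {k : ℤ} {E : DCoh.D S} (t : pt (⊤ : S.Opens) k ⟶ E) : el (r • t) = r • el t := by
  rw [← el_ptMul, ← mu_pt]
  simp [mu]

/-- `el` as an additive map into `RSec`. -/
noncomputable def elR (k : ℤ) (E : DCoh.D S) :
    HomR φ (pt (⊤ : S.Opens) k) E →+ FlatBC.RSec φ (DCoh.HD E k) :=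
  elHom (⊤ : S.Opens) k E

lemma elR_smul (k : ℤ) (E : DCoh.D S) (a : A) (t : HomR φ (pt (⊤ : S.Opens) k) E) :
    elR φ k E (a • t) = a • elR φ k E t :=
  @el_smul S _ (φ a) k E (show pt (⊤ : S.Opens) k ⟶ E from t)

/-- `el` as a linear map into `RSec`. -/
noncomputable def elLin (k : ℤ) (E : DCoh.D S) :
    HomR φ (pt (⊤ : S.Opens) k) E →ₗ[A] FlatBC.RSec φ (DCoh.HD E k) :=
  { elR φ k E with map_smul' := elR_smul φ k E }

lemma elLin_bijective (k : ℤ) {E : DCoh.D S} (hE : DCoh.IsQCohD E) : Function.Bijective (elLin φ k E) :=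
  el_bijective (isAffineOpen_top S) k hE

/-- `el` as a linear equivalence. -/
noncomputable def elEquiv (k : ℤ) {E : DCoh.D S} (hE : DCoh.IsQCohD E) :
    HomR φ (pt (⊤ : S.Opens) k) E ≃ₗ[A] FlatBC.RSec φ (DCoh.HD E k) :=
  LinearEquiv.ofBijective (elLin φ k E) (elLin_bijective φ k hE)

lemma el_iota_theta (k : ℤ) {E : DCoh.D S} (hE : DCoh.IsQCohD E) (b : B)
    (t : pt (⊤ : S.Opens) k ⟶ E) :
    el (iota h (W := (⊤ : S.Opens)) (W' := (⊤ : S'.Opens)) le_top k ≫ (ψ b • (pullD h).map t)) =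
      bcHom (topDatum h φ ψ hc) k E (b ⊗ₜ elEquiv φ k hE t) := by
  refine Eq.trans ?_ (bcHom_tmul (topDatum h φ ψ hc) k b t).symm
  change _ = el (ptMul k (ψ b) ≫ iota h (W := (⊤ : S.Opens)) (W' := (⊤ : S'.Opens)) le_top k ≫
    (pullD h).map t)
  rw [← mu_pt, Linear.comp_smul]
  simp [mu]

/-- The base case. -/
theorem good_pt (hBC : FlatBC.IsBC (topDatum h φ ψ hc)) (k : ℤ) {E : DCoh.D S} (hE : DCoh.IsQCohD E) :
    Good h φ ψ hc (pt (⊤ : S.Opens) k) E := by
  haveI := isIso_iota_top h k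
  let out : HomT A ψ ((pullD h).obj (pt (⊤ : S.Opens) k)) ((pullD h).obj E) →
      FlatBC.TSec A ψ (DCoh.HD ((pullD h).obj E) k) := fun y =>
    el (iota h (W := (⊤ : S.Opens)) (W' := (⊤ : S'.Opens)) le_top k ≫
      (show (pullD h).obj (pt (⊤ : S.Opens) k) ⟶ (pullD h).obj E from y))
  have hout : Function.Bijective out :=
    (el_bijective (isAffineOpen_top S') k (isQCohD_pullD h hE)).comp
      ⟨fun a b => (cancel_epi _).1, fun y => ⟨(inv (iota h (W := (⊤ : S.Opens)) (W' := (⊤ : S'.Opens))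
        le_top k) ≫ y : (pullD h).obj (pt (⊤ : S.Opens) k) ⟶ (pullD h).obj E), IsIso.hom_inv_id_assoc _ _⟩⟩
  let e := LinearEquiv.baseChange A B _ _ (elEquiv φ k hE)
  let th := (theta h φ ψ hc (pt (⊤ : S.Opens) k) E).liftBaseChange B
  have key : ∀ z, out (th z) = bcHom (topDatum h φ ψ hc) k E (e z) := fun z => by
    induction z using TensorProduct.induction_on with
    | zero =>
      rw [map_zero, map_zero]
      refine Eq.trans ?_ (map_zero _).symm
      exact (congrArg el comp_zero).trans (el_zero _ _ _)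
    | tmul b t => exact el_iota_theta h φ ψ hc k hE b t
    | add p q hp hq =>
      rw [map_add, map_add, map_add, ← hp, ← hq]
      exact (congrArg el (Preadditive.comp_add _ _ _ _ _ _)).trans (el_add _ _)
  refine (Function.Bijective.of_comp_iff' hout th).1 ?_
  rw [show out ∘ th = bcHom (topDatum h φ ψ hc) k E ∘ e from funext key]
  exact (bcHom_bijective (topDatum h φ ψ hc) k hE hBC).comp e.bijective

/-- The predicate on `D(A)` transported to `S`. -/
theorem good_of_locSP [Module.Flat A B] (hBC : FlatBC.IsBC (topDatum h φ ψ hc)) {P : DCoh.D S} (hP : LocSP P)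
    {E : DCoh.D S} (hE : DCoh.IsQCohD E) : Good h φ ψ hc P E := by
  let R := Γ(S, ⊤)
  let g : S ⟶ Spec R := S.isoSpec.hom
  let g' : Spec R ⟶ S := S.isoSpec.inv
  haveI : PreservesFiniteLimits (tilde.functor R) := QCoh.tilde_preservesFiniteLimits
  haveI := hasLTen (R : Type u)
  let F := DCoh.tildeD R ⋙ rho g
  haveI := AffineLift.isEquivalence_rho g
  obtain ⟨M, ⟨eM⟩⟩ := exists_tildeD_iso (R := R) (AffineLift.isQCohD_of_locSP (hP.restrict' g'))
  have hM : DRing.IsPerfect (R : Type u) M :=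
    (perfect_tildeD_iff (R := R) M).1 ((isPerfect_iff _).2 ((hP.restrict' g').of_iso eM.symm))
  have hF : ∀ n : ℤ, Good h φ ψ hc ((F.obj M)⟦n⟧) E := by
    refine perfect_induction (fun M => ∀ n : ℤ, Good h φ ψ hc ((F.obj M)⟦n⟧) E) ?_ ?_ ?_ ?_ hM
    · intro K K' e hK n
      exact (hK n).of_iso h φ ψ hc ((shiftFunctor _ n).mapIso (F.mapIso e))
    · intro T hT h₁ h₃ n
      let T' := (Triangle.shiftFunctor (DCoh.D S) n).obj (F.mapTriangle.obj T)
      have hT' : T' ∈ distTriang _ :=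
        Triangle.shift_distinguished _ (F.map_distinguished T hT) n
      exact Good.of_triangle h φ ψ hc (T := T') hT' (h₁ n)
        ((h₁ (n + 1)).of_iso h φ ψ hc ((shiftFunctorAdd (DCoh.D S) n 1).app _))
        (h₃ n) ((h₃ (n + -1)).of_iso h φ ψ hc ((shiftFunctorAdd (DCoh.D S) n (-1)).app _))
    · intro K K' i r hir hK n
      exact (hK n).of_retract h φ ψ hc ((F.map i)⟦n⟧') ((F.map r)⟦n⟧')
        (by rw [← Functor.map_comp, ← Functor.map_comp, hir, CategoryTheory.Functor.map_id,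
          CategoryTheory.Functor.map_id])
    · intro m n
      let Rm : ModuleCat.{u} R := ModuleCat.of R R
      let eT : (tilde.functor R).obj Rm ≅ secObj (⊤ : (Spec R).Opens) :=
        { hom := (tildeREquiv _).symm (SecPoint.gen (⊤ : (Spec R).Opens))
          inv := (secEq (⊤ : (Spec R).Opens) _).symm (tildeREquiv _ (𝟙 _))
          hom_inv_id := (tildeREquiv _).injective (by
            rw [tildeREquiv_naturality, Equiv.apply_symm_apply, ← secEq_eq, Equiv.apply_symm_apply]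
            rfl)
          inv_hom_id := (secEq ⊤ _).injective (by
            rw [secEq_comp, Equiv.apply_symm_apply, ← tildeREquiv_naturality]
            erw [Category.id_comp]
            exact (tildeREquiv _).apply_symm_apply _) }
      obtain ⟨eS⟩ := nonempty_pullback_secObj g (⊤ : (Spec R).Opens)
      let eM' : (Scheme.Modules.restrictFunctor g).obj ((tilde.functor R).obj Rm) ≅
          secObj (⊤ : S.Opens) :=
        (Scheme.Modules.restrictFunctor g).mapIso eT ≪≫
          (Scheme.Modules.restrictFunctorIsoPullback g).app _ ≪≫ eS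
      let iU : DTen.unit (R : Type u) ≅ (DerivedCategory.singleFunctor (ModuleCat.{u} R) 0).obj Rm :=
        ((DerivedCategory.singleFunctorIsoCompQ (ModuleCat.{u} R) 0).app Rm).symm
      let eU : F.obj (DTen.unit (R : Type u)) ≅ pt (⊤ : S.Opens) 0 :=
        F.mapIso iU ≪≫ (rho g).mapIso (((tilde.functor R).mapDerivedCategorySingleFunctor 0).app Rm) ≪≫
          ((Scheme.Modules.restrictFunctor g).mapDerivedCategorySingleFunctor 0).app _ ≪≫
          (DerivedCategory.singleFunctor S.Modules 0).mapIso eM'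
      refine (good_pt h φ ψ hc hBC (-(m + n)) hE).of_iso h φ ψ hc (Iso.symm ?_)
      exact (shiftFunctor _ n).mapIso ((F.commShiftIso m).app _ ≪≫ (shiftFunctor _ m).mapIso eU) ≪≫
        ((shiftFunctorAdd (DCoh.D S) m n).app _).symm ≪≫
        ((DerivedCategory.singleFunctors S.Modules).shiftIso (m + n) (-(m + n)) 0 (by omega)).app _
  obtain ⟨r₁⟩ := AffineLift.nonempty_rhoCompNat g g' (g ≫ g') rfl
  obtain ⟨r₂⟩ := AffineLift.nonempty_rho_id (g ≫ g') (by simp [g, g'])
  exact (hF 0).of_iso h φ ψ hc ((shiftFunctorZero (DCoh.D S) ℤ).app _ ≪≫ (rho g).mapIso eM ≪≫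
    r₁.app P ≪≫ r₂.app P)

/-- The pseudo-coherent case. -/
theorem good_of_locPC [Module.Flat A B] (hBC : FlatBC.IsBC (topDatum h φ ψ hc)) {P : DCoh.D S} (hq : DCoh.IsQCohD P)
    (hP : ∀ m, LocPC m P) {E : DCoh.D S} (hE : DCoh.IsQCohD E) (c : ℤ) [E.IsGE c] :
    Good h φ ψ hc P E := by
  let R := Γ(S, ⊤)
  let g : S ⟶ Spec R := S.isoSpec.hom
  let g' : Spec R ⟶ S := S.isoSpec.inv
  haveI : PreservesFiniteLimits (tilde.functor R) := QCoh.tilde_preservesFiniteLimits
  let T : DCoh.D S ⥤ DCoh.D (Spec R) := rho g'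
  obtain ⟨M, ⟨eM⟩⟩ := exists_tildeD_iso (R := R) (isQCohD_rho g' hq)
  let m : ℤ := c - 1
  have hPC : LocPC m ((DCoh.tildeD R).obj M) := LocPC.of_iso eM.symm ((hP m).restrict g')
  obtain ⟨b, hb⟩ := exists_bound_of_locPC hPC
  have hMb : ∀ i, m + (b + 1 - m).toNat ≤ i →
      IsZero ((DerivedCategory.homologyFunctor (ModuleCat.{u} R) i).obj M) := fun i hi => by
    haveI := (tilde.fullyFaithfulFunctor (R := R)).faithful
    have hz := (hb i (by omega)).of_iso ((mapDCHomologyIso (tilde.functor R) i).app M).symm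
    exact (IsZero.iff_id_eq_zero _).2 ((tilde.functor R).map_injective (hz.eq_of_src _ _))
  obtain ⟨E₀, α, hE₀, hα⟩ := rpc_of_locPC m (b + 1 - m).toNat M hMb hPC
  let M₀ := DerivedCategory.Q.obj E₀
  have hM₀ : LocSP ((DCoh.tildeD R).obj M₀) :=
    locSP_of_rperf ⟨E₀, hE₀.1.choose, hE₀.1.choose_spec.choose, hE₀.1.choose_spec.choose_spec,
      fun i => ⟨(hE₀.2 i).1, haveI := (hE₀.2 i).2; Module.Projective.of_free⟩, ⟨Iso.refl _⟩⟩
  obtain ⟨C, v, w, hT⟩ := distinguished_cocone_triangle α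
  have hC : ∀ i, m ≤ i → IsZero ((DerivedCategory.homologyFunctor (ModuleCat.{u} R) i).obj C) := fun i hi => by
    let H := DerivedCategory.homologyFunctor (ModuleCat.{u} R)
    haveI : Epi ((H i).map α) := by
      rcases eq_or_lt_of_le hi with h' | h'
      · subst h'; exact hα.2
      · haveI := hα.1 i h'; infer_instance
    haveI : IsIso ((H (i + 1)).map α) := hα.1 (i + 1) (by omega)
    have h2 : (H i).map v = 0 := (cancel_epi ((H i).map α)).1 (by
      rw [← Functor.map_comp, comp_zero]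
      exact (congrArg (H i).map (comp_distTriang_mor_zero₁₂ _ hT)).trans (Functor.map_zero _ _ _))
    have h4 : DerivedCategory.HomologySequence.δ (Triangle.mk α v w) i (i + 1) rfl = 0 :=
      (cancel_mono ((H (i + 1)).map α)).1
        ((DerivedCategory.HomologySequence.δ_comp _ hT i (i + 1) rfl).trans zero_comp.symm)
    exact (DerivedCategory.HomologySequence.exact₃ _ hT i (i + 1) rfl).isZero_of_both_zeros h2 h4
  obtain ⟨r₁⟩ := AffineLift.nonempty_rhoCompNat g g' (g ≫ g') rfl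
  obtain ⟨r₂⟩ := AffineLift.nonempty_rho_id (g ≫ g') (by simp [g, g'])
  let F := DCoh.tildeD R ⋙ rho g
  let eP : F.obj M ≅ P := (rho g).mapIso eM ≪≫ r₁.app P ≪≫ r₂.app P
  refine Good.of_iso h φ ψ hc eP ?_
  have hQ : Good h φ ψ hc (F.obj M₀) E := good_of_locSP h φ ψ hc hBC (hM₀.restrict' g) hE
  let T₁ := F.mapTriangle.obj (Triangle.mk α v w)
  have hT₁ : T₁ ∈ distTriang _ := F.map_distinguished _ hT
  have hC₁ : (T₁.obj₃).IsLE (c - 2) := (DerivedCategory.isLE_iff _ _).2 fun i hi =>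
    (((Scheme.Modules.restrictFunctor g).map_isZero
      (((tilde.functor R).map_isZero (hC i (by omega))).of_iso
        ((mapDCHomologyIso (tilde.functor R) i).app C))).of_iso
      (restrictHDIso g ((DCoh.tildeD R).obj C) i))
  have hC₂ : ((pullD h).obj T₁.obj₃).IsLE (c - 2) := (DerivedCategory.isLE_iff _ _).2 fun i hi =>
    ((Scheme.Modules.pullback h).map_isZero (DerivedCategory.isZero_of_isLE T₁.obj₃ (c - 2) i hi)).of_iso
      ((mapDCHomologyIso (Scheme.Modules.pullback h) i).app _)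
  haveI hE₂ : ((pullD h).obj E).IsGE c := (DerivedCategory.isGE_iff _ _).2 fun i hi =>
    ((Scheme.Modules.pullback h).map_isZero (DerivedCategory.isZero_of_isGE E c i hi)).of_iso
      ((mapDCHomologyIso (Scheme.Modules.pullback h) i).app _)
  have vanish : ∀ {Z : Scheme.{u}} (U : Triangle (DCoh.D Z)), U ∈ distTriang _ → U.obj₃.IsLE (c - 2) →
      ∀ (G : DCoh.D Z), G.IsGE c → Function.Bijective (fun t : U.obj₂ ⟶ G => U.mor₁ ≫ t) := by
    intro Z U hU hL G hG
    let t' : Triangulated.TStructure (DCoh.D Z) := DerivedCategory.TStructure.t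
    haveI : t'.IsLE U.obj₃ (c - 2) := ⟨hL.1⟩
    haveI : t'.IsGE G c := ⟨hG.1⟩
    haveI : t'.IsLE (U.obj₃⟦(-1 : ℤ)⟧) (c - 1) := t'.isLE_shift U.obj₃ (c - 2) (-1) (c - 1) (by omega)
    refine ⟨fun x y hxy => sub_eq_zero.1 ?_, fun y => ?_⟩
    · obtain ⟨s, hs⟩ := Triangle.yoneda_exact₂ U hU (x - y)
        (by rw [Preadditive.comp_sub]; exact sub_eq_zero.2 hxy)
      rw [hs, t'.zero s (c - 2) c (by omega), comp_zero]
    · obtain ⟨s, hs⟩ := Triangle.yoneda_exact₂ U.invRotate (inv_rot_of_distTriang U hU) y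
        (by
          haveI : t'.IsLE U.invRotate.obj₁ (c - 1) :=
            (inferInstance : t'.IsLE (U.obj₃⟦(-1 : ℤ)⟧) (c - 1))
          exact t'.zero _ (c - 1) c (by omega))
      exact ⟨s, hs.symm⟩
  have hpR : Function.Bijective (preR φ T₁.mor₁ E) := vanish T₁ hT₁ hC₁ E inferInstance
  have hpT : Function.Bijective (preT (A := A) ψ ((pullD h).map T₁.mor₁) ((pullD h).obj E)) :=
    vanish ((pullD h).mapTriangle.obj T₁) ((pullD h).map_distinguished _ hT₁) hC₂ _ hE₂
  have hh := lift_pre h φ ψ hc (E := E) T₁.mor₁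
  refine (Function.Bijective.of_comp_iff' hpT _).1 ?_
  have hfun : (preT (A := A) ψ ((pullD h).map T₁.mor₁) ((pullD h).obj E)) ∘
      ((theta h φ ψ hc T₁.obj₂ E).liftBaseChange B) =
      ((theta h φ ψ hc T₁.obj₁ E).liftBaseChange B) ∘ ((preR φ T₁.mor₁ E).baseChange B) :=
    funext fun z => LinearMap.congr_fun hh z
  exact hfun ▸ hQ.comp (LinearEquiv.baseChange A B _ _ (LinearEquiv.ofBijective (preR φ T₁.mor₁ E) hpR)).bijective

end Groth.Agent.KFlatLib.AffineHomBC
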