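import Groth.Agent.KFlatLib.Ring.TorsionApprox
import Groth.Agent.KFlatLib.Scheme.AffineLift
import Groth.Agent.KFlatLib.Scheme.TildePC

/-!
# Approximation by perfect objects with supports on affine schemes
-/

set_option linter.style.haveILetI false
set_option backward.isDefEq.respectTransparency false

universe u

open CategoryTheory CategoryTheory.Limits AlgebraicGeometry Pretriangulated

attribute [local instance] HasDerivedCategory.standard

namespace Groth.Agent.KFlatLib.Approx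

variable {A : Type u} [CommRing A]

/-- Torsion in a degree from the supports in that degree. -/
lemma torsion_of_support [PreservesFiniteLimits (tilde.functor (CommRingCat.of A))] (fs : List A)
    (M : Dual.D A) (i : ℤ) (T : Set (Spec (CommRingCat.of A)))
    (hT : ∀ p ∈ T, ∀ f ∈ fs, f ∈ (p : PrimeSpectrum A).asIdeal)
    (hs : CohB1.support (DCoh.HD (KoszulOrth.tld M) i) ⊆ T) :
    ∀ f ∈ fs, ∀ x : Dual.HD A M i, ∃ k : ℕ, f ^ k • x = 0 := by
  intro f hf x
  let I : Ideal A := LinearMap.ker (LinearMap.toSpanSingleton A (Dual.HD A M i) x)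
  suffices f ∈ I.radical by
    obtain ⟨k, hk⟩ := this
    exact ⟨k, LinearMap.mem_ker.1 hk⟩
  rw [Ideal.radical_eq_sInf, Submodule.mem_sInf]
  rintro P ⟨hIP, hP⟩
  by_contra hfP
  let p : Spec (CommRingCat.of A) := (⟨P, hP⟩ : PrimeSpectrum A)
  have hn : ¬ Nontrivial (LocalizedModule p.asIdeal.primeCompl (Dual.HD A M i)) := fun h =>
    hfP (hT p (hs (not_subsingleton_iff_nontrivial.2 ((KoszulOrth.nontrivial_stalk_tld M i p).2 h))) f hf)
  obtain ⟨r, hr, hrx⟩ := LocalizedModule.subsingleton_iff.1 (not_nontrivial_iff_subsingleton.1 hn) x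
  exact hr (hIP (LinearMap.mem_ker.2 hrx))

/-- Ring pseudo-coherence from the geometric one. -/
lemma isPseudoCoherent_of_tld [PreservesFiniteLimits (tilde.functor (CommRingCat.of A))] {m : ℤ}
    {M : Dual.D A} (h : DCoh.IsPseudoCoherentD m (KoszulOrth.tld M)) : DRing.IsPseudoCoherent A m M := by
  obtain ⟨E, α, ⟨⟨a, b, hb⟩, hfree⟩, hα⟩ :=
    (pseudoCoherentD_tildeD_iff (R := CommRingCat.of A) m M).1 h
  exact ⟨E, a, b, α, hb, hfree, hα.1, hα.2⟩

/-- Approximation on a spectrum, with the number of equations of the complement as bound. -/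
theorem exists_approx_spec (fs : List A) (m : ℤ) (E : DCoh.D (Spec (CommRingCat.of A)))
    (hE : DCoh.IsQCohD E) (hpc : DCoh.IsPseudoCoherentD m E)
    (hs : ∀ i, m + 1 - fs.length ≤ i → CohB1.support (DCoh.HD E i) ⊆
      (KoszulOrth.pU fs : Set (Spec (CommRingCat.of A)))ᶜ) :
    ∃ (P : DCoh.D (Spec (CommRingCat.of A))) (α : P ⟶ E), LocSP P ∧
      IsZero ((rho (KoszulOrth.pU fs).ι).obj P) ∧ IsPcMap m α := by
  haveI : PreservesFiniteLimits (tilde.functor (CommRingCat.of A)) := QCoh.tilde_preservesFiniteLimits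
  haveI : PreservesFiniteColimits (tilde.functor (CommRingCat.of A)) := QCoh.tilde_preservesFiniteColimits
  haveI : (tilde.functor (CommRingCat.of A)).Additive := tilde_additive _
  obtain ⟨M, ⟨eM⟩⟩ := exists_tildeD_iso (R := CommRingCat.of A) hE
  have ht : TorsionApprox.WinTors fs M (m + 1 - fs.length) := fun i hi =>
    torsion_of_support fs M i ((KoszulOrth.pU fs : Set (Spec (CommRingCat.of A)))ᶜ)
      (fun p hp f hf => by_contra fun h => hp ((KoszulOrth.mem_pU_iff fs p).2 ⟨f, hf, h⟩))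
      fun x hx => hs i hi fun h => hx (@Equiv.subsingleton _ _
        ((Scheme.Modules.toPresheaf _ ⋙ TopCat.Presheaf.stalkFunctor AddCommGrpCat.{u} x).mapIso
          ((DerivedCategory.homologyFunctor _ i).mapIso eM.symm)).addCommGroupIsoToAddEquiv.symm.toEquiv h)
  have hM : DRing.IsPseudoCoherent A m M := isPseudoCoherent_of_tld
    ((isPseudoCoherentD_iff _ _).2 (((isPseudoCoherentD_iff _ _).1 hpc).of_iso eM.symm))
  obtain ⟨P, α, hP, hk, hiso, hepi⟩ := TorsionApprox.exists_approx fs m M hM ht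
  refine ⟨KoszulOrth.tld P, (DCoh.tildeD (CommRingCat.of A)).map α ≫ eM.hom,
    (isPerfect_iff _).1 ((perfect_tildeD_iff (R := CommRingCat.of A) P).2 hP),
    KoszulOrth.isZero_restrictD_tld (KoszulOrth.pU fs) fs P
      (fun p hp => (KoszulOrth.mem_pU_iff fs p).1 hp)
      (fun i f hf x => TorsionFactor.torsion_of_pow_smul_id f (hk f hf) i x), ?_⟩
  have h0 : IsPcMap m α := ⟨hiso, hepi⟩
  exact (h0.map_exact (tilde.functor (CommRingCat.of A))).comp (isPcMap_of_isIso m eM.hom)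

variable {X : Scheme.{u}}

/-- Approximation on an affine scheme. -/
theorem exists_approx_affine_of_list [IsAffine X] (fs : List Γ(X, ⊤)) (O : X.Opens)
    (hO : (X.isoSpec.inv ⁻¹ᵁ O) = KoszulOrth.pU (A := Γ(X, ⊤)) fs) (m : ℤ) (E : DCoh.D X)
    (hE : DCoh.IsQCohD E) (hpc : DCoh.IsPseudoCoherentD m E)
    (hs : ∀ i, m + 1 - fs.length ≤ i → CohB1.support (DCoh.HD E i) ⊆ (O : Set X)ᶜ) :
    ∃ (P : DCoh.D X) (α : P ⟶ E), LocSP P ∧ IsZero ((rho O.ι).obj P) ∧ IsPcMap m α := by
  let g : Spec (CommRingCat.of Γ(X, ⊤)) ⟶ X := X.isoSpec.inv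
  obtain ⟨P₀, α₀, hP₀, hz₀, hα₀⟩ := exists_approx_spec (A := Γ(X, ⊤)) fs m ((rho g).obj E)
    (isQCohD_rho g hE) ((isPseudoCoherentD_iff _ _).2 (((isPseudoCoherentD_iff _ _).1 hpc).restrict g))
    (fun i hi x hx hxO => by
      refine hs i hi (show g.base x ∈ CohB1.support (DCoh.HD E i) from fun h => hx ?_) ?_
      · haveI : Subsingleton (((Scheme.Modules.restrictFunctor g).obj (DCoh.HD E i)).presheaf.stalk x) :=
          @Equiv.subsingleton _ _
            ((Scheme.Modules.restrictStalkNatIso g x).app (DCoh.HD E i)).addCommGroupIsoToAddEquiv.toEquiv h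
        exact @Equiv.subsingleton _ _
          ((Scheme.Modules.toPresheaf _ ⋙ TopCat.Presheaf.stalkFunctor AddCommGrpCat.{u} x).mapIso
            (restrictHDIso g E i)).addCommGroupIsoToAddEquiv.toEquiv this
      · have : x ∈ g ⁻¹ᵁ O := hO ▸ hxO
        exact this)
  haveI := AffineLift.isEquivalence_rho g
  let P := (rho g).objPreimage P₀
  let e : (rho g).obj P ≅ P₀ := (rho g).objObjPreimageIso _
  obtain ⟨α, hα⟩ := (rho g).map_surjective (e.hom ≫ α₀)
  refine ⟨P, α, ?_, ?_, ?_⟩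
  · intro x
    obtain ⟨W, j, hj, ⟨w, hw⟩, Q, hQ, ⟨eQ⟩⟩ := (hP₀.of_iso e.symm) (X.isoSpec.hom.base x)
    refine ⟨W, j ≫ g, inferInstance, ⟨w, ?_⟩, Q, hQ, ⟨eQ ≪≫ rhoComp j g (j ≫ g) rfl P⟩⟩
    show g.base (j.base w) = x
    rw [hw]
    exact congrArg (fun f : X ⟶ X => f.base x) X.isoSpec.hom_inv_id
  · refine (AffineLift.isZero_rho_preimage_iff g O P).1 ?_
    rw [hO]
    exact hz₀.of_iso ((rho _).mapIso e)
  · obtain ⟨a⟩ := AffineLift.nonempty_rhoCompNat X.isoSpec.hom g (𝟙 X) X.isoSpec.hom_inv_id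
    obtain ⟨c⟩ := AffineLift.nonempty_rho_id (𝟙 X) rfl
    have h : IsPcMap m ((rho X.isoSpec.hom).map ((rho g).map α)) := by
      rw [hα]
      exact ((isPcMap_of_isIso m e.hom).comp hα₀).map_exact _
    have hn : α = (a ≪≫ c).inv.app P ≫ (rho X.isoSpec.hom).map ((rho g).map α) ≫ (a ≪≫ c).hom.app E := by
      have h1 := (a ≪≫ c).hom.naturality α
      simp only [Functor.comp_map, Functor.id_map] at h1
      rw [h1, Iso.inv_hom_id_app_assoc]
    rw [hn]
    exact h.comp_iso _ _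

/-- A list of equations for the complement of a quasi-compact open. -/
lemma exists_list_affine [IsAffine X] (O : X.Opens) (hO : IsCompact (O : Set X)) :
    ∃ fs : List Γ(X, ⊤), (X.isoSpec.inv ⁻¹ᵁ O) = KoszulOrth.pU (A := Γ(X, ⊤)) fs :=
  AffineLift.exists_list (A := Γ(X, ⊤)) _ ((Scheme.homeoOfIso X.isoSpec.symm).isCompact_preimage.2 hO)

/-- Approximation on an affine scheme, with some bound. -/
theorem exists_approx_affine [IsAffine X] (O : X.Opens) (hO : IsCompact (O : Set X)) :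
    ∃ r : ℕ, ∀ (m : ℤ) (E : DCoh.D X), DCoh.IsQCohD E → DCoh.IsPseudoCoherentD m E →
      (∀ i, m - r ≤ i → CohB1.support (DCoh.HD E i) ⊆ (O : Set X)ᶜ) →
      ∃ (P : DCoh.D X) (α : P ⟶ E), LocSP P ∧ IsZero ((rho O.ι).obj P) ∧ IsPcMap m α := by
  obtain ⟨fs, hfs⟩ := exists_list_affine O hO
  exact ⟨fs.length, fun m E hE hpc hs =>
    exists_approx_affine_of_list fs O hfs m E hE hpc fun i hi => hs i (by omega)⟩

end Groth.Agent.KFlatLib.Approx
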