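import Groth.Agent.KFlatLib.Scheme.PerfectLift

/-!
# Extending `F ⊕ F[n]`, `n` odd, from quasi-compact opens of affine schemes
-/

set_option linter.style.haveILetI false
set_option backward.isDefEq.respectTransparency false

universe w v u

open CategoryTheory CategoryTheory.Limits AlgebraicGeometry Pretriangulated TopologicalSpace ZeroObject

attribute [local instance] HasDerivedCategory.standard

namespace Groth.Agent.KFlatLib.ExtendOdd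

section Cone

variable {C : Type w} [Category.{v} C] [Preadditive C] [HasZeroObject C] [HasShift C ℤ]
  [∀ n : ℤ, (shiftFunctor C n).Additive] [Pretriangulated C] [IsTriangulated C] [HasBinaryBiproducts C]

/-- The cone of a map between sums identifying a common summand. -/
theorem nonempty_cone_fst_inr {F A B Z : C} (u : F ⊞ A ⟶ Z) (v : Z ⟶ (A ⊞ B)⟦(1 : ℤ)⟧)
    (hT : Triangle.mk ((biprod.fst : A ⊞ B ⟶ A) ≫ (biprod.inr : A ⟶ F ⊞ A)) u v ∈ distTriang C) :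
    Nonempty (Z ≅ F ⊞ B⟦(1 : ℤ)⟧) := by
  have h₁ : Triangle.mk (biprod.inr : B ⟶ A ⊞ B) (biprod.fst : A ⊞ B ⟶ A) 0 ∈ distTriang C :=
    isomorphic_distinguished _ (binaryBiproductTriangle_distinguished B A) _
      (Triangle.isoMk _ _ (Iso.refl _) (biprod.braiding A B) (Iso.refl _)
        (show (biprod.inr : B ⟶ A ⊞ B) ≫ (biprod.braiding A B).hom = 𝟙 B ≫ biprod.inl by
          apply biprod.hom_ext <;> simp)
        (show (biprod.fst : A ⊞ B ⟶ A) ≫ 𝟙 A = (biprod.braiding A B).hom ≫ biprod.snd by simp)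
        (by simp [binaryBiproductTriangle]))
  have h₂ : Triangle.mk (biprod.inr : A ⟶ F ⊞ A) (biprod.fst : F ⊞ A ⟶ F) 0 ∈ distTriang C :=
    isomorphic_distinguished _ (binaryBiproductTriangle_distinguished A F) _
      (Triangle.isoMk _ _ (Iso.refl _) (biprod.braiding F A) (Iso.refl _)
        (show (biprod.inr : A ⟶ F ⊞ A) ≫ (biprod.braiding F A).hom = 𝟙 A ≫ biprod.inl by
          apply biprod.hom_ext <;> simp)
        (show (biprod.fst : F ⊞ A ⟶ F) ≫ 𝟙 F = (biprod.braiding F A).hom ≫ biprod.snd by simp)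
        (by simp [binaryBiproductTriangle]))
  let h := Triangulated.someOctahedron (rfl : (biprod.fst : A ⊞ B ⟶ A) ≫ (biprod.inr : A ⟶ F ⊞ A) = _)
    (rot_of_distTriang _ h₁) h₂ hT
  have h0 : h.triangle.mor₃ = 0 := by
    show (0 : F ⟶ A⟦(1 : ℤ)⟧) ≫ _ = 0
    exact zero_comp
  obtain ⟨e, -, -⟩ := exists_iso_binaryBiproduct_of_distTriang _ h.mem h0
  exact ⟨e ≪≫ biprod.braiding (B⟦(1 : ℤ)⟧) F⟩

end Cone

variable {X : Scheme.{u}}

/-- `F ⊕ F[n]` extends from a quasi-compact open of an affine scheme, for odd `n`. -/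
theorem exists_odd [IsAffine X] (O : X.Opens) (hO : IsCompact (O : Set X))
    (F : DCoh.D (O : Scheme.{u})) (hF : LocSP F) :
    ∀ j : ℕ, ∃ R : DCoh.D X, LocSP R ∧ Nonempty ((rho O.ι).obj R ≅ F ⊞ F⟦(2 * (j : ℤ) + 1)⟧) := by
  intro j
  induction j with
  | zero => exact ExtendPerfect.exists_extend O hO F hF
  | succ j ih =>
    obtain ⟨R, hR, ⟨eR⟩⟩ := ih
    obtain ⟨R₁, hR₁, ⟨eR₁⟩⟩ := ExtendPerfect.exists_extend O hO F hF
    let n : ℤ := 2 * (j : ℤ) + 1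
    haveI := preservesBinaryBiproducts_of_preservesBiproducts (shiftFunctor (DCoh.D (O : Scheme.{u})) n)
    let eS : (rho O.ι).obj (R₁⟦n⟧) ≅ F⟦n⟧ ⊞ (F⟦(1 : ℤ)⟧)⟦n⟧ :=
      ((rho O.ι).commShiftIso n).app R₁ ≪≫ (shiftFunctor _ n).mapIso eR₁ ≪≫
        (shiftFunctor _ n).mapBiprod F (F⟦(1 : ℤ)⟧)
    let f := (biprod.fst : F⟦n⟧ ⊞ (F⟦(1 : ℤ)⟧)⟦n⟧ ⟶ F⟦n⟧) ≫ (biprod.inr : F⟦n⟧ ⟶ F ⊞ F⟦n⟧)
    obtain ⟨E₁, β, γ, hE₁, hβ, hγ⟩ := AffineLift.exists_lift O hO (hR₁.shift n)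
      (AffineLift.isQCohD_of_locSP hR) (eS.hom ≫ f ≫ eR.inv)
    obtain ⟨Z, u, v, hT⟩ := distinguished_cocone_triangle γ
    refine ⟨Z, (locSP_two_of_three _ hT).1 hE₁ hR, ?_⟩
    let T := (rho O.ι).mapTriangle.obj (Triangle.mk γ u v)
    let a₁ : F⟦n⟧ ⊞ (F⟦(1 : ℤ)⟧)⟦n⟧ ≅ (rho O.ι).obj E₁ :=
      eS.symm ≪≫ (@asIso _ _ _ _ ((rho O.ι).map β) hβ).symm
    have h₁ : a₁.hom ≫ (rho O.ι).map γ = f ≫ eR.inv := by
      simp only [a₁, Iso.trans_hom, Iso.symm_hom, asIso_inv, Category.assoc]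
      rw [← hγ, IsIso.inv_hom_id_assoc, eS.inv_hom_id_assoc]
    have hT' : Triangle.mk f (eR.inv ≫ T.mor₂) (T.mor₃ ≫ a₁.inv⟦(1 : ℤ)⟧') ∈ distTriang _ := by
      refine isomorphic_distinguished _ ((rho O.ι).map_distinguished _ hT) _
        (Triangle.isoMk _ _ a₁ eR.symm (Iso.refl _) ?_ ?_ ?_)
      · exact h₁.symm
      · exact Category.comp_id _
      · show (T.mor₃ ≫ a₁.inv⟦(1 : ℤ)⟧') ≫ a₁.hom⟦(1 : ℤ)⟧' = 𝟙 _ ≫ T.mor₃
        rw [Category.assoc, ← Functor.map_comp, a₁.inv_hom_id]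
        erw [CategoryTheory.Functor.map_id,
          Category.comp_id, Category.id_comp]
    obtain ⟨e⟩ := nonempty_cone_fst_inr _ _ hT'
    exact ⟨e ≪≫ biprod.mapIso (Iso.refl F)
      ((shiftFunctorAdd' (DCoh.D (O : Scheme.{u})) n 1 (n + 1) rfl).symm.app (F⟦(1 : ℤ)⟧) ≪≫
        (shiftFunctorAdd' (DCoh.D (O : Scheme.{u})) 1 (n + 1) (2 * ((j + 1 : ℕ) : ℤ) + 1)
          (by simp only [n]; push_cast; ring)).symm.app F)⟩

/-- The same, supported away from a second quasi-compact open. -/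
theorem exists_odd_supp [IsAffine X] (W O : X.Opens) (hW : IsCompact (W : Set X))
    (hO : IsCompact (O : Set X)) (F : DCoh.D (W : Scheme.{u})) (hF : LocSP F)
    (hz : IsZero ((rho (W.ι ⁻¹ᵁ O).ι).obj F)) (j : ℕ) :
    ∃ R : DCoh.D X, LocSP R ∧ IsZero ((rho O.ι).obj R) ∧
      Nonempty ((rho W.ι).obj R ≅ F ⊞ F⟦(2 * (j : ℤ) + 1)⟧) := by
  let n : ℤ := 2 * (j : ℤ) + 1
  let X₂ : X.Opens := W ⊔ O
  have hX₂ : IsCompact (X₂ : Set X) := hW.union hO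
  haveI : CompactSpace X₂ := isCompact_iff_compactSpace.1 hX₂
  haveI : QuasiSeparatedSpace X₂ := quasiSeparatedSpace_of_quasiSeparated X₂.ι
  let U' : (X₂ : Scheme.{u}).Opens := X₂.ι ⁻¹ᵁ W
  let O' : (X₂ : Scheme.{u}).Opens := X₂.ι ⁻¹ᵁ O
  let l : (U' : Scheme.{u}) ⟶ (W : Scheme.{u}) := X₂.ι ∣_ W
  haveI : IsIso l := PerfectLift.isIso_morphismRestrict_of_le W X₂ le_sup_left
  haveI := AffineLift.isEquivalence_rho l
  let w : (U' ⊓ O' : (X₂ : Scheme.{u}).Opens) ≤ U' := inf_le_left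
  have hz' : IsZero ((rho ((X₂ : Scheme.{u}).homOfLE w)).obj ((rho l).obj F)) := by
    have hr : Set.range ((X₂ : Scheme.{u}).homOfLE w ≫ l).base ⊆ Set.range (W.ι ⁻¹ᵁ O).ι.base := by
      rintro _ ⟨z, rfl⟩
      rw [Scheme.Opens.range_ι]
      show W.ι.base (((X₂ : Scheme.{u}).homOfLE w ≫ l).base z) ∈ O
      rw [← Scheme.Hom.comp_apply, Category.assoc, morphismRestrict_ι, Scheme.homOfLE_ι_assoc]
      exact z.2.2
    exact ((rho (IsOpenImmersion.lift (W.ι ⁻¹ᵁ O).ι ((X₂ : Scheme.{u}).homOfLE w ≫ l) hr)).map_isZero hz).of_iso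
      (rhoComp _ l _ rfl F ≪≫ (rhoComp (IsOpenImmersion.lift (W.ι ⁻¹ᵁ O).ι ((X₂ : Scheme.{u}).homOfLE w ≫ l) hr)
        (W.ι ⁻¹ᵁ O).ι _ (IsOpenImmersion.lift_fac _ _ _) F).symm)
  obtain ⟨R₂, e₂, -, hR₂, hR₂O, -⟩ := PerfectLift.exists_zero_extend U' O'
    (PerfectLift.isCompact_preimage W X₂ hW hX₂) (top_le_iff.1 fun y _ => y.2) ((rho l).obj F) (hF.restrict' l)
    hz' (E := 0) (AffineLift.isQCohD_of_locSP (locSP_of_isZero (isZero_zero _))) 0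
  obtain ⟨R, hR, ⟨eR⟩⟩ := exists_odd X₂ hX₂ R₂ hR₂ j
  haveI := preservesBinaryBiproducts_of_preservesBiproducts (rho U'.ι)
  haveI := preservesBinaryBiproducts_of_preservesBiproducts (rho l)
  haveI := preservesBinaryBiproducts_of_preservesBiproducts (rho O'.ι)
  refine ⟨R, hR, ?_, ⟨(rho l).preimageIso ?_⟩⟩
  · have h₂ : IsZero ((rho O'.ι).obj ((rho X₂.ι).obj R)) := by
      refine IsZero.of_iso ?_ ((rho O'.ι).mapIso eR ≪≫ (rho O'.ι).mapBiprod _ _)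
      rw [biprod_isZero_iff]
      exact ⟨hR₂O, ((shiftFunctor _ n).map_isZero hR₂O).of_iso (((rho O'.ι).commShiftIso n).app R₂)⟩
    haveI : IsIso (X₂.ι ∣_ O) := PerfectLift.isIso_morphismRestrict_of_le O X₂ le_sup_right
    haveI := AffineLift.isEquivalence_rho (X₂.ι ∣_ O)
    refine (IsZero.iff_id_eq_zero _).2 ((rho (X₂.ι ∣_ O)).map_injective ?_)
    refine IsZero.eq_of_src (h₂.of_iso ?_) _ _
    exact rhoComp (X₂.ι ∣_ O) O.ι ((X₂.ι ∣_ O) ≫ O.ι) rfl R ≪≫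
      (rhoComp O'.ι X₂.ι ((X₂.ι ∣_ O) ≫ O.ι) (morphismRestrict_ι _ _).symm R).symm
  · exact rhoComp l W.ι (l ≫ W.ι) rfl R ≪≫
      (rhoComp U'.ι X₂.ι (l ≫ W.ι) (morphismRestrict_ι _ _).symm R).symm ≪≫
      (rho U'.ι).mapIso eR ≪≫ (rho U'.ι).mapBiprod _ _ ≪≫
      biprod.mapIso e₂ (((rho U'.ι).commShiftIso n).app R₂ ≪≫ (shiftFunctor _ n).mapIso e₂ ≪≫
        (((rho l).commShiftIso n).app F).symm) ≪≫
      ((rho l).mapBiprod _ _).symm

end Groth.Agent.KFlatLib.ExtendOdd
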