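import Groth.Agent.KFlatLib.Scheme.ApproxAffine
import Groth.Agent.KFlatLib.Scheme.ExtendOdd
import Groth.Agent.KFlatLib.Scheme.GeneratorSupport

/-!
# Approximation by perfect complexes: gluing
-/

set_option linter.style.haveILetI false
set_option backward.isDefEq.respectTransparency false

universe u

open CategoryTheory CategoryTheory.Limits AlgebraicGeometry Pretriangulated TopologicalSpace ZeroObject

attribute [local instance] HasDerivedCategory.standard

namespace Groth.Agent.KFlatLib.Approx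

open Generator PerfectLift

section Abelian

variable {C : Type*} [Category C] [Abelian C]

/-- A map with small cone approximates. -/
lemma isPcMap_of_cone (T : Triangle (DerivedCategory C)) (hT : T ∈ distTriang _) (m : ℤ)
    (hz : ∀ i, m ≤ i → IsZero ((DerivedCategory.homologyFunctor C i).obj T.obj₃)) : IsPcMap m T.mor₁ := by
  refine ⟨fun i hi => ?_, (DerivedCategory.HomologySequence.exact₂ _ hT m).epi_f ((hz m le_rfl).eq_of_tgt _ _)⟩
  haveI : Mono ((DerivedCategory.homologyFunctor C i).map T.mor₁) :=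
    (DerivedCategory.HomologySequence.exact₁ _ hT (i - 1) i (by omega)).mono_g
      ((hz (i - 1) (by omega)).eq_of_src _ _)
  haveI : Epi ((DerivedCategory.homologyFunctor C i).map T.mor₁) :=
    (DerivedCategory.HomologySequence.exact₂ _ hT i).epi_f ((hz i (by omega)).eq_of_tgt _ _)
  exact isIso_of_mono_of_epi _

/-- The cone of an approximation is small. -/
lemma isZero_cone_of_isPcMap (T : Triangle (DerivedCategory C)) (hT : T ∈ distTriang _) {m : ℤ}
    (h : IsPcMap m T.mor₁) (i : ℤ) (hi : m ≤ i) :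
    IsZero ((DerivedCategory.homologyFunctor C i).obj T.obj₃) := by
  haveI : Epi ((DerivedCategory.homologyFunctor C i).map T.mor₁) := (h.mono hi).2
  haveI : Mono ((DerivedCategory.homologyFunctor C (i + 1)).map T.mor₁) :=
    @IsIso.mono_of_iso _ _ _ _ _ (h.1 (i + 1) (by omega))
  refine (DerivedCategory.HomologySequence.exact₃ _ hT i (i + 1) rfl).isZero_X₂ ?_ ?_
  · exact (cancel_epi ((DerivedCategory.homologyFunctor C i).map T.mor₁)).1
      ((((DerivedCategory.homologyFunctor C i).map_comp T.mor₁ T.mor₂).symm.trans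
        ((congrArg (DerivedCategory.homologyFunctor C i).map (comp_distTriang_mor_zero₁₂ _ hT)).trans
          (Functor.map_zero _ _ _))).trans comp_zero.symm)
  · exact (cancel_mono ((DerivedCategory.homologyFunctor C (i + 1)).map T.mor₁)).1
      ((DerivedCategory.HomologySequence.δ_comp T hT i (i + 1) rfl).trans zero_comp.symm)

end Abelian

variable {X : Scheme.{u}}

/-- Supports of restrictions. -/
lemma mem_support_rho {U : Scheme.{u}} (j : U ⟶ X) [IsOpenImmersion j] (E : DCoh.D X) (i : ℤ) (y : U) :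
    y ∈ CohB1.support (DCoh.HD ((rho j).obj E) i) ↔ j.base y ∈ CohB1.support (DCoh.HD E i) := by
  let e := ((Scheme.Modules.toPresheaf _ ⋙ TopCat.Presheaf.stalkFunctor AddCommGrpCat.{u} y).mapIso
    (restrictHDIso j E i)).addCommGroupIsoToAddEquiv.toEquiv.trans
      ((Scheme.Modules.restrictStalkNatIso j y).app (DCoh.HD E i)).addCommGroupIsoToAddEquiv.toEquiv
  exact not_congr e.subsingleton_congr

/-- An object is zero on an open if it is so near each point. -/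
lemma isZero_rho_of_forall (O : X.Opens) {E : DCoh.D X}
    (h : ∀ x ∈ O, ∀ i : ℤ, x ∉ CohB1.support (DCoh.HD E i)) : IsZero ((rho O.ι).obj E) :=
  GeneratorSupport.isZero_rho_of_support O (T := (O : Set X)ᶜ) (fun i _ hx hxO => h _ hxO i hx)
    fun _ hx hx' => hx' hx

/-- Supports only depend on the isomorphism class. -/
lemma support_eq_of_iso {M N : X.Modules} (e : M ≅ N) : CohB1.support M = CohB1.support N :=
  Set.ext fun x => not_congr ((Scheme.Modules.toPresheaf _ ⋙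
    TopCat.Presheaf.stalkFunctor AddCommGrpCat.{u} x).mapIso e).addCommGroupIsoToAddEquiv.toEquiv.subsingleton_congr

/-- Approximations are checked locally. -/
lemma isPcMap_of_local (U V : X.Opens) (hUV : U ⊔ V = ⊤) (m : ℤ) {P E : DCoh.D X} (ψ : P ⟶ E)
    (hU : IsPcMap m ((rho U.ι).map ψ)) (hV : IsPcMap m ((rho V.ι).map ψ)) : IsPcMap m ψ := by
  obtain ⟨Z, g, δ, hT⟩ := distinguished_cocone_triangle ψ
  refine isPcMap_of_cone _ hT m fun i hi => isZero_of_stalk _ fun x => ?_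
  refine @ModuleCat.isZero_of_subsingleton _ _ _ (not_not.1 fun hx => ?_)
  have key : ∀ (W : X.Opens), IsPcMap m ((rho W.ι).map ψ) → x ∈ W → False := fun W hW hxW => by
    have h := isZero_cone_of_isPcMap _ ((rho W.ι).map_distinguished _ hT) hW i hi
    exact ((mem_support_rho W.ι Z i ⟨x, hxW⟩).2 hx)
      (ModuleCat.subsingleton_of_isZero ((DerSch.stalkFunctor _ _).map_isZero h))
  rcases (Opens.mem_sup).1 (hUV ▸ trivial : x ∈ U ⊔ V) with h | h
  · exact key U hU h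
  · exact key V hV h

/-- The projection approximates if the second summand is small. -/
lemma isPcMap_fst {U : Scheme.{u}} {A B : DCoh.D U} (m : ℤ)
    (hB : ∀ i, m ≤ i → IsZero (DCoh.HD B i)) : IsPcMap m (biprod.fst : A ⊞ B ⟶ A) := by
  have key : ∀ i, m ≤ i → IsIso ((DerivedCategory.homologyFunctor U.Modules i).map (biprod.fst : A ⊞ B ⟶ A)) :=
    fun i hi => by
    let H := DerivedCategory.homologyFunctor U.Modules i
    refine ⟨H.map biprod.inl, ?_, ?_⟩
    · rw [← Functor.map_comp, ← CategoryTheory.Functor.map_id, ← sub_eq_zero, ← Functor.map_sub,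
        show biprod.fst ≫ biprod.inl - 𝟙 (A ⊞ B) = -(biprod.snd ≫ biprod.inr) by
          rw [← biprod.total]; abel, Functor.map_neg, Functor.map_comp, neg_eq_zero]
      exact ((congrArg (· ≫ H.map biprod.inr) ((hB i hi).eq_of_tgt (H.map biprod.snd) 0))).trans zero_comp
    · rw [← Functor.map_comp, biprod.inl_fst, CategoryTheory.Functor.map_id]
  haveI := key m le_rfl
  exact ⟨fun i hi => key i hi.le, inferInstance⟩

/-- Perfect objects with supports closed in the whole space extend by zero, and maps out of them extend. -/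
theorem exists_push_map (V : X.Opens) (T : Set X) (hT : IsClosed T) (hTV : T ⊆ (V : Set X)) {C : DCoh.D X}
    (P : DCoh.D (V : Scheme.{u})) (hP : LocSP P)
    (hPT : ∀ i : ℤ, CohB1.support (DCoh.HD P i) ⊆ V.ι.base ⁻¹' T) (α : P ⟶ (rho V.ι).obj C) :
    ∃ (Q : DCoh.D X) (ψ : Q ⟶ C) (e : (rho V.ι).obj Q ≅ P), LocSP Q ∧
      (∀ i : ℤ, CohB1.support (DCoh.HD Q i) ⊆ T) ∧ (rho V.ι).map ψ = e.hom ≫ α := by
  haveI := hasRpush_scheme V.ι
  haveI : PreservesFiniteLimits (CxOX.extZero V.ι) :=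
    preservesFiniteLimits_of_natIso ((lshAdj V.ι).leftAdjointUniq (CxOX.extZeroAdj V.ι))
  haveI : (CxOX.extZero V.ι).Additive := (CxOX.extZeroAdj V.ι).left_adjoint_additive
  haveI : PreservesFiniteColimits (CxOX.extZero V.ι) := by
    have : PreservesColimitsOfSize.{0, 0} (CxOX.extZero V.ι) :=
      (CxOX.extZeroAdj V.ι).leftAdjoint_preservesColimits
    exact ⟨fun _ => inferInstance⟩
  let Q := (DCoh.Rpush V.ι).obj P
  obtain ⟨adj⟩ := nonempty_rho_adj V.ι
  haveI := adj.right_adjoint_additive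
  haveI := isIso_restrictD_counit V.ι adj
  let e : (rho V.ι).obj Q ≅ P := (asIso adj.counit).app P
  have hTim : V.ι.base '' (V.ι.base ⁻¹' T) = T := by
    rw [Set.image_preimage_eq_inter_range, Scheme.Opens.range_ι]
    exact Set.inter_eq_left.2 hTV
  have hQ : LocSP Q := (isPerfect_iff _).1 (isPerfect_rpush_of_support V P ((isPerfect_iff _).2 hP)
    (V.ι.base ⁻¹' T) (by rw [hTim]; exact hT) hPT)
  let Tc : X.Opens := ⟨Tᶜ, hT.isOpen_compl⟩
  have hQz : IsZero ((rho Tc.ι).obj Q) := by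
    haveI := hasRpush_scheme (V.ι ∣_ Tc)
    obtain ⟨iR⟩ := nonempty_rpush_restrictD_iso V.ι Tc
    haveI : IsOpenImmersion (V.ι ∣_ Tc) := inferInstance
    obtain ⟨adj'⟩ := nonempty_rho_adj (V.ι ∣_ Tc)
    haveI := adj'.right_adjoint_additive
    exact ((DCoh.Rpush (V.ι ∣_ Tc)).map_isZero
      (GeneratorSupport.isZero_rho_of_support (V.ι ⁻¹ᵁ Tc) hPT fun _ hy hy' => hy hy')).of_iso (iR.app P)
  obtain ⟨Z, g, δ, hTr⟩ := distinguished_cocone_triangle (adj.unit.app C)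
  haveI : IsIso ((rho V.ι).map (adj.unit.app C)) := by
    haveI : IsIso ((rho V.ι).map (adj.unit.app C) ≫ adj.counit.app ((rho V.ι).obj C)) := by
      rw [adj.left_triangle_components C]
      exact (Iso.refl _).isIso_hom
    exact IsIso.of_isIso_comp_right _ (adj.counit.app ((rho V.ι).obj C))
  have hZ : IsZero ((rho V.ι).obj Z) :=
    (Triangle.isZero₃_iff_isIso₁ _ ((rho V.ι).map_distinguished _ hTr)).2
      (show IsIso ((rho V.ι).map (adj.unit.app C)) from inferInstance)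
  obtain ⟨eQ⟩ := nonempty_extZeroD_iso_rpush V T hT hTV P fun i => by
    rintro _ ⟨y, hy, rfl⟩; exact hPT i hy
  obtain ⟨ψ, hψ⟩ := Triangle.coyoneda_exact₂ _ hTr (adj.homEquiv _ _ (e.hom ≫ α)) (by
    refine (cancel_epi eQ.hom).1 ?_
    rw [comp_zero]
    refine ((H9Misc.TelLocal.derivedAdjunction (CxOX.extZeroAdj V.ι)).homEquiv _ _).injective ?_
    exact hZ.eq_of_tgt _ _)
  refine ⟨Q, ψ, e, hQ, fun i => GeneratorSupport.support_subset_of_isZero_rho Tc (fun _ hx => hx) hQz i, ?_⟩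
  refine (adj.homEquiv _ _).injective ?_
  rw [hψ, Adjunction.homEquiv_unit]
  exact (adj.unit.naturality ψ).symm

/-- The approximation property of a closed subset. -/
def HasApprox (X : Scheme.{u}) (T : Set X) : Prop :=
  ∃ r : ℤ, ∀ (m : ℤ) (E : DCoh.D X), DCoh.IsQCohD E → LocPC (m - r) E →
    (∀ i : ℤ, m - r ≤ i → CohB1.support (DCoh.HD E i) ⊆ T) →
    ∃ (P : DCoh.D X) (α : P ⟶ E), LocSP P ∧ (∀ i : ℤ, CohB1.support (DCoh.HD P i) ⊆ T) ∧ IsPcMap m α

/-- The inclusion of a piece of a cover by a quasi-compact and an affine open is quasi-compact. -/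
lemma quasiCompact_ι (U V : X.Opens) (hV : IsAffineOpen V)
    (hUV : IsCompact ((U ⊓ V : X.Opens) : Set X)) (hcov : U ⊔ V = ⊤) : QuasiCompact U.ι := by
  refine (quasiCompact_iff _).2 fun s hso hsc => U.ι.isOpenEmbedding.isInducing.isCompact_iff.2 ?_
  rw [Set.image_preimage_eq_inter_range, Scheme.Opens.range_ι]
  have hex : ∀ x : s, ∃ W : X.Opens, IsAffineOpen W ∧ x.1 ∈ W ∧ (W : Set X) ⊆ s ∧ (W ≤ U ∨ W ≤ V) := fun x => by
    rcases (Opens.mem_sup).1 (hcov ▸ trivial : x.1 ∈ U ⊔ V) with h | h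
    · obtain ⟨_, ⟨W, hW, rfl⟩, hxW, hWs⟩ :=
        X.isBasis_affineOpens.exists_subset_of_mem_open (⟨x.2, h⟩ : x.1 ∈ s ∩ U) (hso.inter U.2)
      exact ⟨W, hW, hxW, fun _ hy => (hWs hy).1, Or.inl fun _ hy => (hWs hy).2⟩
    · obtain ⟨_, ⟨W, hW, rfl⟩, hxW, hWs⟩ :=
        X.isBasis_affineOpens.exists_subset_of_mem_open (⟨x.2, h⟩ : x.1 ∈ s ∩ V) (hso.inter V.2)
      exact ⟨W, hW, hxW, fun _ hy => (hWs hy).1, Or.inr fun _ hy => (hWs hy).2⟩
  choose W hW hxW hWs hWUV using hex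
  obtain ⟨t, ht⟩ := hsc.elim_finite_subcover (fun x : s => (W x : Set X)) (fun x => (W x).2)
    fun x hx => Set.mem_iUnion.2 ⟨⟨x, hx⟩, hxW ⟨x, hx⟩⟩
  have h : s ∩ (U : Set X) = ⋃ x ∈ t, ((W x : Set X) ∩ U) := by
    refine Set.Subset.antisymm (fun y hy => ?_) ?_
    · obtain ⟨x, hx, hyW⟩ := Set.mem_iUnion₂.1 (ht hy.1)
      exact Set.mem_iUnion₂.2 ⟨x, hx, hyW, hy.2⟩
    · exact Set.iUnion₂_subset fun x _ => Set.inter_subset_inter_left _ (hWs x)
  rw [h]
  refine t.finite_toSet.isCompact_biUnion fun x _ => ?_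
  rcases hWUV x with h | h
  · rw [Set.inter_eq_left.2 h]
    exact (hW x).isCompact
  · rw [show (W x : Set X) ∩ U = (W x : Set X) ∩ ((U ⊓ V : X.Opens) : Set X) from
      Set.ext fun y => ⟨fun hy => ⟨hy.1, hy.2, h hy.1⟩, fun hy => ⟨hy.1, hy.2.1⟩⟩]
    exact hV.isQuasiSeparated _ _ h (W x).2 (hW x).isCompact (fun _ hy => hy.2) (U ⊓ V).2 hUV

/-- Induction step. -/
theorem hasApprox_step (U V : X.Opens) (hU : IsCompact (U : Set X)) (hV : IsAffineOpen V)
    (hUV : IsCompact ((U ⊓ V : X.Opens) : Set X)) (hcov : U ⊔ V = ⊤)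
    (T : Set X) (hT : IsClosed T) (hTV : IsCompact (Tᶜ ∩ (V : Set X)))
    (hAU : HasApprox (U : Scheme.{u}) (U.ι.base ⁻¹' T)) : HasApprox X T := by
  obtain ⟨rU, hAU⟩ := hAU
  haveI : IsAffine (V : Scheme.{u}) := hV
  haveI : CompactSpace U := isCompact_iff_compactSpace.1 hU
  haveI := quasiCompact_ι U V hV hUV hcov
  haveI := hasRpush_scheme U.ι
  haveI := hasRpush_scheme V.ι
  haveI := (nonempty_rho_adj U.ι).some.right_adjoint_additive
  obtain ⟨adjV⟩ := nonempty_rho_adj V.ι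
  haveI := adjV.right_adjoint_additive
  haveI := isIso_restrictD_counit V.ι adjV
  let Tc : X.Opens := ⟨Tᶜ, hT.isOpen_compl⟩
  let O : X.Opens := U ⊔ Tc
  let W' : (V : Scheme.{u}).Opens := V.ι ⁻¹ᵁ U
  let TV : (V : Scheme.{u}).Opens := V.ι ⁻¹ᵁ Tc
  let OV : (V : Scheme.{u}).Opens := V.ι ⁻¹ᵁ O
  have hW' : IsCompact (W' : Set (V : Scheme.{u})) := by
    refine V.ι.isOpenEmbedding.isInducing.isCompact_iff.2 ?_
    show IsCompact (V.ι.base '' (V.ι.base ⁻¹' (U : Set X)))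
    rw [Set.image_preimage_eq_inter_range, Scheme.Opens.range_ι]
    exact hUV
  have hTV' : IsCompact (TV : Set (V : Scheme.{u})) := by
    refine V.ι.isOpenEmbedding.isInducing.isCompact_iff.2 ?_
    show IsCompact (V.ι.base '' (V.ι.base ⁻¹' Tᶜ))
    rw [Set.image_preimage_eq_inter_range, Scheme.Opens.range_ι]
    exact hTV
  have hOV : IsCompact (OV : Set (V : Scheme.{u})) := hW'.union hTV'
  have hcompl : ∀ x, x ∉ U → x ∈ V := fun x hx =>
    ((Opens.mem_sup).1 (hcov ▸ trivial : x ∈ U ⊔ V)).resolve_left hx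
  have hcomplO : (O : Set X)ᶜ ⊆ (V : Set X) := fun x hx =>
    hcompl x fun h => hx (Opens.mem_sup.2 (Or.inl h))
  have hOT : (O : Set X)ᶜ ⊆ T := fun x hx =>
    Classical.by_contradiction fun h => hx (Opens.mem_sup.2 (Or.inr h))
  obtain ⟨rV, hAV⟩ := exists_approx_affine OV hOV
  refine ⟨max rU 0 + rV + 1, fun m E hE hpc hs => ?_⟩
  let m₁ : ℤ := m - rV - 1
  obtain ⟨P, αU, hP, hPT, hαU⟩ := hAU m₁ ((rho U.ι).obj E) (isQCohD_rho U.ι hE)
    ((hpc.mono (by omega)).restrict U.ι)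
    fun i hi y hy => hs i (by omega) ((mem_support_rho U.ι E i y).1 hy)
  obtain ⟨b, hb⟩ := exists_bound_of_locPC (hP.locPC 0)
  let j : ℕ := (b - m₁).toNat + 1
  let n : ℤ := 2 * (j : ℤ) + 1
  have hPn : ∀ i, m₁ ≤ i → IsZero (DCoh.HD (P⟦n⟧) i) := fun i hi =>
    (hb (n + i) (by omega)).of_iso (((DerivedCategory.homologyFunctor (U : Scheme.{u}).Modules 0).shiftIso n i
      (n + i) rfl).app P)
  -- the object
  let B₀ := P ⊞ P⟦n⟧
  have hB₀ : LocSP B₀ := locSP_obj₂ _ (binaryBiproductTriangle_distinguished _ _) hP (hP.shift n)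
  let l : (W' : Scheme.{u}) ⟶ (U : Scheme.{u}) := V.ι ∣_ U
  haveI : IsOpenImmersion l := inferInstance
  have hWT : IsZero ((rho (W'.ι ⁻¹ᵁ TV).ι).obj ((rho l).obj P)) := isZero_rho_of_forall _ fun y hy i hmem => by
    have h := hPT i ((mem_support_rho l P i y).1 hmem)
    have he : U.ι.base (l.base y) = V.ι.base (W'.ι.base y) :=
      congrArg (fun φ : (W' : Scheme.{u}) ⟶ X => φ.base y) (morphismRestrict_ι V.ι U)
    rw [Set.mem_preimage, he] at h
    exact hy h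
  obtain ⟨RV, hRV, hRVT, ⟨eRV⟩⟩ := ExtendOdd.exists_odd_supp W' TV hW' hTV' ((rho l).obj P) (hP.restrict' l)
    hWT j
  have hr : Set.range (X.homOfLE (inf_le_right : U ⊓ V ≤ V)).base ⊆ Set.range W'.ι.base := by
    rintro _ ⟨x, rfl⟩
    rw [Scheme.Opens.range_ι]
    show V.ι.base ((X.homOfLE (inf_le_right : U ⊓ V ≤ V)).base x) ∈ U
    rw [← Scheme.Hom.comp_apply, Scheme.homOfLE_ι]
    exact x.2.1
  let k := IsOpenImmersion.lift W'.ι (X.homOfLE (inf_le_right : U ⊓ V ≤ V)) hr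
  have hk : k ≫ W'.ι = X.homOfLE (inf_le_right : U ⊓ V ≤ V) := IsOpenImmersion.lift_fac _ _ _
  haveI : IsOpenImmersion k := by
    haveI : IsOpenImmersion (k ≫ W'.ι) := by rw [hk]; infer_instance
    exact IsOpenImmersion.of_comp k W'.ι
  have hkl : k ≫ l = X.homOfLE (inf_le_left : U ⊓ V ≤ U) := by
    rw [← cancel_mono U.ι, Category.assoc, morphismRestrict_ι, ← Category.assoc, hk,
      Scheme.homOfLE_ι, Scheme.homOfLE_ι]
  haveI := preservesBinaryBiproducts_of_preservesBiproducts (rho l)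
  let cB : (rho l).obj B₀ ≅ (rho W'.ι).obj RV :=
    (rho l).mapBiprod _ _ ≪≫
      biprod.mapIso (Iso.refl _) (((rho l).commShiftIso n).app P) ≪≫ eRV.symm
  obtain ⟨R₀, ⟨eU⟩, ⟨eV⟩⟩ := exists_glue U V hcov B₀ RV
    ((rhoComp k l _ hkl B₀).symm ≪≫ (rho k).mapIso cB ≪≫ rhoComp k W'.ι _ hk RV)
  have hR₀ : LocSP R₀ := locSP_of_sup hcov (hB₀.of_iso eU.symm) (hRV.of_iso eV.symm)
  have hB₀T : IsZero ((rho (U.ι ⁻¹ᵁ Tc).ι).obj B₀) := by
    have h : IsZero ((rho (U.ι ⁻¹ᵁ Tc).ι).obj P) :=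
      GeneratorSupport.isZero_rho_of_support _ hPT fun _ hy hy' => hy hy'
    haveI := preservesBinaryBiproducts_of_preservesBiproducts (rho (U.ι ⁻¹ᵁ Tc).ι)
    refine IsZero.of_iso ?_ ((rho (U.ι ⁻¹ᵁ Tc).ι).mapBiprod _ _)
    rw [biprod_isZero_iff]
    exact ⟨h, ((shiftFunctor _ n).map_isZero h).of_iso (((rho (U.ι ⁻¹ᵁ Tc).ι).commShiftIso n).app P)⟩
  have hR₀T : IsZero ((rho Tc.ι).obj R₀) := isZero_rho_of_forall _ fun x hx i hmem => by
    rcases (Opens.mem_sup).1 (hcov ▸ trivial : x ∈ U ⊔ V) with h | h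
    · have h1 := (mem_support_rho U.ι R₀ i ⟨x, h⟩).2 hmem
      rw [support_eq_of_iso ((DerivedCategory.homologyFunctor _ i).mapIso eU)] at h1
      exact h1 (subsingleton_stalk_of_isZero_rho _ hB₀T i ⟨⟨x, h⟩, hx⟩)
    · have h1 := (mem_support_rho V.ι R₀ i ⟨x, h⟩).2 hmem
      rw [support_eq_of_iso ((DerivedCategory.homologyFunctor _ i).mapIso eV)] at h1
      exact h1 (subsingleton_stalk_of_isZero_rho _ hRVT i ⟨⟨x, h⟩, hx⟩)
  -- the obstruction
  let a₀ : (rho U.ι).obj R₀ ⟶ (rho U.ι).obj E := eU.hom ≫ (biprod.fst : B₀ ⟶ P) ≫ αU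
  obtain ⟨adjU⟩ := nonempty_rho_adj U.ι
  haveI := isIso_restrictD_counit U.ι adjU
  obtain ⟨G, gι, δ, hTG⟩ := distinguished_cocone_triangle₁ (adjU.unit.app E)
  haveI : IsIso ((rho U.ι).map (adjU.unit.app E)) := by
    haveI : IsIso ((rho U.ι).map (adjU.unit.app E) ≫ adjU.counit.app ((rho U.ι).obj E)) := by
      rw [adjU.left_triangle_components E]
      exact (Iso.refl _).isIso_hom
    exact IsIso.of_isIso_comp_right _ (adjU.counit.app ((rho U.ι).obj E))
  have hGU : IsZero ((rho U.ι).obj G) :=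
    (Triangle.isZero₁_iff_isIso₂ _ ((rho U.ι).map_distinguished _ hTG)).2
      (show IsIso ((rho U.ι).map (adjU.unit.app E)) from inferInstance)
  let N := G⟦(1 : ℤ)⟧
  have hNU : IsZero ((rho U.ι).obj N) :=
    ((shiftFunctor _ (1 : ℤ)).map_isZero hGU).of_iso (((rho U.ι).commShiftIso (1 : ℤ)).app G)
  have hNq : DCoh.IsQCohD N :=
    isQCohD_shift (isQCohD_obj₁ hTG hE (isQCohD_rpush U.ι (isQCohD_rho U.ι hE))) 1
  let φ : R₀ ⟶ N := adjU.homEquiv _ _ a₀ ≫ δ
  haveI : IsIso (adjV.unit.app N) := by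
    obtain ⟨eN⟩ := nonempty_iso_rpush_restrict V (U : Set X)ᶜ U.2.isClosed_compl hcompl N
      fun i => support_subset_compl U hNU i
    haveI : IsIso (adjV.unit.app ((DCoh.Rpush V.ι).obj ((rho V.ι).obj N))) := by
      haveI : IsIso (adjV.unit.app ((DCoh.Rpush V.ι).obj ((rho V.ι).obj N)) ≫
          (DCoh.Rpush V.ι).map (adjV.counit.app ((rho V.ι).obj N))) := by
        rw [adjV.right_triangle_components]
        exact (Iso.refl _).isIso_hom
      exact IsIso.of_isIso_comp_right _ ((DCoh.Rpush V.ι).map (adjV.counit.app ((rho V.ι).obj N)))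
    exact (NatTrans.isIso_app_iff_of_iso adjV.unit eN).2 inferInstance
  let M := (rho V.ι).obj N
  have hMW : IsZero ((rho W'.ι).obj M) := ((rho l).map_isZero hNU).of_iso
    (rhoComp W'.ι V.ι (W'.ι ≫ V.ι) rfl N ≪≫ (rhoComp l U.ι (W'.ι ≫ V.ι) (morphismRestrict_ι _ _) N).symm)
  haveI := hasRpush_scheme OV.ι
  haveI : QuasiCompact OV.ι := by
    haveI : CompactSpace OV := isCompact_iff_compactSpace.1 hOV
    exact quasiCompact_of_compactSpace _
  obtain ⟨adjO⟩ := nonempty_rho_adj OV.ι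
  haveI := isIso_restrictD_counit OV.ι adjO
  obtain ⟨G', ι', δ', hTG'⟩ := distinguished_cocone_triangle₁ (adjO.unit.app M)
  haveI : IsIso ((rho OV.ι).map (adjO.unit.app M)) := by
    haveI : IsIso ((rho OV.ι).map (adjO.unit.app M) ≫ adjO.counit.app ((rho OV.ι).obj M)) := by
      rw [adjO.left_triangle_components M]
      exact (Iso.refl _).isIso_hom
    exact IsIso.of_isIso_comp_right _ (adjO.counit.app ((rho OV.ι).obj M))
  have hG'O : IsZero ((rho OV.ι).obj G') :=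
    (Triangle.isZero₁_iff_isIso₂ _ ((rho OV.ι).map_distinguished _ hTG')).2
      (show IsIso ((rho OV.ι).map (adjO.unit.app M)) from inferInstance)
  have hG'q : DCoh.IsQCohD G' :=
    isQCohD_obj₁ hTG' (isQCohD_rho V.ι hNq) (isQCohD_rpush OV.ι (isQCohD_rho OV.ι (isQCohD_rho V.ι hNq)))
  have hRV0 : ∀ f : (rho OV.ι).obj ((rho V.ι).obj R₀) ⟶ (rho OV.ι).obj M, f = 0 := fun f => by
    let S : (OV : Scheme.{u}).Opens := OV.ι ⁻¹ᵁ TV
    let S' : (OV : Scheme.{u}).Opens := OV.ι ⁻¹ᵁ W'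
    haveI := hasRpush_scheme S.ι
    obtain ⟨adjS⟩ := nonempty_rho_adj S.ι
    haveI := adjS.right_adjoint_additive
    obtain ⟨eS⟩ := nonempty_iso_rpush_restrict S (S' : Set (OV : Scheme.{u}))ᶜ S'.2.isClosed_compl
      (fun y hy => (Opens.mem_sup.1 (y.2 : V.ι.base y.1 ∈ O)).resolve_left hy) ((rho OV.ι).obj M)
      (fun i y hy hyW => subsingleton_stalk_of_isZero_rho W'.ι hMW i ⟨OV.ι.base y, hyW⟩ |>
        ((mem_support_rho OV.ι M i y).1 hy))
    refine (cancel_mono eS.hom).1 ((adjS.homEquiv _ _).symm.injective ?_)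
    refine IsZero.eq_of_src (isZero_rho_of_forall S fun y hy i hmem => ?_) _ _
    have h1 := (mem_support_rho V.ι R₀ i _).1 ((mem_support_rho OV.ι _ i y).1 hmem)
    exact h1 (subsingleton_stalk_of_isZero_rho Tc.ι hR₀T i ⟨V.ι.base (OV.ι.base y), hy⟩)
  obtain ⟨φ', hφ'⟩ := Triangle.coyoneda_exact₂ _ hTG' ((rho V.ι).map φ) (by
    refine (adjO.homEquiv _ _).symm.injective ?_
    exact (hRV0 _).trans (hRV0 _).symm)
  obtain ⟨Q₀, q, χ, hQ₀, hqχ, hQ₀z⟩ := AffineLift.exists_factor OV hOV (hR₀.restrict' V.ι) hG'q hG'O φ'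
  obtain ⟨Q, -, eQ, hQ, hQT, -⟩ := exists_push_map V (O : Set X)ᶜ O.2.isClosed_compl hcomplO Q₀ hQ₀
    (fun i y hy hyO => subsingleton_stalk_of_isZero_rho OV.ι hQ₀z i ⟨y, hyO⟩ |> hy)
    (C := 0) 0
  obtain ⟨eQ'⟩ := nonempty_iso_rpush_restrict V (O : Set X)ᶜ O.2.isClosed_compl hcomplO Q hQT
  let eQ₀ : Q ≅ (DCoh.Rpush V.ι).obj Q₀ := eQ' ≪≫ (DCoh.Rpush V.ι).mapIso eQ
  let q' : R₀ ⟶ Q := adjV.homEquiv _ _ q ≫ eQ₀.inv
  let ψ₁ : Q ⟶ N := eQ₀.hom ≫ (DCoh.Rpush V.ι).map (χ ≫ ι') ≫ inv (adjV.unit.app N)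
  have hqψ : q' ≫ ψ₁ = φ := by
    simp only [q', ψ₁, Category.assoc, Iso.inv_hom_id_assoc]
    rw [← Category.assoc, ← adjV.homEquiv_naturality_right, IsIso.comp_inv_eq, ← Category.assoc q, hqχ]
    refine (congrArg (adjV.homEquiv R₀ ((rho V.ι).obj N)) hφ'.symm).trans ?_
    rw [Adjunction.homEquiv_unit]
    exact (adjV.unit.naturality φ).symm
  obtain ⟨E₁, β, d, hT₁⟩ := distinguished_cocone_triangle₁ q'
  have hQU : IsZero ((rho U.ι).obj Q) :=
    GeneratorSupport.isZero_rho_of_support U hQT fun x hx h => h (Opens.mem_sup.2 (Or.inl hx))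
  have hQTc : IsZero ((rho Tc.ι).obj Q) :=
    GeneratorSupport.isZero_rho_of_support Tc hQT fun x hx h => h (Opens.mem_sup.2 (Or.inr hx))
  haveI hβ : IsIso ((rho U.ι).map β) :=
    (Triangle.isZero₃_iff_isIso₁ _ ((rho U.ι).map_distinguished _ hT₁)).1 hQU
  have hE₁ : LocSP E₁ := (locSP_two_of_three _ hT₁).2.2 hR₀ hQ
  have hE₁T : IsZero ((rho Tc.ι).obj E₁) :=
    Triangle.isZero₁_of_isZero₂₃ _ ((rho Tc.ι).map_distinguished _ hT₁) hR₀T hQTc
  obtain ⟨γ, hγ⟩ := Triangle.coyoneda_exact₃ _ hTG (β ≫ adjU.homEquiv _ _ a₀) (by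
    show (β ≫ adjU.homEquiv _ _ a₀) ≫ δ = 0
    rw [Category.assoc, show adjU.homEquiv _ _ a₀ ≫ δ = q' ≫ ψ₁ from hqψ.symm, ← Category.assoc]
    exact (congrArg (· ≫ ψ₁) (comp_distTriang_mor_zero₁₂ _ hT₁)).trans zero_comp)
  have hγU : (rho U.ι).map β ≫ a₀ = (rho U.ι).map γ := by
    refine (adjU.homEquiv _ _).injective ?_
    rw [adjU.homEquiv_naturality_left]
    exact hγ.trans ((congrArg (γ ≫ ·) rfl).trans ((adjU.unit.naturality γ).symm ▸ rfl))
  have hγpc : IsPcMap m₁ ((rho U.ι).map γ) := by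
    rw [← hγU]
    exact (isPcMap_of_isIso m₁ _).comp ((isPcMap_of_isIso m₁ eU.hom).comp ((isPcMap_fst m₁ hPn).comp hαU))
  obtain ⟨C, g, ε, hTC⟩ := distinguished_cocone_triangle γ
  have hCpc : LocPC m C :=
    (locPC_two_of_three m _ hTC).1 (hE₁.locPC _) (hpc.mono (by omega))
  have hCq : DCoh.IsQCohD C := isQCohD_obj₁ (rot_of_distTriang _ (rot_of_distTriang _ hTC))
    (isQCohD_shift (AffineLift.isQCohD_of_locSP hE₁) 1) (isQCohD_shift hE 1)
  have hCs : ∀ i, m₁ ≤ i → CohB1.support (DCoh.HD C i) ⊆ (O : Set X)ᶜ := fun i hi x hx hxO => by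
    rcases Opens.mem_sup.1 hxO with h | h
    · have hz := isZero_cone_of_isPcMap _ ((rho U.ι).map_distinguished _ hTC) hγpc i hi
      exact (mem_support_rho U.ι C i ⟨x, h⟩).2 hx
        (ModuleCat.subsingleton_of_isZero ((DerSch.stalkFunctor _ _).map_isZero hz))
    · haveI : IsIso ((rho Tc.ι).map g) :=
        (Triangle.isZero₁_iff_isIso₂ _ ((rho Tc.ι).map_distinguished _ hTC)).1 hE₁T
      have h1 := (mem_support_rho Tc.ι C i ⟨x, h⟩).2 hx
      rw [← support_eq_of_iso ((DerivedCategory.homologyFunctor _ i).mapIso (asIso ((rho Tc.ι).map g)))] at h1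
      exact h (hs i (by omega) ((mem_support_rho Tc.ι E i ⟨x, h⟩).1 h1))
  -- the correction on `V`
  obtain ⟨PV, αV, hPV, hPVz, hαV⟩ := hAV m ((rho V.ι).obj C) (isQCohD_rho V.ι hCq)
    ((isPseudoCoherentD_iff _ _).2 (hCpc.restrict V.ι))
    fun i hi y hy hyO => hCs i (by omega) ((mem_support_rho V.ι C i y).1 hy) hyO
  obtain ⟨Q₂, ψ, e₂, hQ₂, hQ₂T, hψ⟩ := exists_push_map V (O : Set X)ᶜ O.2.isClosed_compl hcomplO PV hPV
    (fun i y hy hyO => subsingleton_stalk_of_isZero_rho OV.ι hPVz i ⟨y, hyO⟩ |> hy) αV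
  obtain ⟨Z, r, η, hTZ⟩ := distinguished_cocone_triangle ψ
  have hZ : ∀ i, m ≤ i → IsZero (DCoh.HD Z i) := fun i hi => isZero_cone_of_isPcMap _ hTZ
    (isPcMap_of_local U V hcov m ψ
      (isPcMap_of_cone _ ((rho U.ι).map_distinguished _ hTZ) m fun i hi => by
        have hQ₂U : IsZero ((rho U.ι).obj Q₂) :=
          GeneratorSupport.isZero_rho_of_support U hQ₂T fun x hx h => h (Opens.mem_sup.2 (Or.inl hx))
        haveI : IsIso ((rho U.ι).map r) :=
          (Triangle.isZero₁_iff_isIso₂ _ ((rho U.ι).map_distinguished _ hTZ)).1 hQ₂U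
        exact (isZero_cone_of_isPcMap _ ((rho U.ι).map_distinguished _ hTC) hγpc i (by omega)).of_iso
          ((DerivedCategory.homologyFunctor _ i).mapIso (asIso ((rho U.ι).map r))).symm)
      (hψ ▸ (isPcMap_of_isIso m e₂.hom).comp hαV)) i hi
  obtain ⟨P', α', d', hT'⟩ := distinguished_cocone_triangle₁ (g ≫ r)
  let h := Triangulated.someOctahedron (rfl : g ≫ r = g ≫ r) (rot_of_distTriang _ hTC)
    (rot_of_distTriang _ hTZ) (rot_of_distTriang _ hT')
  refine ⟨P', α', LocSP.of_shift 1 (locSP_obj₂ _ h.mem (hE₁.shift 1) (hQ₂.shift 1)), ?_,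
    isPcMap_of_cone _ hT' m hZ⟩
  intro i
  refine GeneratorSupport.support_subset_of_isZero_rho Tc (fun _ hx => hx) ?_ i
  have hQ₂Tc : IsZero ((rho Tc.ι).obj Q₂) :=
    GeneratorSupport.isZero_rho_of_support Tc hQ₂T fun x hx h => h (Opens.mem_sup.2 (Or.inr hx))
  have h1 : IsZero ((rho Tc.ι).obj (P'⟦(1 : ℤ)⟧)) :=
    Triangle.isZero₂_of_isZero₁₃ _ ((rho Tc.ι).map_distinguished _ h.mem)
      (((shiftFunctor _ (1 : ℤ)).map_isZero hE₁T).of_iso (((rho Tc.ι).commShiftIso (1 : ℤ)).app E₁))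
      (((shiftFunctor _ (1 : ℤ)).map_isZero hQ₂Tc).of_iso (((rho Tc.ι).commShiftIso (1 : ℤ)).app Q₂))
  refine (IsZero.iff_id_eq_zero _).2 ((shiftFunctor _ (1 : ℤ)).map_injective ?_)
  exact (h1.of_iso (((rho Tc.ι).commShiftIso (1 : ℤ)).app P').symm).eq_of_src _ _

end Groth.Agent.KFlatLib.Approx
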