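import Groth.Agent.KFlatLib.Scheme.BCMapIso
import Groth.Agent.KFlatLib.Scheme.BCMapData

/-!
# Base change for the right adjoint of `Rf_*`: the global statement
-/

set_option linter.style.haveILetI false
set_option backward.isDefEq.respectTransparency false

universe u

open CategoryTheory CategoryTheory.Limits AlgebraicGeometry Opposite TopologicalSpace

attribute [local instance] HasDerivedCategory.standard

namespace Groth.Agent.KFlatLib.BCMapMain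

variable {X Y X' Y' : Scheme.{u}} {f : X ⟶ Y} {g : Y' ⟶ Y} {f' : X' ⟶ Y'} {g' : X' ⟶ X}
variable [Flat g] [Flat g'] [DCoh.HasRpush f] [DCoh.HasRpush f'] [DCoh.HasRpush g']
variable {hf : DCoh.RpushPreservesQCoh f} {hf' : DCoh.RpushPreservesQCoh f'}
  {a : DCoh.DQCoh Y ⥤ DCoh.DQCoh X} {a' : DCoh.DQCoh Y' ⥤ DCoh.DQCoh X'}
variable (adj : DCoh.RpushQ f hf ⊣ a) (adj' : DCoh.RpushQ f' hf' ⊣ a')
  (bcI : DCoh.RpushQ f hf ⋙ BCLoc.LQ g ≅ BCLoc.LQ g' ⋙ DCoh.RpushQ f' hf')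

/-- The chart data glue. -/
theorem isIso_mMap (hsq : IsPullback g' f' f g) [CompactSpace X] [QuasiSeparatedSpace X] [QuasiCompact g']
    [QuasiSeparated g'] [QuasiCompact f] [QuasiCompact f'] (K : DCoh.DQCoh Y)
    (H : ∀ y' : Y', ∃ (V : Y.Opens) (V' : Y'.Opens), IsAffineOpen V ∧ IsAffineOpen V' ∧ y' ∈ V' ∧
      V' ≤ g ⁻¹ᵁ V ∧ QuasiCompact V.ι ∧ QuasiCompact V'.ι ∧
      (∀ {Q Q' : DCoh.DQCoh Y} (u : Q ⟶ Q'), IsIso ((rho V.ι).map u.hom) →
        IsIso ((rho (f ⁻¹ᵁ V).ι).map (a.map u).hom)) ∧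
      (∀ {Q Q' : DCoh.DQCoh Y'} (u : Q ⟶ Q'), IsIso ((rho V'.ι).map u.hom) →
        IsIso ((rho (f' ⁻¹ᵁ V').ι).map (a'.map u).hom)) ∧
      (∀ R : DCoh.D X, LocSP R → LocSP ((rho V.ι).obj ((DCoh.Rpush f).obj R)) ∨
        ((∀ m, LocPC m ((rho V.ι).obj ((DCoh.Rpush f).obj R))) ∧
          ∃ n, ((rho V.ι).obj K.obj).IsGE n))) :
    IsIso (BCLoc.mMap adj adj' bcI K) := by
  haveI : IsIso ((ObjectProperty.ι (DCoh.IsQCohD (X := X'))).map (BCLoc.mMap adj adj' bcI K)) := by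
    refine BCLoc.isIso_of_cover _ fun x' => ?_
    obtain ⟨V, V', hV, hV', hy', hle, hVq, hV'q, hX, hX', hΨ⟩ := H (f'.base x')
    haveI := hVq
    haveI := hV'q
    haveI : QuasiCompact (f ⁻¹ᵁ V).ι :=
      MorphismProperty.of_isPullback (P := @QuasiCompact) (isPullback_morphismRestrict f V) hVq
    haveI : QuasiCompact (f' ⁻¹ᵁ V').ι :=
      MorphismProperty.of_isPullback (P := @QuasiCompact) (isPullback_morphismRestrict f' V') hV'q
    have hx : g'.base x' ∈ f ⁻¹ᵁ V := by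
      have h1 : f.base (g'.base x') = g.base (f'.base x') :=
        congrArg (fun z : X' ⟶ Y => z.base x') hsq.w
      change f.base (g'.base x') ∈ V
      rw [h1]
      exact hle hy'
    obtain ⟨_, ⟨W, hW, rfl⟩, hxW, hWV⟩ :=
      X.isBasis_affineOpens.exists_subset_of_mem_open hx (f ⁻¹ᵁ V).2
    exact ⟨g' ⁻¹ᵁ W ⊓ f' ⁻¹ᵁ V', ⟨hxW, hy'⟩,
      BCLoc.isIso_rho_mMap_chart adj adj' bcI hsq hV hV' hle hX hX' K hΨ hW hWV⟩
  exact isIso_of_reflects_iso _ (ObjectProperty.ι (DCoh.IsQCohD (X := X')))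

end Groth.Agent.KFlatLib.BCMapMain
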