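import Groth.Agent.KFlatLib.Scheme.EvalPerfect
import Groth.Agent.KFlatLib.SymmNat
import Groth.Agent.KFlatLib.AdjComp
import Groth.Agent.KFlatLib.InnerInj

/-!
# The coevaluation map
-/

set_option linter.style.haveILetI false
set_option backward.isDefEq.respectTransparency false

universe u

open CategoryTheory CategoryTheory.Limits AlgebraicGeometry

attribute [local instance] HasDerivedCategory.standard

namespace Groth.Agent.KFlatLib

variable {X : Scheme.{u}}

/-- `P ⊗ H ≅ H ⊗ P`. -/
noncomputable abbrev braidCx (P H : CochainComplex X.Modules ℤ) :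
    (DCoh.tensorCx.obj P).obj H ≅ (DCoh.tensorCx.obj H).obj P :=
  (symmIso (tensorBiFlipIso X) H).app P

/-- The evaluation `P ⊗ iHom(P, L) ⟶ L`. -/
noncomputable def evR (L P : CochainComplex X.Modules ℤ) :
    (DCoh.tensorCx.obj P).obj ((iHom P).obj L) ⟶ L :=
  (braidCx P ((iHom P).obj L)).hom ≫ (iHomAdj P).counit.app L

lemma evR_naturality (L : CochainComplex X.Modules ℤ) {A B : CochainComplex X.Modules ℤ} (g : A ⟶ B) :
    (DCoh.tensorCx.map g).app ((iHom B).obj L) ≫ evR L B =
      (DCoh.tensorCx.obj A).map ((iHomMap g).app L) ≫ evR L A := by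
  rw [evR, evR]
  refine ((Category.assoc _ _ _).symm.trans (congrArg (· ≫ _)
    ((symmIso (tensorBiFlipIso X) ((iHom B).obj L)).hom.naturality g))).trans ?_
  refine Eq.trans ?_ ((Category.assoc _ _ _).symm.trans (congrArg (· ≫ _)
    (symmIso_naturality_left (tensorBiFlipIso X) A ((iHomMap g).app L)))).symm
  refine (Category.assoc _ _ _).trans (Eq.trans ?_ (Category.assoc _ _ _).symm)
  exact congrArg (_ ≫ ·) (Inner.innerMap_counit (DCoh.tensorBi (X := X)) g L).symm

variable (R L I : CochainComplex X.Modules ℤ) (c : (DCoh.tensorCx.obj R).obj L ⟶ I)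

/-- The transpose of the coevaluation map. -/
noncomputable def coevalAux (P : CochainComplex X.Modules ℤ) :
    (DCoh.tensorCx.obj ((DCoh.tensorCx.obj R).obj P)).obj ((iHom P).obj L) ⟶ I :=
  (tensorCxAssocIso R P ((iHom P).obj L)).hom ≫ (DCoh.tensorCx.obj R).map (evR L P) ≫ c

/-- The coevaluation map `R ⊗ P ⟶ iHom(iHom(P, L), I)`. -/
noncomputable def coevalMap (P : CochainComplex X.Modules ℤ) :
    (DCoh.tensorCx.obj R).obj P ⟶ (iHom ((iHom P).obj L)).obj I :=
  (iHomAdj ((iHom P).obj L)).homEquiv _ _ (coevalAux R L I c P)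

end Groth.Agent.KFlatLib
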