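import Groth.Agent.KFlatLib.Scheme.DQCohBrown
import Groth.Agent.KFlatLib.Scheme.AffineLift
import Groth.Agent.KFlatLib.Scheme.RpushFF

/-!
# The coherator: `D_QCoh ⟶ D` has a right adjoint
-/

set_option linter.style.haveILetI false
set_option backward.isDefEq.respectTransparency false

universe u

open CategoryTheory CategoryTheory.Limits AlgebraicGeometry Pretriangulated

attribute [local instance] HasDerivedCategory.standard

namespace Groth.Agent.KFlatLib.DQSmall

/-- The inclusion of `D_QCoh` has a right adjoint. -/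
theorem isLeftAdjoint_incl_DQCoh (X : Scheme.{u}) [CompactSpace X] [QuasiSeparatedSpace X] :
    (ObjectProperty.ι (DCoh.IsQCohD (X := X))).IsLeftAdjoint := by
  let f := 𝟙 X
  haveI := hasRpush_scheme f
  haveI := isLeftAdjoint_pushS f
  let Ψ : DQS X ⥤ DCoh.DQCoh X := ObjectProperty.lift DCoh.IsQCohD (incl X) fun K => K.property
  haveI : Ψ.Full := ⟨fun {a b} g => by
    obtain ⟨g', hg'⟩ := (incl X).map_surjective g.hom
    exact ⟨g', ObjectProperty.hom_ext _ hg'⟩⟩
  haveI : Ψ.Faithful := ⟨fun {a b} g g' hg => (incl X).map_injective (congrArg (fun t => t.hom) hg)⟩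
  haveI : Ψ.EssSurj := ⟨fun K => by
    obtain ⟨K', ⟨e⟩⟩ := exists_DQS_preimage K.obj K.property
    exact ⟨K', ⟨(ObjectProperty.ι DCoh.IsQCohD).preimageIso e⟩⟩⟩
  haveI : Ψ.IsEquivalence := { }
  let L' := Ψ.inv ⋙ pushS f ⋙ (toD X).functor
  let e : ObjectProperty.ι DCoh.IsQCohD ⋙ DCoh.Rpush f ≅ L' :=
    NatIso.ofComponents (fun K => (DCoh.Rpush f).mapIso ((ObjectProperty.ι DCoh.IsQCohD).mapIso
        (Ψ.asEquivalence.counitIso.app K).symm) ≪≫ ((toD X).counitIso.app _).symm)
      (fun {a b} g => by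
        have hg : g ≫ Ψ.asEquivalence.counitIso.inv.app b =
            Ψ.asEquivalence.counitIso.inv.app a ≫ Ψ.map (Ψ.inv.map g) :=
          Ψ.asEquivalence.counitIso.inv.naturality g
        have hn := (toD X).counitIso.inv.naturality ((DCoh.Rpush f).map ((incl X).map (Ψ.inv.map g)))
        have hg' := congrArg (fun t => (DCoh.Rpush f).map t.hom) hg
        simp only [ObjectProperty.FullSubcategory.comp_hom, Functor.map_comp] at hg'
        dsimp [L'] at hn ⊢
        rw [reassoc_of% hg', Category.assoc]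
        exact congrArg (_ ≫ ·) hn)
  obtain ⟨e₁⟩ := nonempty_rpush_restrictD_id f
  obtain ⟨e₂⟩ := AffineLift.nonempty_rho_id f rfl
  let eR : DCoh.Rpush f ≅ 𝟭 (DCoh.D X) :=
    (Functor.rightUnitor _).symm ≪≫ Functor.isoWhiskerLeft (DCoh.Rpush f) e₂.symm ≪≫ e₁
  exact Functor.isLeftAdjoint_of_iso
    (e.symm ≪≫ Functor.isoWhiskerLeft (ObjectProperty.ι DCoh.IsQCohD) eR ≪≫ Functor.rightUnitor _)

end Groth.Agent.KFlatLib.DQSmall
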