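import Groth.Agent.KFlatLib.Scheme.TorBCTensorSupport
import Groth.Agent.CohPullX.FpModel
import Groth.Agent.QCoh.PushLin
import Groth.Agent.CAlgUI.Coherent

/-!
# Finite presentation of cohomology over a coherent ring
-/

set_option linter.style.haveILetI false
set_option backward.isDefEq.respectTransparency false

universe u

open CategoryTheory CategoryTheory.Limits AlgebraicGeometry
open scoped TensorProduct

namespace Groth.Agent.KFlatLib.CoherentBase

variable {R : Type u} [CommRing R]

/-- Cohomology of a short complex of finitely presented modules over a coherent ring. -/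
theorem finitePresentation_homology (hR : ∀ I : Ideal R, I.FG → Module.FinitePresentation R I)
    (S : ShortComplex (ModuleCat.{u} R)) [Module.Finite R S.X₁] [Module.FinitePresentation R S.X₂]
    [Module.FinitePresentation R S.X₃] : Module.FinitePresentation R S.homology := by
  have h₃ := CAlgUI.subFP_of_finitePresentation (M := S.X₃) hR
  have h₂ := CAlgUI.subFP_of_finitePresentation (M := S.X₂) hR
  haveI : Module.FinitePresentation R (LinearMap.range S.g.hom) := h₃ _ (by
    rw [LinearMap.range_eq_map]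
    exact (Module.Finite.fg_top).map _)
  have hker : (LinearMap.ker S.g.hom).FG := by
    rw [← LinearMap.ker_rangeRestrict]
    exact Module.FinitePresentation.fg_ker _ S.g.hom.surjective_rangeRestrict
  haveI : Module.FinitePresentation R (LinearMap.ker S.g.hom) := h₂ _ hker
  haveI : Module.FinitePresentation R ((LinearMap.ker S.g.hom) ⧸ LinearMap.range S.moduleCatToCycles) := by
    refine Module.finitePresentation_of_surjective _ (Submodule.mkQ_surjective _) ?_
    rw [Submodule.ker_mkQ, LinearMap.range_eq_map]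
    exact (Module.Finite.fg_top).map _
  haveI : Module.FinitePresentation R S.moduleCatLeftHomologyData.H := ‹Module.FinitePresentation R (_ ⧸ _)›
  exact Module.FinitePresentation.of_equiv S.moduleCatHomologyIso.symm.toLinearEquiv

/-- The proper case. -/
theorem finitePresentation_HH_proper (hR : ∀ I : Ideal R, I.FG → Module.FinitePresentation R I)
    {X : Scheme.{u}} (f : X ⟶ Spec (CommRingCat.of R)) [IsProper f] [LocallyOfFinitePresentation f]
    (G : X.Modules) (hG : CohB1.IsFP G) (hflat : FlatMod.IsFlatOver f G) (i : ℕ) :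
    letI := QCoh.modHH (Coh.toGlobal f) G i
    Module.FinitePresentation R (Coh.HH X G i) := by
  obtain ⟨A₀, _, hA, φ, X₀, f₀, g, F₀, hp₀, hsq, hF₀, hfl₀, ⟨e⟩⟩ :=
    CohPullX.exists_proper_flat_model R f hG hflat
  letI : X₀.Over (Spec (CommRingCat.of A₀)) := ⟨f₀⟩
  haveI : IsNoetherianRing A₀ := hA
  haveI : IsProper (X₀ ↘ Spec (CommRingCat.of A₀)) := hp₀
  obtain ⟨P, hP⟩ := QCoh.exists_isBCModel F₀ hF₀ hfl₀
  obtain ⟨e₂⟩ := hP.2.2.2.2.2 R φ X g f hsq i
  letI := QCoh.modHH (Coh.toGlobal f) G i
  letI := QCoh.modHH (Coh.toGlobal f) ((Scheme.Modules.pullback g).obj F₀) i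
  letI : Algebra A₀ R := φ.toAlgebra
  have hfin : ∀ j, Module.FinitePresentation R ((CohIII.bcCx φ P).X j) := fun j => by
    haveI := hP.1 j
    haveI := hP.2.1 j
    haveI : Module.Finite R (R ⊗[A₀] (P.X j)) := Module.Finite.base_change A₀ R (P.X j)
    exact Module.finitePresentation_of_projective R (R ⊗[A₀] (P.X j))
  haveI := hfin ((ComplexShape.down ℤ).prev (-(i : ℤ)))
  haveI := hfin (-(i : ℤ))
  haveI := hfin ((ComplexShape.down ℤ).next (-(i : ℤ)))
  haveI : Module.FinitePresentation R ((CohIII.bcCx φ P).sc (-(i : ℤ))).X₂ := hfin _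
  haveI : Module.FinitePresentation R ((CohIII.bcCx φ P).sc (-(i : ℤ))).X₃ := hfin _
  haveI : Module.Finite R ((CohIII.bcCx φ P).sc (-(i : ℤ))).X₁ := by
    haveI := hfin ((ComplexShape.down ℤ).prev (-(i : ℤ)))
    exact inferInstanceAs (Module.Finite R ((CohIII.bcCx φ P).X _))
  haveI : Module.FinitePresentation R ((CohIII.bcCx φ P).homology (-(i : ℤ))) :=
    finitePresentation_homology hR ((CohIII.bcCx φ P).sc (-(i : ℤ)))
  exact Module.FinitePresentation.of_equiv ((QCoh.HHcongr (A := R) (Coh.toGlobal (A := R) f) e i).symm.trans e₂).symm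

/-- Cohomology of modules flat over a coherent ring with proper support is finitely presented. -/
theorem finitePresentation_HH (hR : ∀ I : Ideal R, I.FG → Module.FinitePresentation R I)
    {X : Scheme.{u}} (f : X ⟶ Spec (CommRingCat.of R)) [LocallyOfFinitePresentation f]
    (G : X.Modules) (hG : CohB1.IsFP G) (hflat : FlatMod.IsFlatOver f G)
    (hsupp : ClSub.IsProperOver f (CohB1.support G)) (i : ℕ) :
    letI := QCoh.modHH (Coh.toGlobal f) G i
    Module.FinitePresentation R (Coh.HH X G i) := by
  have hq := QCoh.isQCoh_of_isFP hG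
  obtain ⟨Z, ι, _, _, hr, hfpN, hu⟩ := TorBC.exists_fitting_model hG
  haveI : IsProper (ι ≫ f) := (QCoh.isProperOver_iff ι).1 (hr ▸ hsupp)
  let N := (Scheme.Modules.pullback ι).obj G
  have hN : Coh.IsQCoh N := QCoh.isQCoh_pullback ι hq
  let u : G ≅ (Scheme.Modules.pushforward ι).obj N :=
    @asIso _ _ _ _ ((Scheme.Modules.pullbackPushforwardAdjunction ι).unit.app G) hu
  have hflN : FlatMod.IsFlatOver (ι ≫ f) N :=
    TorBC.isFlatOver_of_push ι f hN (fun x => RelTor.flatOverAt_of_iso u (hflat x))
  have h := finitePresentation_HH_proper hR (ι ≫ f) N hfpN hflN i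
  have hρ : ∀ a : R, Coh.toGlobal (ι ≫ f) a = ι.appTop (Coh.toGlobal f a) := fun a => by
    simp [Coh.toGlobal]
    rfl
  obtain ⟨l⟩ := QCoh.HH_push_linear ι (Coh.toGlobal f) (Coh.toGlobal (ι ≫ f)) hρ hN i
  letI := QCoh.modHH (Coh.toGlobal f) G i
  letI := QCoh.modHH (Coh.toGlobal f) ((Coh.push ι).obj N) i
  letI := QCoh.modHH (Coh.toGlobal (ι ≫ f)) N i
  haveI := h
  exact Module.FinitePresentation.of_equiv (l.trans (QCoh.HHcongr (A := R) (Coh.toGlobal (A := R) f) u.symm i))

end Groth.Agent.KFlatLib.CoherentBase
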