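import Groth.Agent.KFlatLib.Scheme.CompactPerfect
import Groth.Agent.KFlatLib.Scheme.GeneratorSupport

/-!
# Compact objects of `D_QCoh` with supports are the perfect ones
-/

set_option linter.style.haveILetI false
set_option backward.isDefEq.respectTransparency false

universe w v u

open CategoryTheory CategoryTheory.Limits AlgebraicGeometry Pretriangulated Opposite ZeroObject

attribute [local instance] HasDerivedCategory.standard

namespace Groth.Agent.KFlatLib.CompactPerfectSupport

open DQSmall CompactPerfect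

variable {X : Scheme.{u}} (O : X.Opens)

/-- Objects of the small model vanishing on an open. -/
def off : ObjectProperty (DQS X) := fun A => IsZero ((rho O.ι).obj ((incl X).obj A))

instance : (off O).IsClosedUnderIsomorphisms where
  of_iso e h := h.of_iso ((rho O.ι).mapIso ((incl X).mapIso e.symm))

instance : (off O).IsTriangulated where
  exists_zero := ⟨0, isZero_zero _, (rho O.ι).map_isZero ((incl X).map_isZero (isZero_zero _))⟩
  isStableUnderShiftBy n := ⟨fun A hA => by
    obtain ⟨e⟩ := nonempty_incl_shift A n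
    exact ((shiftFunctor _ n).map_isZero hA).of_iso
      ((rho O.ι).mapIso e ≪≫ ((rho O.ι).commShiftIso n).app _)⟩
  ext₂' T hT h₁ h₃ := by
    obtain ⟨c, hc⟩ := SmallModel.exists_compare_triangle X.Modules (DQSmall.sm X)
      (HasDerivedCategory.standard X.Modules) _ ((qc X).ι.map_distinguished T hT)
    exact ObjectProperty.le_isoClosure _ _
      (Triangle.isZero₂_of_isZero₁₃ _ ((rho O.ι).map_distinguished _ hc) h₁ h₃)

lemma closed_coproducts_off (J : Type u) : (off O).IsClosedUnderColimitsOfShape (Discrete J) := by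
  haveI := hasCoproducts_DQS X J
  haveI := preservesCoproducts_incl X J
  haveI : HasColimitsOfShape (Discrete J) (DCoh.D X) := TriCat.hasColimitsOfShape_derivedCategory
  haveI := hasRpush_scheme O.ι
  haveI : PreservesColimitsOfShape (Discrete J) (rho O.ι) :=
    (nonempty_rho_adj O.ι).some.leftAdjoint_preservesColimits.preservesColimitsOfShape
  refine .mk' ?_
  rintro _ ⟨F, hF⟩
  refine (IsZero.iff_id_eq_zero _).2
    ((isColimitOfPreserves (incl X ⋙ rho O.ι) (colimit.isColimit F)).hom_ext fun j => ?_)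
  exact (hF j).eq_of_src _ _

/-- The small model of the objects of `D_QCoh` vanishing on an open. -/
abbrev DQT := (off O).FullSubcategory

/-- To the derived category. -/
noncomputable abbrev inclT : DQT O ⥤ DCoh.D X := (off O).ι ⋙ incl X

lemma hasCoproducts_DQT (J : Type u) : HasColimitsOfShape (Discrete J) (DQT O) := by
  haveI := hasCoproducts_DQS X J
  haveI := closed_coproducts_off O J
  infer_instance

lemma preservesCoproducts_inclT (J : Type u) : PreservesColimitsOfShape (Discrete J) (inclT O) := by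
  haveI := hasCoproducts_DQS X J
  haveI := closed_coproducts_off O J
  haveI := preservesCoproducts_incl X J
  haveI : CreatesColimitsOfShape (Discrete J) (off O).ι :=
    createsColimitsOfShapeFullSubcategoryInclusion _ _
  haveI : PreservesColimitsOfShape (Discrete J) (off O).ι := inferInstance
  infer_instance

/-- Perfect objects vanishing on the open. -/
def perfT : ObjectProperty (DQT O) := fun A => perf X A.obj

instance : (perfT O).IsClosedUnderIsomorphisms where
  of_iso e h := (perf X).prop_of_iso ((off O).ι.mapIso e) h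

instance : (perfT O).IsStableUnderRetracts where
  of_retract r h := (perf X).prop_of_retract (r.map (off O).ι) h

instance : (perfT O).IsTriangulated where
  exists_zero := ⟨0, isZero_zero _,
    (perf X).prop_of_iso ((isZero_zero (DQS X)).iso ((off O).ι.map_isZero (isZero_zero _)))
      (perf X).prop_zero⟩
  isStableUnderShiftBy n := ⟨fun A hA =>
    (perf X).prop_of_iso (((off O).ι.commShiftIso n).app A).symm ((perf X).le_shift n _ hA)⟩
  ext₂' T hT h₁ h₃ := ObjectProperty.le_isoClosure _ _
    (ObjectProperty.ext_of_isTriangulatedClosed₂ (perf X) _ ((off O).ι.map_distinguished T hT) h₁ h₃)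

/-- Quasi-coherence with vanishing. -/
abbrev QOff (L : DCoh.D X) : Prop := DCoh.IsQCohD L ∧ IsZero ((rho O.ι).obj L)

/-- Relatively compact objects are compact in the small model. -/
theorem isCompactObject_of_finSums [HasCoproducts.{u} (DQT O)] (A : DQT O)
    (hA : FinSums (QOff O) ((inclT O).obj A)) : CohDer.IsCompactObject A := by
  classical
  rw [TriCat.isCompactObject_iff]
  intro ι M f
  haveI : HasColimitsOfShape (Discrete ι) (DCoh.D X) := TriCat.hasColimitsOfShape_derivedCategory
  haveI := preservesCoproducts_inclT O ι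
  let N := fun i => (inclT O).obj (M i)
  obtain ⟨s, a, ha⟩ := hA ι N (fun i => ⟨(M i).obj.property, (M i).property⟩)
    ((inclT O).map f ≫ inv (sigmaComparison (inclT O) M))
  choose a' ha' using fun i => (inclT O).map_surjective (a i)
  refine ⟨s, a', (inclT O).map_injective ?_⟩
  rw [IsIso.comp_inv_eq, Preadditive.sum_comp] at ha
  rw [ha, Functor.map_sum]
  refine Finset.sum_congr rfl fun i _ => ?_
  rw [Category.assoc, ι_comp_sigmaComparison, Functor.map_comp, ha']

/-- Relatively compact objects with supports are perfect. -/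
theorem locSP_of_finSums [CompactSpace X] [QuasiSeparatedSpace X] (T : Set X) (hT : IsClosed T)
    (hTc : IsCompact Tᶜ) {K : DCoh.D X} (hK : DCoh.IsQCohD K)
    (hKT : ∀ i : ℤ, CohB1.support (DCoh.HD K i) ⊆ T)
    (hc : FinSums (fun L => DCoh.IsQCohD L ∧ ∀ i : ℤ, CohB1.support (DCoh.HD L i) ⊆ T) K) :
    LocSP K := by
  classical
  let O : X.Opens := ⟨Tᶜ, hT.isOpen_compl⟩
  have hz : ∀ {L : DCoh.D X}, (∀ i : ℤ, CohB1.support (DCoh.HD L i) ⊆ T) → IsZero ((rho O.ι).obj L) :=
    fun hL => GeneratorSupport.isZero_rho_of_support O hL fun x hx => hx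
  have hs : ∀ {L : DCoh.D X}, IsZero ((rho O.ι).obj L) → ∀ i : ℤ, CohB1.support (DCoh.HD L i) ⊆ T :=
    fun hL => GeneratorSupport.support_subset_of_isZero_rho O (fun x hx => hx) hL
  have hc' : FinSums (QOff O) K := fun ι N _ hN φ => hc ι N (fun i => ⟨(hN i).1, hs (hN i).2⟩) φ
  haveI : ∀ J : Type u, HasColimitsOfShape (Discrete J) (DQS X) := fun J => hasCoproducts_DQS X J
  haveI : HasCoproducts.{u} (DQT O) := fun J => hasCoproducts_DQT O J
  haveI : HasColimitsOfShape (Discrete ℕ) (DQT O) :=
    hasColimitsOfShape_of_equivalence (Discrete.equivalence Equiv.ulift.{u})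
  obtain ⟨P, hP, hPT, hgen⟩ := GeneratorSupport.hasGen X T hT hTc
  obtain ⟨P₁, ⟨eP⟩⟩ := exists_DQS_preimage P (AffineLift.isQCohD_of_locSP hP)
  obtain ⟨K₁, ⟨eK⟩⟩ := exists_DQS_preimage K hK
  let P' : DQT O := ⟨P₁, (hz hPT).of_iso ((rho O.ι).mapIso eP)⟩
  let K' : DQT O := ⟨K₁, (hz hKT).of_iso ((rho O.ι).mapIso eK)⟩
  let E : PUnit.{u+1} → DQT O := fun _ => P'
  let E' := TriCat.shiftClosure E
  have hcE : ∀ i, CohDer.IsCompactObject (E i) := fun i => isCompactObject_of_finSums O _
    fun ι N _ hN φ =>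
      finSums_of_isPerfect ((isPerfect_iff _).2 (hP.of_iso eP.symm)) ι N (fun i => (hN i).1) φ
  have hcK : CohDer.IsCompactObject K' := isCompactObject_of_finSums O _ (hc'.of_iso eK.symm)
  have hdet : ∀ A : DQT O, (∀ p (f : E' p ⟶ A), f = 0) → IsZero A := fun A hA => by
    refine (IsZero.iff_id_eq_zero _).2 ((inclT O).map_injective ?_)
    refine IsZero.eq_of_src (hgen _ A.obj.property (hs A.property) fun n φ => ?_) _ _
    obtain ⟨e⟩ := nonempty_incl_shift P₁ n
    let e' : (inclT O).obj (P'⟦n⟧) ≅ P⟦n⟧ :=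
      (incl X).mapIso (((off O).ι.commShiftIso n).app P') ≪≫ e ≪≫ (shiftFunctor _ n).mapIso eP
    obtain ⟨f, hf⟩ := (inclT O).map_surjective (e'.hom ≫ φ)
    rw [hA ⟨PUnit.unit, n⟩ f, Functor.map_zero] at hf
    exact (cancel_epi e'.hom).1 (hf.symm.trans comp_zero.symm)
  obtain ⟨F, inc, hF, ⟨κ, a, ⟨e₀⟩⟩, hstep⟩ := TriCat.exists_cell_resolution E'
    (TriCat.countPerfect_of_compact (E := E') fun p => TriCat.isCompactObject_shift (hcE p.1) p.2)
    (fun p : PUnit.{u+1} × ℤ => ⟨(p.1, p.2 + (-1)), ⟨(shiftFunctorAdd (DQT O) p.2 (-1)).app _⟩⟩) hdet K'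
  obtain ⟨n, g, hg⟩ := TriCat.IsHocolim.exists_factor hF hcK (𝟙 K')
  have henv := TriCat.envFactors_of_cell E hcE F.obj (fun n => F.map (homOfLE (Nat.le_succ n)))
    ⟨κ, fun k => (a k).1, fun k => (a k).2, ⟨e₀⟩⟩
    (fun m => by
      obtain ⟨κ', a', y, z, hT⟩ := hstep m
      exact ⟨κ', fun k => (a' k).1, fun k => (a' k).2, y, z, hT⟩) n K' hcK g
  obtain ⟨s, hs', A, i, r, hA, hir⟩ := henv
  have hle : (TriCat.finSub E s).triangEnvelope ≤ perfT O :=
    (ObjectProperty.triangEnvelope_le_iff _).2 fun Y ⟨j, _, hY⟩ => hY ▸ (hP.of_iso eP.symm)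
  have hK' : perfT O K' := (perfT O).prop_of_retract
    { i := i, r := r ≫ inc n, retract := by rw [← Category.assoc, hir, hg] } (hle A hA)
  exact LocSP.of_iso eK hK'

end Groth.Agent.KFlatLib.CompactPerfectSupport
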