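import Groth.Agent.KFlatLib.Scheme.AffineSections
import Groth.Agent.KFlatLib.Scheme.QCohD
import Groth.Agent.TriCat.DerivedProducts
import Mathlib.Algebra.Homology.DerivedCategory.FullyFaithful
import Mathlib.Algebra.Homology.DerivedCategory.TStructure
import Mathlib.CategoryTheory.Triangulated.TStructure.TruncLTGE

/-!
# Sections over affine opens of complexes with quasi-coherent cohomology

For `L` with quasi-coherent cohomology and `V` affine, `H⁰(V, L) = Γ(V, H⁰ L)`; `L` is not assumed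
bounded.
-/

set_option linter.style.haveILetI false

universe u

open CategoryTheory CategoryTheory.Limits AlgebraicGeometry Pretriangulated Opposite

attribute [local instance] HasDerivedCategory.standard

namespace Groth.Agent.KFlatLib

variable {X : Scheme.{u}}

lemma eq_zero_of_secObj {M N : X.Modules} (g : M ⟶ N)
    (h : ∀ V : X.Opens, IsAffineOpen V → ∀ s : secObj V ⟶ M, s ≫ g = 0) : g = 0 := by
  have key : ∀ V : X.Opens, IsAffineOpen V → ∀ a : Γ(M, V.ι ''ᵁ ⊤), g.app (V.ι ''ᵁ ⊤) a = 0 := by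
    intro V hV a
    obtain ⟨s, rfl⟩ := (secEquiv V M).surjective a
    rw [← secEquiv_naturality, h V hV s, ← comp_zero (f := (0 : secObj V ⟶ N)) (Z := N),
      secEquiv_naturality]
    simp
  ext U a
  refine TopCat.Sheaf.eq_of_locally_eq' (QCoh.abSheaf N)
    (fun i : {W : X.affineOpens // (W : X.Opens) ≤ U} => (i.1.1).ι ''ᵁ ⊤) U
    (fun i => homOfLE (by rw [Scheme.Opens.ι_image_top]; exact i.2)) (fun x hx => ?_) _ _ fun i => ?_
  · obtain ⟨_, ⟨W, hW, rfl⟩, hxW, hWU⟩ :=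
      X.isBasis_affineOpens.exists_subset_of_mem_open hx U.2
    refine TopologicalSpace.Opens.mem_iSup.2 ⟨⟨⟨W, hW⟩, hWU⟩, ?_⟩
    rw [Scheme.Opens.ι_image_top]
    exact hxW
  · have hN := ConcreteCategory.congr_hom
      (g.mapPresheaf.naturality (homOfLE (show i.1.1.ι ''ᵁ ⊤ ≤ U by
        rw [Scheme.Opens.ι_image_top]; exact i.2)).op) a
    exact hN.symm.trans ((key i.1.1 i.1.2 _).trans (map_zero _).symm)

lemma exists_secLift_exact {S : ShortComplex X.Modules} (hS : S.Exact) (h₁ : Coh.IsQCoh S.X₁)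
    (h₂ : Coh.IsQCoh S.X₂) {V : X.Opens} (hV : IsAffineOpen V) (x : secObj V ⟶ S.X₂)
    (hx : x ≫ S.g = 0) : ∃ y : secObj V ⟶ S.X₁, y ≫ S.f = x := by
  haveI : Epi (kernel.lift S.g S.f S.zero) := hS.epi_kernelLift
  let T : ShortComplex X.Modules :=
    ShortComplex.mk (kernel.ι (kernel.lift S.g S.f S.zero)) (kernel.lift S.g S.f S.zero)
      (kernel.condition _)
  have hT : T.ShortExact :=
    { exact := ShortComplex.exact_of_f_is_kernel _ (kernelIsKernel _) }
  have hker : Coh.IsQCoh (kernel S.f) := QCoh.isQCoh_kernel h₁ h₂ S.f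
  have hT₁ : Coh.IsQCoh T.X₁ :=
    isQCoh_of_iso (kernelIsoOfEq (kernel.lift_ι S.g S.f S.zero).symm ≪≫
      kernelCompMono (kernel.lift S.g S.f S.zero) (kernel.ι S.g)) hker
  obtain ⟨y, hy⟩ := exists_lift_of_shortExact hT (sAcyclic_of_isQCoh hT₁) hV (kernel.lift S.g x hx)
  exact ⟨y, by rw [← kernel.lift_ι S.g S.f S.zero, ← Category.assoc]; erw [hy]; simp⟩

/-- `H⁰` of a module placed in degree `0`. -/
noncomputable def h0Single (M : X.Modules) : DCoh.HD (DCoh.inD X M) 0 ≅ M :=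
  (DerivedCategory.singleFunctorCompHomologyFunctorIso X.Modules 0).app M

/-- `Hom(j_! O_V, L) ⟶ Hom(j_! O_V, H⁰ L)`. -/
noncomputable def psi (V : X.Opens) (L : DCoh.D X) (φ : DCoh.inD X (secObj V) ⟶ L) :
    secObj V ⟶ DCoh.HD L 0 :=
  (h0Single (secObj V)).inv ≫ (DerivedCategory.homologyFunctor X.Modules 0).map φ

/-- `H⁰(V, L) = Γ(V, H⁰ L)`. -/
def BijH0 (V : X.Opens) (L : DCoh.D X) : Prop := Function.Bijective (psi V L)

variable {V : X.Opens}

lemma psi_comp {L M : DCoh.D X} (φ : DCoh.inD X (secObj V) ⟶ L) (f : L ⟶ M) :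
    psi V M (φ ≫ f) = psi V L φ ≫ (DerivedCategory.homologyFunctor X.Modules 0).map f := by
  simp [psi]

lemma psi_add {L : DCoh.D X} (φ φ' : DCoh.inD X (secObj V) ⟶ L) :
    psi V L (φ + φ') = psi V L φ + psi V L φ' := by
  simp [psi]

lemma psi_zero (L : DCoh.D X) : psi V L 0 = 0 := by simp [psi]

lemma bijH0_of_iso {L M : DCoh.D X} (e : L ≅ M) (h : BijH0 V L) : BijH0 V M := by
  refine ⟨fun φ φ' hφ => ?_, fun y => ?_⟩
  · rw [← cancel_mono e.inv]
    apply h.1
    rw [psi_comp, psi_comp, hφ]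
  · obtain ⟨φ, hφ⟩ := h.2 (y ≫ (DerivedCategory.homologyFunctor X.Modules 0).map e.inv)
    exact ⟨φ ≫ e.hom, by rw [psi_comp, hφ, Category.assoc, ← Functor.map_comp, e.inv_hom_id]; simp⟩

lemma bijH0_of_subsingleton {L : DCoh.D X} (h₁ : ∀ φ : DCoh.inD X (secObj V) ⟶ L, φ = 0)
    (h₂ : IsZero (DCoh.HD L 0)) : BijH0 V L :=
  ⟨fun φ φ' _ => (h₁ φ).trans (h₁ φ').symm, fun y => ⟨0, h₂.eq_of_tgt _ _⟩⟩

lemma bijH0_of_isGE_one (L : DCoh.D X) [L.IsGE 1] : BijH0 V L :=
  bijH0_of_subsingleton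
    (fun φ => DerivedCategory.TStructure.t.zero φ 0 1 (by omega))
    (DerivedCategory.isZero_of_isGE L 1 0 (by omega))

lemma bijH0_single (hV : IsAffineOpen V) {M : X.Modules} (hM : Coh.IsQCoh M) (k : ℤ) :
    BijH0 V ((DCoh.inD X M)⟦k⟧) := by
  rcases lt_trichotomy k 0 with hk | rfl | hk
  · haveI : (DerivedCategory.TStructure.t).IsGE ((DCoh.inD X M)⟦k⟧) (-k) :=
      DerivedCategory.TStructure.t.isGE_shift (DCoh.inD X M) 0 k (-k) (by omega)
    haveI : ((DCoh.inD X M)⟦k⟧).IsGE 1 :=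
      DerivedCategory.TStructure.t.isGE_of_ge _ 1 (-k) (by omega)
    exact bijH0_of_isGE_one _
  · refine bijH0_of_iso ((shiftFunctorZero (DCoh.D X) ℤ).app _).symm ⟨fun φ φ' h => ?_, fun y => ?_⟩
    · obtain ⟨a, rfl⟩ := (DerivedCategory.singleFunctor X.Modules 0).map_surjective φ
      obtain ⟨a', rfl⟩ := (DerivedCategory.singleFunctor X.Modules 0).map_surjective φ'
      have hn : ∀ b, psi V (DCoh.inD X M) ((DerivedCategory.singleFunctor X.Modules 0).map b) =
          b ≫ (h0Single M).inv := fun b =>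
        ((DerivedCategory.singleFunctorCompHomologyFunctorIso X.Modules 0).inv.naturality b).symm
      erw [hn, hn, cancel_mono] at h
      rw [h]
    · refine ⟨(DerivedCategory.singleFunctor X.Modules 0).map (y ≫ (h0Single M).hom), ?_⟩
      exact (((DerivedCategory.singleFunctorCompHomologyFunctorIso X.Modules 0).inv.naturality
        _).symm.trans (by simp [h0Single]))
  · refine bijH0_of_subsingleton (hom_secObj_shift_eq_zero hV (sAcyclic_of_isQCoh hM) k hk) ?_
    haveI : (DerivedCategory.TStructure.t).IsLE ((DCoh.inD X M)⟦k⟧) (-k) :=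
      DerivedCategory.TStructure.t.isLE_shift (DCoh.inD X M) 0 k (-k) (by omega)
    haveI : ((DCoh.inD X M)⟦k⟧).IsLE (-k) := ‹_›
    exact DerivedCategory.isZero_of_isLE _ (-k) 0 (by omega)

lemma bijH0_obj₂ (hV : IsAffineOpen V) {T : Triangle (DCoh.D X)} (hT : T ∈ distTriang _)
    (hq₁ : DCoh.IsQCohD T.obj₁) (hq₃ : DCoh.IsQCohD T.obj₃)
    (e₁ : BijH0 V T.obj₁) (h₁ : BijH0 V (T.obj₁⟦(1 : ℤ)⟧))
    (e₃ : BijH0 V T.obj₃) (h₃ : BijH0 V (T.obj₃⟦(-1 : ℤ)⟧)) :
    BijH0 V T.obj₂ := by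
  let H := DerivedCategory.homologyFunctor X.Modules 0
  have hq₂ := isQCohD_obj₂ hT hq₁ hq₃
  have hinv := inv_rot_of_distTriang _ hT
  refine ⟨fun φ φ' h => sub_eq_zero.1 ?_, fun y => ?_⟩
  · have hd : psi V _ (φ - φ') = 0 := by
      have := psi_add (V := V) (φ - φ') φ'
      rw [sub_add_cancel, h] at this
      simpa using this
    generalize φ - φ' = δ at hd ⊢
    obtain ⟨δ₁, rfl⟩ := Triangle.coyoneda_exact₂ T hT δ
      (e₃.1 (by rw [psi_comp, hd, psi_zero, zero_comp]))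
    rw [psi_comp] at hd
    obtain ⟨z, hz⟩ := exists_secLift_exact
      (H.map_distinguished_exact _ hinv) (isQCohD_shift hq₃ (-1) 0) (hq₁ 0) hV (psi V _ δ₁) hd
    obtain ⟨ω, hω⟩ := h₃.2 z
    have hδ : δ₁ = ω ≫ T.invRotate.mor₁ :=
      e₁.1 (((psi_comp ω T.invRotate.mor₁).trans (by rw [hω]; exact hz)).symm)
    rw [hδ]
    have h0 : T.invRotate.mor₁ ≫ T.mor₁ = 0 := comp_distTriang_mor_zero₁₂ _ hinv
    exact (Category.assoc _ _ _).trans ((congrArg (ω ≫ ·) h0).trans comp_zero)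
  · obtain ⟨φ₃, h3⟩ := e₃.2 (y ≫ H.map T.mor₂)
    obtain ⟨φ, rfl⟩ := Triangle.coyoneda_exact₃ T hT φ₃ (h₁.1 (by
      rw [psi_comp, h3, Category.assoc, ← Functor.map_comp, comp_distTriang_mor_zero₂₃ _ hT,
        Functor.map_zero, comp_zero, psi_zero]))
    rw [psi_comp] at h3
    obtain ⟨z, hz⟩ := exists_secLift_exact (H.map_distinguished_exact _ hT) (hq₁ 0) (hq₂ 0) hV
      (y - psi V _ φ) (by
        change (y - psi V _ φ) ≫ H.map T.mor₂ = 0
        exact (Preadditive.sub_comp _ _ _).trans (sub_eq_zero.2 h3.symm))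
    obtain ⟨φ₁, h1⟩ := e₁.2 z
    refine ⟨φ + φ₁ ≫ T.mor₁, ?_⟩
    rw [psi_add, psi_comp, h1]
    exact (congrArg (psi V _ φ + ·) hz).trans (add_sub_cancel _ _)

lemma bijH0_of_bounded (hV : IsAffineOpen V) : ∀ (m : ℕ) (a : ℤ) (L : DCoh.D X), 1 - a ≤ m →
    L.IsGE a → DCoh.IsQCohD L → BijH0 V L := by
  intro m
  induction m with
  | zero =>
    intro a L ha hGE hq
    haveI : L.IsGE 1 := DerivedCategory.TStructure.t.isGE_of_ge L 1 a (by omega)
    exact bijH0_of_isGE_one L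
  | succ m ih =>
    intro a L ha hGE hq
    let t : Triangulated.TStructure (DCoh.D X) := DerivedCategory.TStructure.t
    let T := (t.triangleLTGE (a + 1)).obj L
    have hT : T ∈ distTriang _ := t.triangleLTGE_distinguished (a + 1) L
    haveI h3GE : T.obj₃.IsGE (a + 1) := t.isGE_truncGE_obj L (a + 1) (a + 1) le_rfl
    haveI h1LE : T.obj₁.IsLE a := t.isLE_truncLT_obj L (a + 1) a le_rfl
    haveI h1GE : T.obj₁.IsGE a := by
      refine t.isGE₂ T.invRotate (inv_rot_of_distTriang _ hT) a ?_ hGE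
      haveI h := t.isGE_shift T.obj₃ (a + 1) (-1) (a + 2) (by omega)
      exact @Triangulated.TStructure.isGE_of_ge _ _ _ _ _ _ _ t (T.obj₃⟦(-1 : ℤ)⟧) a (a + 2) (by omega) h
    have hq₃ : DCoh.IsQCohD T.obj₃ := fun i => by
      by_cases hi : a + 1 ≤ i
      · have hz : ∀ j, a < j → IsZero (DCoh.HD T.obj₁ j) := fun j hj =>
          DerivedCategory.isZero_of_isLE _ a j hj
        exact isQCoh_of_iso (@asIso _ _ _ _ ((DerivedCategory.homologyFunctor X.Modules i).map T.mor₂)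
          (by
            haveI : Mono ((DerivedCategory.homologyFunctor X.Modules i).map T.mor₂) :=
              (DerivedCategory.HomologySequence.exact₂ T hT i).mono_g ((hz i (by omega)).eq_of_src _ _)
            haveI : Epi ((DerivedCategory.homologyFunctor X.Modules i).map T.mor₂) :=
              (DerivedCategory.HomologySequence.exact₃ T hT i (i + 1) rfl).epi_f
                ((hz (i + 1) (by omega)).eq_of_tgt _ _)
            exact isIso_of_mono_of_epi _)) (hq i)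
      · exact isQCoh_of_isZero (DerivedCategory.isZero_of_isGE _ (a + 1) i (by omega))
    have hq₁ : DCoh.IsQCohD T.obj₁ := isQCohD_obj₁ hT hq hq₃
    have hb₁ : ∀ j : ℤ, BijH0 V (T.obj₁⟦j⟧) := fun j => by
      obtain ⟨M, ⟨e⟩⟩ := DerivedCategory.exists_iso_singleFunctor_obj_of_isGE_of_isLE T.obj₁ a
      let e' : T.obj₁ ≅ (DCoh.inD X M)⟦-a⟧ := e ≪≫
        (((DerivedCategory.singleFunctors X.Modules).shiftIso (-a) a 0 (by omega)).app M).symm
      have hM : Coh.IsQCoh M := isQCoh_of_iso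
        ((DerivedCategory.homologyFunctor X.Modules a).mapIso e ≪≫
          (DerivedCategory.singleFunctorCompHomologyFunctorIso X.Modules a).app M) (hq₁ a)
      exact bijH0_of_iso (((shiftFunctorAdd (DCoh.D X) (-a) j).app _) ≪≫
        (shiftFunctor (DCoh.D X) j).mapIso e'.symm) (bijH0_single hV hM (-a + j))
    refine bijH0_obj₂ hV hT hq₁ hq₃ (bijH0_of_iso ((shiftFunctorZero (DCoh.D X) ℤ).app _) (hb₁ 0))
      (hb₁ 1) (ih (a + 1) T.obj₃ (by omega) h3GE hq₃) ?_
    haveI h := t.isGE_shift T.obj₃ (a + 1) (-1) (a + 2) (by omega)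
    exact ih (a + 2) _ (by omega) h (isQCohD_shift hq₃ (-1))

/-- `H⁰(V, L) = Γ(V, H⁰ L)` for bounded below `L`. -/
lemma bijH0_of_isGE (hV : IsAffineOpen V) (a : ℤ) (L : DCoh.D X) [L.IsGE a]
    (hq : DCoh.IsQCohD L) : BijH0 V L :=
  bijH0_of_bounded hV (1 - a).toNat a L (by omega) inferInstance hq

end Groth.Agent.KFlatLib
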