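import Groth.Agent.KFlatLib.Scheme.PushCoprod
import Groth.Agent.KFlatLib.Scheme.DQCohSections
import Groth.Agent.KFlatLib.Scheme.TildeD
import Groth.Agent.TriCat.Resolve
import Groth.Agent.QCoh.HHExact

/-!
# Sections over compact opens of coproducts of bounded below complexes of injectives
-/

set_option linter.style.haveILetI false
set_option backward.isDefEq.respectTransparency false

universe u v w

open CategoryTheory CategoryTheory.Limits AlgebraicGeometry TopologicalSpace Opposite

attribute [local instance] HasDerivedCategory.standard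

namespace Groth.Agent.KFlatLib

section PartProj

variable {C : Type*} [Category C] [HasZeroMorphisms C] {J : Type w} (M : J → C) [HasCoproduct M]

open Classical in
/-- The idempotent cutting out a finite partial sum. -/
noncomputable def partProj (F : Finset J) : ∐ M ⟶ ∐ M :=
  Sigma.desc fun i => if i ∈ F then Sigma.ι M i else 0

lemma ι_partProj_mem {F : Finset J} {i : J} (h : i ∈ F) : Sigma.ι M i ≫ partProj M F = Sigma.ι M i := by
  simp [partProj, h]

lemma ι_partProj_not_mem {F : Finset J} {i : J} (h : i ∉ F) : Sigma.ι M i ≫ partProj M F = 0 := by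
  simp [partProj, h]

lemma partProj_comp {F G : Finset J} (h : F ⊆ G) : partProj M F ≫ partProj M G = partProj M F := by
  refine Sigma.hom_ext _ _ fun i => ?_
  by_cases hi : i ∈ F
  · rw [← Category.assoc, ι_partProj_mem M hi, ι_partProj_mem M (h hi)]
  · rw [← Category.assoc, ι_partProj_not_mem M hi, zero_comp]

/-- Natural in the summands. -/
lemma sigmaMap_partProj {N : J → C} [HasCoproduct N] (g : ∀ j, M j ⟶ N j) (F : Finset J) :
    partProj M F ≫ Limits.Sigma.map g = Limits.Sigma.map g ≫ partProj N F := by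
  refine Sigma.hom_ext _ _ fun i => ?_
  by_cases hi : i ∈ F
  · rw [← Category.assoc, ι_partProj_mem M hi, Limits.Sigma.ι_map_assoc, ι_partProj_mem N hi,
      Limits.Sigma.ι_map]
  · rw [← Category.assoc, ι_partProj_not_mem M hi, zero_comp, Limits.Sigma.ι_map_assoc,
      ι_partProj_not_mem N hi, comp_zero]

/-- Compatible with comparison maps. -/
lemma sigmaComparison_partProj {D : Type*} [Category D] [HasZeroMorphisms D] (H : C ⥤ D)
    [H.PreservesZeroMorphisms] [HasCoproduct fun j => H.obj (M j)] (F : Finset J) :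
    sigmaComparison H M ≫ H.map (partProj M F) =
      partProj (fun j => H.obj (M j)) F ≫ sigmaComparison H M := by
  refine Sigma.hom_ext _ _ fun i => ?_
  rw [ι_comp_sigmaComparison_assoc, ← H.map_comp]
  by_cases hi : i ∈ F
  · rw [ι_partProj_mem M hi, ← Category.assoc, ι_partProj_mem _ hi, ι_comp_sigmaComparison]
  · rw [ι_partProj_not_mem M hi, ← Category.assoc, ι_partProj_not_mem _ hi, zero_comp, H.map_zero]

end PartProj

variable {X : Scheme.{u}}

/-- Maps from `j_! O_W` to a coproduct are supported in finite partial sums. -/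
lemma exists_fix_secObj {J : Type u} (M : J → X.Modules) {W : X.Opens} (hW : IsCompact (W : Set X))
    (g : secObj W ⟶ ∐ M) : ∃ F : Finset J, g ≫ partProj M F = g := by
  obtain ⟨F, hF⟩ := exists_fix_section M (W := W.ι ''ᵁ ⊤) (by rw [Scheme.Opens.ι_image_top]; exact hW)
    (secEquiv W _ g)
  have e : partProj M F = finProj M F ≫ finIncl M F := by
    refine Sigma.hom_ext _ _ fun i => ?_
    by_cases hi : i ∈ F
    · rw [ι_partProj_mem M hi, ι_finProj_finIncl M F i hi]
    · rw [ι_partProj_not_mem M hi]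
      simp [finProj, hi]
  refine ⟨F, (secEquiv W _).injective ?_⟩
  rw [secEquiv_naturality, e]
  exact hF F subset_rfl

lemma qcAcyclic_X₃ {S : ShortComplex X.Modules} (hS : S.ShortExact) (h₁ : QcAcyclic S.X₁)
    (h₂ : QcAcyclic S.X₂) : QcAcyclic S.X₃ :=
  let T := S.map (QCoh.toAbFunctor X)
  QCoh.Ab.Acyclic_X₃ (T := T) (qcCovers X) (shortExact_toAb hS) h₁ h₂

lemma qcAcyclic_of_isZero {M : X.Modules} (h : IsZero M) : QcAcyclic M :=
  haveI : Injective M := h.injective
  qcAcyclic_of_injective M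

lemma exists_lift_of_qcAcyclic {S : ShortComplex X.Modules} (hS : S.ShortExact) (h₁ : QcAcyclic S.X₁)
    {W : X.Opens} (hW : IsCompact (W : Set X)) (hW' : IsQuasiSeparated (W : Set X))
    (φ : secObj W ⟶ S.X₃) : ∃ ψ : secObj W ⟶ S.X₂, ψ ≫ S.g = φ := by
  let T := S.map (QCoh.toAbFunctor X)
  obtain ⟨t, ht⟩ := QCoh.Ab.sections_surjective (T := T) (qcCovers X)
    (shortExact_toAb hS) h₁ (V := W.ι ''ᵁ ⊤)
    (by rw [Scheme.Opens.ι_image_top]; exact ⟨hW, hW'⟩) (secEquiv W _ φ)
  refine ⟨(secEquiv W _).symm t, (secEquiv W _).injective ?_⟩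
  rw [secEquiv_naturality, Equiv.apply_symm_apply]
  exact ht

/-- The short exact sequence of cycles at an exact degree. -/
lemma shortExact_cycles (C : CochainComplex X.Modules ℤ) (i : ℤ) (h : IsZero (C.homology (i + 1))) :
    ∃ (w : C.iCycles i ≫ C.toCycles i (i + 1) = 0),
      (ShortComplex.mk (C.iCycles i) (C.toCycles i (i + 1)) w).ShortExact := by
  have w : C.iCycles i ≫ C.toCycles i (i + 1) = 0 := by
    rw [← cancel_mono (C.iCycles (i + 1)), Category.assoc, C.toCycles_i, C.iCycles_d, zero_comp]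
  refine ⟨w, { exact := ?_, mono_f := inferInstance, epi_g := ?_ }⟩
  · refine ShortComplex.exact_of_f_is_kernel _ (KernelFork.IsLimit.ofι _ _
      (fun {Z} k hk => C.liftCycles k (i + 1) (by simp) ?_) (fun _ _ => C.liftCycles_i _ _ _ _)
      (fun _ _ m hm => (cancel_mono (C.iCycles i)).1 (hm.trans (C.liftCycles_i _ _ _ _).symm)))
    have := congrArg (· ≫ C.iCycles (i + 1)) hk
    simpa using this
  · refine Preadditive.epi_of_cancel_zero _ fun {Z} g hg => ?_
    obtain ⟨l, hl⟩ := CokernelCofork.IsColimit.desc' (C.homologyIsCokernel i (i + 1) (by simp)) g hg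
    rw [← hl, show l = 0 from h.eq_of_src _ _, comp_zero]

lemma qcAcyclic_cycles (C : CochainComplex X.Modules ℤ) (hC : C.Acyclic) (n : ℤ) [C.IsStrictlyGE n]
    (hq : ∀ k, QcAcyclic (C.X k)) (i : ℤ) : QcAcyclic (C.cycles i) := by
  have hz : ∀ i < n, QcAcyclic (C.cycles i) := fun i hi =>
    qcAcyclic_of_isZero (IsZero.of_mono (C.iCycles i) (C.isZero_of_isStrictlyGE n i hi))
  by_cases hi : i < n
  · exact hz i hi
  · obtain ⟨k, rfl⟩ := Int.le.dest (show n - 1 ≤ i by omega)
    clear hi
    induction k with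
    | zero => exact hz _ (by omega)
    | succ k ih =>
      obtain ⟨w, hS⟩ := shortExact_cycles C (n - 1 + k) ((acyclic_iff_isZero _).1 hC _)
      have := qcAcyclic_X₃ hS ih (hq _)
      rw [show n - 1 + ((k + 1 : ℕ) : ℤ) = n - 1 + k + 1 by push_cast; omega]
      exact this

/-- Cocycles on a compact quasi-separated open of a bounded below acyclic complex of acyclic modules
are coboundaries. -/
lemma exists_secObj_boundary (C : CochainComplex X.Modules ℤ) (hC : C.Acyclic) (n : ℤ)
    [C.IsStrictlyGE n] (hq : ∀ k, QcAcyclic (C.X k)) {W : X.Opens} (hW : IsCompact (W : Set X))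
    (hW' : IsQuasiSeparated (W : Set X)) (i : ℤ) (x : secObj W ⟶ C.X (i + 1))
    (hx : x ≫ C.d (i + 1) (i + 1 + 1) = 0) : ∃ y : secObj W ⟶ C.X i, y ≫ C.d i (i + 1) = x := by
  obtain ⟨w, hS⟩ := shortExact_cycles C i ((acyclic_iff_isZero _).1 hC _)
  obtain ⟨y, hy⟩ := exists_lift_of_qcAcyclic hS (qcAcyclic_cycles C hC n hq i) hW hW'
    (C.liftCycles x (i + 1 + 1) (by simp) hx)
  refine ⟨y, ?_⟩
  rw [← C.toCycles_i i (i + 1), ← Category.assoc]
  exact (congrArg (· ≫ C.iCycles (i + 1)) hy).trans (C.liftCycles_i _ _ _ _)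

/-- A cocycle of `L` comes from one of `K` up to a boundary, when the cokernel is acyclic. -/
lemma exists_cocycle_lift {K L : CochainComplex X.Modules ℤ} (t : K ⟶ L) [∀ m, Mono (t.f m)]
    [QuasiIso t] (n : ℤ) [K.IsStrictlyGE n] [L.IsStrictlyGE n] (hK : ∀ m, QcAcyclic (K.X m))
    (hL : ∀ m, QcAcyclic (L.X m)) {W : X.Opens} (hW : IsCompact (W : Set X))
    (hW' : IsQuasiSeparated (W : Set X)) (i : ℤ) (g : secObj W ⟶ L.X (i + 1))
    (hg : g ≫ L.d (i + 1) (i + 1 + 1) = 0) :
    ∃ (z : secObj W ⟶ K.X (i + 1)) (b : secObj W ⟶ L.X i),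
      z ≫ K.d (i + 1) (i + 1 + 1) = 0 ∧ z ≫ t.f (i + 1) + b ≫ L.d i (i + 1) = g := by
  haveI : Mono t := HomologicalComplex.mono_of_mono_f _ inferInstance
  let S : ShortComplex (CochainComplex X.Modules ℤ) :=
    ShortComplex.mk t (cokernel.π t) (cokernel.condition t)
  have hS : S.ShortExact :=
    { exact := ShortComplex.exact_of_g_is_cokernel _ (cokernelIsCokernel t) }
  have hdeg : ∀ m, (S.map (HomologicalComplex.eval X.Modules (ComplexShape.up ℤ) m)).ShortExact :=
    fun m => hS.map_of_exact _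
  let C := cokernel t
  haveI : C.IsStrictlyGE n := (CochainComplex.isStrictlyGE_iff _ n).2 fun m hm =>
    haveI := (hdeg m).epi_g
    IsZero.of_epi ((cokernel.π t).f m) (L.isZero_of_isStrictlyGE n m hm)
  have hC : C.Acyclic := by
    have := (DerivedCategory.isIso_Q_map_iff_quasiIso (C := X.Modules) t).2 inferInstance
    have hz : IsZero (DerivedCategory.Q.obj C) :=
      Pretriangulated.Triangle.isZero₃_of_isIso₁ _ (DerivedCategory.triangleOfSES_distinguished hS) this
    exact (acyclic_iff_isZero _).2 fun m =>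
      ((DerivedCategory.homologyFunctor X.Modules m).map_isZero hz).of_iso
        ((DerivedCategory.homologyFunctorFactors X.Modules m).app C).symm
  have hq : ∀ m, QcAcyclic (C.X m) := fun m => qcAcyclic_X₃ (hdeg m) (hK m) (hL m)
  obtain ⟨y, hy⟩ := exists_secObj_boundary C hC n hq hW hW' i (g ≫ (cokernel.π t).f (i + 1))
    (by rw [Category.assoc, (cokernel.π t).comm, reassoc_of% hg, zero_comp])
  obtain ⟨b, hb⟩ := exists_lift_of_qcAcyclic (hdeg i) (hK i) hW hW' y
  have h0 : (g - b ≫ L.d i (i + 1)) ≫ (cokernel.π t).f (i + 1) = 0 := by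
    rw [Preadditive.sub_comp, Category.assoc, ← (cokernel.π t).comm, ← Category.assoc,
      show b ≫ (cokernel.π t).f i = y from hb, hy, sub_self]
  let z := (hdeg (i + 1)).fIsKernel
  obtain ⟨z, hz⟩ := KernelFork.IsLimit.lift' (hdeg (i + 1)).fIsKernel (g - b ≫ L.d i (i + 1)) h0
  have hz' : z ≫ t.f (i + 1) = g - b ≫ L.d i (i + 1) := hz
  refine ⟨z, b, ?_, by rw [hz', sub_add_cancel]⟩
  rw [← cancel_mono (t.f (i + 1 + 1)), Category.assoc, ← t.comm, reassoc_of% hz',
    Preadditive.sub_comp, hg, Category.assoc, L.d_comp_d, comp_zero, sub_zero, zero_comp]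

/-- Maps from shifts of `j_! O_W` into a coproduct of bounded below complexes of injectives are
supported in finite partial sums. -/
theorem exists_fix_bounded {J : Type u} (K : J → CochainComplex X.Modules ℤ) (n : ℤ)
    [∀ j, (K j).IsStrictlyGE n] [∀ j m, Injective ((K j).X m)] {W : X.Opens}
    (hW : IsCompact (W : Set X)) (hW' : IsQuasiSeparated (W : Set X)) (m : ℤ)
    (φ : DerivedCategory.Q.obj ((HomologicalComplex.single X.Modules (ComplexShape.up ℤ) m).obj
      (secObj W)) ⟶ DerivedCategory.Q.obj (∐ K)) :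
    ∃ F : Finset J, φ ≫ DerivedCategory.Q.map (partProj K F) = φ := by
  haveI := SpObjSS.enoughInjectives_of_hasInjectiveResolutions (C := X.Modules)
  let ev := fun k => HomologicalComplex.eval X.Modules (ComplexShape.up ℤ) k
  let e : ∀ k, ∐ (fun j => (K j).X k) ≅ (∐ K).X k := fun k => (PreservesCoproduct.iso (ev k) K).symm
  haveI : (∐ K).IsStrictlyGE n := (CochainComplex.isStrictlyGE_iff _ n).2 fun k hk => by
    refine IsZero.of_iso ?_ (e k).symm
    rw [IsZero.iff_id_eq_zero]
    exact Sigma.hom_ext _ _ fun j =>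
      (CochainComplex.isZero_of_isStrictlyGE (K j) n k hk).eq_of_src _ _
  have hK : ∀ k, QcAcyclic ((∐ K).X k) := fun k =>
    qcAcyclic_of_retract (e k).inv (e k).hom (e k).inv_hom_id (qcAcyclic_sigma fun j => (K j).X k)
  obtain ⟨L, t, hL, hinj, hmono, hqis⟩ := TriCat.exists_quasiIso_resolution (A := X.Modules) Injective
    ⟨_, isZero_zero X.Modules, IsZero.injective (isZero_zero _)⟩
    (fun M => ⟨Injective.under M, Injective.ι M, inferInstance, inferInstance⟩) (∐ K) n
  haveI := hL; haveI := hmono; haveI := hqis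
  haveI : ∀ k, Injective (L.X k) := hinj
  haveI : L.IsKInjective := CochainComplex.isKInjective_of_injective _ n
  obtain ⟨g, hg⟩ := exists_Q_map (φ ≫ DerivedCategory.Q.map t)
  obtain ⟨i, rfl⟩ : ∃ i, m = i + 1 := ⟨m - 1, by omega⟩
  let sx := HomologicalComplex.singleObjXSelf (ComplexShape.up ℤ) (i + 1) (secObj W)
  obtain ⟨z, b, hz, hzb⟩ := exists_cocycle_lift t n hK
    (fun k => qcAcyclic_of_injective (L.X k)) hW hW' i (sx.inv ≫ g.f (i + 1)) (by
      rw [Category.assoc, g.comm]
      simp)
  let z' : (HomologicalComplex.single X.Modules (ComplexShape.up ℤ) (i + 1)).obj (secObj W) ⟶ ∐ K :=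
    HomologicalComplex.mkHomFromSingle z fun k hk => by
      obtain rfl : i + 1 + 1 = k := hk
      exact hz
  have hz' : DerivedCategory.Q.map z' = φ := by
    haveI := (DerivedCategory.isIso_Q_map_iff_quasiIso (C := X.Modules) t).2 inferInstance
    rw [← cancel_mono (DerivedCategory.Q.map t), ← hg, ← Functor.map_comp]
    refine (DerivedCategory.Q_map_eq_of_homotopy _
      { hom := fun p q => if h : p = i + 1 ∧ q = i then
          (((HomologicalComplex.single X.Modules (ComplexShape.up ℤ) (i + 1)).obj (secObj W)).XIsoOfEq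
            h.1).hom ≫ sx.hom ≫ b ≫ (L.XIsoOfEq h.2).inv else 0
        zero := fun p q hpq => dif_neg fun h => hpq (by rw [h.1, h.2]; rfl)
        comm := fun p => ?_ }).symm
    by_cases hp : p = i + 1
    · subst hp
      rw [dNext_eq _ (show (ComplexShape.up ℤ).Rel (i + 1) (i + 1 + 1) from rfl),
        prevD_eq _ (show (ComplexShape.up ℤ).Rel i (i + 1) from rfl),
        HomologicalComplex.single_obj_d, zero_comp, zero_add, dif_pos (And.intro rfl rfl),
        HomologicalComplex.comp_f,
        HomologicalComplex.mkHomFromSingle_f]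
      simp only [HomologicalComplex.XIsoOfEq_rfl, Iso.refl_hom, Iso.refl_inv, Category.id_comp,
        Category.assoc]
      have h := congrArg (sx.hom ≫ ·) hzb
      simp only [Preadditive.comp_add, Iso.hom_inv_id_assoc] at h
      exact h.symm.trans (add_comm _ _)
    · exact (HomologicalComplex.isZero_single_obj_X _ _ _ _ hp).eq_of_src _ _
  obtain ⟨F, hF⟩ := exists_fix_secObj (fun j => (K j).X (i + 1)) hW (z ≫ (e (i + 1)).inv)
  refine ⟨F, ?_⟩
  rw [← hz', ← Functor.map_comp]
  congr 1
  refine HomologicalComplex.from_single_hom_ext ?_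
  rw [HomologicalComplex.comp_f, HomologicalComplex.mkHomFromSingle_f, Category.assoc]
  refine congrArg (sx.hom ≫ ·) ?_
  have hc : (e (i + 1)).hom ≫ (partProj K F).f (i + 1) =
      partProj (fun j => (K j).X (i + 1)) F ≫ (e (i + 1)).hom := sigmaComparison_partProj K (ev (i + 1)) F
  rw [← (Iso.eq_inv_comp _).2 hc |>.symm]
  rw [← Category.assoc, ← Category.assoc, hF, Category.assoc, Iso.inv_hom_id, Category.comp_id]

end Groth.Agent.KFlatLib
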