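import Groth.Agent.KFlatLib.Scheme.DQCohSections
import Groth.Agent.QCoh.HHExact
import Mathlib.Algebra.Homology.SingleHomology

/-!
# Removing the lower bound: `H⁰(V, L) = Γ(V, H⁰ L)` for all `L` with quasi-coherent cohomology
-/

set_option linter.style.haveILetI false

universe u

open CategoryTheory CategoryTheory.Limits AlgebraicGeometry Pretriangulated Opposite

attribute [local instance] HasDerivedCategory.standard

namespace Groth.Agent.KFlatLib

variable {X : Scheme.{u}}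

lemma secEquiv_zero (V : X.Opens) (M : X.Modules) : secEquiv V M 0 = 0 := by
  have h := secEquiv_naturality V (0 : secObj V ⟶ M) (0 : M ⟶ M)
  rw [zero_comp] at h
  exact h.trans (by simp)

lemma exists_system_sol : ∀ (N : ℕ) (A : ℕ → Type*) [∀ n, AddCommGroup (A n)]
    (t : ∀ n, A (n + 1) →+ A n), (∀ n, N ≤ n → Function.Surjective (t n)) →
    ∀ (c : ∀ n, A n) (a : A N), ∃ x : ∀ n, A n, x N = a ∧ ∀ n, x n - t n (x (n + 1)) = c n := by
  intro N
  induction N with
  | zero =>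
    intro A _ t ht c a
    choose g hg using fun n => ht n (Nat.zero_le n)
    let x : ∀ n, A n := fun n => Nat.rec a (fun k xk => g k (xk - c k)) n
    exact ⟨x, rfl, fun n => by rw [show x (n + 1) = g n (x n - c n) from rfl, hg]; exact sub_sub_cancel _ _⟩
  | succ N ih =>
    intro A _ t ht c a
    obtain ⟨x', hN, hx'⟩ := ih (fun n => A (n + 1)) (fun n => t (n + 1))
      (fun n hn => ht (n + 1) (by omega)) (fun n => c (n + 1)) a
    let x : ∀ n, A n
      | 0 => c 0 + t 0 (x' 0)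
      | n + 1 => x' n
    refine ⟨x, hN, fun n => ?_⟩
    cases n with
    | zero => exact add_sub_cancel_right _ _
    | succ k => exact hx' k

lemma exists_psi_of_cycles {V : X.Opens} (K : CochainComplex X.Modules ℤ)
    (ζ : secObj V ⟶ K.cycles 0) :
    ∃ φ, psi V (DerivedCategory.Q.obj K) φ =
      ζ ≫ K.homologyπ 0 ≫ ((DerivedCategory.homologyFunctorFactors X.Modules 0).app K).inv := by
  let F := secObj V
  let S := (HomologicalComplex.single X.Modules (ComplexShape.up ℤ) 0).obj F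
  let g : S ⟶ K := HomologicalComplex.mkHomFromSingle (ζ ≫ K.iCycles 0) (fun j _ => by simp)
  have hg : HomologicalComplex.cyclesMap g 0 =
      (HomologicalComplex.singleObjCyclesSelfIso (ComplexShape.up ℤ) 0 F).hom ≫ ζ := by
    rw [← cancel_mono (K.iCycles 0), HomologicalComplex.cyclesMap_i, Category.assoc]
    simp [g, S, HomologicalComplex.singleObjCyclesSelfIso_hom, HomologicalComplex.mkHomFromSingle_f]
  have hH : (HomologicalComplex.singleObjHomologySelfIso (ComplexShape.up ℤ) 0 F).inv ≫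
      HomologicalComplex.homologyMap g 0 = ζ ≫ K.homologyπ 0 := by
    rw [← cancel_epi (HomologicalComplex.singleObjCyclesSelfIso (ComplexShape.up ℤ) 0 F).hom,
      HomologicalComplex.singleObjHomologySelfIso_hom_singleObjHomologySelfIso_inv_assoc,
      HomologicalComplex.homologyπ_naturality, hg, Category.assoc]
  refine ⟨((SingleFunctors.evaluation _ _ 0).mapIso
    (DerivedCategory.singleFunctorsPostcompQIso X.Modules)).hom.app F ≫ DerivedCategory.Q.map g, ?_⟩
  let eS := ((SingleFunctors.evaluation _ _ 0).mapIso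
    (DerivedCategory.singleFunctorsPostcompQIso X.Modules)).app F
  let H := DerivedCategory.homologyFunctor X.Modules 0
  let φ := DerivedCategory.homologyFunctorFactors X.Modules 0
  have h0 : (h0Single F).inv ≫ H.map eS.hom ≫ (φ.app S).hom =
      (HomologicalComplex.singleObjHomologySelfIso (ComplexShape.up ℤ) 0 F).inv := by
    refine (cancel_epi (h0Single F).hom).1 ?_
    rw [Iso.hom_inv_id_assoc]
    refine (cancel_mono (HomologicalComplex.singleObjHomologySelfIso
      (ComplexShape.up ℤ) 0 F).hom).1 ?_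
    refine ((Category.assoc _ _ _).trans ?_).trans (((Category.assoc _ _ _).trans
      ((congrArg _ (Iso.inv_hom_id _)).trans (Category.comp_id _))).symm)
    exact (congrArg (H.map eS.hom ≫ ·) (Category.id_comp _)).symm
  have hn : H.map (DerivedCategory.Q.map g) =
      (φ.app S).hom ≫ HomologicalComplex.homologyMap g 0 ≫ (φ.app K).inv := by
    refine Eq.trans ?_ (Category.assoc _ _ _)
    refine (Iso.eq_comp_inv _).2 ?_
    exact φ.hom.naturality g
  calc (h0Single F).inv ≫ H.map (eS.hom ≫ DerivedCategory.Q.map g)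
      = ((h0Single F).inv ≫ H.map eS.hom ≫ (φ.app S).hom) ≫
          HomologicalComplex.homologyMap g 0 ≫ (φ.app K).inv :=
        (congrArg ((h0Single F).inv ≫ ·) (H.map_comp _ _)).trans
          ((congrArg (fun z => (h0Single F).inv ≫ H.map eS.hom ≫ z) hn).trans
            (by simp only [Category.assoc]; rfl))
    _ = _ := by
      rw [h0]
      exact (Category.assoc _ _ _).symm.trans
        ((congrArg (· ≫ (φ.app K).inv) hH).trans (Category.assoc _ _ _))

lemma exists_local_lift {V : X.Opens} (L : DCoh.D X) (s : secObj V ⟶ DCoh.HD L 0) {x : X}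
    (hx : x ∈ V) :
    ∃ (W : X.Opens), x ∈ W ∧ W ≤ V ∧ IsAffineOpen W ∧ ∀ (hle : W.ι ''ᵁ ⊤ ≤ V.ι ''ᵁ ⊤),
      ∃ φ : DCoh.inD X (secObj W) ⟶ L, secEquiv W _ (psi W L φ) =
        (DCoh.HD L 0).presheaf.map (homOfLE hle).op (secEquiv V _ s) := by
  let K := DerivedCategory.Q.objPreimage L
  let e : DerivedCategory.Q.obj K ≅ L := DerivedCategory.Q.objObjPreimageIso L
  let p : K.cycles 0 ⟶ DCoh.HD L 0 := K.homologyπ 0 ≫
    ((DerivedCategory.homologyFunctorFactors X.Modules 0).app K).inv ≫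
    (DerivedCategory.homologyFunctor X.Modules 0).map e.hom
  haveI : Epi p := by
    have h1 : Epi (((DerivedCategory.homologyFunctorFactors X.Modules 0).app K).inv ≫
        (DerivedCategory.homologyFunctor X.Modules 0).map e.hom) :=
      @IsIso.epi_of_iso _ _ _ _ _ (IsIso.comp_isIso' inferInstance inferInstance)
    exact @epi_comp _ _ _ _ _ _ inferInstance _ h1
  haveI := (QCoh.toAbFunctor X).map_epi p
  have hsurj := (TopCat.Presheaf.isLocallySurjective_iff ((QCoh.toAbFunctor X).map p).hom).1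
    ((TopCat.Sheaf.isLocallySurjective_iff_epi ((QCoh.toAbFunctor X).map p)).2
      ((QCoh.toAbFunctor X).map_epi p))
  obtain ⟨N, hNV, ⟨z, hz⟩, hxN⟩ := hsurj (V.ι ''ᵁ ⊤) (secEquiv V _ s) x
    (by rw [V.ι_image_top]; exact hx)
  obtain ⟨_, ⟨W, hW, rfl⟩, hxW, hWN⟩ :=
    X.isBasis_affineOpens.exists_subset_of_mem_open hxN N.2
  refine ⟨W, hxW, fun a ha => (Scheme.Opens.ι_image_top V).le (hNV (hWN ha)), hW, fun hle => ?_⟩
  have hWN' : Scheme.Opens.ι (X := X) W ''ᵁ ⊤ ≤ N := by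
    rw [Scheme.Opens.ι_image_top]; exact hWN
  let ζ := (secEquiv W (K.cycles 0)).symm ((K.cycles 0).presheaf.map (homOfLE hWN').op z)
  obtain ⟨φ, hφ⟩ := exists_psi_of_cycles K ζ
  refine ⟨φ ≫ e.hom, ?_⟩
  rw [psi_comp, hφ]
  have hp : ζ ≫ p = (ζ ≫ K.homologyπ 0 ≫
      ((DerivedCategory.homologyFunctorFactors X.Modules 0).app K).inv) ≫
        (DerivedCategory.homologyFunctor X.Modules 0).map e.hom :=
    (congrArg (ζ ≫ ·) (Category.assoc _ _ _).symm).trans (Category.assoc _ _ _).symm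
  rw [← hp, secEquiv_naturality, Equiv.apply_symm_apply]
  refine (ConcreteCategory.congr_hom (p.mapPresheaf.naturality (homOfLE hWN').op) z).trans ?_
  refine (congrArg ((DCoh.HD L 0).presheaf.map (homOfLE hWN').op) hz).trans ?_
  exact (ConcreteCategory.congr_hom ((DCoh.HD L 0).presheaf.map_comp _ _) _).symm

lemma map_presheaf_eq_zero {M M' : X.Modules} (g : M ⟶ M') {U W : X.Opensᵒᵖ} (j : U ⟶ W)
    (y : M.presheaf.obj U) (h : g.app U.unop y = 0) :
    g.app W.unop (M.presheaf.map j y) = 0 := by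
  refine (ConcreteCategory.congr_hom (g.mapPresheaf.naturality j) y).trans ?_
  exact (congrArg (M'.presheaf.map j) h).trans (map_zero _)

lemma secObj_hom_eq_zero_of_local {V : X.Opens} {M : X.Modules} (y : secObj V ⟶ M)
    (h : ∀ x ∈ V, ∃ W : X.Opens, x ∈ W ∧ W ≤ V ∧ ∀ hle : W.ι ''ᵁ ⊤ ≤ V.ι ''ᵁ ⊤,
      M.presheaf.map (homOfLE hle).op (secEquiv V _ y) = 0) : y = 0 := by
  refine (secEquiv V _).injective ?_
  rw [secEquiv_zero]
  choose W hxW hWV hW using fun x : V => h x.1 x.2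
  refine TopCat.Sheaf.eq_of_locally_eq' (QCoh.abSheaf M) (fun x : V => (W x).ι ''ᵁ ⊤)
    (V.ι ''ᵁ ⊤)
    (fun x => homOfLE ((Scheme.Opens.ι_image_top _).le.trans
      ((hWV x).trans (Scheme.Opens.ι_image_top V).ge)))
    (fun x hx => ?_) _ _ fun x => ?_
  · refine TopologicalSpace.Opens.mem_iSup.2 ⟨⟨x, (Scheme.Opens.ι_image_top V).le hx⟩, ?_⟩
    exact (Scheme.Opens.ι_image_top _).ge (hxW _)
  · exact (hW x _).trans (map_zero _).symm

lemma triangle_units_smul {C : Type*} [Category C] [HasZeroObject C] [HasShift C ℤ]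
    [Preadditive C] [∀ n : ℤ, (shiftFunctor C n).Additive] [Pretriangulated C]
    {A B D : C} (ε : ℤˣ) {a : A ⟶ B} {b : B ⟶ D} {c : D ⟶ A⟦(1 : ℤ)⟧}
    (h : Triangle.mk (ε • a) (ε • b) c ∈ distTriang C) : Triangle.mk a b c ∈ distTriang C := by
  refine isomorphic_distinguished _ h _ (Triangle.isoMk _ _ (Iso.refl A)
    { hom := ε • 𝟙 B
      inv := ε • 𝟙 B
      hom_inv_id := ?_
      inv_hom_id := ?_ } (Iso.refl D) ?_ ?_ ?_)
  · change ((ε : ℤ) • 𝟙 B) ≫ ((ε : ℤ) • 𝟙 B) = 𝟙 B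
    rw [Preadditive.zsmul_comp, Category.id_comp, smul_smul, ← Units.val_mul, Int.units_mul_self,
      Units.val_one, one_smul]
  · change ((ε : ℤ) • 𝟙 B) ≫ ((ε : ℤ) • 𝟙 B) = 𝟙 B
    rw [Preadditive.zsmul_comp, Category.id_comp, smul_smul, ← Units.val_mul, Int.units_mul_self,
      Units.val_one, one_smul]
  · change a ≫ ((ε : ℤ) • 𝟙 B) = 𝟙 A ≫ ((ε : ℤ) • a)
    rw [Preadditive.comp_zsmul, Category.comp_id, Category.id_comp]
  · change b ≫ 𝟙 D = ((ε : ℤ) • 𝟙 B) ≫ ((ε : ℤ) • b)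
    rw [Preadditive.zsmul_comp, Category.id_comp, Category.comp_id, smul_smul, ← Units.val_mul,
      Int.units_mul_self, Units.val_one, one_smul]
  · change c ≫ (shiftFunctor C (1 : ℤ)).map (𝟙 A) = 𝟙 D ≫ c
    rw [CategoryTheory.Functor.map_id, Category.comp_id, Category.id_comp]

section Tower

variable (N : ℕ) (T : ℕ → DCoh.D X) (t : ∀ n, T (n + 1) ⟶ T n)
  {P L : DCoh.D X} (π : ∀ n, P ⟶ T n) (hP : IsLimit (Fan.mk P π))
  {d : P ⟶ P} (hd : ∀ n, d ≫ π n = π n - π (n + 1) ≫ t n)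
  {p : L ⟶ P} {δ : P ⟶ L⟦(1 : ℤ)⟧} (hT : Triangle.mk p d δ ∈ distTriang _)
  (hbij : ∀ V : X.Opens, IsAffineOpen V → ∀ n,
    BijH0 V (T n) ∧ BijH0 V ((T n)⟦(-1 : ℤ)⟧))
  (hiso : ∀ n, N ≤ n → IsIso ((DerivedCategory.homologyFunctor X.Modules 0).map (t n)) ∧
    IsIso ((DerivedCategory.homologyFunctor X.Modules 0).map ((t n)⟦(-1 : ℤ)⟧')))

include hbij hiso in
lemma surjective_step {V : X.Opens} (hV : IsAffineOpen V) (n : ℕ) (hn : N ≤ n) :
    Function.Bijective (fun φ : DCoh.inD X (secObj V) ⟶ T (n + 1) => φ ≫ t n) ∧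
    Function.Bijective (fun φ : DCoh.inD X (secObj V) ⟶ (T (n + 1))⟦(-1 : ℤ)⟧ =>
      φ ≫ (t n)⟦(-1 : ℤ)⟧') := by
  have key : ∀ {A B : DCoh.D X} (f : A ⟶ B), BijH0 V A → BijH0 V B →
      IsIso ((DerivedCategory.homologyFunctor X.Modules 0).map f) →
      Function.Bijective (fun φ : DCoh.inD X (secObj V) ⟶ A => φ ≫ f) := by
    intro A B f hA hB hf
    refine ⟨fun φ φ' h => hA.1 ?_, fun ψ => ?_⟩
    · have := congrArg (psi V B) h
      simp only [psi_comp] at this
      exact (cancel_mono _).1 this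
    · obtain ⟨φ, hφ⟩ := hA.2 (psi V B ψ ≫ inv ((DerivedCategory.homologyFunctor X.Modules 0).map f))
      exact ⟨φ, hB.1 (by rw [psi_comp, hφ]; simp)⟩
  exact ⟨key _ (hbij V hV (n + 1)).1 (hbij V hV n).1 (hiso n hn).1,
    key _ (hbij V hV (n + 1)).2 (hbij V hV n).2 (hiso n hn).2⟩

include hP hd hT in
lemma tower_hom_bijective_of_step {V : X.Opens}
    (hstep : ∀ n, N ≤ n →
      Function.Bijective (fun φ : DCoh.inD X (secObj V) ⟶ T (n + 1) => φ ≫ t n) ∧
      Function.Bijective (fun φ : DCoh.inD X (secObj V) ⟶ (T (n + 1))⟦(-1 : ℤ)⟧ =>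
        φ ≫ (t n)⟦(-1 : ℤ)⟧')) :
    Function.Bijective (fun φ : DCoh.inD X (secObj V) ⟶ L => φ ≫ p ≫ π N) := by
  let F := DCoh.inD X (secObj V)
  refine ⟨fun φ φ' h => sub_eq_zero.1 ?_, fun a => ?_⟩
  · have hN : (φ - φ') ≫ p ≫ π N = 0 := by rw [Preadditive.sub_comp]; exact sub_eq_zero.2 h
    generalize φ - φ' = φ at hN
    have hc : ∀ n, φ ≫ p ≫ π n - (φ ≫ p ≫ π (n + 1)) ≫ t n = 0 := fun n => by
      have h0 : p ≫ d = 0 := comp_distTriang_mor_zero₁₂ _ hT
      simp only [Category.assoc]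
      rw [← Preadditive.comp_sub, ← Preadditive.comp_sub, ← hd, reassoc_of% h0]
      simp
    have hall : ∀ k, φ ≫ p ≫ π (N + k) = 0 := by
      intro k
      induction k with
      | zero => exact hN
      | succ k ih =>
        refine (hstep (N + k) (by omega)).1.1 ?_
        have := hc (N + k)
        rw [ih] at this
        change (φ ≫ p ≫ π (N + k + 1)) ≫ t (N + k) = 0 ≫ t (N + k)
        rw [zero_comp]
        simpa using this
    have hdown : ∀ k n, n + k = N → φ ≫ p ≫ π n = 0 := by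
      intro k
      induction k with
      | zero => intro n hn; rw [show n = N by omega]; exact hN
      | succ k ih =>
        intro n hn
        simpa [ih (n + 1) (by omega)] using hc n
    have hp : φ ≫ p = 0 := Fan.IsLimit.hom_ext hP _ _ fun n => by
      simp only [Category.assoc, zero_comp]
      rcases le_or_gt N n with h | h
      · obtain ⟨k, rfl⟩ := Nat.exists_eq_add_of_le h; exact hall k
      · exact hdown (N - n) n (by omega)
    have hinv := inv_rot_of_distTriang _ hT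
    obtain ⟨ω, rfl⟩ := Triangle.coyoneda_exact₂ _ hinv φ hp
    let π' : ∀ n, P⟦(-1 : ℤ)⟧ ⟶ (T n)⟦(-1 : ℤ)⟧ := fun n => (π n)⟦(-1 : ℤ)⟧'
    let hP' : IsLimit (Fan.mk (P⟦(-1 : ℤ)⟧) π') :=
      isLimitFanMkObjOfIsLimit (shiftFunctor (DCoh.D X) (-1 : ℤ)) T π hP
    obtain ⟨x, -, hx⟩ := exists_system_sol N (fun n => F ⟶ (T n)⟦(-1 : ℤ)⟧)
      (fun n => Preadditive.rightComp F ((t n)⟦(-1 : ℤ)⟧')) (fun n hn => (hstep n hn).2.2)
      (fun n => ω ≫ π' n) 0
    let ω' : F ⟶ P⟦(-1 : ℤ)⟧ := Fan.IsLimit.lift hP' x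
    have hω : ω' ≫ d⟦(-1 : ℤ)⟧' = ω := Fan.IsLimit.hom_ext hP' _ _ fun n => by
      have hdn : d⟦(-1 : ℤ)⟧' ≫ π' n = π' n - π' (n + 1) ≫ (t n)⟦(-1 : ℤ)⟧' := by
        rw [← Functor.map_comp, hd, Functor.map_sub, Functor.map_comp]
      change (ω' ≫ d⟦(-1 : ℤ)⟧') ≫ π' n = ω ≫ π' n
      rw [Category.assoc, hdn, Preadditive.comp_sub, ← Category.assoc]
      have hl : ∀ m, ω' ≫ π' m = x m := fun m => Fan.IsLimit.fac hP' x m
      rw [hl, hl]
      exact hx n
    have h0 : d⟦(-1 : ℤ)⟧' ≫ (Triangle.mk p d δ).invRotate.mor₁ = 0 := by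
      have h23 : d ≫ δ = 0 := comp_distTriang_mor_zero₂₃ _ hT
      change d⟦(-1 : ℤ)⟧' ≫ (-δ⟦(-1 : ℤ)⟧' ≫ _) = 0
      refine (Preadditive.comp_neg _ _).trans (neg_eq_zero.2 ?_)
      refine (Category.assoc _ _ _).symm.trans ?_
      rw [← Functor.map_comp, h23, Functor.map_zero]
      exact zero_comp
    rw [← hω]
    exact (Category.assoc _ _ _).trans ((congrArg (ω' ≫ ·) h0).trans comp_zero)
  · obtain ⟨x, hxN, hx⟩ := exists_system_sol N (fun n => F ⟶ T n)
      (fun n => Preadditive.rightComp F (t n)) (fun n hn => (hstep n hn).1.2) (fun _ => 0) a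
    let φ' : F ⟶ P := Fan.IsLimit.lift hP x
    have hl : ∀ m, φ' ≫ π m = x m := fun m => Fan.IsLimit.fac hP x m
    have h0 : φ' ≫ d = 0 := Fan.IsLimit.hom_ext hP _ _ fun n => by
      change (φ' ≫ d) ≫ π n = 0 ≫ π n
      rw [Category.assoc, hd, Preadditive.comp_sub, ← Category.assoc, hl, hl, zero_comp]
      exact hx n
    obtain ⟨φ, hφ⟩ := Triangle.coyoneda_exact₂ _ hT φ' h0
    refine ⟨φ, ?_⟩
    change φ ≫ p ≫ π N = a
    exact (Category.assoc _ _ _).symm.trans
      (((congrArg (· ≫ π N) hφ.symm).trans (hl N)).trans hxN)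

include hP hd hT hbij hiso in
lemma tower_hom_bijective {V : X.Opens} (hV : IsAffineOpen V) :
    Function.Bijective (fun φ : DCoh.inD X (secObj V) ⟶ L => φ ≫ p ≫ π N) :=
  tower_hom_bijective_of_step N T t π hP hd hT (surjective_step N T t hbij hiso hV)

include hP hd hT hbij hiso in
lemma tower_h0_bij : IsIso ((DerivedCategory.homologyFunctor X.Modules 0).map (p ≫ π N)) ∧
    ∀ V : X.Opens, IsAffineOpen V → BijH0 V L := by
  let H := DerivedCategory.homologyFunctor X.Modules 0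
  have hφ := fun {V : X.Opens} (hV : IsAffineOpen V) => tower_hom_bijective N T t π hP hd hT hbij hiso hV
  have hepi : Epi (H.map (p ≫ π N)) := by
    refine Preadditive.epi_of_cokernel_zero (eq_zero_of_secObj _ fun V hV s => ?_)
    obtain ⟨ψ, rfl⟩ := (hbij V hV N).1.2 s
    obtain ⟨φ, rfl⟩ := (hφ hV).2 ψ
    simp only [psi_comp, Category.assoc]
    rw [cokernel.condition, comp_zero]
  have hmono : Mono (H.map (p ≫ π N)) := by
    refine Preadditive.mono_of_kernel_zero (eq_zero_of_secObj _ fun V hV s => ?_)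
    refine secObj_hom_eq_zero_of_local _ fun x hx => ?_
    obtain ⟨W, hxW, hWV, hW, h⟩ := exists_local_lift L (s ≫ kernel.ι (H.map (p ≫ π N))) hx
    refine ⟨W, hxW, hWV, fun hle => ?_⟩
    obtain ⟨φ, hφ'⟩ := h hle
    refine hφ'.symm.trans ?_
    have hz : secEquiv V _ ((s ≫ kernel.ι (H.map (p ≫ π N))) ≫ H.map (p ≫ π N)) = 0 := by
      rw [Category.assoc, kernel.condition, comp_zero]
      exact secEquiv_zero V _
    rw [secEquiv_naturality] at hz
    have h1 : psi W _ (φ ≫ p ≫ π N) = psi W _ (0 ≫ p ≫ π N) := by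
      rw [zero_comp, psi_zero, psi_comp]
      refine (secEquiv _ _).injective ?_
      rw [secEquiv_naturality, hφ', secEquiv_zero]
      exact map_presheaf_eq_zero (H.map (p ≫ π N)) (homOfLE hle).op _ hz
    rw [(hφ hW).1 ((hbij W hW N).1.1 h1), psi_zero]
    exact secEquiv_zero _ _
  have hI : IsIso (H.map (p ≫ π N)) := isIso_of_mono_of_epi _
  refine ⟨hI, fun V hV => ⟨fun φ φ' h => (hφ hV).1 ((hbij V hV N).1.1 ?_), fun y => ?_⟩⟩
  · change psi _ _ (φ ≫ p ≫ π N) = psi _ _ (φ' ≫ p ≫ π N)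
    rw [psi_comp, psi_comp, h]
  · obtain ⟨ψ, hψ⟩ := (hbij V hV N).1.2 (y ≫ H.map (p ≫ π N))
    obtain ⟨φ, rfl⟩ := (hφ hV).2 ψ
    exact ⟨φ, (cancel_mono (H.map (p ≫ π N))).1 ((psi_comp φ (p ≫ π N)).symm.trans hψ)⟩

end Tower

/-- The tower of canonical truncations. -/
noncomputable abbrev truncT (K : DCoh.D X) (n : ℕ) : DCoh.D X :=
  (DerivedCategory.TStructure.t.truncGE (-(n : ℤ))).obj K

/-- The transition maps. -/
noncomputable abbrev truncTMap (K : DCoh.D X) (n : ℕ) : truncT K (n + 1) ⟶ truncT K n :=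
  (DerivedCategory.TStructure.t.natTransTruncGEOfLE (-((n + 1 : ℕ) : ℤ)) (-(n : ℤ)) (by omega)).app K

/-- The map to the truncation. -/
noncomputable abbrev truncTπ (K : DCoh.D X) (n : ℕ) : K ⟶ truncT K n :=
  (DerivedCategory.TStructure.t.truncGEπ (-(n : ℤ))).app K

lemma isIso_h_truncTπ (K : DCoh.D X) (n : ℕ) (i : ℤ) (hi : -(n : ℤ) ≤ i) :
    IsIso ((DerivedCategory.homologyFunctor X.Modules i).map (truncTπ K n)) := by
  let t : Triangulated.TStructure (DCoh.D X) := DerivedCategory.TStructure.t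
  let T := (t.triangleLTGE (-(n : ℤ))).obj K
  have hT : T ∈ distTriang _ := t.triangleLTGE_distinguished _ K
  haveI : T.obj₁.IsLE (-(n : ℤ) - 1) := t.isLE_truncLT_obj K _ _ (by omega)
  haveI : Mono ((DerivedCategory.homologyFunctor X.Modules i).map T.mor₂) :=
    (DerivedCategory.HomologySequence.exact₂ T hT i).mono_g
      ((DerivedCategory.isZero_of_isLE T.obj₁ (-(n : ℤ) - 1) i (by omega)).eq_of_src _ _)
  haveI : Epi ((DerivedCategory.homologyFunctor X.Modules i).map T.mor₂) :=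
    (DerivedCategory.HomologySequence.exact₃ T hT i (i + 1) rfl).epi_f
      ((DerivedCategory.isZero_of_isLE T.obj₁ (-(n : ℤ) - 1) (i + 1) (by omega)).eq_of_tgt _ _)
  exact isIso_of_mono_of_epi ((DerivedCategory.homologyFunctor X.Modules i).map T.mor₂)

lemma isQCohD_truncT {K : DCoh.D X} (hK : DCoh.IsQCohD K) (n : ℕ) : DCoh.IsQCohD (truncT K n) := fun i => by
  by_cases hi : -(n : ℤ) ≤ i
  · haveI := isIso_h_truncTπ K n i hi
    exact isQCoh_of_iso (asIso ((DerivedCategory.homologyFunctor X.Modules i).map (truncTπ K n))) (hK i)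
  · haveI : (truncT K n).IsGE (-(n : ℤ)) :=
      DerivedCategory.TStructure.t.isGE_truncGE_obj K _ _ le_rfl
    exact isQCoh_of_isZero (DerivedCategory.isZero_of_isGE _ (-(n : ℤ)) i (by omega))

/-- `K` is the derived limit of its truncations. -/
theorem exists_trunc_triangle {K : DCoh.D X} (hK : DCoh.IsQCohD K) :
    ∃ (P : DCoh.D X) (π : ∀ n, P ⟶ truncT K n) (d : P ⟶ P) (p : K ⟶ P) (δ : P ⟶ K⟦(1 : ℤ)⟧),
      Nonempty (IsLimit (Fan.mk P π)) ∧ (∀ n, d ≫ π n = π n - π (n + 1) ≫ truncTMap K n) ∧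
      Triangle.mk p d δ ∈ distTriang _ ∧ (∀ n, p ≫ π n = truncTπ K n) ∧
      ∀ V : X.Opens, IsAffineOpen V → BijH0 V K := by
  haveI : HasLimitsOfShape (Discrete ℕ) (DCoh.D X) :=
    TriCat.hasProductsOfShape_derivedCategory exists_kInjective_res
  let T := truncT K
  let P : DCoh.D X := ∏ᶜ T
  let π : ∀ n, P ⟶ T n := Pi.π T
  let d : P ⟶ P := Pi.lift fun n => π n - π (n + 1) ≫ truncTMap K n
  have hd : ∀ n, d ≫ π n = π n - π (n + 1) ≫ truncTMap K n := fun n => Pi.lift_π _ n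
  obtain ⟨L, p, δ, hT⟩ := Pretriangulated.distinguished_cocone_triangle₁ d
  obtain ⟨f, hf⟩ : ∃ f : K ⟶ L, Pi.lift (truncTπ K) = f ≫ p := Triangle.coyoneda_exact₂ _ hT (Pi.lift (truncTπ K)) (Pi.hom_ext _ _ fun n => by
    change (Pi.lift (truncTπ K) ≫ d) ≫ π n = 0 ≫ π n
    rw [Category.assoc, hd, Preadditive.comp_sub, zero_comp]
    erw [Pi.lift_π, Pi.lift_π_assoc]
    rw [sub_eq_zero]
    exact (DerivedCategory.TStructure.t.π_natTransTruncGEOfLE_app _ _ (by omega) K).symm)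
  let P' : ℤ → DCoh.D X := fun k => P⟦k⟧
  have main : ∀ k : ℤ, IsIso ((DerivedCategory.homologyFunctor X.Modules 0).map (f⟦k⟧')) ∧
      ∀ V : X.Opens, IsAffineOpen V → BijH0 V (L⟦k⟧) := by
    intro k
    let N : ℕ := k.natAbs + 2
    let Tk := fun n => (T n)⟦k⟧
    let tk := fun n => (truncTMap K n)⟦k⟧'
    let πk : ∀ n, P⟦k⟧ ⟶ Tk n := fun n => (π n)⟦k⟧'
    let hPk : IsLimit (Fan.mk (P⟦k⟧) πk) :=
      isLimitFanMkObjOfIsLimit (shiftFunctor (DCoh.D X) k) T π (productIsProduct _)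
    have hdk : ∀ n, (k.negOnePow • d⟦k⟧') ≫ πk n = k.negOnePow • (πk n - πk (n + 1) ≫ tk n) :=
      fun n => by
        rw [Linear.units_smul_comp, ← Functor.map_comp, hd, Functor.map_sub, Functor.map_comp]
    have hTk : Triangle.mk (p⟦k⟧') (d⟦k⟧')
        (k.negOnePow • (δ⟦k⟧' ≫ (shiftFunctorComm (DCoh.D X) (1 : ℤ) k).hom.app L)) ∈
          distTriang _ := by
      exact triangle_units_smul k.negOnePow (Triangle.shift_distinguished _ hT k)
    have hbij : ∀ W : X.Opens, IsAffineOpen W → ∀ n, BijH0 W (Tk n) ∧ BijH0 W ((Tk n)⟦(-1 : ℤ)⟧) :=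
      fun W hW n => by
        let t : Triangulated.TStructure (DCoh.D X) := DerivedCategory.TStructure.t
        haveI h0 : (truncT K n).IsGE (-(n : ℤ)) := t.isGE_truncGE_obj K _ _ le_rfl
        haveI h1 : (Tk n).IsGE (-(n : ℤ) - k) := t.isGE_shift _ (-(n : ℤ)) k _ (by omega)
        haveI h2 : ((Tk n)⟦(-1 : ℤ)⟧).IsGE (-(n : ℤ) - k + 1) :=
          t.isGE_shift _ (-(n : ℤ) - k) (-1) _ (by omega)
        exact ⟨bijH0_of_isGE hW (-(n : ℤ) - k) _ (isQCohD_shift (isQCohD_truncT hK n) k),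
          bijH0_of_isGE hW (-(n : ℤ) - k + 1) _
            (isQCohD_shift (isQCohD_shift (isQCohD_truncT hK n) k) (-1))⟩
    have hH : ∀ (j : ℤ) {A B : DCoh.D X} (g : A ⟶ B) (m : ℤ),
        IsIso ((DerivedCategory.homologyFunctor X.Modules (j + m)).map g) →
        IsIso ((DerivedCategory.homologyFunctor X.Modules m).map (g⟦j⟧')) := fun j A B g m h =>
      (NatIso.isIso_map_iff ((DerivedCategory.homologyFunctor X.Modules 0).shiftIso j m (j + m) rfl)
        g).2 h
    have htriv : ∀ n, N ≤ n + 1 → ∀ i, (k - 1 ≤ i) → (i ≤ k) →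
        IsIso ((DerivedCategory.homologyFunctor X.Modules i).map (truncTMap K n)) := by
      intro n hn i hi hi'
      have h := congrArg (DerivedCategory.homologyFunctor X.Modules i).map
        (DerivedCategory.TStructure.t.π_natTransTruncGEOfLE_app
          (-((n + 1 : ℕ) : ℤ)) (-(n : ℤ)) (by omega) K)
      rw [Functor.map_comp] at h
      haveI := isIso_h_truncTπ K (n + 1) i (by omega)
      haveI := isIso_h_truncTπ K n i (by omega)
      exact IsIso.of_isIso_fac_left h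
    have hiso : ∀ n, N ≤ n → IsIso ((DerivedCategory.homologyFunctor X.Modules 0).map (tk n)) ∧
        IsIso ((DerivedCategory.homologyFunctor X.Modules 0).map ((tk n)⟦(-1 : ℤ)⟧')) := fun n hn =>
      ⟨hH k _ 0 (htriv n (by omega) (k + 0) (by omega) (by omega)),
        hH (-1) _ 0 (hH k _ (-1 + 0) (htriv n (by omega) _ (by omega) (by omega)))⟩
    have hdk' : ∀ n, d⟦k⟧' ≫ πk n = πk n - πk (n + 1) ≫ tk n := fun n => by
      rw [← Functor.map_comp, hd, Functor.map_sub, Functor.map_comp]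
    obtain ⟨hI, hb⟩ := tower_h0_bij N Tk tk πk hPk hdk' hTk hbij hiso
    refine ⟨?_, hb⟩
    have hfac : f⟦k⟧' ≫ p⟦k⟧' ≫ πk N = (truncTπ K N)⟦k⟧' := by
      rw [← Functor.map_comp, ← Functor.map_comp]
      congr 1
      rw [← Category.assoc, show f ≫ p = Pi.lift (truncTπ K) from hf.symm]
      exact Pi.lift_π _ N
    haveI : IsIso ((DerivedCategory.homologyFunctor X.Modules 0).map ((truncTπ K N)⟦k⟧')) :=
      hH k _ 0 (isIso_h_truncTπ K N (k + 0) (by omega))
    haveI := hI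
    have w : (DerivedCategory.homologyFunctor X.Modules 0).map (f⟦k⟧') ≫
        (DerivedCategory.homologyFunctor X.Modules 0).map (p⟦k⟧' ≫ πk N) =
        (DerivedCategory.homologyFunctor X.Modules 0).map ((truncTπ K N)⟦k⟧') := by
      rw [← Functor.map_comp, hfac]
    exact IsIso.of_isIso_fac_right w
  haveI : IsIso f := (DerivedCategory.isIso_iff _ f).2 fun i =>
    (NatIso.isIso_map_iff ((DerivedCategory.homologyFunctor X.Modules 0).shiftIso i 0 i
      (add_zero i)) f).1 (main i).1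
  refine ⟨P, π, d, f ≫ p, δ ≫ (asIso f).inv⟦(1 : ℤ)⟧', ⟨productIsProduct _⟩, hd, ?_, fun n => ?_,
    fun V hV => bijH0_of_iso ((asIso f).symm)
      (bijH0_of_iso ((shiftFunctorZero (DCoh.D X) ℤ).app L) ((main 0).2 V hV))⟩
  · let eF : K ≅ L := asIso f
    refine Pretriangulated.isomorphic_distinguished _ hT _ (Triangle.isoMk _ _ eF (Iso.refl P) (Iso.refl P)
      ?_ ?_ ?_)
    · exact Category.comp_id _
    · exact (Category.comp_id _).trans (Category.id_comp _).symm
    · refine (Category.assoc _ _ _).trans (Eq.trans ?_ (Category.id_comp δ).symm)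
      refine (congrArg (δ ≫ ·) ?_).trans (Category.comp_id δ)
      exact (Functor.map_comp _ _ _).symm.trans
        ((congrArg _ (asIso f).inv_hom_id).trans (CategoryTheory.Functor.map_id _ _))
  · rw [Category.assoc, ← Category.assoc, show f ≫ p = Pi.lift (truncTπ K) from hf.symm]
    exact Pi.lift_π _ n

/-- `H⁰(V, K) = Γ(V, H⁰ K)` for every `K` with quasi-coherent cohomology and every affine `V`. -/
theorem bijH0_of_isQCohD {K : DCoh.D X} (hK : DCoh.IsQCohD K) {V : X.Opens} (hV : IsAffineOpen V) :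
    BijH0 V K :=
  (exists_trunc_triangle hK).choose_spec.choose_spec.choose_spec.choose_spec.choose_spec.2.2.2.2 V hV

end Groth.Agent.KFlatLib
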