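import Groth.Agent.KFlatLib.SmallModel
import Groth.Agent.KFlatLib.Scheme.DQCohCompact
import Groth.Agent.KFlatLib.Scheme.RpushCoprodQCoh
import Groth.Agent.H9Misc.BrownGroth

/-!
# A small model of `D_QCoh`
-/

set_option linter.style.haveILetI false
set_option backward.isDefEq.respectTransparency false

universe u

open CategoryTheory CategoryTheory.Limits AlgebraicGeometry Pretriangulated Opposite ZeroObject

attribute [local instance] HasDerivedCategory.standard

namespace Groth.Agent.KFlatLib.DQSmall

variable (X : Scheme.{u})

/-- A model with small Hom sets. -/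
@[implicit_reducible]
noncomputable def sm : HasDerivedCategory.{u} X.Modules :=
  H9Misc.BrownGroth.smallDerived X.Modules exists_kInjective_res

/-- The small derived category. -/
abbrev DS := SmallModel.Der X.Modules (sm X)

instance (n : ℤ) : (shiftFunctor (DS X) n).Additive :=
  letI := sm X; inferInstanceAs ((shiftFunctor (DerivedCategory X.Modules) n).Additive)

noncomputable instance : Pretriangulated (DS X) :=
  letI := sm X; inferInstanceAs (Pretriangulated (DerivedCategory X.Modules))

instance : IsTriangulated (DS X) :=
  letI := sm X; inferInstanceAs (IsTriangulated (DerivedCategory X.Modules))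

/-- Comparison with the standard model. -/
noncomputable def toD : DS X ≌ DCoh.D X :=
  SmallModel.compare X.Modules (sm X) (HasDerivedCategory.standard X.Modules)

/-- The inverse of a comparison is the reverse comparison. -/
noncomputable def inverseCompareIso :
    (toD X).inverse ≅ (SmallModel.compare X.Modules (HasDerivedCategory.standard X.Modules) (sm X)).functor :=
  haveI : (SmallModel.QD X.Modules (HasDerivedCategory.standard X.Modules)).IsLocalization
      (HomologicalComplex.quasiIso X.Modules (ComplexShape.up ℤ)) := inferInstance
  haveI : (SmallModel.QD X.Modules (sm X)).IsLocalization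
      (HomologicalComplex.quasiIso X.Modules (ComplexShape.up ℤ)) :=
    letI := sm X; inferInstance
  Iso.refl _

/-- Quasi-coherent cohomology, in the small model. -/
def qc : ObjectProperty (DS X) := fun K => DCoh.IsQCohD ((toD X).functor.obj K)

instance : (qc X).IsClosedUnderIsomorphisms where
  of_iso e h := isQCohD_of_iso ((toD X).functor.mapIso e) h

lemma hasCoproducts_DS (J : Type u) : HasColimitsOfShape (Discrete J) (DS X) := by
  letI := sm X
  exact TriCat.hasColimitsOfShape_derivedCategory

instance : (qc X).IsTriangulated where
  exists_zero := ⟨0, isZero_zero _, fun i => isQCoh_of_isZero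
    ((DerivedCategory.homologyFunctor X.Modules i).map_isZero ((toD X).functor.map_isZero (isZero_zero _)))⟩
  isStableUnderShiftBy n := ⟨fun K hK => by
    obtain ⟨e⟩ := SmallModel.nonempty_compare_shift X.Modules (sm X) (HasDerivedCategory.standard X.Modules) K n
    exact isQCohD_of_iso e.symm (isQCohD_shift hK n)⟩
  ext₂' T hT h₁ h₃ := by
    obtain ⟨c, hc⟩ := SmallModel.exists_compare_triangle X.Modules (sm X) (HasDerivedCategory.standard X.Modules) T hT
    exact ObjectProperty.le_isoClosure _ _ (isQCohD_obj₂ hc h₁ h₃)

/-- The small model of `D_QCoh`. -/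
abbrev DQS := (qc X).FullSubcategory

/-- To the derived category. -/
noncomputable abbrev incl : DQS X ⥤ DCoh.D X := (qc X).ι ⋙ (toD X).functor

lemma closed_coproducts (J : Type u) : (qc X).IsClosedUnderColimitsOfShape (Discrete J) := by
  haveI := hasCoproducts_DS X J
  haveI : HasColimitsOfShape (Discrete J) (DCoh.D X) := TriCat.hasColimitsOfShape_derivedCategory
  refine .mk' ?_
  rintro _ ⟨F, hF⟩
  exact isQCohD_of_iso
    ((PreservesCoproduct.iso (toD X).functor fun j => F.obj ⟨j⟩).symm ≪≫
      (toD X).functor.mapIso (HasColimit.isoOfNatIso Discrete.natIsoFunctor.symm))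
    (isQCohD_sigma _ fun j => hF ⟨j⟩)

lemma hasCoproducts_DQS (J : Type u) : HasColimitsOfShape (Discrete J) (DQS X) := by
  haveI := hasCoproducts_DS X J
  haveI := closed_coproducts X J
  infer_instance

lemma preservesCoproducts_incl (J : Type u) : PreservesColimitsOfShape (Discrete J) (incl X) := by
  haveI := hasCoproducts_DS X J
  haveI := closed_coproducts X J
  haveI : CreatesColimitsOfShape (Discrete J) (qc X).ι := createsColimitsOfShapeFullSubcategoryInclusion _ _
  haveI : PreservesColimitsOfShape (Discrete J) (qc X).ι := inferInstance
  infer_instance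

end Groth.Agent.KFlatLib.DQSmall
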