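import Groth.Agent.KFlatLib.Scheme.LocalDevissage
import Groth.Agent.KFlatLib.TotalMapNat

/-!
# The evaluation map `R ⊗ iHom(P, I) ⟶ iHom(P, J)`
-/

set_option linter.style.haveILetI false
set_option backward.isDefEq.respectTransparency false

universe u

open CategoryTheory CategoryTheory.Limits AlgebraicGeometry

attribute [local instance] HasDerivedCategory.standard

namespace Groth.Agent.KFlatLib

variable {X : Scheme.{u}}

lemma tensorCxAssocIso_naturality₂₃ (N : CochainComplex X.Modules ℤ) {K K' L L' : CochainComplex X.Modules ℤ}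
    (g : K ⟶ K') (h : L ⟶ L') :
    HomologicalComplex.mapBifunctorMap ((DCoh.tensorCx.obj N).map g) h DCoh.tensorBi (ComplexShape.up ℤ) ≫
        (tensorCxAssocIso N K' L').hom =
      (tensorCxAssocIso N K L).hom ≫ (DCoh.tensorCx.obj N).map
        (HomologicalComplex.mapBifunctorMap g h DCoh.tensorBi (ComplexShape.up ℤ)) := by
  haveI : ∀ M : X.Modules, PreservesColimitsOfShape (Discrete ℤ) (DCoh.tensorBi.obj M) :=
    fun M => inferInstance
  haveI : ∀ N K L : CochainComplex X.Modules ℤ,
      HomologicalComplex.HasGoodTrifunctor₁₂Obj (DCoh.tensorBi (X := X)) DCoh.tensorBi N K L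
      (ComplexShape.up ℤ) (ComplexShape.up ℤ) := fun _ _ _ _ _ => inferInstance
  haveI : ∀ N K L : CochainComplex X.Modules ℤ,
      HomologicalComplex.HasGoodTrifunctor₂₃Obj (DCoh.tensorBi (X := X)) DCoh.tensorBi N K L
      (ComplexShape.up ℤ) (ComplexShape.up ℤ) (ComplexShape.up ℤ) := fun _ _ _ _ _ => inferInstance
  exact mapBifunctorAssociator_naturality (DCoh.tensorBi (X := X)) (tensorAssocSch X) (𝟙 N) g h

variable (R I J : CochainComplex X.Modules ℤ) (s : (DCoh.tensorCx.obj R).obj I ⟶ J)

/-- The transpose of the evaluation map. -/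
noncomputable def evalAux (P : CochainComplex X.Modules ℤ) :
    (DCoh.tensorCx.obj ((DCoh.tensorCx.obj R).obj ((iHom P).obj I))).obj P ⟶ J :=
  (tensorCxAssocIso R ((iHom P).obj I) P).hom ≫
    (DCoh.tensorCx.obj R).map ((iHomAdj P).counit.app I) ≫ s

/-- The evaluation map `R ⊗ iHom(P, I) ⟶ iHom(P, J)`. -/
noncomputable def evalMap (P : CochainComplex X.Modules ℤ) :
    (DCoh.tensorCx.obj R).obj ((iHom P).obj I) ⟶ (iHom P).obj J :=
  (iHomAdj P).homEquiv _ _ (evalAux R I J s P)

end Groth.Agent.KFlatLib
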