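import Groth.Agent.KFlatLib.Scheme.EvalDef

/-!
# The evaluation map `R ⊗ iHom(P, I) ⟶ iHom(P, J)` and its naturality in `P`
-/

set_option linter.style.haveILetI false
set_option backward.isDefEq.respectTransparency false

universe u

open CategoryTheory CategoryTheory.Limits AlgebraicGeometry

attribute [local instance] HasDerivedCategory.standard

namespace Groth.Agent.KFlatLib

variable {X : Scheme.{u}} (R I J : CochainComplex X.Modules ℤ) (s : (DCoh.tensorCx.obj R).obj I ⟶ J)

/-- Naturality of the evaluation map. -/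
lemma evalMap_naturality {A B : CochainComplex X.Modules ℤ} (g : A ⟶ B) :
    (DCoh.tensorCx.obj R).map ((iHomMap g).app I) ≫ evalMap R I J s A =
      evalMap R I J s B ≫ (iHomMap g).app J := by
  refine ((iHomAdj A).homEquiv _ _).symm.injective ?_
  refine ((iHomAdj A).homEquiv_naturality_left_symm _ _).trans ?_
  refine Eq.trans ?_ (Inner.homEquiv_innerMap (DCoh.tensorBi (X := X)) g _).symm
  rw [evalMap, evalMap, Equiv.symm_apply_apply, Equiv.symm_apply_apply, evalAux, evalAux]
  have h₁ := tensorCxAssocIso_naturality₂₃ R ((iHomMap g).app I) (𝟙 A)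
  have h₂ := tensorCxAssocIso_naturality₂₃ R (𝟙 ((iHom B).obj I)) g
  rw [CategoryTheory.Functor.map_id] at h₂
  refine ((Category.assoc _ _ _).symm.trans (congrArg (· ≫ _) h₁)).trans ?_
  refine Eq.trans ?_ ((Category.assoc _ _ _).symm.trans (congrArg (· ≫ _) h₂)).symm
  refine (Category.assoc _ _ _).trans (Eq.trans ?_ (Category.assoc _ _ _).symm)
  refine congrArg (_ ≫ ·) ?_
  refine ((Category.assoc _ _ _).symm.trans ?_).trans (Category.assoc _ _ _)
  refine congrArg (· ≫ s) ?_
  refine ((DCoh.tensorCx.obj R).map_comp _ _).symm.trans (Eq.trans ?_ ((DCoh.tensorCx.obj R).map_comp _ _))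
  exact congrArg _ (Inner.innerMap_counit (DCoh.tensorBi (X := X)) g I)

end Groth.Agent.KFlatLib
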