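import Groth.Agent.KFlatLib.Scheme.SummandLift

/-!
# Extending `F ⊕ F[1]` from an open of an affine scheme
-/

set_option linter.style.haveILetI false
set_option backward.isDefEq.respectTransparency false

universe u v w

open CategoryTheory CategoryTheory.Limits AlgebraicGeometry Pretriangulated

attribute [local instance] HasDerivedCategory.standard

namespace Groth.Agent.KFlatLib.ExtendPerfect

section Cone

variable {C : Type w} [Category.{v} C] [Preadditive C] [HasZeroObject C] [HasShift C ℤ]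
  [∀ n : ℤ, (shiftFunctor C n).Additive] [Pretriangulated C]

/-- The cone of a complementary idempotent of a retract. -/
theorem nonempty_cone_iso_biprod {R F Z : C} (s : F ⟶ R) (r : R ⟶ F) (hsr : s ≫ r = 𝟙 F)
    (u : R ⟶ Z) (v : Z ⟶ R⟦(1 : ℤ)⟧) (hT : Triangle.mk (𝟙 R - r ≫ s) u v ∈ distTriang C)
    [HasBinaryBiproduct F (F⟦(1 : ℤ)⟧)] : Nonempty (Z ≅ F ⊞ F⟦(1 : ℤ)⟧) := by
  let f := 𝟙 R - r ≫ s
  have hfr : f ≫ r = 0 := by
    simp only [f, Preadditive.sub_comp, Category.id_comp, Category.assoc, hsr, Category.comp_id, sub_self]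
  have hsf : s ≫ f = 0 := by
    simp only [f, Preadditive.comp_sub, Category.comp_id, ← Category.assoc, hsr, Category.id_comp, sub_self]
  obtain ⟨c, hc⟩ := Triangle.yoneda_exact₂ _ hT r hfr
  change Z ⟶ F at c
  change r = u ≫ c at hc
  obtain ⟨d, hd⟩ := Triangle.coyoneda_exact₁ _ hT (s⟦(1 : ℤ)⟧')
    (by show s⟦(1 : ℤ)⟧' ≫ f⟦(1 : ℤ)⟧' = 0
        rw [← Functor.map_comp, hsf, Functor.map_zero])
  change F⟦(1 : ℤ)⟧ ⟶ Z at d
  change s⟦(1 : ℤ)⟧' = d ≫ v at hd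
  let a := s ≫ u
  let b := v ≫ r⟦(1 : ℤ)⟧'
  have huv : u ≫ v = 0 := comp_distTriang_mor_zero₂₃ _ hT
  have hac : a ≫ c = 𝟙 F := by rw [show a ≫ c = s ≫ u ≫ c from Category.assoc _ _ _, ← hc, hsr]
  have hab : a ≫ b = 0 := by
    show (s ≫ u) ≫ v ≫ r⟦(1 : ℤ)⟧' = 0
    rw [Category.assoc, reassoc_of% huv]; simp
  have hdb : d ≫ b = 𝟙 _ := by
    show d ≫ v ≫ r⟦(1 : ℤ)⟧' = 𝟙 _
    rw [← Category.assoc, ← hd, ← Functor.map_comp, hsr, CategoryTheory.Functor.map_id]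
  let d' := d - (d ≫ c) ≫ a
  have hd'c : d' ≫ c = 0 := by simp [d', hac]
  have hd'b : d' ≫ b = 𝟙 _ := by simp [d', hab, hdb]
  let Φ : F ⊞ F⟦(1 : ℤ)⟧ ⟶ Z := biprod.desc a d'
  let Ψ : Z ⟶ F ⊞ F⟦(1 : ℤ)⟧ := biprod.lift c b
  have h1 : Φ ≫ Ψ = 𝟙 _ := by
    apply biprod.hom_ext' <;> apply biprod.hom_ext <;> simp [Φ, Ψ, hac, hab, hd'c, hd'b]
  haveI : Mono Ψ := by
    refine Preadditive.mono_of_cancel_zero _ fun {T} z hz => ?_
    have hzc : z ≫ c = 0 := by simpa [Ψ] using congrArg (· ≫ biprod.fst) hz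
    have hzb : z ≫ v ≫ r⟦(1 : ℤ)⟧' = 0 := by simpa [Ψ, b] using congrArg (· ≫ biprod.snd) hz
    have hvf : v ≫ f⟦(1 : ℤ)⟧' = 0 := comp_distTriang_mor_zero₃₁ _ hT
    have hzv : z ≫ v = 0 := by
      have h : v ≫ f⟦(1 : ℤ)⟧' = v - v ≫ r⟦(1 : ℤ)⟧' ≫ s⟦(1 : ℤ)⟧' := by
        simp [f, Functor.map_sub, Functor.map_comp, Preadditive.comp_sub]
      rw [hvf, eq_comm, sub_eq_zero] at h
      rw [h, ← Category.assoc v, ← Category.assoc z, hzb, zero_comp]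
    obtain ⟨w, hw⟩ := Triangle.coyoneda_exact₃ _ hT z hzv
    change T ⟶ R at w
    change z = w ≫ u at hw
    have hwr : w ≫ r = 0 := by rw [hc, ← Category.assoc, ← hw, hzc]
    have hwf : w = w ≫ f := by simp [f, Preadditive.comp_sub, reassoc_of% hwr]
    have hfu : f ≫ u = 0 := comp_distTriang_mor_zero₁₂ _ hT
    rw [hw, hwf, Category.assoc, hfu, comp_zero]
  exact ⟨⟨Ψ, Φ, (cancel_mono Ψ).1 (by rw [Category.assoc, h1, Category.comp_id, Category.id_comp]), h1⟩⟩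

end Cone

variable {X : Scheme.{u}}

/-- Perfect objects on a quasi-compact open of an affine scheme are retracts of restricted perfect ones. -/
theorem exists_retract [IsAffine X] (O : X.Opens) (hO : IsCompact (O : Set X))
    (F : DCoh.D (O : Scheme.{u})) (hF : LocSP F) :
    ∃ (R : DCoh.D X) (s : F ⟶ (rho O.ι).obj R) (r : (rho O.ι).obj R ⟶ F), LocSP R ∧ s ≫ r = 𝟙 F := by
  let g : Spec (CommRingCat.of Γ(X, ⊤)) ⟶ X := X.isoSpec.inv
  haveI : PreservesFiniteLimits (tilde.functor (CommRingCat.of Γ(X, ⊤))) := QCoh.tilde_preservesFiniteLimits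
  obtain ⟨fs, hfs⟩ := AffineLift.exists_list (A := Γ(X, ⊤)) (g ⁻¹ᵁ O)
    ((Scheme.homeoOfIso X.isoSpec.symm).isCompact_preimage.2 hO)
  let i : (KoszulOrth.pU fs : Scheme.{u}) ⟶ (O : Scheme.{u}) :=
    (Scheme.isoOfEq _ hfs.symm).hom ≫ g ∣_ O
  haveI : IsIso i := inferInstance
  have hi : i ≫ O.ι = (KoszulOrth.pU fs).ι ≫ g := by simp [i]
  obtain ⟨P, s, r, hP, hsr⟩ := SummandLift.exists_retract fs ((rho i).obj F) (hF.restrict' i)
  haveI := AffineLift.isEquivalence_rho g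
  haveI := AffineLift.isEquivalence_rho i
  let R := (rho g).objPreimage (KoszulOrth.tld P)
  let e : (rho g).obj R ≅ KoszulOrth.tld P := (rho g).objObjPreimageIso _
  let c : (rho i).obj ((rho O.ι).obj R) ≅ (rho (KoszulOrth.pU fs).ι).obj (KoszulOrth.tld P) :=
    rhoComp i O.ι (i ≫ O.ι) rfl R ≪≫ (rhoComp (KoszulOrth.pU fs).ι g (i ≫ O.ι) hi.symm R).symm ≪≫
      (rho _).mapIso e
  obtain ⟨s', hs'⟩ := (rho i).map_surjective (s ≫ c.inv)
  obtain ⟨r', hr'⟩ := (rho i).map_surjective (c.hom ≫ r)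
  refine ⟨R, s', r', ?_, (rho i).map_injective ?_⟩
  · intro x
    obtain ⟨W, j, hj, ⟨w, hw⟩, Q, hQ, ⟨eQ⟩⟩ :=
      (((isPerfect_iff _).1 ((perfect_tildeD_iff (R := CommRingCat.of Γ(X, ⊤)) P).2 hP)).of_iso e.symm)
        (X.isoSpec.hom.base x)
    refine ⟨W, j ≫ g, inferInstance, ⟨w, ?_⟩, Q, hQ, ⟨eQ ≪≫ rhoComp j g (j ≫ g) rfl R⟩⟩
    show g.base (j.base w) = x
    rw [hw]
    exact congrArg (fun f : X ⟶ X => f.base x) X.isoSpec.hom_inv_id
  · rw [Functor.map_comp, hs', hr', Category.assoc, c.inv_hom_id_assoc, hsr, CategoryTheory.Functor.map_id]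

/-- `F ⊕ F[1]` extends from a quasi-compact open of an affine scheme. -/
theorem exists_extend [IsAffine X] (O : X.Opens) (hO : IsCompact (O : Set X))
    (F : DCoh.D (O : Scheme.{u})) (hF : LocSP F) [HasBinaryBiproduct F (F⟦(1 : ℤ)⟧)] :
    ∃ R : DCoh.D X, LocSP R ∧ Nonempty ((rho O.ι).obj R ≅ F ⊞ F⟦(1 : ℤ)⟧) := by
  obtain ⟨R, s, r, hR, hsr⟩ := exists_retract O hO F hF
  obtain ⟨R₁, β, γ, hR₁, hβ, hγ⟩ := AffineLift.exists_lift O hO hR (AffineLift.isQCohD_of_locSP hR)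
    (𝟙 _ - r ≫ s)
  obtain ⟨Z, u, v, hT⟩ := distinguished_cocone_triangle γ
  refine ⟨Z, (locSP_two_of_three _ hT).1 hR₁ hR, ?_⟩
  let T := (rho O.ι).mapTriangle.obj (Triangle.mk γ u v)
  have hT' : Triangle.mk (𝟙 _ - r ≫ s) T.mor₂ (T.mor₃ ≫ ((rho O.ι).map β)⟦(1 : ℤ)⟧') ∈ distTriang _ := by
    refine isomorphic_distinguished _ ((rho O.ι).map_distinguished _ hT) _
      (Triangle.isoMk _ _ (@asIso _ _ _ _ ((rho O.ι).map β) hβ).symm (Iso.refl _) (Iso.refl _) ?_ ?_ ?_)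
    · show (𝟙 _ - r ≫ s) ≫ 𝟙 _ = inv ((rho O.ι).map β) ≫ (rho O.ι).map γ
      rw [Category.comp_id, ← hγ, IsIso.inv_hom_id_assoc]
    · exact (Category.comp_id _).trans (Category.id_comp _).symm
    · show (T.mor₃ ≫ ((rho O.ι).map β)⟦(1 : ℤ)⟧') ≫ (inv ((rho O.ι).map β))⟦(1 : ℤ)⟧' = 𝟙 _ ≫ T.mor₃
      rw [Category.assoc, ← Functor.map_comp, IsIso.hom_inv_id, CategoryTheory.Functor.map_id,
        Category.comp_id, Category.id_comp]
  exact nonempty_cone_iso_biprod s r hsr T.mor₂ _ hT'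

end Groth.Agent.KFlatLib.ExtendPerfect
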