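import Groth.Agent.KFlatLib.Scheme.SecBQ
import Groth.Agent.KFlatLib.SecFive
import Groth.Agent.QCoh.RpushGod
import Groth.Agent.QCoh.PullbackBC
import Groth.Agent.CohPullX.FlatSections
import Mathlib.LinearAlgebra.TensorProduct.RightExactness

/-!
# Base change of complexes of sections

For `u : X' ⟶ X`, complexes `C` on `X` and `D` on `X'` and `χ : u^* C ⟶ D`, the base change
`B ⊗ Γ(W, C) ⟶ Γ(W', D)` on sections.
-/

set_option linter.style.haveILetI false
set_option backward.isDefEq.respectTransparency false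
set_option backward.isDefEq.respectTransparency.types false

universe u

open CategoryTheory CategoryTheory.Limits AlgebraicGeometry TopologicalSpace Opposite
open scoped TensorProduct

namespace Groth.Agent.KFlatLib.FlatBC

open Groth.Agent.QCoh

variable {X X' : Scheme.{u}}

/-- Sections over `W` as a module over `A`. -/
def RSec {A : Type u} [CommRing A] {W : X.Opens} (_φ : A →+* Γ(X, W)) (M : X.Modules) : Type u :=
  Γ(M, W)

variable {A B : Type u} [CommRing A] [CommRing B] [Algebra A B]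

noncomputable instance {W : X.Opens} (φ : A →+* Γ(X, W)) (M : X.Modules) : AddCommGroup (RSec φ M) :=
  inferInstanceAs (AddCommGroup Γ(M, W))

noncomputable instance {W : X.Opens} (φ : A →+* Γ(X, W)) (M : X.Modules) : Module A (RSec φ M) :=
  Module.compHom Γ(M, W) φ

/-- Sections upstairs as a module over both `A` and `B`. -/
def TSec (A : Type u) {B : Type u} [CommRing B] {W : X'.Opens} (_ψ : B →+* Γ(X', W))
    (N : X'.Modules) : Type u :=
  Γ(N, W)

noncomputable instance {W : X'.Opens} (ψ : B →+* Γ(X', W)) (N : X'.Modules) :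
    AddCommGroup (TSec A ψ N) :=
  inferInstanceAs (AddCommGroup Γ(N, W))

noncomputable instance instModuleTSec {W : X'.Opens} (ψ : B →+* Γ(X', W)) (N : X'.Modules) :
    Module B (TSec A ψ N) :=
  Module.compHom Γ(N, W) ψ

noncomputable instance instModuleTSecBase {W : X'.Opens} (ψ : B →+* Γ(X', W)) (N : X'.Modules) :
    Module A (TSec A ψ N) :=
  Module.compHom Γ(N, W) (ψ.comp (algebraMap A B))

instance {W : X'.Opens} (ψ : B →+* Γ(X', W)) (N : X'.Modules) : IsScalarTower A B (TSec A ψ N) :=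
  IsScalarTower.of_algebraMap_smul fun _ _ => rfl

/-- The action of a morphism on sections. -/
noncomputable def mapR {W : X.Opens} (φ : A →+* Γ(X, W)) {M N : X.Modules} (h : M ⟶ N) :
    RSec φ M →ₗ[A] RSec φ N where
  toFun x := h.app W x
  map_add' x y := map_add (h.app W).hom x y
  map_smul' a x := h.app_smul (φ a) x

/-- The action of a morphism on sections upstairs. -/
noncomputable def mapT (A : Type u) [CommRing A] [Algebra A B] {W : X'.Opens} (ψ : B →+* Γ(X', W))
    {M N : X'.Modules} (h : M ⟶ N) : TSec A ψ M →ₗ[B] TSec A ψ N where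
  toFun x := h.app W x
  map_add' x y := map_add (h.app W).hom x y
  map_smul' a x := h.app_smul (ψ a) x

/-- Restriction of sections. -/
noncomputable def resR {W W₁ : X.Opens} (h : W₁ ≤ W) (φ : A →+* Γ(X, W)) (φ₁ : A →+* Γ(X, W₁))
    (hφ : ∀ a, rf X h (φ a) = φ₁ a) (M : X.Modules) : RSec φ M →ₗ[A] RSec φ₁ M where
  toFun x := rs M h x
  map_add' := rs_add h
  map_smul' a x := (rs_smul h (φ a) x).trans (congrArg (· • rs M h x) (hφ a))

/-- Restriction of sections upstairs. -/
noncomputable def resT (A : Type u) [CommRing A] [Algebra A B] {W W₁ : X'.Opens} (h : W₁ ≤ W)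
    (ψ : B →+* Γ(X', W)) (ψ₁ : B →+* Γ(X', W₁)) (hψ : ∀ a, rf X' h (ψ a) = ψ₁ a) (M : X'.Modules) :
    TSec A ψ M →ₗ[B] TSec A ψ₁ M where
  toFun x := rs M h x
  map_add' := rs_add h
  map_smul' a x := (rs_smul h (ψ a) x).trans (congrArg (· • rs M h x) (hψ a))

/-- The data of a base change of rings of sections along `u`. -/
structure Datum (A B : Type u) [CommRing A] [CommRing B] [Algebra A B] (u : X' ⟶ X) where
  /-- the open downstairs -/
  W : X.Opens
  /-- the open upstairs -/
  W' : X'.Opens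
  hle : W' ≤ u ⁻¹ᵁ W
  /-- the scalars downstairs -/
  φ : A →+* Γ(X, W)
  /-- the scalars upstairs -/
  ψ : B →+* Γ(X', W')
  compat : ∀ a, u.appLE W W' hle (φ a) = ψ (algebraMap A B a)

variable {u : X' ⟶ X} (D : Datum A B u)

/-- Sections of the inverse image. -/
noncomputable def pullT (M : X.Modules) :
    RSec D.φ M →ₗ[A] TSec A D.ψ ((Scheme.Modules.pullback u).obj M) where
  toFun x := pullSec u M D.hle x
  map_add' := pullSec_add u M D.hle
  map_smul' a x := (pullSec_smul u M D.hle (D.φ a) x).trans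
    (congrArg (· • pullSec u M D.hle x) (D.compat a))

/-- Base change of sections of quasi-coherent modules. -/
def IsBC : Prop :=
  ∀ M : X.Modules, Coh.IsQCoh M → Function.Bijective ((pullT D M).liftBaseChange B)

/-- The map on sections induced by a morphism out of an inverse image. -/
noncomputable def lift {M : X.Modules} {P : X'.Modules} (g : (Scheme.Modules.pullback u).obj M ⟶ P) :
    B ⊗[A] RSec D.φ M →ₗ[B] TSec A D.ψ P :=
  (((mapT A D.ψ g).restrictScalars A).comp (pullT D M)).liftBaseChange B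

lemma lift_eq {M : X.Modules} {P : X'.Modules} (g : (Scheme.Modules.pullback u).obj M ⟶ P)
    (z : B ⊗[A] RSec D.φ M) : lift D g z = mapT A D.ψ g ((pullT D M).liftBaseChange B z) := by
  induction z using TensorProduct.induction_on with
  | zero => simp
  | tmul b x => simp [lift]
  | add a b ha hb => simp only [map_add, ha, hb]

lemma pullSec_app {M N : X.Modules} (h : M ⟶ N) (x : Γ(M, D.W)) :
    pullSec u N D.hle (h.app D.W x) =
      ((Scheme.Modules.pullback u).map h).app D.W' (pullSec u M D.hle x) := by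
  change rs _ D.hle (((Scheme.Modules.pullbackPushforwardAdjunction u).unit.app N).app D.W (h.app D.W x)) =
    ((Scheme.Modules.pullback u).map h).app D.W'
      (rs _ D.hle (((Scheme.Modules.pullbackPushforwardAdjunction u).unit.app M).app D.W x))
  rw [app_rs]
  exact congrArg (rs _ D.hle)
    (congr(($((Scheme.Modules.pullbackPushforwardAdjunction u).unit.naturality h)).app D.W x))

lemma lift_naturality {M N : X.Modules} {P Q : X'.Modules} (h : M ⟶ N)
    (g : (Scheme.Modules.pullback u).obj M ⟶ P) (g' : (Scheme.Modules.pullback u).obj N ⟶ Q)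
    (t : P ⟶ Q) (e : (Scheme.Modules.pullback u).map h ≫ g' = g ≫ t) (z : B ⊗[A] RSec D.φ M) :
    lift D g' ((mapR D.φ h).baseChange B z) = mapT A D.ψ t (lift D g z) := by
  induction z using TensorProduct.induction_on with
  | zero => simp
  | tmul b x =>
    simp only [lift, LinearMap.baseChange_tmul, LinearMap.liftBaseChange_tmul, map_smul]
    refine congrArg (b • ·) ?_
    change g'.app D.W' (pullSec u N D.hle (h.app D.W x)) = t.app D.W' (g.app D.W' (pullSec u M D.hle x))
    rw [pullSec_app]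
    exact congr(($e).app D.W' (pullSec u M D.hle x))
  | add a b ha hb => simp only [map_add, ha, hb]

variable {C : CochainComplex X.Modules ℤ} {D' : CochainComplex X'.Modules ℤ}
  (χ : (pullCx u).obj C ⟶ D')

/-- The differential of `B ⊗ Γ(W, C)`. -/
noncomputable abbrev dR (C : CochainComplex X.Modules ℤ) (n : ℤ) :
    B ⊗[A] RSec D.φ (C.X n) →ₗ[B] B ⊗[A] RSec D.φ (C.X (n + 1)) :=
  (mapR D.φ (C.d n (n + 1))).baseChange B

/-- The differential of `Γ(W', D)`. -/
noncomputable abbrev dT (D' : CochainComplex X'.Modules ℤ) (n : ℤ) :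
    TSec A D.ψ (D'.X n) →ₗ[B] TSec A D.ψ (D'.X (n + 1)) :=
  mapT A D.ψ (D'.d n (n + 1))

/-- `B ⊗ Γ(W, C) ⟶ Γ(W', D)` is a quasi-isomorphism. -/
def QI : Prop := SecQI (dR D C) (dT D D') (fun n => lift D (χ.f n))

lemma mapR_comp {W : X.Opens} (φ : A →+* Γ(X, W)) {M N P : X.Modules} (a : M ⟶ N) (b : N ⟶ P)
    (x : RSec φ M) : mapR φ (a ≫ b) x = mapR φ b (mapR φ a x) := rfl

lemma baseChange_mapR_comp {W : X.Opens} (φ : A →+* Γ(X, W)) {M N P : X.Modules} (a : M ⟶ N) (b : N ⟶ P)
    (x : B ⊗[A] RSec φ M) : (mapR φ (a ≫ b)).baseChange B x =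
      (mapR φ b).baseChange B ((mapR φ a).baseChange B x) := by
  induction x using TensorProduct.induction_on with
  | zero => simp
  | tmul c x => simp [mapR_comp]
  | add p q hp hq => simp only [map_add, hp, hq]

omit [Algebra A B] in
lemma mapR_zero {W : X.Opens} (φ : A →+* Γ(X, W)) {M N : X.Modules} :
    mapR φ (0 : M ⟶ N) = 0 := LinearMap.ext fun _ => rfl

section Cycles

lemma app_injective_of_mono (V : X.Opens) {M N : X.Modules} (g : M ⟶ N) [Mono g] :
    Function.Injective (g.app V) := by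
  rw [← V.ι_image_top]
  intro a b h
  apply (secEquiv V M).symm.injective
  rw [← cancel_mono g]
  refine (secEquiv V N).injective ?_
  rwa [secEquiv_naturality, secEquiv_naturality, Equiv.apply_symm_apply, Equiv.apply_symm_apply]

lemma exists_cycle (V : X.Opens) (C : CochainComplex X.Modules ℤ) (i j : ℤ) (hij : i + 1 = j)
    (z : Γ(C.X i, V)) (hz : (C.d i j).app V z = 0) :
    ∃ c, (C.iCycles i).app V c = z := by
  revert z
  rw [← V.ι_image_top]
  intro z hz
  let φ := (secEquiv V (C.X i)).symm z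
  have hφ : φ ≫ C.d i j = 0 := by
    refine (secEquiv V _).injective ?_
    rw [secEquiv_naturality, Equiv.apply_symm_apply, hz, secEquiv_zero]
  refine ⟨secEquiv V _ (C.liftCycles φ j ((ComplexShape.up ℤ).next_eq' hij) hφ), ?_⟩
  rw [← secEquiv_naturality, HomologicalComplex.liftCycles_i, Equiv.apply_symm_apply]

lemma secBQ_exact {V : X.Opens} (h : SecBQ C V) {i j : ℤ} (hij : i + 1 = j) (c : Γ(C.cycles j, V))
    (hc : (C.homologyπ j).app V c = 0) : ∃ w, (C.toCycles i j).app V w = c := by
  obtain rfl : i = j - 1 := by omega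
  exact (h j).2 c hc

lemma exact_iCycles {W : X.Opens} (φ : A →+* Γ(X, W)) (C : CochainComplex X.Modules ℤ) (i j : ℤ)
    (hij : i + 1 = j) : Function.Exact (mapR φ (C.iCycles i)) (mapR φ (C.d i j)) := fun z => by
  refine ⟨exists_cycle W C i j hij z, ?_⟩
  rintro ⟨c, rfl⟩
  rw [← mapR_comp, HomologicalComplex.iCycles_d, mapR_zero]
  rfl

lemma exact_toCycles {W : X.Opens} (φ : A →+* Γ(X, W)) (hC : SecBQ C W) {i j : ℤ} (hij : i + 1 = j) :
    Function.Exact (mapR φ (C.toCycles i j)) (mapR φ (C.homologyπ j)) := fun c => by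
  refine ⟨secBQ_exact hC hij c, ?_⟩
  rintro ⟨w, rfl⟩
  rw [← mapR_comp, HomologicalComplex.toCycles_comp_homologyπ, mapR_zero]
  rfl

end Cycles

variable [Module.Flat A B]
  (ζ : ∀ n, (Scheme.Modules.pullback u).obj (C.cycles n) ⟶ D'.cycles n)
  (ξ : ∀ n, (Scheme.Modules.pullback u).obj (C.homology n) ⟶ D'.homology n)
  (hζ : ∀ n, ζ n ≫ D'.iCycles n = (Scheme.Modules.pullback u).map (C.iCycles n) ≫ χ.f n)
  (hξ : ∀ n, (Scheme.Modules.pullback u).map (C.homologyπ n) ≫ ξ n = ζ n ≫ D'.homologyπ n)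

include hζ hξ in
/-- A base change bijective on cohomology sheaves is a quasi-isomorphism on sections. -/
theorem qI_of_bijective (hC : SecBQ C D.W) (hD : SecBQ D' D.W')
    (hT : ∀ n, Function.Bijective (lift D (ξ n))) : QI D χ := by
  have hiπ : ∀ n c, lift D (ξ n) ((mapR D.φ (C.homologyπ n)).baseChange B c) =
      mapT A D.ψ (D'.homologyπ n) (lift D (ζ n) c) := fun n c =>
    lift_naturality D _ _ _ _ (hξ n) c
  have hiζ : ∀ n c, lift D (χ.f n) ((mapR D.φ (C.iCycles n)).baseChange B c) =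
      mapT A D.ψ (D'.iCycles n) (lift D (ζ n) c) := fun n c =>
    lift_naturality D _ _ _ _ (hζ n).symm c
  have hπs : ∀ n, Function.Surjective ((mapR D.φ (C.homologyπ n)).baseChange B) := fun n => by
    rw [LinearMap.baseChange_eq_ltensor]
    exact LinearMap.lTensor_surjective B (hC n).1
  have hic : ∀ n z, dR D C n z = 0 → ∃ c, (mapR D.φ (C.iCycles n)).baseChange B c = z := fun n z hz => by
    rw [LinearMap.baseChange_eq_ltensor]
    refine (Module.Flat.lTensor_exact B (exact_iCycles D.φ C n (n + 1) rfl) z).1 ?_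
    rwa [← LinearMap.baseChange_eq_ltensor]
  refine ⟨fun n y hy => ?_, fun n z w' hz hw' => ?_⟩
  · obtain ⟨(c' : TSec A D.ψ (D'.cycles (n + 1))), rfl⟩ := exists_cycle D.W' D' (n + 1) (n + 1 + 1) rfl y hy
    obtain ⟨t, ht⟩ := (hT (n + 1)).2 (mapT A D.ψ (D'.homologyπ (n + 1)) c')
    obtain ⟨c, rfl⟩ := hπs (n + 1) t
    rw [hiπ] at ht
    obtain ⟨w, hw⟩ := secBQ_exact hD (rfl : n + 1 = n + 1) (c' - lift D (ζ (n + 1)) c)
      ((map_sub (mapT A D.ψ (D'.homologyπ (n + 1))) c' (lift D (ζ (n + 1)) c)).trans (by rw [ht, sub_self]))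
    refine ⟨(mapR D.φ (C.iCycles (n + 1))).baseChange B c, w, ?_, ?_⟩
    · rw [← baseChange_mapR_comp, HomologicalComplex.iCycles_d, mapR_zero, LinearMap.baseChange_zero]
      rfl
    · rw [hiζ]
      have e : dT D D' n w = mapT A D.ψ (D'.iCycles (n + 1)) (c' - lift D (ζ (n + 1)) c) := by
        change (D'.d n (n + 1)).app D.W' w = (D'.iCycles (n + 1)).app D.W' _
        rw [← hw, ← D'.toCycles_i n (n + 1)]
        rfl
      rw [e, map_sub, add_sub_cancel]
      rfl
  · obtain ⟨c, rfl⟩ := hic _ z hz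
    rw [hiζ] at hw'
    have hc : lift D (ζ (n + 1)) c = mapT A D.ψ (D'.toCycles n (n + 1)) w' :=
      app_injective_of_mono D.W' (D'.iCycles (n + 1)) (hw'.trans (by
        rw [dT, ← D'.toCycles_i n (n + 1)]; rfl))
    have h0 : (mapR D.φ (C.homologyπ (n + 1))).baseChange B c = 0 := (hT _).1 (by
      rw [hiπ, hc, map_zero]
      change (D'.toCycles n (n + 1) ≫ D'.homologyπ (n + 1)).app D.W' w' = _
      rw [HomologicalComplex.toCycles_comp_homologyπ]
      rfl)
    obtain ⟨w, hw⟩ := (lTensor_exact B (exact_toCycles D.φ hC (rfl : n + 1 = n + 1)) (hC _).1 c).1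
      (by rwa [← LinearMap.baseChange_eq_ltensor])
    rw [← LinearMap.baseChange_eq_ltensor] at hw
    exact ⟨w, by rw [← hw, dR, ← baseChange_mapR_comp, HomologicalComplex.toCycles_i]⟩

include hζ hξ in
/-- A quasi-isomorphism on sections is bijective on cohomology sheaves. -/
theorem bijective_of_qI (hC : SecBQ C D.W) (hD : SecBQ D' D.W') (h : QI D χ) (n : ℤ) :
    Function.Bijective (lift D (ξ n)) := by
  obtain ⟨m, rfl⟩ : ∃ m, n = m + 1 := ⟨n - 1, by omega⟩
  have hiπ : ∀ c, lift D (ξ (m + 1)) ((mapR D.φ (C.homologyπ _)).baseChange B c) =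
      mapT A D.ψ (D'.homologyπ _) (lift D (ζ (m + 1)) c) := fun c =>
    lift_naturality D _ _ _ _ (hξ _) c
  have hiζ : ∀ c, lift D (χ.f (m + 1)) ((mapR D.φ (C.iCycles _)).baseChange B c) =
      mapT A D.ψ (D'.iCycles _) (lift D (ζ (m + 1)) c) := fun c =>
    lift_naturality D _ _ _ _ (hζ _).symm c
  have hπs : Function.Surjective ((mapR D.φ (C.homologyπ (m + 1))).baseChange B) := by
    rw [LinearMap.baseChange_eq_ltensor]
    exact LinearMap.lTensor_surjective B (hC _).1
  have hii : Function.Injective ((mapR D.φ (C.iCycles (m + 1))).baseChange B) := by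
    rw [LinearMap.baseChange_eq_ltensor]
    exact Module.Flat.lTensor_preserves_injective_linearMap _ (app_injective_of_mono D.W (C.iCycles _))
  have hzero : ∀ w, mapT A D.ψ (D'.homologyπ (m + 1)) (mapT A D.ψ (D'.toCycles m (m + 1)) w) = 0 :=
    fun w => by
    change (D'.toCycles m (m + 1) ≫ D'.homologyπ (m + 1)).app D.W' w = _
    rw [HomologicalComplex.toCycles_comp_homologyπ]
    rfl
  constructor
  · refine (injective_iff_map_eq_zero _).2 fun t ht => ?_
    obtain ⟨c, rfl⟩ := hπs t
    rw [hiπ] at ht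
    obtain ⟨w', hw'⟩ := secBQ_exact hD (rfl : m + 1 = m + 1) _ ht
    have hc : lift D (χ.f (m + 1)) ((mapR D.φ (C.iCycles _)).baseChange B c) = dT D D' m w' := by
      rw [hiζ, dT, ← D'.toCycles_i m (m + 1)]
      exact congrArg (mapT A D.ψ (D'.iCycles (m + 1))) hw'.symm
    obtain ⟨w, hw⟩ := h.2 m _ w' (by
      rw [← baseChange_mapR_comp, HomologicalComplex.iCycles_d, mapR_zero, LinearMap.baseChange_zero]
      rfl) hc
    rw [dR, ← C.toCycles_i m (m + 1), baseChange_mapR_comp] at hw
    rw [← hii hw, ← baseChange_mapR_comp, HomologicalComplex.toCycles_comp_homologyπ, mapR_zero,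
      LinearMap.baseChange_zero]
    rfl
  · intro y
    obtain ⟨c', rfl⟩ := (hD (m + 1)).1 y
    obtain ⟨z, w, hz, hy⟩ := h.1 m ((D'.iCycles (m + 1)).app D.W' c') (by
      change (D'.iCycles (m + 1) ≫ D'.d (m + 1) (m + 1 + 1)).app D.W' c' = _
      rw [HomologicalComplex.iCycles_d]
      rfl)
    obtain ⟨c, rfl⟩ := (Module.Flat.lTensor_exact B (exact_iCycles D.φ C (m + 1) _ rfl) z).1
      (by rwa [← LinearMap.baseChange_eq_ltensor])
    refine ⟨(mapR D.φ (C.homologyπ _)).baseChange B c, ?_⟩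
    rw [← LinearMap.baseChange_eq_ltensor, hiζ, dT, ← D'.toCycles_i m (m + 1)] at hy
    have e : c' = lift D (ζ (m + 1)) c + mapT A D.ψ (D'.toCycles m (m + 1)) w := by
      apply app_injective_of_mono D.W' (D'.iCycles (m + 1))
      exact hy.trans (map_add (mapT A D.ψ (D'.iCycles (m + 1))) _ _).symm
    rw [hiπ]
    change mapT A D.ψ (D'.homologyπ (m + 1)) _ = mapT A D.ψ (D'.homologyπ (m + 1)) c'
    rw [e, map_add, hzero, add_zero]

end Groth.Agent.KFlatLib.FlatBC
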