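import Groth.Agent.KFlatLib.Scheme.QCohD
import Groth.Agent.KFlatLib.Scheme.Derived
import Groth.Agent.TriCat.ColimQuasiIso
import Mathlib.Algebra.Homology.Embedding.CochainComplex
import Mathlib.Algebra.Homology.HomologySequenceLemmas

/-!
# Functors computed by K-flat complexes preserve quasi-coherence of cohomology
-/

set_option linter.style.haveILetI false

universe u

open CategoryTheory CategoryTheory.Limits AlgebraicGeometry

attribute [local instance] HasDerivedCategory.standard

namespace Groth.Agent.KFlatLib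

variable {X Y : Scheme.{u}}

lemma isQCoh_colimit_nat (F : ℕ ⥤ Y.Modules) (h : ∀ n, Coh.IsQCoh (F.obj n)) :
    Coh.IsQCoh (colimit F) := by
  let e : AsSmall.{u} ℕ ≌ ℕ := AsSmall.equiv.symm
  exact isQCoh_of_iso (HasColimit.isoOfEquivalence e (Iso.refl (e.functor ⋙ F)))
    (QCoh.isQCoh_colimit _ fun j => h _)

lemma isQCoh_homology_of_ses {S : ShortComplex (CochainComplex Y.Modules ℤ)} (hS : S.ShortExact)
    (h₁ : ∀ i, Coh.IsQCoh (S.X₁.homology i)) (h₃ : ∀ i, Coh.IsQCoh (S.X₃.homology i)) (i : ℤ) :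
    Coh.IsQCoh (S.X₂.homology i) :=
  isQCoh_of_exact _ _ _ (hS.homology_exact₁ (i - 1) i (by simp)) (hS.homology_exact₂ i)
    (hS.homology_exact₃ i (i + 1) rfl) (h₃ (i - 1)) (h₁ i) (h₃ i) (h₁ (i + 1))

lemma isQCoh_homology_X₃ {S : ShortComplex (CochainComplex Y.Modules ℤ)} (hS : S.ShortExact)
    (h₁ : ∀ i, Coh.IsQCoh (S.X₁.homology i)) (h₂ : ∀ i, Coh.IsQCoh (S.X₂.homology i)) (i : ℤ) :
    Coh.IsQCoh (S.X₃.homology i) :=
  isQCoh_of_exact _ _ _ (hS.homology_exact₂ i) (hS.homology_exact₃ i (i + 1) rfl)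
    (hS.homology_exact₁ i (i + 1) rfl) (h₁ i) (h₂ i) (h₁ (i + 1)) (h₂ (i + 1))

/-- The middle and third terms have the same homology where the first has none. -/
lemma isQCoh_homology_X₂_of_isZero {S : ShortComplex (CochainComplex Y.Modules ℤ)}
    (hS : S.ShortExact) (i : ℤ) (h : IsZero (S.X₁.homology i))
    (h' : IsZero (S.X₁.homology (i + 1))) (h₃ : Coh.IsQCoh (S.X₃.homology i)) :
    Coh.IsQCoh (S.X₂.homology i) := by
  have hm : Mono (HomologicalComplex.homologyMap S.g i) :=
    (hS.homology_exact₂ i).mono_g (h.eq_of_src _ _)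
  have he : Epi (HomologicalComplex.homologyMap S.g i) :=
    (hS.homology_exact₃ i (i + 1) rfl).epi_f (h'.eq_of_tgt _ _)
  haveI := isIso_of_mono_of_epi (HomologicalComplex.homologyMap S.g i)
  exact isQCoh_of_iso (asIso (HomologicalComplex.homologyMap S.g i)).symm h₃

section Devissage

variable (G : CochainComplex X.Modules ℤ ⥤ CochainComplex Y.Modules ℤ)

/-- The hypotheses on a functor of complexes, to be evaluated on K-flat complexes. -/
structure QData : Prop where
  qis : ∀ {P Q : CochainComplex X.Modules ℤ} (α : P ⟶ Q), QuasiIso α → DCoh.IsKFlat P →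
    DCoh.IsKFlat Q → QuasiIso (G.map α)
  ses : ∀ S : ShortComplex (CochainComplex X.Modules ℤ),
    (∀ n, Nonempty (S.map (HomologicalComplex.eval X.Modules (ComplexShape.up ℤ) n)).Splitting) →
      ∃ hz, (ShortComplex.mk (G.map S.f) (G.map S.g) hz).ShortExact
  bound : ∃ c : ℤ, ∀ (K : CochainComplex X.Modules ℤ) (n : ℤ), K.IsLE n →
    ∀ i, n + c < i → IsZero ((G.obj ((kRes X).obj K)).homology i)
  single : ∀ (K : CochainComplex X.Modules ℤ) (b : ℤ), K.IsStrictlyLE b → K.IsStrictlyGE b →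
    Coh.IsQCoh (K.X b) → ∀ i, Coh.IsQCoh ((G.obj ((kRes X).obj K)).homology i)

variable {G}

/-- `G` respects quasi-isomorphisms between K-flat complexes. -/
def RespectsQis (G : CochainComplex X.Modules ℤ ⥤ CochainComplex Y.Modules ℤ) : Prop :=
  ∀ {P Q : CochainComplex X.Modules ℤ} (α : P ⟶ Q), QuasiIso α → DCoh.IsKFlat P →
    DCoh.IsKFlat Q → QuasiIso (G.map α)

/-- The value at a complex has quasi-coherent homology. -/
def QVal (G : CochainComplex X.Modules ℤ ⥤ CochainComplex Y.Modules ℤ)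
    (K : CochainComplex X.Modules ℤ) : Prop :=
  ∀ i, Coh.IsQCoh ((G.obj ((kRes X).obj K)).homology i)

lemma quasiIso_kRes_map {K L : CochainComplex X.Modules ℤ} (s : K ⟶ L) [QuasiIso s] :
    QuasiIso ((kRes X).map s) :=
  (resTensor K).map_weq s (inferInstance : QuasiIso s)

lemma homology_isQCoh_iff {P Q : CochainComplex Y.Modules ℤ} (α : P ⟶ Q) [QuasiIso α] :
    (∀ i, Coh.IsQCoh (P.homology i)) ↔ ∀ i, Coh.IsQCoh (Q.homology i) :=
  ⟨fun h i => isQCoh_of_iso (asIso (HomologicalComplex.homologyMap α i)) (h i),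
    fun h i => isQCoh_of_iso (asIso (HomologicalComplex.homologyMap α i)).symm (h i)⟩

lemma qVal_iff_of_quasiIso (hq : RespectsQis G) {K L : CochainComplex X.Modules ℤ} (s : K ⟶ L)
    [QuasiIso s] : QVal G K ↔ QVal G L := by
  haveI := hq _ (quasiIso_kRes_map s) (isKFlat_kRes K) (isKFlat_kRes L)
  exact homology_isQCoh_iff (G.map ((kRes X).map s))

lemma qVal_iff_rep (hq : RespectsQis G) {R : CochainComplex X.Modules ℤ} (hR : DCoh.IsKFlat R) :
    QVal G R ↔ ∀ i, Coh.IsQCoh ((G.obj R).homology i) := by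
  haveI := hq _ ((flatCover X).quasiIso_ψ R) (isKFlat_kRes R) hR
  exact homology_isQCoh_iff (G.map ((flatCover X).ψ.app R))

lemma qVal_iff_of_iso (hq : RespectsQis G) {K L : CochainComplex X.Modules ℤ}
    (e : DerivedCategory.Q.obj K ≅ DerivedCategory.Q.obj L) : QVal G K ↔ QVal G L := by
  obtain ⟨Z, s, hs, f, hf⟩ := DerivedCategory.right_fac e.hom
  haveI : IsIso (DerivedCategory.Q.map s) := hs
  haveI := (DerivedCategory.isIso_Q_map_iff_quasiIso _ s).1 hs
  haveI : IsIso (DerivedCategory.Q.map f) := by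
    have : DerivedCategory.Q.map f = DerivedCategory.Q.map s ≫ e.hom := by simp [hf]
    rw [this]
    infer_instance
  haveI := (DerivedCategory.isIso_Q_map_iff_quasiIso _ f).1 inferInstance
  exact (qVal_iff_of_quasiIso hq s).symm.trans (qVal_iff_of_quasiIso hq f)

lemma qVal_of_ses (d : QData G) {S : ShortComplex (CochainComplex X.Modules ℤ)}
    (hS : S.ShortExact) :
    (QVal G S.X₁ → QVal G S.X₃ → QVal G S.X₂) ∧
    (∀ i, IsZero ((G.obj ((kRes X).obj S.X₁)).homology i) →
      IsZero ((G.obj ((kRes X).obj S.X₁)).homology (i + 1)) → QVal G S.X₃ →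
      Coh.IsQCoh ((G.obj ((kRes X).obj S.X₂)).homology i)) := by
  let f := (kRes X).map S.f
  let A := (kRes X).obj S.X₁
  let B := (kRes X).obj S.X₂
  obtain ⟨hz, hG⟩ := d.ses (embedConeSeq f) fun n => ⟨embedConeSplitting f n⟩
  let M := B ⊞ CochainComplex.mappingCone (𝟙 A)
  haveI hfst : QuasiIso (biprod.fst : M ⟶ B) :=
    (homotopyEquivFst (CochainComplex.mappingCone.homotopyToZeroOfId A)).quasiIso_hom
  have hM : DCoh.IsKFlat M :=
    (kFlat_two_out_of_three fun L => shortExact₂_of_splitting L _ (fun n =>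
      ⟨(ShortComplex.Splitting.ofHasBinaryBiproduct B (CochainComplex.mappingCone (𝟙 A))).map
        (HomologicalComplex.eval X.Modules (ComplexShape.up ℤ) n)⟩)).2.1
      (isKFlat_kRes S.X₂) (kFlat_cone_id A)
  haveI := d.qis _ hfst hM (isKFlat_kRes S.X₂)
  let p : M ⟶ S.X₂ := biprod.fst ≫ (flatCover X).ψ.app S.X₂
  have hp : embedCone f ≫ p = (flatCover X).ψ.app S.X₁ ≫ S.f := by
    rw [← Category.assoc, show embedCone f ≫ biprod.fst = f from biprod.lift_fst _ _]
    exact (flatCover X).ψ.naturality S.f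
  let γ : cokernel (embedCone f) ⟶ S.X₃ := cokernel.desc _ (p ≫ S.g) (by
    rw [← Category.assoc, hp, Category.assoc, S.zero, comp_zero])
  let φ : embedConeSeq f ⟶ S :=
    { τ₁ := (flatCover X).ψ.app S.X₁, τ₂ := p, τ₃ := γ
      comm₁₂ := hp.symm
      comm₂₃ := (cokernel.π_desc _ _ _).symm }
  haveI := (flatCover X).quasiIso_ψ S.X₂
  haveI hγ : QuasiIso γ := HomologicalComplex.HomologySequence.quasiIso_τ₃ φ
    (embedConeSeq_shortExact f) hS ((flatCover X).quasiIso_ψ S.X₁)
    (inferInstanceAs (QuasiIso p))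
  have hC : DCoh.IsKFlat (cokernel (embedCone f)) :=
    kFlat_cokernel_embedCone f (isKFlat_kRes _) (isKFlat_kRes _)
  have h3 : QVal G S.X₃ → ∀ i, Coh.IsQCoh ((G.obj (cokernel (embedCone f))).homology i) :=
    fun h => (qVal_iff_rep d.qis hC).1 ((qVal_iff_of_quasiIso d.qis γ).2 h)
  refine ⟨fun h₁ h₃ => (homology_isQCoh_iff (G.map (biprod.fst : M ⟶ B))).1
    (isQCoh_homology_of_ses hG h₁ (h3 h₃)), fun i hi hi' h₃ => ?_⟩
  exact isQCoh_of_iso (asIso (HomologicalComplex.homologyMap (G.map (biprod.fst : M ⟶ B)) i))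
    (isQCoh_homology_X₂_of_isZero hG i hi hi' (h3 h₃ i))

lemma qVal_of_bounded (d : QData G) (a : ℤ) : ∀ (m : ℕ) (K : CochainComplex X.Modules ℤ),
    K.IsGE a → K.IsLE (a + m) → (∀ i, Coh.IsQCoh (K.homology i)) → QVal G K := by
  intro m
  induction m generalizing a with
  | zero =>
    intro K hge hle hq
    haveI := hge
    haveI : (DerivedCategory.Q.obj K).IsGE a := inferInstance
    haveI : (DerivedCategory.Q.obj K).IsLE a := (DerivedCategory.isLE_Q_obj_iff K a).2 (by simpa using hle)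
    obtain ⟨L, hL₁, hL₂, ⟨e⟩⟩ :=
      DerivedCategory.exists_iso_Q_obj_of_isGE_of_isLE (DerivedCategory.Q.obj K) a a
    refine (qVal_iff_of_iso d.qis e).2 (d.single L a hL₂ hL₁ ?_)
    have hz : ∀ j, j ≠ a → IsZero (L.X j) := fun j hj => by
      rcases lt_or_gt_of_ne hj with h | h
      · exact L.isZero_of_isStrictlyGE a j h
      · exact L.isZero_of_isStrictlyLE a j h
    refine isQCoh_of_iso ?_ (hq a)
    exact ((DerivedCategory.homologyFunctorFactors X.Modules a).app K).symm ≪≫
      (DerivedCategory.homologyFunctor X.Modules a).mapIso e ≪≫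
      (DerivedCategory.homologyFunctorFactors X.Modules a).app L ≪≫
      (@asIso _ _ _ _ (L.homologyπ a) (L.isIso_homologyπ (a - 1) a (by simp)
        ((hz (a - 1) (by omega)).eq_of_src _ _))).symm ≪≫
      @asIso _ _ _ _ (L.iCycles a) (L.isIso_iCycles a (a + 1) (by simp)
        ((hz (a + 1) (by omega)).eq_of_tgt _ _))
  | succ m ih =>
    intro K hge hle hq
    haveI := hge
    haveI := hle
    let S := K.shortComplexTruncLE a
    have hS : S.ShortExact := K.shortComplexTruncLE_shortExact a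
    let π : S.X₃ ⟶ K.truncGE (a + 1) := K.shortComplexTruncLEX₃ToTruncGE a (a + 1) rfl
    refine (qVal_of_ses d hS).1 (ih a (K.truncLE a) ?_ ?_ ?_) ?_
    · rw [CochainComplex.isGE_iff]
      intro j hj
      rw [HomologicalComplex.exactAt_iff_isZero_homology]
      haveI := K.quasiIsoAt_ιTruncLE a j (by omega)
      exact (K.exactAt_of_isGE a j hj).isZero_homology.of_iso
        (asIso (HomologicalComplex.homologyMap (K.ιTruncLE a) j))
    · exact CochainComplex.isLE_of_le _ a _ (by omega)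
    · intro j
      by_cases hj : j ≤ a
      · haveI := K.quasiIsoAt_ιTruncLE a j hj
        exact isQCoh_of_iso (asIso (HomologicalComplex.homologyMap (K.ιTruncLE a) j)).symm (hq j)
      · exact isQCoh_of_isZero ((CochainComplex.exactAt_of_isLE _ a j (by omega)).isZero_homology)
    refine (qVal_iff_of_quasiIso d.qis π).2 (ih (a + 1) (K.truncGE (a + 1)) inferInstance ?_ ?_)
    · rw [CochainComplex.isLE_iff]
      intro j hj
      rw [HomologicalComplex.exactAt_iff_isZero_homology]
      haveI := K.quasiIsoAt_πTruncGE (a + 1) j (by omega)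
      exact (K.exactAt_of_isLE (a + ↑(m + 1)) j (by omega)).isZero_homology.of_iso
        (asIso (HomologicalComplex.homologyMap (K.πTruncGE (a + 1)) j)).symm
    · intro j
      by_cases hj : a + 1 ≤ j
      · haveI := K.quasiIsoAt_πTruncGE (a + 1) j hj
        exact isQCoh_of_iso (asIso (HomologicalComplex.homologyMap (K.πTruncGE (a + 1)) j)) (hq j)
      · exact isQCoh_of_isZero ((CochainComplex.exactAt_of_isGE _ (a + 1) j (by omega)).isZero_homology)

lemma qVal_of_isLE (d : QData G) (K : CochainComplex X.Modules ℤ) (b : ℤ) [K.IsLE b]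
    (hq : ∀ i, Coh.IsQCoh (K.homology i)) : QVal G K := fun i => by
  obtain ⟨c, hc⟩ := d.bound
  let n := i - c - 1
  let S := K.shortComplexTruncLE n
  let π : S.X₃ ⟶ K.truncGE (n + 1) := K.shortComplexTruncLEX₃ToTruncGE n (n + 1) rfl
  refine (qVal_of_ses d (K.shortComplexTruncLE_shortExact n)).2 i
    (hc (K.truncLE n) n inferInstance i (by omega))
    (hc (K.truncLE n) n inferInstance (i + 1) (by omega))
    ((qVal_iff_of_quasiIso d.qis π).2 (qVal_of_bounded d (n + 1) (b - n).toNat (K.truncGE (n + 1))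
      inferInstance ?_ fun j => ?_))
  · rw [CochainComplex.isLE_iff]
    intro j hj
    rw [HomologicalComplex.exactAt_iff_isZero_homology]
    haveI := K.quasiIsoAt_πTruncGE (n + 1) j (by omega)
    exact (K.exactAt_of_isLE b j (by omega)).isZero_homology.of_iso
      (asIso (HomologicalComplex.homologyMap (K.πTruncGE (n + 1)) j)).symm
  · by_cases hj : n + 1 ≤ j
    · haveI := K.quasiIsoAt_πTruncGE (n + 1) j hj
      exact isQCoh_of_iso (asIso (HomologicalComplex.homologyMap (K.πTruncGE (n + 1)) j)) (hq j)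
    · exact isQCoh_of_isZero ((CochainComplex.exactAt_of_isGE _ (n + 1) j (by omega)).isZero_homology)

end Devissage

section Colim

/-- The transition maps between truncations. -/
noncomputable def truncStep (K : CochainComplex X.Modules ℤ) (n : ℕ) :
    K.truncLE (n : ℤ) ⟶ K.truncLE ((n + 1 : ℕ) : ℤ) :=
  haveI : (K.truncLE (n : ℤ)).IsStrictlyLE ((n + 1 : ℕ) : ℤ) :=
    CochainComplex.isStrictlyLE_of_le _ (n : ℤ) _ (by omega)
  inv ((K.truncLE (n : ℤ)).ιTruncLE ((n + 1 : ℕ) : ℤ)) ≫
    CochainComplex.truncLEMap (K.ιTruncLE (n : ℤ)) ((n + 1 : ℕ) : ℤ)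

lemma truncStep_ι (K : CochainComplex X.Modules ℤ) (n : ℕ) :
    truncStep K n ≫ K.ιTruncLE ((n + 1 : ℕ) : ℤ) = K.ιTruncLE (n : ℤ) := by
  simp [truncStep, CochainComplex.ιTruncLE_naturality]

/-- The truncations. -/
noncomputable def truncSeq (K : CochainComplex X.Modules ℤ) : ℕ ⥤ CochainComplex X.Modules ℤ :=
  Functor.ofSequence (truncStep K)

/-- The truncations map to the complex. -/
noncomputable def truncSeqι (K : CochainComplex X.Modules ℤ) :
    truncSeq K ⟶ (Functor.const ℕ).obj K :=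
  NatTrans.ofSequence (fun n => K.ιTruncLE (n : ℤ)) fun n => by
    erw [Functor.ofSequence_map_homOfLE_succ, Category.comp_id]
    exact truncStep_ι K n

lemma quasiIso_truncSeq_desc (K : CochainComplex X.Modules ℤ) :
    QuasiIso (colimit.desc (truncSeq K) (Cocone.mk K (truncSeqι K))) := by
  refine ⟨fun i => ?_⟩
  haveI := FlatCxLib.preservesColimitsOfShape_complexHomology (C := X.Modules)
    (J := ℕ) (ComplexShape.up ℤ) i
  let H := HomologicalComplex.homologyFunctor X.Modules (ComplexShape.up ℤ) i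
  rw [quasiIsoAt_iff_isIso_homologyMap]
  let n₀ : ℕ := i.toNat
  have hcst : ∀ n, n₀ ≤ n → IsIso (H.map ((truncSeqι K).app n)) := fun n hn => by
    haveI := K.quasiIsoAt_ιTruncLE (n : ℤ) i (by omega)
    exact inferInstanceAs (IsIso (HomologicalComplex.homologyMap (K.ιTruncLE (n : ℤ)) i))
  let c₀ : Cocone (truncSeq K ⋙ H) := H.mapCocone (colimit.cocone (truncSeq K))
  let hc₀ : IsColimit c₀ := isColimitOfPreserves H (colimit.isColimit _)
  have hconst : ∀ ⦃a b : ℕ⦄ (φ : a ⟶ b), n₀ ≤ a → IsIso ((truncSeq K ⋙ H).map φ) := fun a b φ ha => by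
    haveI := hcst a ha
    haveI := hcst b (ha.trans (leOfHom φ))
    have : H.map ((truncSeq K).map φ) ≫ H.map ((truncSeqι K).app b) =
        H.map ((truncSeqι K).app a) := by
      rw [← H.map_comp, (truncSeqι K).naturality φ]
      simp
    haveI : IsIso (H.map ((truncSeq K).map φ) ≫ H.map ((truncSeqι K).app b)) := by
      rw [this]; infer_instance
    change IsIso (H.map ((truncSeq K).map φ))
    exact IsIso.of_isIso_comp_right _ (H.map ((truncSeqι K).app b))
  have h0 : IsIso (c₀.ι.app n₀) := by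
    exact Functor.IsEventuallyConstantFrom.isIso_ι_of_isColimit
      (i₀ := n₀) (fun j φ => hconst φ le_rfl) hc₀
  have hcomp : c₀.ι.app n₀ ≫ HomologicalComplex.homologyMap
      (colimit.desc (truncSeq K) (Cocone.mk K (truncSeqι K))) i = H.map ((truncSeqι K).app n₀) := by
    change H.map _ ≫ H.map _ = _
    rw [← H.map_comp]
    exact congrArg H.map (colimit.ι_desc _ _)
  haveI := hcst n₀ le_rfl
  exact @IsIso.of_isIso_comp_left _ _ _ _ _ (c₀.ι.app n₀) _ h0
    (Eq.mpr (congrArg (fun g => IsIso g) hcomp) (hcst n₀ le_rfl))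

variable {G : CochainComplex X.Modules ℤ ⥤ CochainComplex Y.Modules ℤ}

/-- Quasi-coherence of cohomology passes to sequential colimits of K-flat complexes. -/
lemma isQCoh_homology_colimit [PreservesColimitsOfShape ℕ G]
    (F : ℕ ⥤ CochainComplex X.Modules ℤ) (h : ∀ n i, Coh.IsQCoh ((G.obj (F.obj n)).homology i))
    (i : ℤ) : Coh.IsQCoh ((G.obj (colimit F)).homology i) := by
  haveI := FlatCxLib.preservesColimitsOfShape_complexHomology (C := Y.Modules)
    (J := ℕ) (ComplexShape.up ℤ) i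
  exact isQCoh_of_iso
    (preservesColimitIso (G ⋙ HomologicalComplex.homologyFunctor Y.Modules (ComplexShape.up ℤ) i) F).symm
    (isQCoh_colimit_nat _ fun n => h n i)

/-- A functor of complexes computed by K-flat ones preserves quasi-coherence of cohomology as soon
as it does so on bounded above complexes. -/
lemma exists_rep_qcoh [PreservesColimitsOfShape ℕ G]
    (hG : ∀ (L : CochainComplex X.Modules ℤ) (b : ℤ), L.IsLE b →
      (∀ i, Coh.IsQCoh (L.homology i)) → QVal G L)
    (K : CochainComplex X.Modules ℤ) (hq : ∀ i, Coh.IsQCoh (K.homology i)) :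
    ∃ R : CochainComplex X.Modules ℤ, DCoh.IsKFlat R ∧
      Nonempty (DerivedCategory.Q.obj R ≅ DerivedCategory.Q.obj K) ∧
      ∀ i, Coh.IsQCoh ((G.obj R).homology i) := by
  let F := truncSeq K ⋙ kRes X
  have hR : DCoh.IsKFlat (colimit F) :=
    kFlat_of_isColimit (colimit.isColimit F) fun n => isKFlat_kRes _
  let φ : colimit F ⟶ colimit (truncSeq K) := colimMap (Functor.whiskerLeft (truncSeq K) (flatCover X).ψ)
  haveI : QuasiIso φ := TriCat.quasiIso_of_isColimit (colimit.isColimit F)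
    (colimit.isColimit (truncSeq K)) (Functor.whiskerLeft (truncSeq K) (flatCover X).ψ)
    (fun n => (flatCover X).quasiIso_ψ _) φ fun n => ι_colimMap _ n
  haveI := quasiIso_truncSeq_desc K
  let ρ := φ ≫ colimit.desc (truncSeq K) (Cocone.mk K (truncSeqι K))
  haveI : QuasiIso ρ := inferInstanceAs (QuasiIso (φ ≫ _))
  haveI := isIso_Q_map ρ inferInstance
  refine ⟨colimit F, hR, ⟨asIso (DerivedCategory.Q.map ρ)⟩, isQCoh_homology_colimit F fun n => ?_⟩
  haveI : (K.truncLE (n : ℤ)).IsLE (n : ℤ) := inferInstance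
  refine hG (K.truncLE (n : ℤ)) (n : ℤ) inferInstance fun j => ?_
  by_cases hj : j ≤ n
  · haveI := K.quasiIsoAt_ιTruncLE (n : ℤ) j hj
    exact isQCoh_of_iso (asIso (HomologicalComplex.homologyMap (K.ιTruncLE (n : ℤ)) j)).symm (hq j)
  · exact isQCoh_of_isZero ((CochainComplex.exactAt_of_isLE _ (n : ℤ) j (by omega)).isZero_homology)

/-- The values on all K-flat complexes, from those on bounded above complexes. -/
lemma isQCoh_homology_of_kFlat [PreservesColimitsOfShape ℕ G] (hq : RespectsQis G)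
    (hG : ∀ (L : CochainComplex X.Modules ℤ) (b : ℤ), L.IsLE b →
      (∀ i, Coh.IsQCoh (L.homology i)) → QVal G L)
    {R : CochainComplex X.Modules ℤ} (hR : DCoh.IsKFlat R)
    (h : ∀ i, Coh.IsQCoh (R.homology i)) (i : ℤ) : Coh.IsQCoh ((G.obj R).homology i) := by
  obtain ⟨R', hR', ⟨e⟩, h'⟩ := exists_rep_qcoh hG R h
  exact (qVal_iff_rep hq hR).1 ((qVal_iff_of_iso hq e).1 ((qVal_iff_rep hq hR').2 h')) i

/-- The values on all K-flat complexes, by dévissage. -/
lemma QData.isQCoh_homology [PreservesColimitsOfShape ℕ G] (d : QData G)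
    {R : CochainComplex X.Modules ℤ} (hR : DCoh.IsKFlat R)
    (h : ∀ i, Coh.IsQCoh (R.homology i)) (i : ℤ) : Coh.IsQCoh ((G.obj R).homology i) :=
  isQCoh_homology_of_kFlat d.qis (fun L b hb hL => by haveI := hb; exact qVal_of_isLE d L b hL) hR h i

end Colim

end Groth.Agent.KFlatLib
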