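import Groth.Agent.KFlatLib.Scheme.Coproducts
import Groth.Agent.KFlatLib.Scheme.QCohDevissage
import Groth.Agent.KFlatLib.HomologicalDevissage

/-!
# Functors on the derived category induced by K-flat resolutions
-/

set_option linter.style.haveILetI false
set_option backward.isDefEq.respectTransparency false

universe u

open CategoryTheory CategoryTheory.Limits AlgebraicGeometry Pretriangulated

attribute [local instance] HasDerivedCategory.standard

namespace Groth.Agent.KFlatLib

variable {X Y : Scheme.{u}}

lemma isKFlat_of_isZero {K : CochainComplex Y.Modules ℤ} (h : IsZero K) : DCoh.IsKFlat K :=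
  kFlat_of_contractible (T := DCoh.tensorBi) (Homotopy.ofEq (h.eq_of_src (𝟙 K) 0))

/-- A functor on complexes respecting quasi-isomorphisms between K-flat complexes. -/
def KRespects (G : CochainComplex Y.Modules ℤ ⥤ CochainComplex X.Modules ℤ) : Prop :=
  ∀ ⦃P Q : CochainComplex Y.Modules ℤ⦄ (α : P ⟶ Q), QuasiIso α → DCoh.IsKFlat P → DCoh.IsKFlat Q →
    QuasiIso (G.map α)

variable {G : CochainComplex Y.Modules ℤ ⥤ CochainComplex X.Modules ℤ} (hG : KRespects G)

include hG in
lemma isInvertedBy_kRes :
    (qisX Y).IsInvertedBy (kRes Y ⋙ G ⋙ DerivedCategory.Q) := fun K L s hs => by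
  haveI : QuasiIso s := hs
  exact isIso_Q_map _ (hG _ (quasiIso_kRes_map s) (isKFlat_kRes K) (isKFlat_kRes L))

/-- The derived functor of `G` computed by K-flat resolutions. -/
noncomputable def kLift : DCoh.D Y ⥤ DCoh.D X :=
  Localization.lift (kRes Y ⋙ G ⋙ DerivedCategory.Q) (isInvertedBy_kRes hG) DerivedCategory.Q

/-- The defining isomorphism. -/
noncomputable def kLiftFac :
    DerivedCategory.Q ⋙ kLift hG ≅ kRes Y ⋙ G ⋙ DerivedCategory.Q :=
  Localization.fac _ (isInvertedBy_kRes hG) DerivedCategory.Q

/-- The comparison with `G`. -/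
noncomputable def kLiftε : DerivedCategory.Q ⋙ kLift hG ⟶ G ⋙ DerivedCategory.Q where
  app K := (kLiftFac hG).hom.app K ≫ DerivedCategory.Q.map (G.map ((flatCover Y).ψ.app K))
  naturality K L g := by
    rw [NatTrans.naturality_assoc, Category.assoc]
    refine congrArg ((kLiftFac hG).hom.app K ≫ ·) ?_
    simp only [Functor.comp_map, ← Functor.map_comp]
    exact congrArg (fun t => DerivedCategory.Q.map (G.map t)) ((flatCover Y).ψ.naturality g)

lemma isIso_kLiftε {K : CochainComplex Y.Modules ℤ} (hK : DCoh.IsKFlat K) :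
    IsIso ((kLiftε hG).app K) := by
  haveI := isIso_Q_map _ (hG _ ((flatCover Y).quasiIso_ψ K) (isKFlat_kRes K) hK)
  exact inferInstanceAs (IsIso ((kLiftFac hG).hom.app K ≫ DerivedCategory.Q.map (G.map _)))

lemma preservesZeroMorphisms_kLift [G.PreservesZeroMorphisms] : (kLift hG).PreservesZeroMorphisms := by
  have hz : IsZero (HomologicalComplex.zero : CochainComplex Y.Modules ℤ) :=
    HomologicalComplex.isZero_zero
  haveI := isIso_kLiftε hG (isKFlat_of_isZero hz)
  have h1 : IsZero (DerivedCategory.Q.obj (G.obj HomologicalComplex.zero) : DCoh.D X) :=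
    DerivedCategory.Q.map_isZero (G.map_isZero hz)
  have h2 : IsZero ((kLift hG).obj (DerivedCategory.Q.obj HomologicalComplex.zero)) :=
    h1.of_iso (asIso ((kLiftε hG).app HomologicalComplex.zero))
  exact Functor.preservesZeroMorphisms_of_map_zero_object
    ((kLift hG).mapIso (isZero_zero _ |>.iso (DerivedCategory.Q.map_isZero hz)) ≪≫
      h2.iso (isZero_zero _))

lemma preservesColimit_kLift {J : Type u} [PreservesColimitsOfShape (Discrete J) G]
    (C : J → DCoh.D Y) : PreservesColimit (Discrete.functor C) (kLift hG) := by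
  haveI : HasColimitsOfShape (Discrete J) (DCoh.D X) := TriCat.hasColimitsOfShape_derivedCategory
  haveI : HasColimitsOfShape (Discrete J) (DCoh.D Y) := TriCat.hasColimitsOfShape_derivedCategory
  have h : IsIso (sigmaComparison (kLift hG) C) :=
    isIso_sigmaDesc (kLift hG) G (kLiftε hG) DCoh.IsKFlat (fun K hK => isIso_kLiftε hG hK)
      isKFlat_sigma C fun j => exists_kFlat_rep _
  haveI := h
  exact PreservesCoproduct.of_iso_comparison (kLift hG) C

/-- A homological functor composed with `kLift` is homological. -/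
lemma isHomological_kLift_comp [G.Additive]
    (hsplit : ∀ (S : ShortComplex (CochainComplex Y.Modules ℤ)),
      (∀ n, Nonempty (S.map (HomologicalComplex.eval _ _ n)).Splitting) → (S.map G).ShortExact)
    {A : Type*} [Category A] [Abelian A] (H : DCoh.D X ⥤ A) [H.IsHomological] :
    (kLift hG ⋙ H).IsHomological := by
  haveI := preservesZeroMorphisms_kLift hG
  refine isHomological_of_split _ DCoh.IsKFlat (kRes Y) (flatCover Y).ψ
    (fun K => (flatCover Y).quasiIso_ψ K) isKFlat_kRes
    (fun φ hK hL => kFlat_cone (T := DCoh.tensorBi) φ hK hL)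
    (fun K hK => KFlat.shift (T := DCoh.tensorBi) hK 1) fun S hS h₁ h₂ h₃ => ?_
  haveI := isIso_kLiftε hG h₁
  haveI := isIso_kLiftε hG h₂
  haveI := isIso_kLiftε hG h₃
  let e : (S.map DerivedCategory.Q).map (kLift hG) ≅ (S.map G).map DerivedCategory.Q :=
    ShortComplex.isoMk (asIso ((kLiftε hG).app S.X₁)) (asIso ((kLiftε hG).app S.X₂))
      (asIso ((kLiftε hG).app S.X₃)) ((kLiftε hG).naturality S.f).symm
      ((kLiftε hG).naturality S.g).symm
  refine ShortComplex.exact_of_iso (H.mapShortComplex.mapIso e).symm ?_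
  exact H.map_distinguished_exact _ (DerivedCategory.triangleOfSES_distinguished (hsplit S hS))

end Groth.Agent.KFlatLib
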