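import Groth.Agent.KFlatLib.Scheme.RelTor

/-!
# Objects which are locally bounded below
-/

set_option linter.style.haveILetI false
set_option backward.isDefEq.respectTransparency false

universe u

open CategoryTheory CategoryTheory.Limits AlgebraicGeometry TopologicalSpace

attribute [local instance] HasDerivedCategory.standard

namespace Groth.Agent.KFlatLib.RelTor

variable {X S : Scheme.{u}}

/-- Locally bounded below. -/
def LocGE (K : DCoh.D X) : Prop :=
  ∀ x : X, ∃ (U : Scheme.{u}) (j : U ⟶ X) (_ : IsOpenImmersion j) (a : ℤ),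
    x ∈ Set.range j.base ∧ ((rho j).obj K).IsGE a

lemma isGE_rho {U : Scheme.{u}} (j : U ⟶ X) [IsOpenImmersion j] (K : DCoh.D X) (a : ℤ) [K.IsGE a] :
    ((rho j).obj K).IsGE a :=
  (DerivedCategory.isGE_iff _ a).2 fun i hi =>
    ((Scheme.Modules.restrictFunctor j).map_isZero (DerivedCategory.isZero_of_isGE K a i hi)).of_iso
      ((mapDCHomologyIso (Scheme.Modules.restrictFunctor j) i).app K)

theorem locGE_iff (K : DCoh.D X) [∀ (V : X.Opens), PreservesFiniteLimits (Scheme.Modules.restrictFunctor V.ι)] :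
    (∀ x : X, ∃ (V : X.Opens) (a : ℤ), x ∈ V ∧ ((DCoh.restrictD V.ι).obj K).IsGE a) ↔ LocGE K := by
  constructor
  · intro h x
    obtain ⟨V, a, hx, ha⟩ := h x
    exact ⟨_, V.ι, inferInstance, a, ⟨⟨x, hx⟩, rfl⟩, ha⟩
  · intro h x
    obtain ⟨U, j, _, a, hx, ha⟩ := h x
    refine ⟨j.opensRange, a, hx, ?_⟩
    haveI := isGE_rho (rangeHom j) ((rho j).obj K) a
    exact DerivedCategory.TStructure.t.isGE_of_iso (rhoComp (rangeHom j) j _ (rangeHom_fac j) K) a

lemma LocGE.of_iso {K L : DCoh.D X} (e : K ≅ L) (h : LocGE K) : LocGE L := fun x => by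
  obtain ⟨U, j, _, a, hx, ha⟩ := h x
  exact ⟨U, j, _, a, hx, DerivedCategory.TStructure.t.isGE_of_iso ((rho j).mapIso e) a⟩

lemma LocGE.restrict {K : DCoh.D X} (h : LocGE K) {U : Scheme.{u}} (j : U ⟶ X) [IsOpenImmersion j] :
    LocGE ((rho j).obj K) := fun u' => by
  obtain ⟨U', j', _, a, hx, ha⟩ := h (j.base u')
  obtain ⟨W, k, _, i₁, i₂, _, _, ⟨w, hw⟩, f₁, f₂⟩ := exists_common j' j hx ⟨u', rfl⟩
  refine ⟨W, i₂, inferInstance, a, ⟨w, j.isOpenEmbedding.injective ?_⟩, ?_⟩
  · rw [← hw, ← f₂]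
    rfl
  · haveI := isGE_rho i₁ ((rho j').obj K) a
    exact DerivedCategory.TStructure.t.isGE_of_iso (rhoComp i₁ j' k f₁ K ≪≫ (rhoComp i₂ j k f₂ K).symm) a

lemma LocGE.of_local {K : DCoh.D X}
    (h : ∀ x : X, ∃ (U : Scheme.{u}) (j : U ⟶ X) (_ : IsOpenImmersion j),
      x ∈ Set.range j.base ∧ LocGE ((rho j).obj K)) : LocGE K := fun x => by
  obtain ⟨U, j, _, ⟨u', rfl⟩, hU⟩ := h x
  obtain ⟨V, i, _, a, ⟨v, rfl⟩, ha⟩ := hU u'
  exact ⟨V, i ≫ j, inferInstance, a, ⟨v, rfl⟩, DerivedCategory.TStructure.t.isGE_of_iso (rhoComp i j _ rfl K) a⟩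

/-- Finite tor dimension gives local boundedness. -/
lemma LocRTD.locGE {f : X ⟶ S} {K : DCoh.D X} (h : LocRTD f K) : LocGE K := fun x => by
  obtain ⟨U, j, _, hx, a, b, E, hz, -, ⟨e⟩⟩ := h x
  refine ⟨U, j, inferInstance, a, hx, (DerivedCategory.isGE_iff ((rho j).obj K) a).2 ?_⟩
  intro i hi
  have h₁ : IsZero ((DerivedCategory.homologyFunctor U.Modules i).obj (DerivedCategory.Q.obj E)) :=
    IsZero.of_iso (ShortComplex.isZero_homology_of_isZero_X₂ (E.sc i) (hz i (Or.inl hi)))
      ((DerivedCategory.homologyFunctorFactors U.Modules i).app E)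
  exact h₁.of_iso ((DerivedCategory.homologyFunctor U.Modules i).mapIso e.symm)

variable {A : Type u} [CommRing A] [PreservesFiniteLimits (tilde.functor (CommRingCat.of A))]

/-- On an affine scheme local boundedness below is boundedness below. -/
theorem locGE_tilde_iff (M : Dual.D A) :
    LocGE ((DCoh.tildeD (CommRingCat.of A)).obj M) ↔
      ∃ a : ℤ, ∀ i : ℤ, i < a → Subsingleton (Dual.HD A M i) := by
  haveI : (tilde.functor (CommRingCat.of A)).Additive := tilde_additive _
  haveI : PreservesFiniteColimits (tilde.functor (CommRingCat.of A)) := QCoh.tilde_preservesFiniteColimits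
  constructor
  · intro h
    choose U j hj a hx ha using h
    obtain ⟨t, ht⟩ := isCompact_univ.elim_finite_subcover (fun x => Set.range (j x).base)
      (fun x => haveI := hj x; (j x).isOpenEmbedding.isOpen_range) fun x _ => Set.mem_iUnion.2 ⟨x, hx x⟩
    obtain ⟨α, hα⟩ : ∃ α : ℤ, ∀ x ∈ t, α ≤ a x :=
      (t.image a).bddBelow.imp fun α h x hx' => h (Finset.mem_coe.2 (Finset.mem_image_of_mem a hx'))
    have hamp : ∀ z : Spec (CommRingCat.of A), ∃ x ∈ t, z ∈ Set.range (j x).base := fun z => by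
      simpa using ht (Set.mem_univ z)
    refine ⟨α, fun i hi => ?_⟩
    let N : ModuleCat.{u} (CommRingCat.of A) := (DerivedCategory.homologyFunctor (ModuleCat.{u} A) i).obj M
    have hz : IsZero ((tilde.functor (CommRingCat.of A)).obj N) := by
      refine isZero_of_stalk _ fun z => ?_
      obtain ⟨x, hxt, v, rfl⟩ := hamp z
      haveI := hj x
      haveI := ha x
      have hzU : IsZero ((Scheme.Modules.restrictFunctor (j x)).obj ((tilde.functor (CommRingCat.of A)).obj N)) :=
        (DerivedCategory.isZero_of_isGE _ (a x) i (lt_of_lt_of_le hi (hα x hxt))).of_iso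
          ((Scheme.Modules.restrictFunctor (j x)).mapIso
              ((mapDCHomologyIso (tilde.functor (CommRingCat.of A)) i).app M).symm ≪≫
            ((mapDCHomologyIso (Scheme.Modules.restrictFunctor (j x)) i).app _).symm)
      haveI : Subsingleton (((tilde.functor (CommRingCat.of A)).obj N).presheaf.stalk ((j x).base v)) :=
        AddCommGrpCat.subsingleton_of_isZero (((Scheme.Modules.toPresheaf _ ⋙
          TopCat.Presheaf.stalkFunctor AddCommGrpCat.{u} v).map_isZero hzU).of_iso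
            ((Scheme.Modules.restrictStalkNatIso (j x) v).app ((tilde.functor (CommRingCat.of A)).obj N)).symm)
      exact @ModuleCat.isZero_of_subsingleton _ _ _ this
    refine ModuleCat.subsingleton_of_isZero (M := N) ?_
    rw [IsZero.iff_id_eq_zero]
    exact (tilde.fullyFaithfulFunctor (R := CommRingCat.of A)).map_injective (hz.eq_of_src _ _)
  · rintro ⟨a, ha⟩ x
    refine ⟨_, 𝟙 _, inferInstance, a, ⟨x, rfl⟩, ?_⟩
    haveI : ((DCoh.tildeD (CommRingCat.of A)).obj M).IsGE a := (DerivedCategory.isGE_iff _ a).2 fun i hi =>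
      ((tilde.functor (CommRingCat.of A)).map_isZero (H9Misc.DRingCompl.isZ (ha i hi))).of_iso
        ((mapDCHomologyIso (tilde.functor (CommRingCat.of A)) i).app M)
    exact isGE_rho _ _ a

end Groth.Agent.KFlatLib.RelTor
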