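import Groth.Agent.KFlatLib.Scheme.EvalNat
import Groth.Agent.KFlatLib.Preserve

/-!
# Quasi-isomorphisms on an open and the internal hom
-/

set_option linter.style.haveILetI false
set_option backward.isDefEq.respectTransparency false

universe u

open CategoryTheory CategoryTheory.Limits AlgebraicGeometry
open scoped ZeroObject

attribute [local instance] HasDerivedCategory.standard

namespace Groth.Agent.KFlatLib

/-- A morphism of short exact sequences of complexes with quasi-isomorphisms at both ends is one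
in the middle. -/
theorem quasiIso_τ₂' {C : Type*} [Category C] [Abelian C] [HasDerivedCategory C]
    {S₁ S₂ : ShortComplex (CochainComplex C ℤ)} (φ : S₁ ⟶ S₂) (h₁ : S₁.ShortExact)
    (h₂ : S₂.ShortExact) (hl : QuasiIso φ.τ₁) (hr : QuasiIso φ.τ₃) : QuasiIso φ.τ₂ :=
  (DerivedCategory.isIso_Q_map_iff_quasiIso (C := C) φ.τ₂).1
    (Pretriangulated.isIso₂_of_isIso₁₃ (DerivedCategory.triangleOfSES.map h₁ h₂ φ)
      (DerivedCategory.triangleOfSES_distinguished h₁) (DerivedCategory.triangleOfSES_distinguished h₂)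
      ((DerivedCategory.isIso_Q_map_iff_quasiIso (C := C) φ.τ₁).2 hl)
      ((DerivedCategory.isIso_Q_map_iff_quasiIso (C := C) φ.τ₃).2 hr))

/-- A map between zero complexes is a quasi-isomorphism. -/
lemma quasiIso_of_isZero {C : Type*} [Category C] [Abelian C] {A B : CochainComplex C ℤ}
    (g : A ⟶ B) (hA : IsZero A) (hB : IsZero B) : QuasiIso g :=
  haveI : IsIso g := ⟨0, hA.eq_of_src _ _, hB.eq_of_src _ _⟩
  inferInstance

variable {X : Scheme.{u}}

lemma iHomMap_comp {A B C : CochainComplex X.Modules ℤ} (f : A ⟶ B) (g : B ⟶ C)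
    (I : CochainComplex X.Modules ℤ) :
    (iHomMap (f ≫ g)).app I = (iHomMap g).app I ≫ (iHomMap f).app I := by
  refine ((iHomAdj A).homEquiv _ _).symm.injective ?_
  have h := Inner.homEquiv_innerMap (DCoh.tensorBi (X := X)) (f ≫ g) (𝟙 ((iHom C).obj I))
  rw [Category.id_comp] at h
  refine h.trans (Eq.trans ?_ (Inner.homEquiv_innerMap (DCoh.tensorBi (X := X)) f _).symm)
  have h' := Inner.homEquiv_innerMap (DCoh.tensorBi (X := X)) g (𝟙 ((iHom C).obj I))
  rw [Category.id_comp] at h'
  rw [h', ← Category.assoc]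
  refine congrArg (· ≫ _) ?_
  exact (((DCoh.tensorBi (X := X)).map₂CochainComplex.obj ((iHom C).obj I)).map_comp f g)

/-- Tensoring with a K-flat complex preserves quasi-isomorphisms on an open. -/
theorem quasiIso_rCx_tensor {U : Scheme.{u}} (j : U ⟶ X) [IsOpenImmersion j]
    {R : CochainComplex X.Modules ℤ} (hR : DCoh.IsKFlat R) {A B : CochainComplex X.Modules ℤ}
    (g : A ⟶ B) [QuasiIso ((rCx j).map g)] : QuasiIso ((rCx j).map ((DCoh.tensorCx.obj R).map g)) :=
  (quasiIso_map₂_iff (restrictTensorBiIso j) R g).2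
    ((kFlat_iff_isKFlat.2 (isKFlat_restrict j hR)).quasiIso_map' (tensorBiFlipIso U) ((rCx j).map g))

/-- `iHom(-, I)` preserves quasi-isomorphisms on an open. -/
theorem quasiIso_rCx_iHomMap {U : Scheme.{u}} (j : U ⟶ X) [IsOpenImmersion j]
    {A B : CochainComplex X.Modules ℤ} (g : A ⟶ B) [QuasiIso ((rCx j).map g)]
    (I : CochainComplex X.Modules ℤ) [∀ n, Injective (I.X n)] [I.IsKInjective] :
    QuasiIso ((rCx j).map ((iHomMap g).app I)) := by
  let e := homotopyEquivFst (G := B) (CochainComplex.mappingCone.homotopyToZeroOfId A)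
  haveI : QuasiIso e.hom := e.quasiIso_hom
  haveI he : QuasiIso ((rCx j).map e.hom) := inferInstance
  haveI := quasiIso_iHomMap e.hom I
  haveI he' : QuasiIso ((rCx j).map ((iHomMap e.hom).app I)) := inferInstance
  have hg : g = embedCone g ≫ e.hom := by simp [e, homotopyEquivFst, embedCone]
  have hf : QuasiIso ((rCx j).map (embedCone g)) := by
    haveI : QuasiIso ((rCx j).map (embedCone g) ≫ (rCx j).map e.hom) := by
      rw [← Functor.map_comp, ← hg]; infer_instance
    exact quasiIso_of_comp_right _ ((rCx j).map e.hom)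
  have hSj := (embedConeSeq_shortExact g).map_of_exact (rCx j)
  have hC : ((rCx j).obj (embedConeSeq g).X₃).Acyclic := hSj.acyclic_X₃ hf
  obtain ⟨hw, hse⟩ := Inner.innerHom_shortExact (DCoh.tensorBi (X := X)) (embedConeSeq g)
    (fun n => ⟨embedConeSplitting g n⟩) I
  have hH : ((rCx j).obj ((iHom (embedConeSeq g).X₃).obj I)).Acyclic := by
    obtain ⟨e'⟩ := nonempty_iHomRestrictIso j (embedConeSeq g).X₃
    let J := (rCx j).obj I
    haveI : J.IsKInjective := isKInjective_rCx j I
    haveI : ∀ n, Injective (J.X n) := injective_rCx j I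
    let Z : CochainComplex U.Modules ℤ := 0
    haveI : QuasiIso (0 : (rCx j).obj (embedConeSeq g).X₃ ⟶ Z) :=
      quasiIso_of_acyclic _ hC ((acyclic_iff_isZero _).2 fun i =>
        Functor.map_isZero (HomologicalComplex.homologyFunctor _ _ i) (isZero_zero _))
    haveI := quasiIso_iHomMap (0 : (rCx j).obj (embedConeSeq g).X₃ ⟶ Z) J
    refine acyclic_of_iso (e'.app I).symm ((acyclic_iff_isZero _).2 fun i => ?_)
    exact (Functor.map_isZero (HomologicalComplex.homologyFunctor _ _ i)
      (isZero_iHom (P := Z) (isZero_zero _) J)).of_iso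
      (asIso (HomologicalComplex.homologyMap
        ((iHomMap (0 : (rCx j).obj (embedConeSeq g).X₃ ⟶ Z)).app J) i)).symm
  haveI : QuasiIso ((rCx j).map ((iHomMap (embedCone g)).app I)) :=
    quasiIso_g_of_acyclic (hse.map_of_exact (rCx j)) hH
  rw [hg, iHomMap_comp, Functor.map_comp]
  infer_instance

end Groth.Agent.KFlatLib
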