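import Groth.Agent.KFlatLib.Scheme.TensorOver
import Groth.Agent.KFlatLib.Scheme.RpushPerfectSupport
import Groth.Agent.Lib.CurveTensor

/-!
# A perfect object tensored with a coherent module flat over the base
-/

set_option linter.style.haveILetI false
set_option backward.isDefEq.respectTransparency false

universe u

open CategoryTheory CategoryTheory.Limits AlgebraicGeometry

attribute [local instance] HasDerivedCategory.standard

namespace Groth.Agent.KFlatLib

variable {X S : Scheme.{u}}

/-- Cohomology of complexes of coherent modules is coherent. -/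
lemma isCoh_homology [IsLocallyNoetherian X] (C : CochainComplex X.Modules ℤ) (h : ∀ i, Coh.IsCoh (C.X i))
    (i : ℤ) : Coh.IsCoh (C.homology i) := by
  have hc : Coh.IsCoh (C.cycles i) :=
    isCoh_of_iso ((kernelIsKernel (C.d i (i + 1))).conePointUniqueUpToIso
      (C.cyclesIsKernel i (i + 1) (by simp))) (QCoh.isCoh_kernel (h i) (h (i + 1)) _)
  exact isCoh_of_iso ((cokernelIsCokernel (C.toCycles (i - 1) i)).coconePointUniqueUpToIso
      (C.homologyIsCokernel (i - 1) i (by simp))) (QCoh.isCoh_cokernel (h (i - 1)).1 hc _)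

/-- Properties of `E ⊗ G` for perfect `E` and coherent `G` flat over the base. -/
theorem perfTensor_props (f : X ⟶ S) [IsLocallyNoetherian X] {E : DCoh.D X} (hE : LocSP E) (G : X.Modules)
    (hG : Coh.IsCoh G) (hflat : FlatMod.IsFlatOver f G) [DCoh.HasLTensorMod G] :
    DCoh.IsCohD ((DCoh.LTensorMod G).obj E) ∧ RelTor.LocRTD f ((DCoh.LTensorMod G).obj E) ∧
      ∀ i, CohB1.support (DCoh.HD ((DCoh.LTensorMod G).obj E) i) ⊆ CohB1.support G := by
  let K := (DCoh.LTensorMod G).obj E
  have hlocal : ∀ x : X, ∃ (U : Scheme.{u}) (j : U ⟶ X) (_ : IsOpenImmersion j),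
      x ∈ Set.range j.base ∧ ∃ (C : CochainComplex U.Modules ℤ) (a b : ℤ),
        Nonempty (DerivedCategory.Q.obj C ≅ (rho j).obj K) ∧ DCoh.VanishesOutside C a b ∧
        (∀ i, Coh.IsCoh (C.X i)) ∧ (∀ i, FlatMod.IsFlatOver (j ≫ f) (C.X i)) ∧
        ∀ i, CohB1.support (C.X i) ⊆ CohB1.support ((Scheme.Modules.pullback j).obj G) := fun x => by
    obtain ⟨U, j, hj, hx, P, hP, ⟨e⟩⟩ := hE x
    haveI : IsLocallyNoetherian U := isLocallyNoetherian_of_isOpenImmersion j
    obtain ⟨a, b, hab⟩ := hP.1
    obtain ⟨r⟩ := nonempty_rho_ltensorMod j G E P (isKFlat_of_isStrictlyPerfect hP) e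
    let G' := (Scheme.Modules.pullback j).obj G
    have hG' : Coh.IsCoh G' :=
      isCoh_of_iso ((Scheme.Modules.restrictFunctorIsoPullback j).app G) (isCoh_restrict j hG)
    have hflat' : FlatMod.IsFlatOver (j ≫ f) G' := fun v =>
      RelTor.flatOverAt_of_iso ((Scheme.Modules.restrictFunctorIsoPullback j).app G)
        ((RelTor.flatOverAt_restrict_iff j f G v).1 (hflat (j.base v)))
    exact ⟨U, j, hj, hx, (tensorModCx G').obj P, a, b, ⟨r.symm⟩,
      fun i hi => (DCoh.tensorRightMod G').map_isZero (hab i hi),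
      fun i => isCoh_tensor_finLocFree (hP.2 i) hG',
      fun i => isFlatOver_tensor (j ≫ f) (isFlat_of_isFinLocFree (hP.2 i)) hflat',
      fun i => CurveTensor.support_tensor_subset (E := P.X i) (F := G')⟩
  refine ⟨fun i => isCoh_of_local fun x => ?_, fun x => ?_, fun i x hx => ?_⟩
  · obtain ⟨U, j, hj, hxU, C, a, b, ⟨e⟩, -, hC, -, -⟩ := hlocal x
    haveI : IsLocallyNoetherian U := isLocallyNoetherian_of_isOpenImmersion j
    exact ⟨U, j, hj, hxU, isCoh_of_iso (((DerivedCategory.homologyFunctorFactors U.Modules i).app C).symm ≪≫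
      (DerivedCategory.homologyFunctor U.Modules i).mapIso e ≪≫ restrictHDIso j K i) (isCoh_homology C hC i)⟩
  · obtain ⟨U, j, hj, hxU, C, a, b, he, hv, -, hf, -⟩ := hlocal x
    exact ⟨U, j, hj, hxU, a, b, C, hv, hf, he⟩
  · obtain ⟨U, j, hj, ⟨v, rfl⟩, C, a, b, ⟨e⟩, -, -, -, hs⟩ := hlocal x
    by_contra hn
    have hsub : Subsingleton (G.presheaf.stalk (j.base v)) := not_not.1 hn
    have hz : IsZero ((DerSch.stalkFunctor U v).obj (C.homology i)) := by
      refine IsZero.of_iso ?_ ((C.sc i).mapHomologyIso (DerSch.stalkFunctor U v)).symm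
      refine ShortComplex.isZero_homology_of_isZero_X₂ _ (@ModuleCat.isZero_of_subsingleton _ _ _ ?_)
      by_contra hv'
      refine hs i hv' ?_
      exact ((Scheme.Modules.restrictFunctorIsoPullback j).app G ≪≫ Iso.refl _ |> fun e' =>
        (((Scheme.Modules.toPresheaf U ⋙ TopCat.Presheaf.stalkFunctor Ab.{u} v).mapIso e').addCommGroupIsoToAddEquiv.toEquiv.subsingleton_congr.1
          (((Scheme.Modules.restrictStalkNatIso j v).app G).addCommGroupIsoToAddEquiv.toEquiv.subsingleton_congr.2 hsub)))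
    refine hx (ModuleCat.subsingleton_of_isZero (isZero_stalk_of_restrict j v (IsZero.of_iso hz ?_)))
    exact (DerSch.stalkFunctor U v).mapIso ((restrictHDIso j K i).symm ≪≫
      (DerivedCategory.homologyFunctor U.Modules i).mapIso e.symm ≪≫
      (DerivedCategory.homologyFunctorFactors U.Modules i).app C)

end Groth.Agent.KFlatLib
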