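import Groth.Agent.KFlatLib.Scheme.CompactSections
import Groth.Agent.KFlatLib.Scheme.MayerVietoris
import Groth.Agent.KFlatLib.Scheme.LocalDevissage
import Groth.Agent.KFlatLib.Scheme.GlueD
import Groth.Agent.KFlatLib.Scheme.Coproducts
import Groth.Agent.KFlatLib.Perfect.Corollaries
import Groth.Prelude.Def_CohDer

/-!
# Perfect complexes are compact for bounded below families
-/

set_option linter.style.haveILetI false
set_option backward.isDefEq.respectTransparency false

universe u w w'

open CategoryTheory CategoryTheory.Limits AlgebraicGeometry TopologicalSpace Pretriangulated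

attribute [local instance] HasDerivedCategory.standard

namespace Groth.Agent.KFlatLib

section Fix

variable {D : Type*} [Category D] [Preadditive D] {J : Type w} (M : J → D) [HasCoproduct M]

/-- All maps from an object are supported in finite partial sums. -/
def FixAt (A : D) : Prop := ∀ φ : A ⟶ ∐ M, ∃ F : Finset J, φ ≫ partProj M F = φ

variable {M}

lemma FixAt.of_iso {A B : D} (e : A ≅ B) (h : FixAt M A) : FixAt M B := fun φ => by
  obtain ⟨F, hF⟩ := h (e.hom ≫ φ)
  exact ⟨F, (cancel_epi e.hom).1 (by rw [← Category.assoc, hF])⟩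

/-- Enlarging a partial sum keeps a map fixed. -/
lemma fix_mono {A : D} {φ : A ⟶ ∐ M} {F G : Finset J} (h : F ⊆ G) (hF : φ ≫ partProj M F = φ) :
    φ ≫ partProj M G = φ := by
  rw [← hF, Category.assoc, partProj_comp M h, hF]

/-- Finite supports pass to reindexed families. -/
lemma FixAt.reindex {J' : Type w'} {M' : J' → D} [HasCoproduct M'] (e : J ≃ J')
    (w : ∀ j, M' (e j) ≅ M j) {A : D} (h : FixAt M A) : FixAt M' A := fun φ => by
  classical
  let c := Sigma.whiskerEquiv (f := M) (g := M') e w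
  obtain ⟨F, hF⟩ := h (φ ≫ c.inv)
  refine ⟨F.map e.toEmbedding, (cancel_mono c.inv).1 ?_⟩
  have hc : partProj M F ≫ c.hom = c.hom ≫ partProj M' (F.map e.toEmbedding) := by
    refine Sigma.hom_ext _ _ fun i => ?_
    have hi : Sigma.ι M i ≫ c.hom = (w i).inv ≫ Sigma.ι M' (e i) := by simp [c]
    by_cases h : i ∈ F
    · rw [← Category.assoc, ι_partProj_mem M h, ← Category.assoc, hi, Category.assoc,
        ι_partProj_mem M' (by simp [h])]
    · rw [← Category.assoc, ι_partProj_not_mem M h, zero_comp, ← Category.assoc, hi, Category.assoc,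
        ι_partProj_not_mem M' (by simp [h]), comp_zero]
  rw [Category.assoc, ← hF]
  simp only [Category.assoc]
  rw [← cancel_mono c.hom]
  simp only [Category.assoc, hc, Iso.inv_hom_id, Category.comp_id, Iso.inv_hom_id_assoc]

/-- Finite supports give the bijection defining compactness. -/
lemma bijective_homSumToHomCoprod {K : D} {ι : Type*} (N : ι → D) [HasCoproduct N]
    (h : FixAt N K) : Function.Bijective (CohDer.homSumToHomCoprod K N) := by
  classical
  let p : ∀ j, ∐ N ⟶ N j := fun j =>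
    Sigma.desc fun i => if h : i = j then eqToHom (congrArg N h) else 0
  have hp : ∀ j, Sigma.ι N j ≫ p j = 𝟙 _ := fun j => by simp [p]
  have hp' : ∀ i j, i ≠ j → Sigma.ι N i ≫ p j = 0 := fun i j hij => by simp [p, hij]
  have hof : ∀ i (g : K ⟶ N i),
      CohDer.homSumToHomCoprod K N (DirectSum.of _ i g) = g ≫ Sigma.ι N i := fun i g => by
    simp [CohDer.homSumToHomCoprod, Preadditive.rightComp]
  refine ⟨(injective_iff_map_eq_zero _).2 fun x hx => ?_, fun φ => ?_⟩
  · ext j
    have key : ∀ y, CohDer.homSumToHomCoprod K N y ≫ p j = y j := fun y => by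
      induction y using DirectSum.induction_on with
      | zero => simp
      | of i g =>
        rw [hof, Category.assoc]
        by_cases hij : i = j
        · subst hij
          simp [hp]
        · rw [hp' i j hij, comp_zero, DirectSum.of_eq_of_ne _ _ _ (Ne.symm hij)]
      | add a b ha hb => rw [map_add, Preadditive.add_comp, ha, hb]; rfl
    rw [← key x, hx, zero_comp]
    rfl
  · obtain ⟨F, hF⟩ := h φ
    refine ⟨∑ i ∈ F, DirectSum.of _ i (φ ≫ p i), ?_⟩
    rw [map_sum]
    simp only [hof, Category.assoc]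
    rw [← Preadditive.comp_sum]
    refine (congrArg (φ ≫ ·) ?_).trans hF
    refine Sigma.hom_ext _ _ fun i => ?_
    rw [Preadditive.comp_sum]
    by_cases hi : i ∈ F
    · rw [ι_partProj_mem N hi, Finset.sum_eq_single i (fun b _ hb => by
        rw [← Category.assoc, hp' i b (Ne.symm hb), zero_comp]) (fun h => absurd hi h),
        ← Category.assoc, hp, Category.id_comp]
    · rw [ι_partProj_not_mem N hi]
      exact Finset.sum_eq_zero fun b hb => by
        rw [← Category.assoc, hp' i b (fun h => hi (h ▸ hb)), zero_comp]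

variable [HasShift D ℤ] [∀ n : ℤ, (shiftFunctor D n).Additive]

variable (M) in
/-- Finite supports for all shifts. -/
def Fix (A : D) : Prop := ∀ n : ℤ, FixAt M (A⟦n⟧)

lemma Fix.of_iso {A B : D} (e : A ≅ B) (h : Fix M A) : Fix M B := fun n =>
  (h n).of_iso ((shiftFunctor D n).mapIso e)

lemma Fix.shift {A : D} (h : Fix M A) (m : ℤ) : Fix M (A⟦m⟧) := fun n =>
  (h (m + n)).of_iso ((shiftFunctorAdd D m n).app A)

lemma Fix.at_zero {A : D} (h : Fix M A) : FixAt M A :=
  (h 0).of_iso ((shiftFunctorZero D ℤ).app A)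

variable [HasZeroObject D] [Pretriangulated D]

lemma fix_obj₂ {T : Triangle D} (hT : T ∈ distTriang D) (h₁ : Fix M T.obj₁) (h₃ : Fix M T.obj₃) :
    Fix M T.obj₂ := fun n φ => by
  classical
  let T' := (Triangle.shiftFunctor D n).obj T
  have hT' : T' ∈ distTriang D := Triangle.shift_distinguished T hT n
  change T'.obj₂ ⟶ ∐ M at φ
  obtain ⟨F₁, hF₁⟩ := h₁ n (T'.mor₁ ≫ φ)
  obtain ⟨ψ, hψ⟩ := Triangle.yoneda_exact₂ _ hT' (φ - φ ≫ partProj M F₁) (by
    rw [Preadditive.comp_sub, ← Category.assoc]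
    exact sub_eq_zero.2 hF₁.symm)
  obtain ⟨F₂, hF₂⟩ := h₃ n ψ
  refine ⟨F₁ ∪ F₂, ?_⟩
  have e : φ = T'.mor₂ ≫ ψ + φ ≫ partProj M F₁ := by rw [← hψ, sub_add_cancel]
  conv_lhs => rw [e]
  conv_rhs => rw [e]
  rw [Preadditive.add_comp, Category.assoc, Category.assoc,
    fix_mono Finset.subset_union_right hF₂, partProj_comp M Finset.subset_union_left]

lemma fix_obj₃ {T : Triangle D} (hT : T ∈ distTriang D) (h₁ : Fix M T.obj₁) (h₂ : Fix M T.obj₂) :
    Fix M T.obj₃ :=
  fix_obj₂ (rot_of_distTriang _ hT) h₂ (h₁.shift 1)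

lemma fix_biprod {A B : D} [HasBinaryBiproduct A B] (hA : Fix M A) (hB : Fix M B) :
    Fix M (A ⊞ B) :=
  fix_obj₂ (T := binaryBiproductTriangle A B) (binaryBiproductTriangle_distinguished A B) hA hB

lemma fix_of_isZero {A : D} (h : IsZero A) : Fix M A := fun n _ =>
  ⟨∅, ((shiftFunctor D n).map_isZero h).eq_of_src _ _⟩

end Fix

variable {X : Scheme.{u}}

/-- Shifts of `j_! O_W` for compact quasi-separated `W` only see finitely many summands. -/
lemma fix_secObj {J : Type u} (C : J → DCoh.D X) [HasCoproduct C] (a : ℤ) [∀ j, (C j).IsGE a]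
    {W : X.Opens} (hW : IsCompact (W : Set X)) (hW' : IsQuasiSeparated (W : Set X)) (m : ℤ) :
    Fix C (DerivedCategory.Q.obj ((HomologicalComplex.single X.Modules (ComplexShape.up ℤ) m).obj
      (secObj W))) := by
  haveI := SpObjSS.enoughInjectives_of_hasInjectiveResolutions (C := X.Modules)
  have hres : ∀ i, ∃ (K : CochainComplex X.Modules ℤ), K.IsStrictlyGE a ∧ (∀ m, Injective (K.X m)) ∧
      Nonempty (DerivedCategory.Q.obj K ≅ C i) := fun i => by
    obtain ⟨L, hL, ⟨e⟩⟩ := DerivedCategory.exists_iso_Q_obj_of_isGE (C i) a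
    haveI := hL
    obtain ⟨I, s, hI, hinj, -, hs⟩ := TriCat.exists_quasiIso_resolution (A := X.Modules) Injective
      ⟨_, isZero_zero X.Modules, IsZero.injective (isZero_zero _)⟩
      (fun M => ⟨Injective.under M, Injective.ι M, inferInstance, inferInstance⟩) L a
    haveI := hs
    exact ⟨I, hI, hinj, ⟨(asIso (DerivedCategory.Q.map s)).symm ≪≫ e.symm⟩⟩
  choose K hge hinj eK using hres
  haveI := hge
  haveI : ∀ j m, Injective ((K j).X m) := hinj
  haveI : HasColimitsOfShape (Discrete J) (DCoh.D X) := TriCat.hasColimitsOfShape_derivedCategory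
  haveI := preservesColimit_Q K
  intro n
  let S := HomologicalComplex.single X.Modules (ComplexShape.up ℤ)
  let e : (DerivedCategory.Q.obj ((S m).obj (secObj W)))⟦n⟧ ≅
      DerivedCategory.Q.obj ((S (m - n)).obj (secObj W)) :=
    ((DerivedCategory.Q.commShiftIso n).app _).symm ≪≫ DerivedCategory.Q.mapIso
      (((CochainComplex.singleFunctors X.Modules).shiftIso n (m - n) m (by omega)).app _)
  suffices h : FixAt (fun j => DerivedCategory.Q.obj (K j)) (DerivedCategory.Q.obj ((S (m - n)).obj (secObj W))) from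
    (h.reindex (Equiv.refl J) fun j => (eK j).some.symm).of_iso e.symm
  intro φ
  obtain ⟨F, hF⟩ := exists_fix_bounded K a hW hW' (m - n) (φ ≫ sigmaComparison DerivedCategory.Q K)
  refine ⟨F, (cancel_mono (sigmaComparison DerivedCategory.Q K)).1 ?_⟩
  rw [Category.assoc, ← sigmaComparison_partProj K DerivedCategory.Q F, ← Category.assoc, hF]

/-- Bounded complexes of free modules on a compact quasi-separated open, extended by zero. -/
lemma fix_lshCx_free {J : Type u} (C : J → DCoh.D X) [HasCoproduct C] (a : ℤ) [∀ j, (C j).IsGE a]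
    {W : X.Opens} (hW : IsCompact (W : Set X)) (hW' : IsQuasiSeparated (W : Set X))
    (P : CochainComplex (W : Scheme.{u}).Modules ℤ) (lo hi : ℤ) (hab : DCoh.VanishesOutside P lo hi)
    (hfree : ∀ i, ∃ n, Nonempty (P.X i ≅ FlatMod.freeMod (W : Scheme.{u}) n)) :
    Fix C (DerivedCategory.Q.obj ((lshCx W.ι).obj P)) := by
  let Ψ : ObjectProperty (CochainComplex (W : Scheme.{u}).Modules ℤ) :=
    fun P => Fix C (DerivedCategory.Q.obj ((lshCx W.ι).obj P))
  haveI : Ψ.IsClosedUnderIsomorphisms :=
    ⟨fun e h => Fix.of_iso (DerivedCategory.Q.mapIso ((lshCx W.ι).mapIso e)) h⟩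
  refine cx_devissage Ψ (fun P hP => fix_of_isZero (DerivedCategory.Q.map_isZero
    ((lshCx W.ι).map_isZero hP))) (fun S hS _ h₁ h₃ => ?_) (fun n => ?_) lo ((hi + 1 - lo).toNat) P
    (fun i hi' => hab i (by omega)) hfree
  · have hse : (S.map (lshCx W.ι)).ShortExact := HomologicalComplex.shortExact_of_degreewise_shortExact _
      fun n => ((hS n).some.map (lsh W.ι)).shortExact
    exact fix_obj₂ (DerivedCategory.triangleOfSES_distinguished hse) h₁ h₃
  · exact Fix.of_iso (DerivedCategory.Q.mapIso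
      ((HomologicalComplex.singleMapHomologicalComplex (lsh W.ι) (ComplexShape.up ℤ) n).app
        (Coh.structureModule (W : Scheme.{u}))).symm) (fix_secObj C a hW hW' n)

/-- The extension by zero of a restriction as a sequence for two opens. -/
theorem exists_mv_triangle' (U V S : X.Opens) (hUS : U ≤ S) (hVS : V ≤ S) (hS : S ≤ U ⊔ V)
    (C : CochainComplex X.Modules ℤ) :
    ∃ (a : DerivedCategory.Q.obj ((mapCx (lshRes (U ⊓ V))).obj C) ⟶
        DerivedCategory.Q.obj ((mapCx (lshRes U)).obj C) ⊞ DerivedCategory.Q.obj ((mapCx (lshRes V)).obj C))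
      (b : DerivedCategory.Q.obj ((mapCx (lshRes U)).obj C) ⊞ DerivedCategory.Q.obj ((mapCx (lshRes V)).obj C) ⟶
        DerivedCategory.Q.obj ((mapCx (lshRes S)).obj C))
      (c : DerivedCategory.Q.obj ((mapCx (lshRes S)).obj C) ⟶
        (DerivedCategory.Q.obj ((mapCx (lshRes (U ⊓ V))).obj C))⟦(1 : ℤ)⟧),
      Triangle.mk a b c ∈ distTriang (DCoh.D X) := by
  haveI : Fact (U ⊓ V ≤ U) := ⟨inf_le_left⟩
  haveI : Fact (U ⊓ V ≤ V) := ⟨inf_le_right⟩
  haveI : Fact (U ≤ S) := ⟨hUS⟩
  haveI : Fact (V ≤ S) := ⟨hVS⟩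
  haveI : Fact (U ⊓ V ≤ S) := ⟨inf_le_left.trans hUS⟩
  have htrans : ∀ (W W' : X.Opens) [Fact (W ≤ W')] [Fact (W' ≤ S)] [Fact (W ≤ S)] (M : X.Modules),
      (lshTrans W W').app M ≫ (lshTrans W' S).app M = (lshTrans W S).app M := fun W W' _ _ _ M => by
    refine ((lshAdj W.ι).homEquiv _ _).injective
      ((cancel_mono ((Scheme.Modules.restrictFunctor W.ι).map ((lshAdj S.ι).counit.app M))).1 ?_)
    rw [← Adjunction.homEquiv_naturality_right, ← Adjunction.homEquiv_naturality_right]
    refine congrArg _ ?_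
    rw [lshTrans_counit]
    exact ((Category.assoc _ _ _).trans (congrArg (_ ≫ ·) (lshTrans_counit W' S M))).trans
      (lshTrans_counit W W' M)
  let ra := (NatTrans.mapHomologicalComplex (lshTrans (U ⊓ V) U) (ComplexShape.up ℤ)).app C
  let rb := (NatTrans.mapHomologicalComplex (lshTrans (U ⊓ V) V) (ComplexShape.up ℤ)).app C
  let ca := (NatTrans.mapHomologicalComplex (lshTrans U S) (ComplexShape.up ℤ)).app C
  let cb := (NatTrans.mapHomologicalComplex (lshTrans V S) (ComplexShape.up ℤ)).app C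
  have h : ra ≫ ca = rb ≫ cb := HomologicalComplex.hom_ext _ _ fun n =>
    (htrans (U ⊓ V) U (C.X n)).trans (htrans (U ⊓ V) V (C.X n)).symm
  let T := ShortComplex.mk (biprod.lift ra (-rb)) (biprod.desc ca cb) (by simp [h])
  have hT : T.ShortExact := HomologicalComplex.shortExact_of_degreewise_shortExact T fun n => by
    rw [shortExact_iff_stalk]
    intro x
    let Φ := HomologicalComplex.eval X.Modules (ComplexShape.up ℤ) n ⋙ DerSch.stalkFunctor X x
    by_cases hx : x ∈ U
    · exact shortExact_map_mv Φ ra rb ca cb h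
        (isIso_stalk_lshTrans (U ⊓ V) V (C.X n) x
          ((Classical.em (x ∈ V)).imp (fun hv => ⟨hx, hv⟩) id))
        (isIso_stalk_lshTrans U S (C.X n) x (Or.inl hx))
    · have h1 := shortExact_map_mv Φ rb ra cb ca h.symm
        (isIso_stalk_lshTrans (U ⊓ V) U (C.X n) x (Or.inr hx))
        (isIso_stalk_lshTrans V S (C.X n) x ((Classical.em (x ∈ V)).imp id fun hv hxS =>
          hv (((Opens.mem_sup).1 (hS hxS)).resolve_left hx)))
      refine ShortComplex.shortExact_of_iso ?_ h1
      refine ShortComplex.isoMk (-(Iso.refl _)) (Φ.mapIso (biprod.braiding _ _)) (Iso.refl _) ?_ ?_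
      · change (-(𝟙 _)) ≫ Φ.map (biprod.lift ra (-rb)) = Φ.map (biprod.lift rb (-ra)) ≫ Φ.map _
        rw [← Φ.map_comp, Preadditive.neg_comp, Category.id_comp, ← Φ.map_neg]
        refine congrArg Φ.map ?_
        apply biprod.hom_ext <;> simp
      · change Φ.map _ ≫ Φ.map (biprod.desc ca cb) = Φ.map (biprod.desc cb ca) ≫ 𝟙 _
        rw [← Φ.map_comp, Category.comp_id]
        refine congrArg Φ.map ?_
        apply biprod.hom_ext' <;> simp
  haveI := preservesBinaryBiproducts_of_preservesBinaryCoproducts (DerivedCategory.Q (C := X.Modules))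
  let e := DerivedCategory.Q.mapBiprod ((mapCx (lshRes U)).obj C) ((mapCx (lshRes V)).obj C)
  refine ⟨DerivedCategory.Q.map T.f ≫ e.hom, e.inv ≫ DerivedCategory.Q.map T.g,
    DerivedCategory.triangleOfSESδ hT, ?_⟩
  refine isomorphic_distinguished _ (DerivedCategory.triangleOfSES_distinguished hT) _ ?_
  exact Triangle.isoMk _ _ (Iso.refl _) e.symm (Iso.refl _) (by simp) (by simp) (by simp)

/-- Perfect complexes see only finitely many summands of bounded below families. -/
theorem fix_of_isPerfect [CompactSpace X] [QuasiSeparatedSpace X] {E : DCoh.D X}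
    (hE : DCoh.IsPerfect E) {J : Type u} (C : J → DCoh.D X) [HasCoproduct C] (a : ℤ)
    [∀ j, (C j).IsGE a] : Fix C E := by
  let F := DerivedCategory.Q.objPreimage E
  let eF := DerivedCategory.Q.objObjPreimageIso E
  choose V hxV hV using fun x => free_rep_range hE x
  choose P lo hi hab hfree eP using fun x => hV x F ⟨eF⟩
  have hex : ∀ x : X, ∃ U : X.Opens, IsAffineOpen U ∧ x ∈ U ∧ U ≤ V x := fun x => by
    obtain ⟨_, ⟨U, hU, rfl⟩, hxU, hUV⟩ :=
      X.isBasis_affineOpens.exists_subset_of_mem_open (hxV x) (V x).2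
    exact ⟨U, hU, hxU, hUV⟩
  choose U hU hxU hUV using hex
  obtain ⟨s, hs⟩ := isCompact_univ.elim_finite_subcover (fun x : X => (U x : Set X)) (fun x => (U x).2)
    fun x _ => Set.mem_iUnion.2 ⟨x, hxU x⟩
  let G : X.Opens → Prop := fun W => IsCompact (W : Set X) →
    Fix C (DerivedCategory.Q.obj ((mapCx (lshRes W)).obj F))
  have hqs : ∀ W : X.Opens, IsQuasiSeparated (W : Set X) := fun W =>
    IsQuasiSeparated.of_quasiSeparatedSpace _
  have hbase : ∀ x W, W ≤ V x → G W := fun x W hWV hW => by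
    let i := X.homOfLE hWV
    let er : rCx W.ι ≅ rCx (V x).ι ⋙ rCx i :=
      NatIso.mapHomologicalComplex (Scheme.Modules.restrictFunctorCongr (X.homOfLE_ι hWV).symm ≪≫
        Scheme.Modules.restrictFunctorComp _ _) (ComplexShape.up ℤ) ≪≫
      (Functor.mapHomologicalComplexCompIso (Iso.refl _) (ComplexShape.up ℤ)).symm
    have hfree' : ∀ m, ∃ n, Nonempty (((rCx i).obj (P x)).X m ≅ FlatMod.freeMod (W : Scheme.{u}) n) :=
      fun m => by
        obtain ⟨n, ⟨en⟩⟩ := hfree x m
        exact ⟨n, ⟨(Scheme.Modules.restrictFunctor i).mapIso en ≪≫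
          (Scheme.Modules.restrictFunctorIsoPullback i).app _ ≪≫ pullFreeIso _ _⟩⟩
    refine Fix.of_iso ?_ (fix_lshCx_free C a hW (hqs W) ((rCx i).obj (P x)) (lo x) (hi x)
      (fun m hm => (Scheme.Modules.restrictFunctor i).map_isZero (hab x m hm)) hfree')
    exact ((lsh W.ι).mapDerivedCategoryFactors.app _).symm ≪≫ (lsh W.ι).mapDerivedCategory.mapIso
      (((Scheme.Modules.restrictFunctor i).mapDerivedCategoryFactors.app (P x)).symm ≪≫
        (Scheme.Modules.restrictFunctor i).mapDerivedCategory.mapIso (eP x).some.symm ≪≫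
        (Scheme.Modules.restrictFunctor i).mapDerivedCategoryFactors.app _ ≪≫
        DerivedCategory.Q.mapIso (er.app F).symm) ≪≫
      (lsh W.ι).mapDerivedCategoryFactors.app _ ≪≫
      DerivedCategory.Q.mapIso ((Functor.mapHomologicalComplexCompIso (Iso.refl (lshRes W))
        (ComplexShape.up ℤ)).app F)
  have hsup : ∀ t : Finset X, ∀ W : X.Opens, W ≤ t.sup U → G W := by
    classical
    intro t
    induction t using Finset.induction with
    | empty =>
      intro W hW _
      refine fix_of_isZero (DerivedCategory.Q.map_isZero ((IsZero.iff_id_eq_zero _).2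
        (HomologicalComplex.hom_ext _ _ fun m => IsZero.eq_of_src ?_ _ _)))
      refine isZero_of_stalk _ fun x => isZero_stalk_lsh W.ι x ?_ _
      rintro ⟨w, rfl⟩
      exact (hW w.2 : W.ι.base w ∈ (∅ : Finset X).sup U).elim
    | insert x t hx ih =>
      intro W hW hWc
      rw [Finset.sup_insert] at hW
      have hWs : W ≤ (W ⊓ U x) ⊔ (W ⊓ t.sup U) := by rw [← inf_sup_left]; exact le_inf le_rfl hW
      have htc : IsCompact ((t.sup U : X.Opens) : Set X) := by
        clear ih hW hWs hx
        induction t using Finset.induction with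
        | empty => simp
        | insert y t _ ih => rw [Finset.sup_insert, Opens.coe_sup]; exact (hU y).isCompact.union ih
      have h1 : IsCompact ((W ⊓ U x : X.Opens) : Set X) :=
        QuasiSeparatedSpace.inter_isCompact _ _ W.2 hWc (U x).2 (hU x).isCompact
      have h2 : IsCompact ((W ⊓ t.sup U : X.Opens) : Set X) :=
        QuasiSeparatedSpace.inter_isCompact _ _ W.2 hWc (t.sup U).2 htc
      have h3 : IsCompact (((W ⊓ U x) ⊓ (W ⊓ t.sup U) : X.Opens) : Set X) :=
        QuasiSeparatedSpace.inter_isCompact _ _ (W ⊓ U x).2 h1 (W ⊓ t.sup U).2 h2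
      obtain ⟨f, g, c, hT⟩ := exists_mv_triangle' (W ⊓ U x) (W ⊓ t.sup U) W inf_le_left inf_le_left hWs F
      exact fix_obj₃ hT (hbase x _ (inf_le_left.trans (inf_le_right.trans (hUV x))) h3)
        (fix_biprod (hbase x _ (inf_le_right.trans (hUV x)) h1) (ih _ inf_le_right h2))
  have htop : ⊤ ≤ s.sup U := fun x _ => by
    obtain ⟨y, hy, hxy⟩ := Set.mem_iUnion₂.1 (hs (Set.mem_univ x))
    exact (Finset.le_sup (f := U) hy) hxy
  refine Fix.of_iso ?_ (hsup s ⊤ htop (by simpa using isCompact_univ))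
  haveI : IsIso ((NatTrans.mapHomologicalComplex (lshAdj (⊤ : X.Opens).ι).counit (ComplexShape.up ℤ)).app F) :=
    haveI : ∀ m, IsIso (((NatTrans.mapHomologicalComplex (lshAdj (⊤ : X.Opens).ι).counit
        (ComplexShape.up ℤ)).app F).f m) := fun m =>
      isIso_of_stalk _ fun x => isIso_stalk_lsh_counit ⊤ (F.X m) x trivial
    HomologicalComplex.Hom.isIso_of_components _
  exact DerivedCategory.Q.mapIso (asIso ((NatTrans.mapHomologicalComplex
      (lshAdj (⊤ : X.Opens).ι).counit (ComplexShape.up ℤ)).app F) ≪≫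
    (Functor.mapHomologicalComplexIdIso X.Modules (ComplexShape.up ℤ)).app F) ≪≫ eF

end Groth.Agent.KFlatLib
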