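import Groth.Prelude.Def_DerSch
import Groth.Prelude.Def_CohB1
import Mathlib.Algebra.Category.ModuleCat.Presheaf.Monoidal
import Mathlib.Algebra.Category.ModuleCat.Stalk
import Mathlib.LinearAlgebra.TensorProduct.Basic
import Mathlib.Algebra.Category.ModuleCat.Monoidal.Basic

/-!
# Stalks of the sectionwise tensor product of presheaves of modules
-/

set_option linter.style.haveILetI false

universe u

open CategoryTheory CategoryTheory.Limits AlgebraicGeometry TopologicalSpace Opposite MonoidalCategory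
open scoped TensorProduct

namespace Groth.Agent.KFlatLib

variable {X : Scheme.{u}}

/-- The stalk of a presheaf of modules, as a module over the local ring. -/
noncomputable def stalkMod (x : X) (P : CohB1.PMod X) : ModuleCat.{u} (X.presheaf.stalk x) :=
  letI : Module (X.presheaf.stalk x) (TopCat.Presheaf.stalk (C := AddCommGrpCat.{u}) P.presheaf x : Type u) :=
    inferInstanceAs (Module (X.presheaf.stalk x) ↑(TopCat.Presheaf.stalk (PresheafOfModules.presheaf
      (R := X.presheaf ⋙ forget₂ CommRingCat RingCat) P) x))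
  ModuleCat.of (X.presheaf.stalk x) (TopCat.Presheaf.stalk (C := AddCommGrpCat.{u}) P.presheaf x)

variable {x : X} {P Q : CohB1.PMod X}

/-- The germ at `x`. -/
noncomputable def germP (P : CohB1.PMod X) (U : X.Opens) (hx : x ∈ U) :
    P.obj (op U) →+ stalkMod x P :=
  (TopCat.Presheaf.germ (C := AddCommGrpCat.{u}) P.presheaf U x hx).hom

/-- Scalar multiplication of sections by sections of the structure sheaf. -/
noncomputable def sm {U : (X.Opens)ᵒᵖ} (r : X.presheaf.obj U) (s : P.obj U) : P.obj U :=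
  (show (X.sheaf.obj ⋙ forget₂ CommRingCat RingCat).obj U from r) • s

lemma germP_smul (U : X.Opens) (hx : x ∈ U) (r : X.presheaf.obj (op U)) (s : P.obj (op U)) :
    germP P U hx (sm r s) = X.presheaf.germ U x hx r • germP P U hx s :=
  PresheafOfModules.germ_smul (R := X.presheaf)
    (show PresheafOfModules (X.presheaf ⋙ forget₂ CommRingCat RingCat) from P) x U hx r s

/-- The restriction of a section. -/
noncomputable def res (P : CohB1.PMod X) {U V : X.Opens} (i : V ⟶ U) : P.obj (op U) →+ P.obj (op V) :=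
  (P.presheaf.map i.op).hom

lemma res_res {U V W : X.Opens} (i : V ⟶ U) (j : W ⟶ V) (s : P.obj (op U)) :
    res P j (res P i s) = res P (j ≫ i) s :=
  (congrArg (fun f => f.hom s) (P.presheaf.map_comp i.op j.op)).symm

lemma res_congr {U V : X.Opens} (i j : V ⟶ U) (s : P.obj (op U)) : res P i s = res P j s := by
  rw [Subsingleton.elim i j]

lemma germP_res {U V : X.Opens} (i : V ⟶ U) (hx : x ∈ V) (s : P.obj (op U)) :
    germP P V hx (res P i s) = germP P U (i.le hx) s :=
  TopCat.Presheaf.germ_res_apply P.presheaf i x hx s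

lemma exists_germP (m : stalkMod x P) :
    ∃ (U : X.Opens) (hx : x ∈ U) (s : P.obj (op U)), germP P U hx s = m :=
  by
  obtain ⟨U, hx, s, h⟩ :=
    TopCat.Presheaf.exists_germ_eq (C := AddCommGrpCat.{u}) P.presheaf (x := x) m
  exact ⟨U, hx, s, h⟩

/-- Maps out of a stalk from compatible maps on sections. -/
noncomputable def descP {A : Type u} [AddCommGroup A]
    (f : ∀ (U : X.Opens), x ∈ U → (P.obj (op U) →+ A))
    (h : ∀ (U V : X.Opens) (i : V ⟶ U) (hx : x ∈ V) (s : P.obj (op U)),
      f V hx (res P i s) = f U (i.le hx) s) :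
    stalkMod x P →+ A :=
  (colimit.desc ((OpenNhds.inclusion x).op ⋙ P.presheaf)
    { pt := AddCommGrpCat.of A
      ι :=
        { app := fun U => AddCommGrpCat.ofHom (f U.unop.1 U.unop.2)
          naturality := fun U V i => by
            ext s
            exact h U.unop.1 V.unop.1 ((OpenNhds.inclusion x).map i.unop) V.unop.2 s } }).hom

lemma descP_germP {A : Type u} [AddCommGroup A]
    (f : ∀ (U : X.Opens), x ∈ U → (P.obj (op U) →+ A))
    (h : ∀ (U V : X.Opens) (i : V ⟶ U) (hx : x ∈ V) (s : P.obj (op U)),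
      f V hx (res P i s) = f U (i.le hx) s) (U : X.Opens) (hx : x ∈ U) (s : P.obj (op U)) :
    descP f h (germP P U hx s) = f U hx s :=
  ConcreteCategory.congr_hom
    (colimit.ι_desc (F := (OpenNhds.inclusion x).op ⋙ P.presheaf)
      { pt := AddCommGrpCat.of A
        ι :=
          { app := fun U => AddCommGrpCat.ofHom (f U.unop.1 U.unop.2)
            naturality := fun U V i => by
              ext s
              exact h U.unop.1 V.unop.1 ((OpenNhds.inclusion x).map i.unop) V.unop.2 s } }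
      (op ⟨U, hx⟩)) s

/-- A simple tensor of sections. -/
noncomputable def tm {U : (X.Opens)ᵒᵖ} (s : P.obj U) (t : Q.obj U) : (P ⊗ Q).obj U :=
  s ⊗ₜ t

lemma res_tm {U V : X.Opens} (i : V ⟶ U) (s : P.obj (op U)) (t : Q.obj (op U)) :
    res (P ⊗ Q) i (tm s t) = tm (res P i s) (res Q i t) :=
  rfl

lemma tm_add_left {U : (X.Opens)ᵒᵖ} (s s' : P.obj U) (t : Q.obj U) :
    tm (s + s') t = tm s t + tm s' t :=
  TensorProduct.add_tmul s s' t

lemma tm_add_right {U : (X.Opens)ᵒᵖ} (s : P.obj U) (t t' : Q.obj U) :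
    tm s (t + t') = tm s t + tm s t' :=
  TensorProduct.tmul_add s t t'

lemma tm_smul_left {U : (X.Opens)ᵒᵖ} (r : X.presheaf.obj U) (s : P.obj U) (t : Q.obj U) :
    tm (sm r s) t = sm r (tm s t) :=
  TensorProduct.smul_tmul' (show (X.sheaf.obj ⋙ forget₂ CommRingCat RingCat).obj U from r) s t

lemma tm_smul {U : (X.Opens)ᵒᵖ} (r : X.presheaf.obj U) (s : P.obj U) (t : Q.obj U) :
    tm (sm r s) t = tm s (sm r t) :=
  TensorProduct.smul_tmul (show (X.sheaf.obj ⋙ forget₂ CommRingCat RingCat).obj U from r) s t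

lemma tm_induction {U : (X.Opens)ᵒᵖ} {C : (P ⊗ Q).obj U → Prop} (z : (P ⊗ Q).obj U) (h0 : C 0)
    (htm : ∀ s t, C (tm s t)) (hadd : ∀ a b, C a → C b → C (a + b)) : C z :=
  TensorProduct.induction_on z h0 htm hadd

/-- The map `P(U) ⊗ Q(U) ⟶ P_x ⊗ Q_x`. -/
noncomputable def toTensor₀ (U : X.Opens) (hx : x ∈ U) :
    (P ⊗ Q).obj (op U) →+ (stalkMod x P : Type u) ⊗[X.presheaf.stalk x] (stalkMod x Q : Type u) :=
  TensorProduct.liftAddHom (R := X.presheaf.obj (op U))
    { toFun := fun s =>
        { toFun := fun t => germP P U hx s ⊗ₜ germP Q U hx t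
          map_zero' := by rw [map_zero, TensorProduct.tmul_zero]
          map_add' := fun t t' => by rw [map_add, TensorProduct.tmul_add] }
      map_zero' := by ext t; simp
      map_add' := fun s s' => by ext t; simp [TensorProduct.add_tmul] }
    (fun r s t => by
      change germP P U hx (sm r s) ⊗ₜ[X.presheaf.stalk x] germP Q U hx t =
        germP P U hx s ⊗ₜ[X.presheaf.stalk x] germP Q U hx (sm r t)
      rw [germP_smul, germP_smul, TensorProduct.smul_tmul])

lemma toTensor₀_tm (U : X.Opens) (hx : x ∈ U) (s : P.obj (op U)) (t : Q.obj (op U)) :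
    toTensor₀ U hx (tm s t) = germP P U hx s ⊗ₜ[X.presheaf.stalk x] germP Q U hx t :=
  rfl

variable (P Q) in
/-- The map `(P ⊗ Q)_x ⟶ P_x ⊗ Q_x`. -/
noncomputable def toTensorHom :
    stalkMod x (P ⊗ Q) →+ (stalkMod x P : Type u) ⊗[X.presheaf.stalk x] (stalkMod x Q : Type u) :=
  descP toTensor₀ (fun U V i hx z => by
    induction z using tm_induction with
    | h0 => simp
    | htm s t => rw [res_tm, toTensor₀_tm, toTensor₀_tm, germP_res, germP_res]
    | hadd a b ha hb => rw [map_add, map_add, map_add, ha, hb])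

lemma toTensorHom_germ (U : X.Opens) (hx : x ∈ U) (s : P.obj (op U)) (t : Q.obj (op U)) :
    toTensorHom P Q (germP (P ⊗ Q) U hx (tm s t)) = germP P U hx s ⊗ₜ[X.presheaf.stalk x] germP Q U hx t :=
  (descP_germP _ _ U hx _).trans (toTensor₀_tm U hx s t)

lemma exists_germP_common {U : X.Opens} (hU : x ∈ U) (m : stalkMod x P) :
    ∃ (W : X.Opens) (i : W ⟶ U) (hx : x ∈ W) (s : P.obj (op W)), germP P W hx s = m := by
  obtain ⟨V, hV, s, rfl⟩ := exists_germP m
  exact ⟨U ⊓ V, homOfLE inf_le_left, ⟨hU, hV⟩, res P (homOfLE inf_le_right) s, germP_res _ _ _⟩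

lemma germP_tm_res {U U' W : X.Opens} {hW : x ∈ W} (i : W ⟶ U) (j : W ⟶ U') {W' : X.Opens}
    (k : W' ⟶ W) (hW' : x ∈ W') (s : P.obj (op U)) (t : Q.obj (op U')) :
    germP (P ⊗ Q) W' hW' (tm (res P (k ≫ i) s) (res Q (k ≫ j) t)) =
      germP (P ⊗ Q) W hW (tm (res P i s) (res Q j t)) := by
  rw [← res_res, ← res_res, ← res_tm, germP_res]

variable (Q) in
/-- The pairing with a section. -/
noncomputable def pairing₀ (U : X.Opens) (hU : x ∈ U) (s : P.obj (op U)) :
    stalkMod x Q →+ stalkMod x (P ⊗ Q) :=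
  descP (fun V hV =>
    { toFun := fun t => germP (P ⊗ Q) (U ⊓ V) ⟨hU, hV⟩
        (tm (res P (homOfLE inf_le_left) s) (res Q (homOfLE inf_le_right) t))
      map_zero' := by
        rw [map_zero, ← map_zero (germP (P ⊗ Q) (U ⊓ V) ⟨hU, hV⟩)]
        exact congrArg _ (TensorProduct.tmul_zero _ _)
      map_add' := fun t t' => by rw [map_add, tm_add_right, map_add] })
    (fun V V' i hV' t => by
      simp only [AddMonoidHom.coe_mk, ZeroHom.coe_mk, res_res]
      refine Eq.trans ?_ (germP_tm_res (homOfLE inf_le_left) (homOfLE inf_le_right)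
        (homOfLE (inf_le_inf_left U i.le) : U ⊓ V' ⟶ U ⊓ V) ⟨hU, hV'⟩ s t)
      rw [res_congr (homOfLE inf_le_left : U ⊓ V' ⟶ U)]
      congr 2)

lemma pairing₀_germ (U : X.Opens) (hU : x ∈ U) (s : P.obj (op U)) (W : X.Opens) (i : W ⟶ U)
    (hW : x ∈ W) (t : Q.obj (op W)) :
    pairing₀ Q U hU s (germP Q W hW t) = germP (P ⊗ Q) W hW (tm (res P i s) t) := by
  rw [pairing₀, descP_germP]
  simp only [AddMonoidHom.coe_mk, ZeroHom.coe_mk]
  rw [← germP_tm_res (homOfLE inf_le_left) (homOfLE inf_le_right)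
    (homOfLE (le_inf i.le le_rfl) : W ⟶ U ⊓ W) hW s t]
  rw [res_congr _ i, res_congr _ (𝟙 W) t]
  congr 2
  exact (congrArg (fun f => f.hom t) (Q.presheaf.map_id (op W)))

lemma pairing₀_res {U V : X.Opens} (i : V ⟶ U) (hV : x ∈ V) (s : P.obj (op U)) :
    pairing₀ Q V hV (res P i s) = pairing₀ Q U (i.le hV) s := by
  ext n
  obtain ⟨W, j, hW, t, rfl⟩ := exists_germP_common hV n
  rw [pairing₀_germ V hV _ W j hW t, pairing₀_germ U (i.le hV) _ W (j ≫ i) hW t, res_res]

variable (P Q) in
/-- The pairing `P_x × Q_x ⟶ (P ⊗ Q)_x`. -/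
noncomputable def pairing : stalkMod x P →+ stalkMod x Q →+ stalkMod x (P ⊗ Q) :=
  descP (A := stalkMod x Q →+ stalkMod x (P ⊗ Q)) (fun U hU =>
    { toFun := fun s => pairing₀ Q U hU s
      map_zero' := by
        ext n
        obtain ⟨W, j, hW, t, rfl⟩ := exists_germP_common hU n
        rw [pairing₀_germ U hU _ W j hW t, map_zero]
        change germP (P ⊗ Q) W hW (tm 0 t) = 0
        rw [← map_zero (germP (P ⊗ Q) W hW)]
        exact congrArg _ (TensorProduct.zero_tmul _ _)
      map_add' := fun s s' => by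
        ext n
        obtain ⟨W, j, hW, t, rfl⟩ := exists_germP_common hU n
        rw [AddMonoidHom.add_apply, pairing₀_germ U hU _ W j hW t, pairing₀_germ U hU _ W j hW t,
          pairing₀_germ U hU _ W j hW t, map_add, tm_add_left, map_add] })
    (fun _ _ i hV s => pairing₀_res i hV s)

lemma pairing_germ (W : X.Opens) (hW : x ∈ W) (s : P.obj (op W)) (t : Q.obj (op W)) :
    pairing P Q (germP P W hW s) (germP Q W hW t) = germP (P ⊗ Q) W hW (tm s t) := by
  rw [pairing, descP_germP]
  change pairing₀ Q W hW s (germP Q W hW t) = _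
  rw [pairing₀_germ W hW s W (𝟙 W) hW t]
  congr 2
  exact (congrArg (fun f => f.hom s) (P.presheaf.map_id (op W)))

lemma exists_germP_pair (m : stalkMod x P) (n : stalkMod x Q) :
    ∃ (W : X.Opens) (hW : x ∈ W) (s : P.obj (op W)) (t : Q.obj (op W)),
      germP P W hW s = m ∧ germP Q W hW t = n := by
  obtain ⟨U, hU, s, rfl⟩ := exists_germP m
  obtain ⟨W, i, hW, t, rfl⟩ := exists_germP_common hU n
  exact ⟨W, hW, res P i s, t, germP_res _ _ _, rfl⟩

lemma pairing_smul (r : X.presheaf.stalk x) (m : stalkMod x P) (n : stalkMod x Q) :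
    pairing P Q (r • m) n = r • pairing P Q m n ∧ pairing P Q m (r • n) = r • pairing P Q m n := by
  obtain ⟨U, hU, a, rfl⟩ := X.presheaf.exists_germ_eq (x := x) r
  obtain ⟨W, hW, s, t, rfl, rfl⟩ := exists_germP_pair m n
  have hV : x ∈ U ⊓ W := ⟨hU, hW⟩
  rw [← X.presheaf.germ_res_apply (homOfLE inf_le_left : U ⊓ W ⟶ U) x hV a,
    ← germP_res (homOfLE inf_le_right : U ⊓ W ⟶ W) hV s,
    ← germP_res (homOfLE inf_le_right : U ⊓ W ⟶ W) hV t]
  rw [← germP_smul, ← germP_smul, pairing_germ, pairing_germ, pairing_germ, ← germP_smul,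
    tm_smul_left]
  exact ⟨rfl, congrArg _ ((tm_smul _ _ _).symm.trans (tm_smul_left _ _ _))⟩

variable (P Q) in
/-- The map `P_x ⊗ Q_x ⟶ (P ⊗ Q)_x`. -/
noncomputable def ofTensor :
    (stalkMod x P : Type u) ⊗[X.presheaf.stalk x] (stalkMod x Q : Type u) →ₗ[X.presheaf.stalk x]
      stalkMod x (P ⊗ Q) :=
  TensorProduct.lift (LinearMap.mk₂ (X.presheaf.stalk x) (fun m n => pairing P Q m n)
    (fun _ _ _ => by rw [map_add, AddMonoidHom.add_apply]) (fun _ _ _ => (pairing_smul _ _ _).1)
    (fun _ _ _ => map_add _ _ _) (fun _ _ _ => (pairing_smul _ _ _).2))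

lemma ofTensor_germ (W : X.Opens) (hW : x ∈ W) (s : P.obj (op W)) (t : Q.obj (op W)) :
    ofTensor P Q (germP P W hW s ⊗ₜ[X.presheaf.stalk x] germP Q W hW t) =
      germP (P ⊗ Q) W hW (tm s t) :=
  pairing_germ W hW s t

variable (P Q) in
/-- `P_x ⊗ Q_x ≅ (P ⊗ Q)_x`. -/
noncomputable def tensorStalkEquiv :
    (stalkMod x P : Type u) ⊗[X.presheaf.stalk x] (stalkMod x Q : Type u) ≃ₗ[X.presheaf.stalk x]
      stalkMod x (P ⊗ Q) :=
  { ofTensor P Q with
    invFun := toTensorHom P Q
    left_inv := fun z => by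
      change toTensorHom P Q (ofTensor P Q z) = z
      induction z using TensorProduct.induction_on with
      | zero => simp
      | tmul m n =>
        obtain ⟨W, hW, s, t, rfl, rfl⟩ := exists_germP_pair m n
        rw [ofTensor_germ, toTensorHom_germ]
      | add a b ha hb => rw [map_add, map_add, ha, hb]
    right_inv := fun z => by
      change ofTensor P Q (toTensorHom P Q z) = z
      obtain ⟨W, hW, w, rfl⟩ := exists_germP z
      induction w using tm_induction with
      | h0 => simp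
      | htm s t => rw [toTensorHom_germ, ofTensor_germ]
      | hadd a b ha hb => rw [map_add, map_add, map_add, ha, hb] }

end Groth.Agent.KFlatLib
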