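import Groth.Agent.KFlatLib.SplitExt
import Groth.Agent.KFlatLib.TotalMapNat
import Groth.Agent.KFlatLib.Scheme.RestrictHom
import Groth.Agent.H23.PullPush

/-!
# Pushforward and pullback of quasi-isomorphisms on an open
-/

set_option linter.style.haveILetI false
set_option backward.isDefEq.respectTransparency false

universe u

open CategoryTheory CategoryTheory.Limits AlgebraicGeometry

attribute [local instance] HasDerivedCategory.standard

namespace Groth.Agent.KFlatLib

variable {X Y : Scheme.{u}} (f : X ⟶ Y) (W : Y.Opens)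

/-- The preimage inclusion. -/
noncomputable abbrev kIm : (f ⁻¹ᵁ W).toScheme ⟶ X := (f ⁻¹ᵁ W).ι

/-- `f_*` followed by restriction. -/
noncomputable abbrev pushRes : X.Modules ⥤ (W : Scheme.{u}).Modules :=
  Scheme.Modules.pushforward f ⋙ Scheme.Modules.restrictFunctor W.ι

lemma isIso_pushRes_map_unit (M : X.Modules) :
    IsIso ((pushRes f W).map ((Scheme.Modules.restrictAdjunction (kIm f W)).unit.app M)) := by
  refine Scheme.Modules.Hom.isIso_iff_isIso_app.2 fun U' => ?_
  change IsIso (((Scheme.Modules.restrictAdjunction (kIm f W)).unit.app M).app (f ⁻¹ᵁ (W.ι ''ᵁ U')))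
  rw [Scheme.Modules.restrictAdjunction_unit_app_app]
  have h : f ⁻¹ᵁ (W.ι ''ᵁ U') = (kIm f W) ''ᵁ ((kIm f W) ⁻¹ᵁ (f ⁻¹ᵁ (W.ι ''ᵁ U'))) := by
    rw [Scheme.Hom.image_preimage_eq_opensRange_inf, Scheme.Opens.opensRange_ι, eq_comm, inf_eq_right]
    exact (TopologicalSpace.Opens.map f.base).map (homOfLE (by
      exact (Scheme.Hom.image_le_opensRange W.ι U').trans_eq W.opensRange_ι)) |>.le
  haveI : IsIso (homOfLE ((kIm f W).image_preimage_le (f ⁻¹ᵁ (W.ι ''ᵁ U')))) :=
    ⟨homOfLE h.le, Subsingleton.elim _ _, Subsingleton.elim _ _⟩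
  infer_instance

/-- `f_*` followed by restriction only depends on the restriction to the preimage. -/
noncomputable def pushResIso :
    pushRes f W ≅ Scheme.Modules.restrictFunctor (kIm f W) ⋙
      Scheme.Modules.pushforward (kIm f W) ⋙ pushRes f W :=
  haveI : ∀ M, IsIso ((Functor.whiskerRight (Scheme.Modules.restrictAdjunction (kIm f W)).unit
      (pushRes f W)).app M) := fun M => isIso_pushRes_map_unit f W M
  haveI := NatIso.isIso_of_isIso_app
    (Functor.whiskerRight (Scheme.Modules.restrictAdjunction (kIm f W)).unit (pushRes f W))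
  (Functor.leftUnitor _).symm ≪≫
    asIso (Functor.whiskerRight (Scheme.Modules.restrictAdjunction (kIm f W)).unit (pushRes f W)) ≪≫
    Functor.associator _ _ _

/-- `pushResIso` on complexes. -/
noncomputable def pushResCxIso :
    mapCx (Scheme.Modules.pushforward f) ⋙ rCx W.ι ≅
      rCx (kIm f W) ⋙ mapCx (Scheme.Modules.pushforward (kIm f W) ⋙ pushRes f W) :=
  NatIso.mapHomologicalComplex (pushResIso f W) (ComplexShape.up ℤ)

/-- An iso on the preimage stays one after pushing forward. -/
theorem isIso_rCx_push {A B : CochainComplex X.Modules ℤ} (g : A ⟶ B)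
    [IsIso ((rCx (kIm f W)).map g)] :
    IsIso ((rCx W.ι).map ((mapCx (Scheme.Modules.pushforward f)).map g)) :=
  (NatIso.isIso_map_iff (pushResCxIso f W) g).2
    (Functor.map_isIso (mapCx (Scheme.Modules.pushforward (kIm f W) ⋙ pushRes f W)) _)

/-- A quasi-isomorphism of complexes K-injective on the preimage stays one after pushing forward. -/
theorem quasiIso_rCx_push {A B : CochainComplex X.Modules ℤ} (g : A ⟶ B)
    [QuasiIso ((rCx (kIm f W)).map g)] [((rCx (kIm f W)).obj A).IsKInjective]
    [((rCx (kIm f W)).obj B).IsKInjective] :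
    QuasiIso ((rCx W.ι).map ((mapCx (Scheme.Modules.pushforward f)).map g)) := by
  obtain ⟨e, he⟩ := nonempty_homotopyEquiv_of_quasiIso ((rCx (kIm f W)).map g)
  let F := Scheme.Modules.pushforward (kIm f W) ⋙ pushRes f W
  have h : QuasiIso ((mapCx F).map ((rCx (kIm f W)).map g)) := by
    rw [← he]
    exact (F.mapHomotopyEquiv e).quasiIso_hom
  exact (quasiIso_iff_of_arrow_mk_iso _ _
    (((Functor.mapArrowFunctor _ _).mapIso (pushResCxIso f W)).app (Arrow.mk g))).2 h

/-- Pullback commutes with restriction, on complexes. -/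
noncomputable def pullResCxIso :
    rCx W.ι ⋙ pullCx (f ∣_ W) ≅ pullCx f ⋙ rCx (kIm f W) :=
  NatIso.mapHomologicalComplex (H23.PullPush.pullRestrictIso f W) (ComplexShape.up ℤ)

/-- An iso on an open pulls back to one. -/
theorem isIso_rCx_pull {A B : CochainComplex Y.Modules ℤ} (g : A ⟶ B) [IsIso ((rCx W.ι).map g)] :
    IsIso ((rCx (kIm f W)).map ((pullCx f).map g)) :=
  (NatIso.isIso_map_iff (pullResCxIso f W) g).1 (Functor.map_isIso (pullCx (f ∣_ W)) _)

/-- A quasi-isomorphism on an open of K-flat complexes pulls back to one. -/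
theorem quasiIso_rCx_pull {A B : CochainComplex Y.Modules ℤ} (g : A ⟶ B) [QuasiIso ((rCx W.ι).map g)]
    (hA : DCoh.IsKFlat A) (hB : DCoh.IsKFlat B) :
    QuasiIso ((rCx (kIm f W)).map ((pullCx f).map g)) :=
  (quasiIso_iff_of_arrow_mk_iso _ _
    (((Functor.mapArrowFunctor _ _).mapIso (pullResCxIso f W)).app (Arrow.mk g))).1
    (quasiIso_pullback (f ∣_ W) ((rCx W.ι).map g) (isKFlat_restrict W.ι hA) (isKFlat_restrict W.ι hB))

/-- Tensoring preserves quasi-isomorphisms on an open of K-flat complexes. -/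
theorem quasiIso_rCx_tensor' {U : Scheme.{u}} (j : U ⟶ X) [IsOpenImmersion j]
    (I : CochainComplex X.Modules ℤ) {A B : CochainComplex X.Modules ℤ} (g : A ⟶ B)
    [QuasiIso ((rCx j).map g)] (hA : DCoh.IsKFlat A) (hB : DCoh.IsKFlat B) :
    QuasiIso ((rCx j).map ((DCoh.tensorCx.obj I).map g)) :=
  (quasiIso_map₂_iff (restrictTensorBiIso j) I g).2
    (quasiIso_tensorCx_of_isKFlat ((rCx j).map g) (isKFlat_restrict j hA) (isKFlat_restrict j hB) _)

/-- Tensoring preserves isomorphisms on an open. -/
theorem isIso_rCx_tensor' {U : Scheme.{u}} (j : U ⟶ X) [IsOpenImmersion j]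
    (I : CochainComplex X.Modules ℤ) {A B : CochainComplex X.Modules ℤ} (g : A ⟶ B)
    [IsIso ((rCx j).map g)] : IsIso ((rCx j).map ((DCoh.tensorCx.obj I).map g)) := by
  have w := totalMapHom_naturality₂ (restrictTensorBiIso j) I g
  haveI h₁ : IsIso (totalMapHom (restrictTensorBiIso j) I A) := (totalMapIso (restrictTensorBiIso j) I A).isIso_hom
  haveI h₂ : IsIso (totalMapHom (restrictTensorBiIso j) I B) := (totalMapIso (restrictTensorBiIso j) I B).isIso_hom
  haveI : IsIso (totalMapHom (restrictTensorBiIso j) I A ≫ (rCx j).map ((DCoh.tensorCx.obj I).map g)) := by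
    refine (congrArg (fun t => IsIso t) w).mp ?_
    infer_instance
  exact IsIso.of_isIso_comp_left (totalMapHom (restrictTensorBiIso j) I A) _

end Groth.Agent.KFlatLib
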