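import Groth.Agent.KFlatLib.Scheme.KLift
import Groth.Agent.KFlatLib.Scheme.ProjCx
import Groth.Agent.KFlatLib.Scheme.PushLocal
import Groth.Agent.KFlatLib.Scheme.RpushCoprodQCoh
import Groth.Agent.KFlatLib.Scheme.RpushRestrict
import Groth.Agent.KFlatLib.Scheme.GlueD
import Groth.Agent.KFlatLib.Scheme.RpushTriangle
import Groth.Agent.KFlatLib.Scheme.ProjLocFree

/-!
# The projection map on the derived category, and the localizing class where it is invertible
-/

set_option linter.style.haveILetI false
set_option backward.isDefEq.respectTransparency false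

universe u

open CategoryTheory CategoryTheory.Limits AlgebraicGeometry Pretriangulated

attribute [local instance] HasDerivedCategory.standard

namespace Groth.Agent.KFlatLib

variable {X Y : Scheme.{u}}

lemma preservesColimit_restrictD {U : Scheme.{u}} (j : U ⟶ Y) [IsOpenImmersion j]
    [PreservesFiniteLimits (Scheme.Modules.restrictFunctor j)] {J : Type u} (C : J → DCoh.D Y) :
    PreservesColimit (Discrete.functor C) (DCoh.restrictD j) := by
  haveI : (Scheme.Modules.restrictFunctor j).IsLeftAdjoint :=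
    (Scheme.Modules.restrictAdjunction j).isLeftAdjoint
  haveI : PreservesColimitsOfShape (Discrete J) (rCx j) :=
    ⟨fun {K} => ⟨fun {c} hc => ⟨HomologicalComplex.isColimitOfEval _ _ fun n =>
      isColimitOfPreserves (HomologicalComplex.eval Y.Modules (ComplexShape.up ℤ) n ⋙
        Scheme.Modules.restrictFunctor j) hc⟩⟩⟩
  haveI : HasColimitsOfShape (Discrete J) (DCoh.D Y) := TriCat.hasColimitsOfShape_derivedCategory
  haveI : HasColimitsOfShape (Discrete J) (DCoh.D U) := TriCat.hasColimitsOfShape_derivedCategory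
  have h : IsIso (sigmaComparison (DCoh.restrictD j) C) :=
    isIso_sigmaDesc (DCoh.restrictD j) (rCx j)
      (Scheme.Modules.restrictFunctor j).mapDerivedCategoryFactors.hom (fun _ => True)
      (fun _ _ => inferInstance) (fun _ _ => trivial) C
      fun k => ⟨_, trivial, ⟨DerivedCategory.Q.objObjPreimageIso (C k)⟩⟩
  haveI := h
  exact PreservesCoproduct.of_iso_comparison (DCoh.restrictD j) C

variable (f : X ⟶ Y)

lemma isHomological_rpush_comp [DCoh.HasRpush f] {A : Type*} [Category A] [Abelian A]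
    (H : DCoh.D Y ⥤ A) [H.IsHomological] : (DCoh.Rpush f ⋙ H).IsHomological := by
  haveI := hasLpull f
  obtain ⟨adj⟩ := nonempty_lpull_rpush_adj f
  haveI := adj.rightAdjoint_preservesLimits
  haveI : (DCoh.Rpush f).PreservesZeroMorphisms :=
    Functor.preservesZeroMorphisms_of_map_zero_object
      (IsTerminal.uniqueUpToIso (IsTerminal.isTerminalObj (DCoh.Rpush f) _
        (HasZeroObject.zeroIsTerminal)) HasZeroObject.zeroIsTerminal)
  refine ⟨fun T hT => ?_⟩
  obtain ⟨c, hc⟩ := exists_rpush_triangle f T hT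
  exact H.map_distinguished_exact _ hc

variable {R : CochainComplex Y.Modules ℤ} (I : CochainComplex X.Modules ℤ)
  (a : R ⟶ (pushCxF f).obj I)

variable (R) in
lemma kRespects_tensor : KRespects (DCoh.tensorCx.obj R) := fun _ _ α hα hP hQ =>
  haveI : QuasiIso α := hα
  quasiIso_tensorCx_of_isKFlat α hP hQ R

lemma kRespects_pullTensor : KRespects (pullCx f ⋙ DCoh.tensorCx.obj I) := fun _ _ α hα hP hQ =>
  haveI : QuasiIso α := hα
  haveI := quasiIso_pullback (f := f) α hP hQ
  quasiIso_tensorCx_of_isKFlat ((pullCx f).map α) (isKFlat_pullback f hP) (isKFlat_pullback f hQ) I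

variable (R) in
/-- `C ↦ R ⊗^L C`. -/
noncomputable abbrev projF : DCoh.D Y ⥤ DCoh.D Y := kLift (kRespects_tensor R)

/-- `C ↦ I ⊗^L Lf^* C`. -/
noncomputable abbrev projH : DCoh.D Y ⥤ DCoh.D X := kLift (kRespects_pullTensor f I)

variable [DCoh.HasRpush f]

/-- The projection map on complexes. -/
noncomputable def projΘ : DCoh.tensorCx.obj R ⋙ DerivedCategory.Q ⟶
    (pullCx f ⋙ DCoh.tensorCx.obj I) ⋙ DerivedCategory.Q ⋙ DCoh.Rpush f where
  app P := DerivedCategory.Q.map (projCx f R I a P) ≫ (rpushUnit f).app _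
  naturality A B g := by
    have h := congrArg (fun t => DerivedCategory.Q.map t) (projCx_naturality f R I a g)
    simp only [Functor.map_comp] at h
    simp only [Functor.comp_map, Category.assoc]
    rw [reassoc_of% h]
    exact congrArg (_ ≫ ·) ((rpushUnit f).naturality _)

/-- The projection map on the derived category. -/
noncomputable def projθ : projF R ⟶ projH f I ⋙ DCoh.Rpush f :=
  letI : Localization.Lifting DerivedCategory.Q (qisX Y) (DerivedCategory.Q ⋙ projF R) (projF R) :=
    ⟨Iso.refl _⟩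
  letI : Localization.Lifting DerivedCategory.Q (qisX Y)
      (DerivedCategory.Q ⋙ projH f I ⋙ DCoh.Rpush f) (projH f I ⋙ DCoh.Rpush f) := ⟨Iso.refl _⟩
  Localization.liftNatTrans DerivedCategory.Q (qisX Y) (DerivedCategory.Q ⋙ projF R)
    (DerivedCategory.Q ⋙ projH f I ⋙ DCoh.Rpush f) _ _
    ((kLiftFac _).hom ≫ Functor.whiskerLeft (kRes Y) (projΘ f I a) ≫
      Functor.whiskerRight (kLiftFac (kRespects_pullTensor f I)).inv (DCoh.Rpush f))

lemma projθ_comp_ε (P : CochainComplex Y.Modules ℤ) :
    (projθ f I a).app (DerivedCategory.Q.obj P) ≫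
      (DCoh.Rpush f).map ((kLiftε (kRespects_pullTensor f I)).app P) =
    (kLiftε (kRespects_tensor R)).app P ≫ (projΘ f I a).app P := by
  have h : (projθ f I a).app (DerivedCategory.Q.obj P) =
      (kLiftFac (kRespects_tensor R)).hom.app P ≫ (projΘ f I a).app ((kRes Y).obj P) ≫
        (DCoh.Rpush f).map ((kLiftFac (kRespects_pullTensor f I)).inv.app P) := by
    simp only [projθ, Localization.liftNatTrans_app]
    exact (Category.id_comp _).trans (Category.comp_id _)
  rw [h]
  simp only [kLiftε, Category.assoc, Functor.map_comp]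
  rw [← (DCoh.Rpush f).map_comp_assoc, Iso.inv_hom_id_app]
  erw [CategoryTheory.Functor.map_id, Category.id_comp]
  exact congrArg (_ ≫ ·) ((projΘ f I a).naturality ((flatCover Y).ψ.app P)).symm

variable (W : Y.Opens)

lemma isIso_projθ_iff {P : CochainComplex Y.Modules ℤ} (hP : DCoh.IsKFlat P) :
    IsIso ((DCoh.restrictD W.ι).map ((projθ f I a).app (DerivedCategory.Q.obj P))) ↔
      IsIso ((DCoh.restrictD W.ι).map ((projΘ f I a).app P)) := by
  have h := congrArg (fun t => (DCoh.restrictD W.ι).map t) (projθ_comp_ε f I a P)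
  simp only [Functor.map_comp] at h
  haveI := isIso_kLiftε (kRespects_tensor R) hP
  haveI := isIso_kLiftε (kRespects_pullTensor f I) hP
  rw [← isIso_comp_right_iff _ ((DCoh.restrictD W.ι).map
      ((DCoh.Rpush f).map ((kLiftε (kRespects_pullTensor f I)).app P))), h]
  exact isIso_comp_left_iff _ _

/-- `H^i` of the left side, over `W`. -/
noncomputable abbrev projΦ₁ (R : CochainComplex Y.Modules ℤ) (i : ℤ) :
    DCoh.D Y ⥤ (W : Scheme.{u}).Modules :=
  projF R ⋙ DCoh.restrictD W.ι ⋙ DerivedCategory.homologyFunctor _ i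

/-- `H^i` of the right side, over `W`. -/
noncomputable abbrev projΦ₂ (i : ℤ) : DCoh.D Y ⥤ (W : Scheme.{u}).Modules :=
  projH f I ⋙ DCoh.Rpush f ⋙ DCoh.restrictD W.ι ⋙ DerivedCategory.homologyFunctor _ i

/-- The objects where the projection map is invertible on `W` after all shifts, and whose right side
has quasi-coherent cohomology over the preimage. -/
def ProjClass (A : DCoh.D Y) : Prop :=
  (∀ n : ℤ, IsIso ((DCoh.restrictD W.ι).map ((projθ f I a).app (A⟦n⟧)))) ∧
    ∀ n : ℤ, DCoh.IsQCohD ((DCoh.restrictD (kIm f W)).obj ((projH f I).obj (A⟦n⟧)))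

lemma projClass_of_iso {A B : DCoh.D Y} (e : A ≅ B) (h : ProjClass f I a W A) :
    ProjClass f I a W B := by
  refine ⟨fun n => ?_, fun n => isQCohD_of_iso ((DCoh.restrictD (kIm f W)).mapIso
    ((projH f I).mapIso ((shiftFunctor (DCoh.D Y) n).mapIso e))) (h.2 n)⟩
  exact (NatTrans.isIso_app_iff_of_iso (Functor.whiskerRight (projθ f I a) (DCoh.restrictD W.ι))
    ((shiftFunctor (DCoh.D Y) n).mapIso e)).1 (h.1 n)

lemma splitting_tensor (S : ShortComplex (CochainComplex Y.Modules ℤ))
    (hS : ∀ n, Nonempty (S.map (HomologicalComplex.eval _ _ n)).Splitting) :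
    (S.map (DCoh.tensorCx.obj R)).ShortExact :=
  HomologicalComplex.shortExact_of_degreewise_shortExact _
    fun n => (nonempty_splitting_map₂ DCoh.tensorBi R S hS n).some.shortExact

lemma splitting_pullTensor (S : ShortComplex (CochainComplex Y.Modules ℤ))
    (hS : ∀ n, Nonempty (S.map (HomologicalComplex.eval _ _ n)).Splitting) :
    (S.map (pullCx f ⋙ DCoh.tensorCx.obj I)).ShortExact :=
  HomologicalComplex.shortExact_of_degreewise_shortExact ((S.map (pullCx f)).map (DCoh.tensorCx.obj I))
    fun n => (nonempty_splitting_map₂ DCoh.tensorBi I (S.map (pullCx f))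
      (fun q => ⟨(hS q).some.map (Scheme.Modules.pullback f)⟩) n).some.shortExact

lemma projClass_obj₃ (T : Triangle (DCoh.D Y)) (hT : T ∈ distTriang (DCoh.D Y))
    (h₁ : ProjClass f I a W T.obj₁) (h₂ : ProjClass f I a W T.obj₂) :
    ProjClass f I a W T.obj₃ := by
  have hH₂ : ∀ i, (projH f I ⋙ DCoh.restrictD (kIm f W) ⋙
      DerivedCategory.homologyFunctor _ i).IsHomological := fun i =>
    isHomological_kLift_comp (kRespects_pullTensor f I) (splitting_pullTensor f I) _
  haveI : ∀ i, (projΦ₁ W R i).IsHomological := fun i =>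
    isHomological_kLift_comp (kRespects_tensor R) splitting_tensor _
  haveI : ∀ i, (projΦ₂ f I W i).IsHomological := fun i => by
    haveI := isHomological_rpush_comp f (DCoh.restrictD W.ι ⋙ DerivedCategory.homologyFunctor _ i)
    exact isHomological_kLift_comp (kRespects_pullTensor f I) (splitting_pullTensor f I) _
  refine ⟨fun n => (DerivedCategory.isIso_iff _ _).2 fun i => ?_, fun n i => ?_⟩
  · exact isIso_app_shift_obj₃ (Φ := projΦ₁ W R i) (Ψ := projΦ₂ f I W i)
      (Functor.whiskerRight (projθ f I a) (DCoh.restrictD W.ι ⋙ DerivedCategory.homologyFunctor _ i))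
      T hT (fun m => (DerivedCategory.isIso_iff _ _).1 (h₁.1 m) i)
      (fun m => (DerivedCategory.isIso_iff _ _).1 (h₂.1 m) i) n
  · haveI := hH₂ i
    let Φ := projH f I ⋙ DCoh.restrictD (kIm f W) ⋙ DerivedCategory.homologyFunctor _ i
    let T' := (Triangle.shiftFunctor (DCoh.D Y) n).obj T
    have hT' : T' ∈ distTriang (DCoh.D Y) := Triangle.shift_distinguished T hT n
    exact isQCoh_of_exact _ _ _ (Φ.map_distinguished_exact _ hT')
      (Φ.map_distinguished_exact _ (rot_of_distTriang _ hT'))
      (Φ.map_distinguished_exact _ (rot_of_distTriang _ (rot_of_distTriang _ hT')))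
      (h₁.2 n i) (h₂.2 n i)
      (isQCoh_of_iso (Φ.mapIso ((shiftFunctorAdd (DCoh.D Y) n 1).app T.obj₁)) (h₁.2 (n + 1) i))
      (isQCoh_of_iso (Φ.mapIso ((shiftFunctorAdd (DCoh.D Y) n 1).app T.obj₂)) (h₂.2 (n + 1) i))

variable [QuasiCompact f] [QuasiSeparated f]

lemma projClass_sigma {J : Type u} (C : J → DCoh.D Y) [HasCoproduct C]
    (h : ∀ j, ProjClass f I a W (C j)) : ProjClass f I a W (∐ C) := by
  haveI : HasColimitsOfShape (Discrete J) (DCoh.D Y) := TriCat.hasColimitsOfShape_derivedCategory
  haveI : HasColimitsOfShape (Discrete J) (DCoh.D X) := TriCat.hasColimitsOfShape_derivedCategory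
  haveI : HasColimitsOfShape (Discrete J) (DCoh.D (↑(f ⁻¹ᵁ W) : Scheme.{u})) :=
    TriCat.hasColimitsOfShape_derivedCategory
  haveI : HasColimitsOfShape (Discrete J) (DCoh.D (W : Scheme.{u})) :=
    TriCat.hasColimitsOfShape_derivedCategory
  haveI := preservesColimitsOfShape₂ DCoh.tensorBi (Discrete J) R
  haveI := preservesColimitsOfShape₂ DCoh.tensorBi (Discrete J) I
  haveI : PreservesColimitsOfShape (Discrete J) (pullCx f) :=
    ⟨fun {K} => ⟨fun {c} hc => ⟨HomologicalComplex.isColimitOfEval _ _ fun n =>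
      isColimitOfPreserves (HomologicalComplex.eval Y.Modules (ComplexShape.up ℤ) n ⋙
        Scheme.Modules.pullback f) hc⟩⟩⟩
  haveI := hasRpush_scheme (f ∣_ W)
  have hshift : ∀ n : ℤ, Nonempty ((∐ C)⟦n⟧ ≅ ∐ fun j => (C j)⟦n⟧) := fun n =>
    ⟨(PreservesCoproduct.iso (shiftFunctor (DCoh.D Y) n) C)⟩
  have hH : ∀ (n : ℤ), DCoh.IsQCohD ((DCoh.restrictD (kIm f W)).obj
      ((projH f I).obj (∐ fun j => (C j)⟦n⟧))) := fun n => by
    haveI := preservesColimit_kLift (kRespects_pullTensor f I) (fun j => (C j)⟦n⟧)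
    haveI := preservesColimit_restrictD (kIm f W) (fun j => (projH f I).obj ((C j)⟦n⟧))
    refine isQCohD_of_iso ((DCoh.restrictD (kIm f W)).mapIso
      (PreservesCoproduct.iso (projH f I) _) ≪≫ PreservesCoproduct.iso _ _).symm
      (isQCohD_sigma _ fun j => (h j).2 n)
  refine ⟨fun n => ?_, fun n => isQCohD_of_iso ((DCoh.restrictD (kIm f W)).mapIso
    ((projH f I).mapIso (hshift n).some.symm)) (hH n)⟩
  let C' := fun j => (C j)⟦n⟧
  suffices IsIso ((DCoh.restrictD W.ι).map ((projθ f I a).app (∐ C'))) from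
    (NatTrans.isIso_app_iff_of_iso (Functor.whiskerRight (projθ f I a) (DCoh.restrictD W.ι))
      (hshift n).some.symm).1 this
  haveI : PreservesColimit (Discrete.functor C') (projF R ⋙ DCoh.restrictD W.ι) := by
    haveI := preservesColimit_kLift (kRespects_tensor R) C'
    haveI := preservesColimit_restrictD W.ι (fun j => (projF R).obj (C' j))
    haveI : PreservesColimit (Discrete.functor C' ⋙ projF R) (DCoh.restrictD W.ι) :=
      preservesColimit_of_iso_diagram (K₁ := Discrete.functor fun j => (projF R).obj (C' j)) _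
        (Discrete.natIso fun j => Iso.refl _)
    infer_instance
  obtain ⟨e⟩ := nonempty_rpush_restrictD_iso f W
  let E := projH f I ⋙ DCoh.restrictD (kIm f W)
  haveI : PreservesColimit (Discrete.functor C') (E ⋙ DCoh.Rpush (f ∣_ W)) := by
    haveI := preservesColimit_kLift (kRespects_pullTensor f I) C'
    haveI := preservesColimit_restrictD (kIm f W) (fun j => (projH f I).obj (C' j))
    haveI : PreservesColimit (Discrete.functor C' ⋙ projH f I) (DCoh.restrictD (kIm f W)) :=
      preservesColimit_of_iso_diagram (K₁ := Discrete.functor fun j => (projH f I).obj (C' j)) _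
        (Discrete.natIso fun j => Iso.refl _)
    haveI : PreservesColimit (Discrete.functor C') E :=
      inferInstanceAs (PreservesColimit _ (projH f I ⋙ DCoh.restrictD (kIm f W)))
    have hR : IsIso (sigmaComparison (DCoh.Rpush (f ∣_ W)) fun j => E.obj (C' j)) :=
      isIso_sigmaDesc_rpush (f ∣_ W) (fun j => E.obj (C' j)) fun j => (h j).2 n
    haveI := hR
    haveI := PreservesCoproduct.of_iso_comparison (DCoh.Rpush (f ∣_ W)) fun j => E.obj (C' j)
    haveI : PreservesColimit (Discrete.functor C' ⋙ E) (DCoh.Rpush (f ∣_ W)) :=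
      preservesColimit_of_iso_diagram (K₁ := Discrete.functor fun j => E.obj (C' j)) _
        (Discrete.natIso fun j => Iso.refl _)
    infer_instance
  haveI : PreservesColimit (Discrete.functor C') ((projH f I ⋙ DCoh.Rpush f) ⋙ DCoh.restrictD W.ι) :=
    preservesColimit_of_natIso _ (Functor.associator _ _ _ ≪≫
      Functor.isoWhiskerLeft (projH f I) e.symm.symm ≪≫ (Functor.associator _ _ _).symm).symm
  exact isIso_app_sigma (Functor.whiskerRight (projθ f I a) (DCoh.restrictD W.ι)) C' fun j => (h j).1 n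

end Groth.Agent.KFlatLib
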