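import Groth.Agent.KFlatLib.Scheme.ProjCx
import Groth.Agent.KFlatLib.Scheme.EvalPerfect
import Groth.Agent.KFlatLib.Scheme.RpushQCoh
import Groth.Agent.KFlatLib.Perfect.Corollaries

/-!
# The projection formula for perfect complexes
-/

set_option linter.style.haveILetI false
set_option backward.isDefEq.respectTransparency false

universe u

open CategoryTheory CategoryTheory.Limits AlgebraicGeometry TopologicalSpace

attribute [local instance] HasDerivedCategory.standard

namespace Groth.Agent.KFlatLib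

variable {X Y : Scheme.{u}} (f : X ⟶ Y) (R : CochainComplex Y.Modules ℤ)
  (I : CochainComplex X.Modules ℤ) (a : R ⟶ (pushCxF f).obj I) (W : Y.Opens)

/-- The projection map followed by any resolution is a quasi-isomorphism on `W`. -/
def ProjProp (P : CochainComplex Y.Modules ℤ) : Prop :=
  ∀ (J : CochainComplex X.Modules ℤ) (s : (DCoh.tensorCx.obj I).obj ((pullCx f).obj P) ⟶ J),
    J.IsKInjective → QuasiIso s →
      QuasiIso ((rCx W.ι).map (projCx f R I a P ≫ (pushCxF f).map s))

/-- Invariance of `ProjProp` under quasi-isomorphisms on `W` of K-flat complexes. -/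
theorem projProp_iff (hR : DCoh.IsKFlat R) {A B : CochainComplex Y.Modules ℤ} (g : A ⟶ B)
    [QuasiIso ((rCx W.ι).map g)] (hA : DCoh.IsKFlat A) (hB : DCoh.IsKFlat B) :
    ProjProp f R I a W A ↔ ProjProp f R I a W B := by
  haveI := quasiIso_rCx_tensor W.ι hR g
  haveI := quasiIso_rCx_pull f W g hA hB
  haveI hI : QuasiIso ((rCx (kIm f W)).map ((DCoh.tensorCx.obj I).map ((pullCx f).map g))) :=
    quasiIso_rCx_tensor' (kIm f W) I _ (isKFlat_pullback f hA) (isKFlat_pullback f hB)
  have key : ∀ (JA JB : CochainComplex X.Modules ℤ)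
      (sA : (DCoh.tensorCx.obj I).obj ((pullCx f).obj A) ⟶ JA)
      (sB : (DCoh.tensorCx.obj I).obj ((pullCx f).obj B) ⟶ JB),
      JA.IsKInjective → JB.IsKInjective → QuasiIso sA → QuasiIso sB →
      (QuasiIso ((rCx W.ι).map (projCx f R I a A ≫ (pushCxF f).map sA)) ↔
        QuasiIso ((rCx W.ι).map (projCx f R I a B ≫ (pushCxF f).map sB))) := by
    intro JA JB sA sB hJA hJB hsA hsB
    haveI := hJA; haveI := hJB; haveI := hsA; haveI := hsB
    haveI := isIso_Q_map sA hsA
    obtain ⟨h, hh⟩ := exists_Q_map (inv (DerivedCategory.Q.map sA) ≫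
      DerivedCategory.Q.map ((DCoh.tensorCx.obj I).map ((pullCx f).map g) ≫ sB))
    obtain ⟨H⟩ := homotopy_of_Q_map_eq ((DCoh.tensorCx.obj I).map ((pullCx f).map g) ≫ sB) (sA ≫ h)
      (by rw [Functor.map_comp _ sA h, hh, IsIso.hom_inv_id_assoc])
    haveI : QuasiIso ((rCx (kIm f W)).map h) := by
      haveI h₁ : QuasiIso ((rCx (kIm f W)).map sA ≫ (rCx (kIm f W)).map h) := by
        haveI : IsIso (DerivedCategory.Q.map ((rCx (kIm f W)).map
            ((DCoh.tensorCx.obj I).map ((pullCx f).map g) ≫ sB))) :=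
          isIso_Q_map _ (by rw [Functor.map_comp]; infer_instance)
        rw [← Functor.map_comp, ← DerivedCategory.isIso_Q_map_iff_quasiIso (C := (f ⁻¹ᵁ W).toScheme.Modules),
          ← DerivedCategory.Q_map_eq_of_homotopy _
            ((Scheme.Modules.restrictFunctor (kIm f W)).mapHomotopy H)]
        infer_instance
      exact quasiIso_of_comp_left ((rCx (kIm f W)).map sA) _
    haveI := isKInjective_rCx (kIm f W) JA
    haveI := isKInjective_rCx (kIm f W) JB
    haveI := quasiIso_rCx_push f W h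
    let F := Scheme.Modules.pushforward f ⋙ Scheme.Modules.restrictFunctor W.ι
    have hsq : DerivedCategory.Q.map ((rCx W.ι).map ((DCoh.tensorCx.obj R).map g)) ≫
          DerivedCategory.Q.map ((rCx W.ι).map (projCx f R I a B ≫ (pushCxF f).map sB)) =
        DerivedCategory.Q.map ((rCx W.ι).map (projCx f R I a A ≫ (pushCxF f).map sA)) ≫
          DerivedCategory.Q.map ((rCx W.ι).map ((pushCxF f).map h)) := by
      have hw : DerivedCategory.Q.map ((rCx W.ι).map
          ((pushCxF f).map ((DCoh.tensorCx.obj I).map ((pullCx f).map g) ≫ sB))) =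
          DerivedCategory.Q.map ((rCx W.ι).map ((pushCxF f).map (sA ≫ h))) :=
        DerivedCategory.Q_map_eq_of_homotopy _ ((Scheme.Modules.restrictFunctor W.ι).mapHomotopy
          ((Scheme.Modules.pushforward f).mapHomotopy H))
      simp only [← Functor.map_comp, Category.assoc]
      rw [← Category.assoc, projCx_naturality, Category.assoc, ← Functor.map_comp]
      simp only [Functor.map_comp] at hw ⊢
      rw [hw]
    have i₁ : IsIso (DerivedCategory.Q.map ((rCx W.ι).map ((DCoh.tensorCx.obj R).map g))) :=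
      isIso_Q_map _ inferInstance
    have i₂ : IsIso (DerivedCategory.Q.map ((rCx W.ι).map ((pushCxF f).map h))) :=
      isIso_Q_map _ inferInstance
    rw [← DerivedCategory.isIso_Q_map_iff_quasiIso (C := (W : Scheme.{u}).Modules),
      ← DerivedCategory.isIso_Q_map_iff_quasiIso (C := (W : Scheme.{u}).Modules),
      ← isIso_comp_right_iff _ (DerivedCategory.Q.map ((rCx W.ι).map ((pushCxF f).map h))), ← hsq,
      isIso_comp_left_iff]
  constructor
  · intro hP JB sB hJB hsB
    obtain ⟨JA, sA, hJA, hsA⟩ : ∃ (JA : CochainComplex X.Modules ℤ)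
        (sA : (DCoh.tensorCx.obj I).obj ((pullCx f).obj A) ⟶ JA), JA.IsKInjective ∧ QuasiIso sA :=
      exists_kInjective_res _
    exact (key JA JB sA sB hJA hJB hsA hsB).1 (hP JA sA hJA hsA)
  · intro hP JA sA hJA hsA
    obtain ⟨JB, sB, hJB, hsB⟩ : ∃ (JB : CochainComplex X.Modules ℤ)
        (sB : (DCoh.tensorCx.obj I).obj ((pullCx f).obj B) ⟶ JB), JB.IsKInjective ∧ QuasiIso sB :=
      exists_kInjective_res _
    exact (key JA JB sA sB hJA hJB hsA hsB).2 (hP JB sB hJB hsB)

/-- The projection map at extensions by zero of bounded complexes of free modules. -/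
theorem projProp_lsh (hR' : ∀ p, FlatMod.IsFlat (R.X p)) [QuasiIso a] [I.IsKInjective] (lo hi : ℤ)
    (P : CochainComplex (W : Scheme.{u}).Modules ℤ) (hab : DCoh.VanishesOutside P lo hi)
    (hfree : ∀ i, ∃ n, Nonempty (P.X i ≅ FlatMod.freeMod (W : Scheme.{u}) n)) :
    ProjProp f R I a W ((lshCx W.ι).obj P) := by
  let T := lshCx W.ι ⋙ pullCx f ⋙ DCoh.tensorCx.obj I
  let Ψ : ObjectProperty (CochainComplex (W : Scheme.{u}).Modules ℤ) := fun C =>
    QuasiIso ((rCx W.ι).map (projCx f R I a ((lshCx W.ι).obj C))) ∧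
      ((rCx (kIm f W)).obj (T.obj C)).IsKInjective
  haveI : Ψ.IsClosedUnderIsomorphisms := ⟨fun {A B} e hA => by
    obtain ⟨h₁, h₂⟩ := hA
    haveI := h₁; haveI := h₂
    refine ⟨?_, CochainComplex.isKInjective_of_iso ((rCx (kIm f W)).mapIso (T.mapIso e))⟩
    have w := congrArg (fun t => (rCx W.ι).map t) (projCx_naturality f R I a ((lshCx W.ι).map e.hom))
    simp only [Functor.map_comp] at w
    haveI : IsIso ((rCx W.ι).map ((pushCxF f).map (T.map e.hom))) := inferInstance
    haveI : QuasiIso ((rCx W.ι).map ((DCoh.tensorCx.obj R).map ((lshCx W.ι).map e.hom)) ≫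
        (rCx W.ι).map (projCx f R I a ((lshCx W.ι).obj B))) := by
      rw [w]
      exact inferInstanceAs (QuasiIso (_ ≫ (rCx W.ι).map ((pushCxF f).map (T.map e.hom))))
    exact quasiIso_of_comp_left ((rCx W.ι).map ((DCoh.tensorCx.obj R).map ((lshCx W.ι).map e.hom))) _⟩
  suffices hΨ : Ψ P by
    intro J s hJ hs
    haveI := hΨ.1
    haveI : ((rCx (kIm f W)).obj ((DCoh.tensorCx.obj I).obj
        ((pullCx f).obj ((lshCx W.ι).obj P)))).IsKInjective := hΨ.2
    haveI := hJ
    haveI := hs
    haveI := isKInjective_rCx (kIm f W) J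
    haveI := quasiIso_rCx_push f W s
    rw [Functor.map_comp]
    infer_instance
  refine cx_devissage Ψ (fun C hC => ?_) (fun S hS _ h₁ h₃ => ?_) (fun n => ?_) lo ((hi + 1 - lo).toNat) P
    (fun i hi' => hab i (by omega)) hfree
  · have hz : IsZero (T.obj C) :=
      (DCoh.tensorCx.obj I).map_isZero ((pullCx f).map_isZero ((lshCx W.ι).map_isZero hC))
    refine ⟨quasiIso_of_isZero _ ((rCx W.ι).map_isZero ((DCoh.tensorCx.obj R).map_isZero
      ((lshCx W.ι).map_isZero hC))) ((rCx W.ι).map_isZero ((pushCxF f).map_isZero hz)), ⟨fun g _ => ?_⟩⟩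
    exact ⟨Homotopy.ofEq (((rCx (kIm f W)).map_isZero hz).eq_of_tgt _ _)⟩
  · let S' := S.map (lshCx W.ι)
    have hS' : ∀ n, Nonempty (S'.map (HomologicalComplex.eval _ _ n)).Splitting := fun n =>
      ⟨(hS n).some.map (lsh W.ι)⟩
    have hse : S'.ShortExact := HomologicalComplex.shortExact_of_degreewise_shortExact S'
      fun n => (hS' n).some.shortExact
    let S'' := (S'.map (pullCx f)).map (DCoh.tensorCx.obj I)
    have hS'' : ∀ n, Nonempty (S''.map (HomologicalComplex.eval _ _ n)).Splitting := fun n =>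
      nonempty_splitting_map₂ DCoh.tensorBi I (S'.map (pullCx f))
        (fun q => ⟨(hS' q).some.map (Scheme.Modules.pullback f)⟩) n
    refine ⟨?_, isKInjective_of_split (S''.map (rCx (kIm f W)))
      (fun n => ⟨(hS'' n).some.map (Scheme.Modules.restrictFunctor (kIm f W))⟩) h₁.2 h₃.2⟩
    let T₁ := (S'.map (DCoh.tensorBi.map₂CochainComplex.obj R)).map (rCx W.ι)
    let T₂ := (S''.map (pushCxF f)).map (rCx W.ι)
    have hT₂ : T₂.ShortExact := HomologicalComplex.shortExact_of_degreewise_shortExact T₂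
      fun n => (((hS'' n).some.map (Scheme.Modules.pushforward f)).map
        (Scheme.Modules.restrictFunctor W.ι)).shortExact
    let φ : T₁ ⟶ T₂ :=
      { τ₁ := (rCx W.ι).map (projCx f R I a S'.X₁)
        τ₂ := (rCx W.ι).map (projCx f R I a S'.X₂)
        τ₃ := (rCx W.ι).map (projCx f R I a S'.X₃)
        comm₁₂ := by
          refine ((rCx W.ι).map_comp _ _).symm.trans (Eq.trans ?_ ((rCx W.ι).map_comp _ _))
          exact congrArg _ (projCx_naturality f R I a S'.f).symm
        comm₂₃ := by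
          refine ((rCx W.ι).map_comp _ _).symm.trans (Eq.trans ?_ ((rCx W.ι).map_comp _ _))
          exact congrArg _ (projCx_naturality f R I a S'.g).symm }
    exact quasiIso_τ₂' φ ((shortExact_tensorCx_of_flat R hR' hse).map_of_exact _) hT₂ h₁.1 h₃.1
  · let O := (HomologicalComplex.single Y.Modules (ComplexShape.up ℤ) n).obj (Coh.structureModule Y)
    let e₁ : (rCx W.ι).obj O ≅ (HomologicalComplex.single (W : Scheme.{u}).Modules (ComplexShape.up ℤ) n).obj
        (Coh.structureModule (W : Scheme.{u})) :=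
      (HomologicalComplex.singleMapHomologicalComplex (Scheme.Modules.restrictFunctor W.ι) _ n).app _ ≪≫
        (HomologicalComplex.single _ _ n).mapIso (restrictStructureIso W.ι)
    refine Ψ.prop_of_iso e₁ ?_
    let c : (lshCx W.ι).obj ((rCx W.ι).obj O) ⟶ O := (lshCxAdj W.ι).counit.app O
    haveI hc : IsIso ((rCx W.ι).map c) := isIso_rCx_map_lshCx_counit W.ι O
    haveI := isIso_rCx_pull f W c
    haveI hI : IsIso ((rCx (kIm f W)).map ((DCoh.tensorCx.obj I).map ((pullCx f).map c))) :=
      isIso_rCx_tensor' (kIm f W) I _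
    haveI := isIso_rCx_push f W ((DCoh.tensorCx.obj I).map ((pullCx f).map c))
    haveI := isIso_rCx_tensor' W.ι R c
    obtain ⟨h₁, h₂⟩ := quasiIso_projCx_single f R I a n (kIm f W)
    haveI := h₁; haveI := h₂
    refine ⟨?_, CochainComplex.isKInjective_of_iso
      (asIso ((rCx (kIm f W)).map ((DCoh.tensorCx.obj I).map ((pullCx f).map c)))).symm⟩
    have w := congrArg (fun t => (rCx W.ι).map t) (projCx_naturality f R I a c)
    simp only [Functor.map_comp] at w
    haveI : QuasiIso ((rCx W.ι).map (projCx f R I a O)) := inferInstance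
    haveI : QuasiIso ((rCx W.ι).map (projCx f R I a ((lshCx W.ι).obj ((rCx W.ι).obj O))) ≫
        (rCx W.ι).map ((pushCxF f).map ((DCoh.tensorCx.obj I).map ((pullCx f).map c)))) := by
      rw [← w]; infer_instance
    exact quasiIso_of_comp_right _
      ((rCx W.ι).map ((pushCxF f).map ((DCoh.tensorCx.obj I).map ((pullCx f).map c))))

omit W in
/-- The projection formula for a perfect K-flat complex. -/
theorem nonempty_projection_perfect [DCoh.HasRpush f] (P : CochainComplex Y.Modules ℤ)
    (hP : DCoh.IsKFlat P) (hperf : DCoh.IsPerfect (DerivedCategory.Q.obj P))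
    [DCoh.HasLTensorCx P] [DCoh.HasLTensorCx ((pullCx f).obj P)] (E : DCoh.D X) :
    Nonempty ((DCoh.LTensorCx P).obj ((DCoh.Rpush f).obj E) ≅
      (DCoh.Rpush f).obj ((DCoh.LTensorCx ((pullCx f).obj P)).obj E)) := by
  obtain ⟨I, _, _, ⟨eE⟩⟩ := exists_kInjective_rep E
  let R := (kRes Y).obj ((pushCxF f).obj I)
  let a : R ⟶ (pushCxF f).obj I := (flatCover Y).ψ.app _
  haveI ha : QuasiIso a := (flatCover Y).quasiIso_ψ _
  haveI := isIso_Q_map a ha
  have hR : DCoh.IsKFlat R := isKFlat_kRes _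
  obtain ⟨J, s, hJ, hs⟩ : ∃ (J : CochainComplex X.Modules ℤ)
      (s : (DCoh.tensorCx.obj I).obj ((pullCx f).obj P) ⟶ J), J.IsKInjective ∧ QuasiIso s :=
    exists_kInjective_res _
  haveI := hJ
  haveI := isIso_Q_map s hs
  haveI hθ : QuasiIso (projCx f R I a P ≫ (pushCxF f).map s) := by
    refine quasiIso_of_local _ fun y => ?_
    obtain ⟨W, hy, hW⟩ := free_rep_range hperf y
    obtain ⟨P₀, lo, hi, hab, hfree, ⟨eP⟩⟩ := hW P ⟨Iso.refl _⟩
    refine ⟨W, W.ι, inferInstance, ⟨⟨y, hy⟩, rfl⟩, ?_⟩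
    obtain ⟨B, b, hB, hb⟩ : ∃ (B : CochainComplex (W : Scheme.{u}).Modules ℤ)
        (b : (DCoh.restrictCx W).obj P ⟶ B), B.IsKInjective ∧ QuasiIso b := exists_kInjective_res _
    haveI := hB
    haveI := hb
    haveI := isIso_Q_map b hb
    obtain ⟨p, hp⟩ := exists_Q_map (eP.inv ≫ DerivedCategory.Q.map b)
    haveI : QuasiIso p := by
      rw [← DerivedCategory.isIso_Q_map_iff_quasiIso (C := (W : Scheme.{u}).Modules), hp]
      infer_instance
    let L := (lshCx W.ι).obj P₀
    have hL : DCoh.IsKFlat L := by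
      haveI : L.IsStrictlyLE hi := by
        rw [CochainComplex.isStrictlyLE_iff]
        exact fun i hi' => (lsh W.ι).map_isZero (hab i (Or.inr hi'))
      exact isKFlat_of_isStrictlyLE L hi fun i => by
        obtain ⟨n, ⟨e⟩⟩ := hfree i
        exact isFlat_lsh W.ι (IsFlat.of_iso e.symm (isFlat_freeMod n))
    have hq : ∀ {A B : CochainComplex Y.Modules ℤ} (g : A ⟶ B), QuasiIso ((rCx W.ι).map g) →
        QuasiIso ((rCx W.ι).map ((kRes Y).map g)) := fun {A B} g hg => by
      haveI := (flatCover Y).quasiIso_ψ A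
      haveI := (flatCover Y).quasiIso_ψ B
      haveI : QuasiIso ((rCx W.ι).map ((flatCover Y).ψ.app A)) := inferInstance
      haveI : QuasiIso ((rCx W.ι).map ((flatCover Y).ψ.app B)) := inferInstance
      haveI := hg
      haveI : QuasiIso ((rCx W.ι).map ((kRes Y).map g) ≫ (rCx W.ι).map ((flatCover Y).ψ.app B)) := by
        rw [← Functor.map_comp, (flatCover Y).ψ.naturality g, Functor.map_comp]
        exact inferInstanceAs (QuasiIso ((rCx W.ι).map ((flatCover Y).ψ.app A) ≫ (rCx W.ι).map g))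
      exact quasiIso_of_comp_right _ ((rCx W.ι).map ((flatCover Y).ψ.app B))
    haveI hψP : QuasiIso ((rCx W.ι).map ((flatCover Y).ψ.app P)) :=
      haveI := (flatCover Y).quasiIso_ψ P
      inferInstance
    haveI hψL : QuasiIso ((rCx W.ι).map ((flatCover Y).ψ.app L)) :=
      haveI := (flatCover Y).quasiIso_ψ L
      inferInstance
    have h₀ := (projProp_iff f R I a W hR ((flatCover Y).ψ.app L) (isKFlat_kRes L) hL).2
      (projProp_lsh f R I a W (isFlat_kRes _) lo hi P₀ hab hfree)
    haveI := hq ((lshCx W.ι).map p) (quasiIso_rCx_map_lshCx W.ι p)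
    have h₁ := (projProp_iff f R I a W hR ((kRes Y).map ((lshCx W.ι).map p)) (isKFlat_kRes _)
      (isKFlat_kRes _)).1 h₀
    haveI := hq ((lshCx W.ι).map b) (quasiIso_rCx_map_lshCx W.ι b)
    have h₂ := (projProp_iff f R I a W hR ((kRes Y).map ((lshCx W.ι).map b)) (isKFlat_kRes _)
      (isKFlat_kRes _)).2 h₁
    haveI := hq ((lshCxAdj W.ι).counit.app P)
      (haveI := isIso_rCx_map_lshCx_counit W.ι P; inferInstance)
    have h₃ := (projProp_iff f R I a W hR ((kRes Y).map ((lshCxAdj W.ι).counit.app P)) (isKFlat_kRes _)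
      (isKFlat_kRes _)).1 h₂
    exact (projProp_iff f R I a W hR ((flatCover Y).ψ.app P) (isKFlat_kRes P) hP).1 h₃ J s hJ hs
  haveI := isIso_Q_map _ hθ
  haveI := isIso_LTensorCx_counit_of_isKFlat_right ((pullCx f).obj P) (isKFlat_pullback f hP) I
  obtain ⟨eI⟩ := nonempty_rpush_iso_of_kInjective (f := f) (I := I) (Iso.refl _)
  obtain ⟨eJ⟩ := nonempty_rpush_iso_of_kInjective (f := f) (I := J) (Iso.refl _)
  exact ⟨(DCoh.LTensorCx P).mapIso ((DCoh.Rpush f).mapIso eE ≪≫ eI ≪≫
      (asIso (DerivedCategory.Q.map a)).symm) ≪≫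
    ltensorCxIso P hR ≪≫ asIso (DerivedCategory.Q.map (projCx f R I a P ≫ (pushCxF f).map s)) ≪≫
    eJ.symm ≪≫ (DCoh.Rpush f).mapIso ((asIso (DerivedCategory.Q.map s)).symm ≪≫
      (asIso (((DCoh.tensorCxQ ((pullCx f).obj P)).totalLeftDerivedCounit
        DerivedCategory.Q (qisX X)).app I)).symm ≪≫ (DCoh.LTensorCx _).mapIso eE.symm)⟩

end Groth.Agent.KFlatLib
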