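import Groth.Agent.QCoh.ProperOver
import Mathlib.AlgebraicGeometry.Morphisms.Proper

/-!
# Subsets proper over a quasi-compact base are quasi-compact
-/

universe u

open CategoryTheory AlgebraicGeometry

namespace Groth.Agent.KFlatLib

variable {X S : Scheme.{u}} (f : X ⟶ S)

/-- A subset proper over a quasi-compact scheme is quasi-compact. -/
lemma isCompact_of_isProperOver [CompactSpace S] {Z : Set X} (h : ClSub.IsProperOver f Z) : IsCompact Z := by
  obtain ⟨hC, hP⟩ := h
  let i := (Scheme.IdealSheafData.vanishingIdeal ⟨Z, hC⟩).subschemeι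
  haveI : IsProper (i ≫ f) := hP
  haveI := QuasiCompact.compactSpace_of_compactSpace (i ≫ f)
  rw [← QCoh.range_vanishing hC]
  exact isCompact_range i.continuous

end Groth.Agent.KFlatLib
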