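import Groth.Agent.KFlatLib.Scheme.RelPerfectSch
import Groth.Agent.KFlatLib.Ring.RelPerfectRows
import Groth.Agent.LimModLib.FP
import Groth.Agent.FPEnough.Compact
import Groth.Agent.QCoh.SpecFT

/-!
# Relatively perfect objects as complexes of finitely presented modules flat over the base
-/

set_option linter.style.haveILetI false
set_option backward.isDefEq.respectTransparency false

universe u

open CategoryTheory CategoryTheory.Limits AlgebraicGeometry

attribute [local instance] HasDerivedCategory.standard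

namespace Groth.Agent.KFlatLib.RelPerfectSch

open RelTor

variable {X S : Scheme.{u}}

lemma isFP_restrict {U : Scheme.{u}} (j : U ⟶ X) [IsOpenImmersion j] {M : X.Modules} (h : CohB1.IsFP M) :
    CohB1.IsFP ((Scheme.Modules.restrictFunctor j).obj M) := by
  have hM := QCoh.isQCoh_of_isFP h
  have hP := LimModLib.isFP_pullback j hM h
  let e := (Scheme.Modules.restrictFunctorIsoPullback j).app M
  exact FPEnough.isFP_of_retract (QCoh.isQCoh_of_isFP hP) hP
    (isQCoh_of_iso e.symm (QCoh.isQCoh_of_isFP hP)) e.inv e.hom e.hom_inv_id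

/-- A complex of quasi-coherent modules on an affine scheme is a tilde. -/
lemma exists_tilde_cx {R : CommRingCat.{u}} (G : CochainComplex (Spec R).Modules ℤ)
    (h : ∀ n, Coh.IsQCoh (G.X n)) :
    ∃ P : CochainComplex (ModuleCat.{u} R) ℤ,
      Nonempty (((tilde.functor R).mapHomologicalComplex (ComplexShape.up ℤ)).obj P ≅ G) := by
  haveI : ∀ n, IsIso (G.X n).fromTildeΓ := fun n => (isQuasicoherent_iff_isIso_fromTildeΓ _).1 (h n)
  haveI : (tilde.functor R).Additive := tilde_additive _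
  haveI : (moduleSpecΓFunctor (R := R)).Additive := (tilde.adjunction (R := R)).right_adjoint_additive
  exact ⟨((moduleSpecΓFunctor (R := R)).mapHomologicalComplex (ComplexShape.up ℤ)).obj G,
    ⟨HomologicalComplex.Hom.isoOfComponents (fun n => asIso (G.X n).fromTildeΓ)
      fun p q _ => ((Scheme.Modules.fromTildeΓNatTrans (R := R)).naturality (G.d p q)).symm⟩⟩

/-- A relatively perfect object is locally a bounded complex of finitely presented modules flat over the base. -/
theorem exists_fp_flat_of_relPerf (f : X ⟶ S) [Flat f] [LocallyOfFinitePresentation f] {E : DCoh.D X}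
    (hE : RelPerf f E) (x : X) :
    ∃ V : X.Opens, x ∈ V ∧ ∀ F : CochainComplex X.Modules ℤ, Nonempty (DCoh.toD X F ≅ E) →
      ∃ (G : CochainComplex (V : Scheme.{u}).Modules ℤ) (a b : ℤ), DCoh.VanishesOutside G a b ∧
        (∀ i : ℤ, CohB1.IsFP (G.X i) ∧ FlatMod.IsFlatOver (V.ι ≫ f) (G.X i)) ∧
        Nonempty (DerivedCategory.Q.obj ((DCoh.restrictCx V).obj F) ≅ DerivedCategory.Q.obj G) := by
  obtain ⟨R, A, _, _, _, j, hj, k, hk, h, hx⟩ := exists_chart_pair f x
  haveI : PreservesFiniteLimits (tilde.functor (CommRingCat.of A)) := QCoh.tilde_preservesFiniteLimits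
  haveI := flat_chart f j k h
  haveI := finitePresentation_chart f j k h
  obtain ⟨M, ⟨eM⟩⟩ := exists_tildeD_iso (R := CommRingCat.of A) (hE.restrict j).isQCohD
  obtain ⟨P, a, b, hz, hP, ⟨e⟩⟩ := exists_flat_fp_rep ((relPerf_chart_iff f j k h M eM.symm).1 (hE.restrict j))
  let T := ((tilde.functor (CommRingCat.of A)).mapHomologicalComplex (ComplexShape.up ℤ)).obj P
  refine ⟨j.opensRange, hx, fun F ⟨eF⟩ => ⟨(rCx (rangeHom j)).obj T, a, b,
    fun i hi => (Scheme.Modules.restrictFunctor _).map_isZero ((tilde.functor (CommRingCat.of A)).map_isZero (hz i hi)),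
    fun i => ⟨?_, ?_⟩, ⟨?_⟩⟩⟩
  · exact isFP_restrict (rangeHom j) ((QCoh.isFP_tilde_iff (R := CommRingCat.of A) (P.X i)).2 (hP i).1)
  · intro v
    rw [← rangeHom_fac j, Category.assoc]
    refine (flatOverAt_restrict_iff (rangeHom j) (j ≫ f) _ v).1 ?_
    rw [← h]
    exact (flatOverAt_comp_iff _ k _ _).1 ((isFlatOver_tilde_iff (R := R) (P.X i)).2 (hP i).2 _)
  · exact ((rhoQ j.opensRange.ι).app F).symm ≪≫ (rho j.opensRange.ι).mapIso eF ≪≫
      (rhoComp (rangeHom j) j _ (rangeHom_fac j) E).symm ≪≫ (rho (rangeHom j)).mapIso (eM.symm ≪≫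
        (DCoh.tildeD (CommRingCat.of A)).mapIso e.symm ≪≫ toDTildeIso (R := CommRingCat.of A) P) ≪≫
      (rhoQ (rangeHom j)).app T

/-- Conversely, such objects are relatively perfect. -/
theorem relPerf_of_fp_flat (f : X ⟶ S) [Flat f] [LocallyOfFinitePresentation f] {U : Scheme.{u}} (i : U ⟶ X)
    [IsOpenImmersion i] (G : CochainComplex U.Modules ℤ) (a b : ℤ) (hz : DCoh.VanishesOutside G a b)
    (hG : ∀ n : ℤ, CohB1.IsFP (G.X n) ∧ FlatMod.IsFlatOver (i ≫ f) (G.X n)) :
    RelPerf (i ≫ f) (DCoh.toD U G) := by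
  refine RelPerf.of_local fun x => ?_
  obtain ⟨R, A, _, _, _, j, hj, k, hk, h, hx⟩ := exists_chart_pair (i ≫ f) x
  haveI : PreservesFiniteLimits (tilde.functor (CommRingCat.of A)) := QCoh.tilde_preservesFiniteLimits
  haveI := flat_chart (i ≫ f) j k h
  haveI := finitePresentation_chart (i ≫ f) j k h
  let G' := (rCx j).obj G
  have hfp : ∀ n, CohB1.IsFP (G'.X n) := fun n => isFP_restrict j (hG n).1
  obtain ⟨P, ⟨e⟩⟩ := exists_tilde_cx (R := CommRingCat.of A) G' fun n => QCoh.isQCoh_of_isFP (hfp n)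
  let eX := fun n => (HomologicalComplex.eval (Spec (CommRingCat.of A)).Modules (ComplexShape.up ℤ) n).mapIso e
  have hflat : ∀ n, FlatMod.IsFlatOver (Spec.map (CommRingCat.ofHom (algebraMap R A))) (G'.X n) := fun n v => by
    refine (flatOverAt_comp_iff _ k _ v).2 ?_
    rw [h]
    exact (flatOverAt_restrict_iff j (i ≫ f) _ v).1 ((hG n).2 _)
  have hzP : ∀ n, n < a ∨ b < n → IsZero (P.X n) := fun n hn => by
    have h₀ : IsZero (G'.X n) := (Scheme.Modules.restrictFunctor j).map_isZero (hz n hn)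
    rw [IsZero.iff_id_eq_zero]
    exact (tilde.fullyFaithfulFunctor (R := CommRingCat.of A)).map_injective
      ((h₀.of_iso (eX n)).eq_of_src _ _)
  have hfpP : ∀ n, Module.FinitePresentation A (P.X n) := fun n => by
    have h₁ : CohB1.IsFP (tilde (R := CommRingCat.of A) (P.X n)) :=
      FPEnough.isFP_of_retract (QCoh.isQCoh_of_isFP (hfp n)) (hfp n)
        (isQCoh_of_iso (eX n).symm (QCoh.isQCoh_of_isFP (hfp n))) (eX n).inv (eX n).hom (eX n).hom_inv_id
    exact (QCoh.isFP_tilde_iff (R := CommRingCat.of A) (P.X n)).1 h₁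
  have hrel := isRelPerfect_of_rep (R := R) (A := A) P a b hzP fun n => ⟨hfpP n,
      (isFlatOver_tilde_iff (R := R) (P.X n)).1 fun v => flatOverAt_of_iso (eX n).symm (hflat n v)⟩
  refine ⟨_, j, hj, hx, (relPerf_chart_iff (i ≫ f) j k h (DRing.toD P) ?_).2 hrel⟩
  exact (rhoQ j).app G ≪≫ DerivedCategory.Q.mapIso e.symm ≪≫ (toDTildeIso (R := CommRingCat.of A) P).symm

end Groth.Agent.KFlatLib.RelPerfectSch
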