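import Groth.Agent.KFlatLib.Scheme.RelPerfectBC
import Groth.Agent.KFlatLib.Scheme.LocGE
import Groth.Agent.KFlatLib.Ring.FibreHom
import Groth.Agent.S7094
import Mathlib.AlgebraicGeometry.Fiber

/-!
# Relative perfection and fibres
-/

set_option linter.style.haveILetI false
set_option backward.isDefEq.respectTransparency false

universe u

open CategoryTheory CategoryTheory.Limits AlgebraicGeometry TensorProduct

attribute [local instance] HasDerivedCategory.standard

namespace Groth.Agent.KFlatLib.RelPerfectBC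

open RelTor RelPerfectSch

variable {X S : Scheme.{u}} (f : X ⟶ S)

/-- The residue field of a chart point. -/
lemma exists_residue_chart {R : Type u} [CommRing R] (k : Spec (CommRingCat.of R) ⟶ S) [IsOpenImmersion k]
    (p : PrimeSpectrum R) :
    ∃ (l : Spec (CommRingCat.of p.asIdeal.ResidueField) ⟶ Spec (S.residueField (k.base p))) (_ : IsOpenImmersion l),
      Spec.map (CommRingCat.ofHom (algebraMap R p.asIdeal.ResidueField)) ≫ k =
        l ≫ S.fromSpecResidueField (k.base p) := by
  let R₀ : CommRingCat.{u} := CommRingCat.of R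
  let q : Spec R₀ := p
  let e := Scheme.Spec.residueFieldIso R₀ q
  refine ⟨Spec.map e.hom ≫ Spec.map (k.residueFieldMap q), inferInstance, ?_⟩
  have e₀ : Spec.map (CommRingCat.ofHom (algebraMap R₀ q.asIdeal.ResidueField)) =
      Spec.map e.hom ≫ (Spec R₀).fromSpecResidueField q := by
    rw [← Scheme.Spec.map_residueFieldIso_inv_eq_fromSpecResidueField R₀ q, ← Category.assoc, ← Spec.map_comp,
      Iso.inv_hom_id, Spec.map_id, Category.id_comp]
  exact ((congrArg (· ≫ k) e₀).trans (Category.assoc _ _ _)).trans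
    ((congrArg (Spec.map e.hom ≫ ·) (k.SpecMap_residueFieldMap_fromSpecResidueField q).symm).trans
      (Category.assoc _ _ _).symm)

/-- The homology of a derived base change of a chart representative. -/
lemma exists_below_of_locGE {R A R' : Type u} [CommRing R] [CommRing A] [Algebra R A] [CommRing R'] [Algebra R R']
    [Module.Flat R A] [PreservesFiniteLimits (tilde.functor (CommRingCat.of A))] {T : Scheme.{u}} (g : T ⟶ S)
    [DCoh.HasLpull (pullback.fst f g)] [DRing.HasLTensor R (ModuleCat.of R R')]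
    (j : Spec (CommRingCat.of A) ⟶ X) [IsOpenImmersion j]
    (k : Spec (CommRingCat.of R) ⟶ S) [IsOpenImmersion k]
    (h : Spec.map (CommRingCat.ofHom (algebraMap R A)) ≫ k = j ≫ f)
    (l : Spec (CommRingCat.of R') ⟶ T) [IsOpenImmersion l]
    (h' : Spec.map (CommRingCat.ofHom (algebraMap R R')) ≫ k = l ≫ g)
    {E : DCoh.D X} (M : Dual.D A) (e : (rho j).obj E ≅ (DCoh.tildeD (CommRingCat.of A)).obj M)
    (hM : DRing.IsPseudoCoherent' A M) (hE : LocGE ((DCoh.Lpull (pullback.fst f g)).obj E)) :
    ∃ a : ℤ, ∀ i : ℤ, i < a → Subsingleton (Dual.HD R ((DRing.LTensor R (ModuleCat.of R R')).obj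
      ((DRing.restrictD (algebraMap R A)).obj M)) i) := by
  obtain ⟨j', hj', h₁, -, -⟩ := exists_pullback_chart f g j k h l h'
  haveI : PreservesFiniteLimits (tilde.functor (CommRingCat.of (R' ⊗[R] A))) :=
    QCoh.tilde_preservesFiniteLimits
  haveI := H9Misc.DRingLBase.hasLBaseChange
    (Algebra.TensorProduct.includeRight.toRingHom : A →+* R' ⊗[R] A)
  obtain ⟨e'⟩ := nonempty_rho_lpull_iso (A := A) (B := R' ⊗[R] A)
    (Algebra.TensorProduct.includeRight.toRingHom : A →+* R' ⊗[R] A) (pullback.fst f g) j j' h₁ M e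
  obtain ⟨a, ha⟩ := (locGE_tilde_iff (A := R' ⊗[R] A) _).1 ((hE.restrict j').of_iso e')
  exact ⟨a, fun i hi => (subsingleton_hd_baseChange_iff R A R' M hM i).2 (ha i hi)⟩

variable [Flat f] [LocallyOfFinitePresentation f]

/-- Relative perfection is boundedness below of the object and of all its fibres. -/
theorem relPerf_iff_bounded_fibres [∀ s : S, DCoh.HasLpull (f.fiberι s)] {E : DCoh.D X}
    (hE : ∀ m : ℤ, LocPC m E) :
    LocRTD f E ↔ LocGE E ∧ ∀ s : S, LocGE ((DCoh.Lpull (f.fiberι s)).obj E) := by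
  constructor
  · intro h
    refine ⟨h.locGE, fun s => ?_⟩
    haveI : DCoh.HasLpull (pullback.fst f (S.fromSpecResidueField s)) :=
      inferInstanceAs (DCoh.HasLpull (f.fiberι s))
    exact (relPerf_lpull f (S.fromSpecResidueField s) (K := E) ⟨hE, h⟩).2.locGE
  · rintro ⟨h₀, hfib⟩
    refine (RelPerf.of_local (f := f) (E := E) fun x => ?_).2
    obtain ⟨R, A, _, _, _, j, hj, k, hk, h, hx⟩ := exists_chart_pair f x
    haveI : PreservesFiniteLimits (tilde.functor (CommRingCat.of A)) := QCoh.tilde_preservesFiniteLimits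
    haveI := flat_chart f j k h
    haveI := finitePresentation_chart f j k h
    have hq : DCoh.IsQCohD ((rho j).obj E) := fun i => (Groth.Agent.S7240.result (i - 1) ((rho j).obj E)
      ((isPseudoCoherentD_iff (i - 1) _).2 ((hE (i - 1)).restrict j))).1 i (by omega)
    obtain ⟨M, ⟨eM⟩⟩ := exists_tildeD_iso (R := CommRingCat.of A) hq
    have hpc : DRing.IsPseudoCoherent' A M := (H9Misc.DRingPC.pc'_iff M).2 fun m =>
      (Groth.Agent.S1004.result A M m).1 ((isPseudoCoherentD_iff m _).2 (((hE m).restrict j).of_iso eM.symm))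
    haveI : ∀ N : ModuleCat.{u} R, DRing.HasLTensor R N := H9Misc.DRingTor.hasLTensor
    refine ⟨_, j, hj, hx, (relPerf_chart_iff f j k h M eM.symm).2 ((Groth.Agent.S7094.result R A M hpc).2
      ⟨(locGE_tilde_iff M).1 ((h₀.restrict j).of_iso eM.symm), fun p => ?_⟩)⟩
    obtain ⟨l, hl, h'⟩ := exists_residue_chart k p
    haveI : DCoh.HasLpull (pullback.fst f (S.fromSpecResidueField (k.base p))) :=
      inferInstanceAs (DCoh.HasLpull (f.fiberι (k.base p)))
    exact exists_below_of_locGE f (S.fromSpecResidueField (k.base p)) j k h l h' M eM.symm hpc (hfib (k.base p))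

end Groth.Agent.KFlatLib.RelPerfectBC
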