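import Groth.Agent.KFlatLib.Scheme.RelTor
import Groth.Agent.KFlatLib.Scheme.CohD
import Groth.Agent.S1004
import Groth.Agent.S7240
import Groth.Agent.KFlatLib.Scheme.TildePerf
import Groth.Agent.KFlatLib.Scheme.EvalPerfect
import Groth.Agent.KFlatLib.Scheme.QCohDerived
import Groth.Agent.S7073
import Groth.Agent.S7093
import Mathlib.AlgebraicGeometry.Morphisms.Flat
import Mathlib.AlgebraicGeometry.Morphisms.FinitePresentation

/-!
# Relatively perfect objects on schemes through affine charts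
-/

set_option linter.style.haveILetI false
set_option backward.isDefEq.respectTransparency false

universe u

open CategoryTheory CategoryTheory.Limits Pretriangulated AlgebraicGeometry TopologicalSpace

attribute [local instance] HasDerivedCategory.standard

namespace Groth.Agent.KFlatLib.RelPerfectSch

open RelTor

variable {X S : Scheme.{u}}

/-- Relatively perfect objects. -/
def RelPerf (f : X ⟶ S) (E : DCoh.D X) : Prop := (∀ m : ℤ, LocPC m E) ∧ LocRTD f E

theorem relPerf_iff (f : X ⟶ S) (E : DCoh.D X) :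
    ((∀ m : ℤ, DCoh.IsPseudoCoherentD m E) ∧ DCoh.LocHasFiniteRelTorDim f E) ↔ RelPerf f E :=
  and_congr (forall_congr' fun m => isPseudoCoherentD_iff m E) (locHasFiniteRelTorDim_iff f E)

lemma RelPerf.of_iso {f : X ⟶ S} {E F : DCoh.D X} (e : E ≅ F) (h : RelPerf f E) : RelPerf f F :=
  ⟨fun m => (h.1 m).of_iso e, h.2.of_iso e⟩

lemma RelPerf.restrict {f : X ⟶ S} {E : DCoh.D X} (h : RelPerf f E) {U : Scheme.{u}} (j : U ⟶ X)
    [IsOpenImmersion j] : RelPerf (j ≫ f) ((rho j).obj E) :=
  ⟨fun m => (h.1 m).restrict j, h.2.restrict j⟩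

/-- Pseudo-coherent objects on schemes have quasi-coherent cohomology. -/
lemma RelPerf.isQCohD {f : X ⟶ S} {E : DCoh.D X} (h : RelPerf f E) : DCoh.IsQCohD E := fun i =>
  (Groth.Agent.S7240.result (i - 1) E ((isPseudoCoherentD_iff (i - 1) E).2 (h.1 (i - 1)))).1 i (by omega)

section Affine

variable {R A : Type u} [CommRing R] [CommRing A] [Algebra R A] [Module.Flat R A]
  [PreservesFiniteLimits (tilde.functor (CommRingCat.of A))]

local notation "φ" => Spec.map (CommRingCat.ofHom (algebraMap R A))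

theorem relPerf_tilde_iff (M : Dual.D A) :
    RelPerf φ ((DCoh.tildeD (CommRingCat.of A)).obj M) ↔ Dual2.IsRelPerfect R A M := by
  have hpc : (∀ m : ℤ, LocPC m ((DCoh.tildeD (CommRingCat.of A)).obj M)) ↔ DRing.IsPseudoCoherent' A M := by
    rw [H9Misc.DRingPC.pc'_iff]
    exact forall_congr' fun m => (isPseudoCoherentD_iff m _).symm.trans (Groth.Agent.S1004.result A M m)
  constructor
  · rintro ⟨h1, h2⟩
    have h1' := hpc.1 h1
    obtain ⟨F, b, hb, -, ⟨e⟩⟩ := id h1'
    haveI : CochainComplex.IsStrictlyLE F b := (CochainComplex.isStrictlyLE_iff _ _).2 hb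
    haveI : (DRing.toD F).IsLE b := (DerivedCategory.isLE_Q_obj_iff _ _).2 inferInstance
    haveI : M.IsLE b := DerivedCategory.TStructure.t.isLE_of_iso e b
    exact ⟨h1', (locRTD_tilde_iff M b).1 h2⟩
  · rintro ⟨h1, h2⟩
    obtain ⟨F, b, hb, -, ⟨e⟩⟩ := id h1
    haveI : CochainComplex.IsStrictlyLE F b := (CochainComplex.isStrictlyLE_iff _ _).2 hb
    haveI : (DRing.toD F).IsLE b := (DerivedCategory.isLE_Q_obj_iff _ _).2 inferInstance
    haveI : M.IsLE b := DerivedCategory.TStructure.t.isLE_of_iso e b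
    exact ⟨hpc.2 h1, (locRTD_tilde_iff M b).2 h2⟩

end Affine

/-- Cancellation of a monomorphism on the right for properties stable under base change. -/
lemma of_comp_mono {P : MorphismProperty Scheme.{u}} [P.IsStableUnderBaseChange] {Y T : Scheme.{u}}
    (g : X ⟶ Y) (k : Y ⟶ T) [Mono k] (h : P (g ≫ k)) : P g :=
  P.of_isPullback (IsPullback.of_horiz_isIso_mono (fst := 𝟙 X) (snd := g) (f := g ≫ k) (g := k)
    ⟨Category.id_comp _⟩) h

section Chart

variable {R A : Type u} [CommRing R] [CommRing A] [Algebra R A] (f : X ⟶ S)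
  (j : Spec (CommRingCat.of A) ⟶ X) [IsOpenImmersion j]
  (k : Spec (CommRingCat.of R) ⟶ S) [IsOpenImmersion k]
  (h : Spec.map (CommRingCat.ofHom (algebraMap R A)) ≫ k = j ≫ f)

include h

lemma flat_chart [Flat f] : Module.Flat R A := by
  have h1 : Flat (Spec.map (CommRingCat.ofHom (algebraMap R A)) ≫ k) := by rw [h]; infer_instance
  exact RingHom.flat_algebraMap_iff.1
    ((HasRingHomProperty.Spec_iff (P := @Flat)).1 (of_comp_mono (P := @Flat) _ k h1))

lemma finitePresentation_chart [LocallyOfFinitePresentation f] : Algebra.FinitePresentation R A := by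
  have h1 : LocallyOfFinitePresentation (Spec.map (CommRingCat.ofHom (algebraMap R A)) ≫ k) := by
    rw [h]; infer_instance
  exact RingHom.finitePresentation_algebraMap.1
    ((HasRingHomProperty.Spec_iff (P := @LocallyOfFinitePresentation)).1
      (of_comp_mono (P := @LocallyOfFinitePresentation) _ k h1))

/-- Relative perfection on a chart is the algebraic one. -/
theorem relPerf_chart_iff [Flat f] [PreservesFiniteLimits (tilde.functor (CommRingCat.of A))] {E : DCoh.D X}
    (M : Dual.D A) (e : (rho j).obj E ≅ (DCoh.tildeD (CommRingCat.of A)).obj M) :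
    RelPerf (j ≫ f) ((rho j).obj E) ↔ Dual2.IsRelPerfect R A M := by
  haveI := flat_chart f j k h
  rw [← relPerf_tilde_iff (R := R) M]
  constructor
  · intro hr
    exact ⟨fun m => (hr.1 m).of_iso e, ((locRTD_comp_iff _ k _).2 (h ▸ hr.2)).of_iso e⟩
  · intro hr
    exact ⟨fun m => (hr.1 m).of_iso e.symm, h ▸ (locRTD_comp_iff _ k _).1 (hr.2.of_iso e.symm)⟩

end Chart

variable (f : X ⟶ S)

/-- Around each point there is a chart. -/
lemma exists_chart_pair (x : X) :
    ∃ (R A : Type u) (_ : CommRing R) (_ : CommRing A) (_ : Algebra R A)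
      (j : Spec (CommRingCat.of A) ⟶ X) (_ : IsOpenImmersion j)
      (k : Spec (CommRingCat.of R) ⟶ S) (_ : IsOpenImmersion k),
      Spec.map (CommRingCat.ofHom (algebraMap R A)) ≫ k = j ≫ f ∧ x ∈ Set.range j.base := by
  obtain ⟨V, hV, hxV, -⟩ := exists_isAffineOpen_mem_and_subset (x := f.base x) (U := ⊤) trivial
  obtain ⟨U, hU, hxU, hle⟩ := exists_isAffineOpen_mem_and_subset (x := x) (U := f ⁻¹ᵁ V) hxV
  letI : Algebra Γ(S, V) Γ(X, U) := (f.appLE V U hle).hom.toAlgebra
  refine ⟨Γ(S, V), Γ(X, U), inferInstance, inferInstance, inferInstance, hU.fromSpec, inferInstance,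
    hV.fromSpec, inferInstance, IsAffineOpen.SpecMap_appLE_fromSpec f hV hU hle, ?_⟩
  exact hU.range_fromSpec.symm ▸ hxU

/-- Relative perfection is local on the source. -/
lemma RelPerf.of_local {f : X ⟶ S} {E : DCoh.D X}
    (h : ∀ x : X, ∃ (U : Scheme.{u}) (j : U ⟶ X) (_ : IsOpenImmersion j),
      x ∈ Set.range j.base ∧ RelPerf (j ≫ f) ((rho j).obj E)) : RelPerf f E :=
  ⟨fun m => LocPC.of_local fun x => by
      obtain ⟨U, j, hj, hx, hr⟩ := h x
      exact ⟨U, j, hj, hx, hr.1 m⟩,
    LocRTD.of_local fun x => by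
      obtain ⟨U, j, hj, hx, hr⟩ := h x
      exact ⟨U, j, hj, hx, hr.2⟩⟩

/-- Perfect objects are relatively perfect. -/
theorem relPerf_of_perfect [Flat f] [LocallyOfFinitePresentation f] {E : DCoh.D X} (hE : DCoh.IsPerfect E) :
    RelPerf f E := by
  refine RelPerf.of_local fun x => ?_
  obtain ⟨R, A, _, _, _, j, hj, k, hk, h, hx⟩ := exists_chart_pair f x
  haveI : PreservesFiniteLimits (tilde.functor (CommRingCat.of A)) := QCoh.tilde_preservesFiniteLimits
  haveI := flat_chart f j k h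
  haveI := finitePresentation_chart f j k h
  have hsp : LocSP ((rho j).obj E) := ((isPerfect_iff E).1 hE).restrict' j
  obtain ⟨M, ⟨eM⟩⟩ := exists_tildeD_iso (R := CommRingCat.of A)
    (K := (rho j).obj E) (fun i => (Groth.Agent.S7240.result (i - 1) ((rho j).obj E) ((isPseudoCoherentD_iff (i - 1) _).2 (hsp.locPC (i - 1)))).1 i (by omega))
  refine ⟨_, j, hj, hx, (relPerf_chart_iff f j k h M eM.symm).2 ?_⟩
  exact Groth.Agent.S7073.result R A M ((perfect_tildeD_iff (R := CommRingCat.of A) M).1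
    ((isPerfect_iff _).2 (hsp.of_iso eM.symm)))

/-- Quasi-coherence passes to retracts. -/
lemma isQCoh_retract {U : Scheme.{u}} {M N : U.Modules} (i : M ⟶ N) (p : N ⟶ M) (h : i ≫ p = 𝟙 M)
    (hN : Coh.IsQCoh N) : Coh.IsQCoh M := by
  have w : (𝟙 N - p ≫ i) ≫ p = 0 := by simp [h]
  let hc : IsColimit (CokernelCofork.ofπ p w) :=
    CokernelCofork.IsColimit.ofπ _ _ (fun g _ => i ≫ g)
      (fun g hg => by
        rw [Preadditive.sub_comp, Category.id_comp, sub_eq_zero, Category.assoc] at hg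
        exact hg.symm)
      (fun g _ m hm => by rw [← hm, ← Category.assoc, h, Category.id_comp])
  exact isQCoh_of_iso ((cokernelIsCokernel (𝟙 N - p ≫ i)).coconePointUniqueUpToIso hc)
    (QCoh.isQCoh_cokernel hN hN _)

/-- Pseudo-coherence passes to retracts. -/
lemma pc'_retract {A : Type u} [CommRing A] {M N : Dual.D A} (i : M ⟶ N) (p : N ⟶ M) (h : i ≫ p = 𝟙 M)
    (hN : DRing.IsPseudoCoherent' A N) : DRing.IsPseudoCoherent' A M := by
  obtain ⟨C, g, c, hC⟩ := distinguished_cocone_triangle i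
  haveI : Mono i := mono_of_mono_fac h
  obtain ⟨e, -, -⟩ := exists_iso_binaryBiproduct_of_distTriang _ hC
    ((Triangle.mor₃_eq_zero_iff_mono₁ _ hC).2 (inferInstanceAs (Mono i)))
  exact (H9Misc.DRingPC.summand' (H9Misc.DRingPC.of_iso' e hN)).1

/-- Relative perfection passes to extensions, shifts and retracts. -/
theorem relPerf_obj₂ [Flat f] [LocallyOfFinitePresentation f] (T : Triangle (DCoh.D X)) (hT : T ∈ distTriang _)
    (h₁ : RelPerf f T.obj₁) (h₃ : RelPerf f T.obj₃) : RelPerf f T.obj₂ := by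
  refine RelPerf.of_local fun x => ?_
  obtain ⟨R, A, _, _, _, j, hj, k, hk, h, hx⟩ := exists_chart_pair f x
  haveI : PreservesFiniteLimits (tilde.functor (CommRingCat.of A)) := QCoh.tilde_preservesFiniteLimits
  haveI : PreservesFiniteColimits (tilde.functor (CommRingCat.of A)) := QCoh.tilde_preservesFiniteColimits
  haveI : (tilde.functor (CommRingCat.of A)).Additive := tilde_additive _
  haveI := flat_chart f j k h
  haveI := finitePresentation_chart f j k h
  have hTj := (rho j).map_distinguished T hT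
  have hq₁ := (h₁.restrict j).isQCohD
  have hq₃ := (h₃.restrict j).isQCohD
  have hq₂ : DCoh.IsQCohD ((rho j).obj T.obj₂) := isQCohD_obj₂ hTj hq₁ hq₃
  obtain ⟨M₁, ⟨e₁⟩⟩ := exists_tildeD_iso (R := CommRingCat.of A) hq₁
  obtain ⟨M₂, ⟨e₂⟩⟩ := exists_tildeD_iso (R := CommRingCat.of A) hq₂
  obtain ⟨a, ha⟩ := (tildeD_map_bijective (R := CommRingCat.of A) M₁ M₂).2 (e₁.hom ≫ (rho j).map T.mor₁ ≫ e₂.inv)
  obtain ⟨C, g, c, hC⟩ := distinguished_cocone_triangle a
  let Ti := (DCoh.tildeD (CommRingCat.of A)).mapTriangle.obj (Triangle.mk a g c)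
  have hTi : Ti ∈ distTriang _ := (DCoh.tildeD (CommRingCat.of A)).map_distinguished _ hC
  have hcomm : Ti.mor₁ ≫ e₂.hom = e₁.hom ≫ ((rho j).mapTriangle.obj T).mor₁ := by
    show (DCoh.tildeD (CommRingCat.of A)).map a ≫ e₂.hom = e₁.hom ≫ (rho j).map T.mor₁
    rw [ha]
    simp
  let e := isoTriangleOfIso₁₂ Ti ((rho j).mapTriangle.obj T) hTi hTj e₁ e₂ hcomm
  let e₃ : (DCoh.tildeD (CommRingCat.of A)).obj C ≅ (rho j).obj T.obj₃ := Triangle.π₃.mapIso e
  refine ⟨_, j, hj, hx, (relPerf_chart_iff f j k h M₂ e₂.symm).2 ?_⟩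
  have k₁ := (relPerf_chart_iff f j k h M₁ e₁.symm).1 (h₁.restrict j)
  have k₃ := (relPerf_chart_iff f j k h C e₃.symm).1 (h₃.restrict j)
  obtain ⟨htri, hiso, -⟩ := Groth.Agent.S7093.result R A
  haveI := hiso
  exact ObjectProperty.ext_of_isTriangulatedClosed₂ (fun K => Dual2.IsRelPerfect R A K) _ hC k₁ k₃

lemma RelPerf.shift {f : X ⟶ S} [Flat f] [LocallyOfFinitePresentation f] {E : DCoh.D X} (hE : RelPerf f E) (n : ℤ) :
    RelPerf f (E⟦n⟧) := by
  refine RelPerf.of_local fun x => ?_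
  obtain ⟨R, A, _, _, _, j, hj, k, hk, h, hx⟩ := exists_chart_pair f x
  haveI : PreservesFiniteLimits (tilde.functor (CommRingCat.of A)) := QCoh.tilde_preservesFiniteLimits
  haveI : PreservesFiniteColimits (tilde.functor (CommRingCat.of A)) := QCoh.tilde_preservesFiniteColimits
  haveI : (tilde.functor (CommRingCat.of A)).Additive := tilde_additive _
  haveI := flat_chart f j k h
  haveI := finitePresentation_chart f j k h
  obtain ⟨M, ⟨e⟩⟩ := exists_tildeD_iso (R := CommRingCat.of A) (hE.restrict j).isQCohD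
  refine ⟨_, j, hj, hx, (relPerf_chart_iff f j k h (M⟦n⟧) ((((rho j).commShiftIso n).app E) ≪≫
    (shiftFunctor _ n).mapIso e.symm ≪≫ (((DCoh.tildeD (CommRingCat.of A)).commShiftIso n).app M).symm)).2 ?_⟩
  obtain ⟨htri, hiso, -⟩ := Groth.Agent.S7093.result R A
  haveI := hiso
  exact ObjectProperty.le_shift (fun K => Dual2.IsRelPerfect R A K) n _ ((relPerf_chart_iff f j k h M e.symm).1 (hE.restrict j))

theorem relPerf_of_retract [Flat f] [LocallyOfFinitePresentation f] {E F : DCoh.D X} (r : Retract E F)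
    (hF : RelPerf f F) : RelPerf f E := by
  refine RelPerf.of_local fun x => ?_
  obtain ⟨R, A, _, _, _, j, hj, k, hk, h, hx⟩ := exists_chart_pair f x
  haveI : PreservesFiniteLimits (tilde.functor (CommRingCat.of A)) := QCoh.tilde_preservesFiniteLimits
  haveI := flat_chart f j k h
  haveI := finitePresentation_chart f j k h
  have hqF := (hF.restrict j).isQCohD
  have hqE : DCoh.IsQCohD ((rho j).obj E) := fun i => isQCoh_retract
    (((DerivedCategory.homologyFunctor _ i).map ((rho j).map r.i)))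
    (((DerivedCategory.homologyFunctor _ i).map ((rho j).map r.r)))
    (by rw [← Functor.map_comp, ← Functor.map_comp, r.retract, CategoryTheory.Functor.map_id, CategoryTheory.Functor.map_id]) (hqF i)
  obtain ⟨M, ⟨eM⟩⟩ := exists_tildeD_iso (R := CommRingCat.of A) hqE
  obtain ⟨N, ⟨eN⟩⟩ := exists_tildeD_iso (R := CommRingCat.of A) hqF
  obtain ⟨i, hi⟩ := (tildeD_map_bijective (R := CommRingCat.of A) M N).2 (eM.hom ≫ (rho j).map r.i ≫ eN.inv)
  obtain ⟨p, hp⟩ := (tildeD_map_bijective (R := CommRingCat.of A) N M).2 (eN.hom ≫ (rho j).map r.r ≫ eM.inv)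
  have hip : i ≫ p = 𝟙 M := (tildeD_map_bijective (R := CommRingCat.of A) M M).1 (by
    rw [Functor.map_comp, hi, hp, CategoryTheory.Functor.map_id]
    simp only [Category.assoc, Iso.inv_hom_id_assoc]
    rw [← (rho j).map_comp_assoc, r.retract, CategoryTheory.Functor.map_id]
    simp)
  refine ⟨_, j, hj, hx, (relPerf_chart_iff f j k h M eM.symm).2 ?_⟩
  obtain ⟨hpc, a, b, hamp⟩ := (relPerf_chart_iff f j k h N eN.symm).1 (hF.restrict j)
  exact ⟨pc'_retract i p hip hpc,
    a, b, H9Misc.DRingTor.of_retract ((DRing.restrictD (algebraMap R A)).map i) ((DRing.restrictD (algebraMap R A)).map p)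
      (by rw [← Functor.map_comp, hip, CategoryTheory.Functor.map_id]) hamp⟩

end Groth.Agent.KFlatLib.RelPerfectSch
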