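import Groth.Agent.KFlatLib.Scheme.SecPoint
import Groth.Agent.KFlatLib.Scheme.RpushRestrict
import Groth.Agent.KFlatLib.Scheme.RpushFF
import Groth.Agent.KFlatLib.Scheme.RpushUnbounded
import Groth.Prelude.Def_DDual2

/-!
# The right adjoint of `Rf_*` at objects pushed forward from an open

For `V ⊆ Y` open and `Z` on `V`, the object `a(Rj_* Z)` is pushed forward from `f⁻¹ V`, and scalars of `V`
act on it through `f`.
-/

set_option linter.style.haveILetI false
set_option backward.isDefEq.respectTransparency false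

universe u

open CategoryTheory CategoryTheory.Limits AlgebraicGeometry Opposite TopologicalSpace Pretriangulated

attribute [local instance] HasDerivedCategory.standard
attribute [local instance] Groth.Agent.KFlatLib.ScalarD.linMod

namespace Groth.Agent.KFlatLib.RALocal

open ScalarD SecPoint

variable {X Y : Scheme.{u}}

section Unit

variable (j : X ⟶ Y) [IsOpenImmersion j] [DCoh.HasRpush j] (adj : rho j ⊣ DCoh.Rpush j) {M : DCoh.D Y}

lemma rho_map_injective [IsIso (adj.unit.app M)] {S : DCoh.D Y} {a b : S ⟶ M}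
    (h : (rho j).map a = (rho j).map b) : a = b := by
  refine (cancel_mono (adj.unit.app M)).1 ?_
  refine (adj.unit.naturality a).trans (Eq.trans ?_ (adj.unit.naturality b).symm)
  exact congrArg (fun z => adj.unit.app S ≫ (DCoh.Rpush j).map z) h

lemma rho_map_surjective [IsIso (adj.unit.app M)] {S : DCoh.D Y} (h : (rho j).obj S ⟶ (rho j).obj M) :
    ∃ a : S ⟶ M, (rho j).map a = h := by
  refine ⟨adj.homEquiv _ _ h ≫ inv (adj.unit.app M), ?_⟩
  have h1 : (rho j).map (inv (adj.unit.app M)) = adj.counit.app ((rho j).obj M) := by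
    rw [Functor.map_inv, IsIso.inv_eq_of_hom_inv_id]
    exact adj.left_triangle_components M
  rw [Functor.map_comp, h1, ← adj.homEquiv_counit, Equiv.symm_apply_apply]

end Unit

/-- Multiplication by a function on an open is multiplication by its restriction. -/
lemma restrict_sMul {U : Scheme.{u}} (j : U ⟶ X) [IsOpenImmersion j] {W : X.Opens} (r : Γ(X, W))
    (r' : Γ(U, ⊤)) (h : ScalarD.res r' (j ⁻¹ᵁ W) = j.app W r) :
    (Scheme.Modules.restrictFunctor j).map (sMul r) =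
      mulMod r' ((Scheme.Modules.restrictFunctor j).obj (secObj W)) := by
  let A := Scheme.Modules.restrictAdjunction j
  refine (A.homEquiv _ _).injective ?_
  rw [A.homEquiv_unit, A.homEquiv_unit]
  let η := A.unit.app (secObj W)
  refine ((A.unit.naturality (sMul r)).symm.trans ?_)
  refine (secEq W _).injective ?_
  refine (secEq_sMul r η).trans ?_
  rw [secEq_comp]
  change j.app W r • (show Γ((Scheme.Modules.restrictFunctor j).obj (secObj W), j ⁻¹ᵁ W) from secEq W _ η) =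
    ScalarD.res r' (j ⁻¹ᵁ W) • (show Γ((Scheme.Modules.restrictFunctor j).obj (secObj W), j ⁻¹ᵁ W) from secEq W _ η)
  rw [h]

/-- Multiplication by a function on an open, in the derived category of a smaller open. -/
lemma rho_ptMul {U : Scheme.{u}} (j : U ⟶ X) [IsOpenImmersion j] {W : X.Opens} (k : ℤ) (r : Γ(X, W))
    (r' : Γ(U, ⊤)) (h : ScalarD.res r' (j ⁻¹ᵁ W) = j.app W r) :
    (rho j).map (ptMul k r) = mu r' ((rho j).obj (pt W k)) := by
  let e : (rho j).obj (pt W k) ≅ (DerivedCategory.singleFunctor U.Modules k).obj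
      ((Scheme.Modules.restrictFunctor j).obj (secObj W)) :=
    ((Scheme.Modules.restrictFunctor j).mapDerivedCategorySingleFunctor k).app (secObj W)
  rw [mu_of_iso r' e, ← Category.assoc, ← cancel_mono e.hom, Category.assoc, e.inv_hom_id,
    Category.comp_id]
  refine (((Scheme.Modules.restrictFunctor j).mapDerivedCategorySingleFunctor k).hom.naturality
    (sMul r)).trans (congrArg (e.hom ≫ ·) ?_)
  refine (congrArg (DerivedCategory.singleFunctor U.Modules k).map (restrict_sMul j r r' h)).trans ?_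
  exact (mu_single r' k _).symm

variable (f : X ⟶ Y) (V : Y.Opens)
variable [DCoh.HasRpush f] {hf : DCoh.RpushPreservesQCoh f} {a : DCoh.DQCoh Y ⥤ DCoh.DQCoh X}

/-- `Rj_* Z` as an object of `D_QCoh`. -/
noncomputable abbrev jObj [DCoh.HasRpush V.ι] (hj : DCoh.RpushPreservesQCoh V.ι)
    (Z : DCoh.DQCoh (V : Scheme.{u})) : DCoh.DQCoh Y :=
  (DCoh.RpushQ V.ι hj).obj Z

variable [DCoh.HasRpush V.ι] {hj : DCoh.RpushPreservesQCoh V.ι} (adjV : rho V.ι ⊣ DCoh.Rpush V.ι)
  (adj : DCoh.RpushQ f hf ⊣ a) (Z : DCoh.DQCoh (V : Scheme.{u}))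

include adjV adj in
/-- Objects of `D_QCoh` zero over `f⁻¹ V` map to zero in `a(Rj_* Z)`. -/
lemma hom_eq_zero {S : DCoh.DQCoh X} (hS : IsZero ((rho (f ⁻¹ᵁ V).ι).obj S.obj))
    (φ : S ⟶ a.obj (jObj V hj Z)) : φ = 0 := by
  haveI := hasRpush_scheme (f ∣_ V)
  obtain ⟨κ⟩ := nonempty_rpush_restrictD_iso f V
  haveI : (DCoh.Rpush (f ∣_ V)).PreservesZeroMorphisms := by
    haveI := hasLpull (f ∣_ V)
    obtain ⟨A⟩ := nonempty_lpull_rpush_adj (f ∣_ V)
    haveI := A.isRightAdjoint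
    exact inferInstance
  have hz : IsZero ((rho V.ι).obj ((DCoh.Rpush f).obj S.obj)) :=
    IsZero.of_iso (Functor.map_isZero (DCoh.Rpush (f ∣_ V)) hS) (κ.app S.obj)
  refine (adj.homEquiv _ _).symm.injective ?_
  apply ObjectProperty.hom_ext
  exact (adjV.homEquiv _ _).symm.injective (hz.eq_of_src _ _)

variable [QuasiCompact (f ⁻¹ᵁ V).ι]

include adjV adj in
/-- `a(Rj_* Z)` is pushed forward from `f⁻¹ V`. -/
theorem isIso_unit [DCoh.HasRpush (f ⁻¹ᵁ V).ι] (adjU : rho (f ⁻¹ᵁ V).ι ⊣ DCoh.Rpush (f ⁻¹ᵁ V).ι) :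
    IsIso (adjU.unit.app (a.obj (jObj V hj Z)).obj) := by
  let ι := (f ⁻¹ᵁ V).ι
  let M := (a.obj (jObj V hj Z)).obj
  let R := (DCoh.Rpush ι).obj ((rho ι).obj M)
  haveI : HasInjectiveResolutions (f ⁻¹ᵁ V : X.Opens).toScheme.Modules := hasInjectiveResolutions_modules
  obtain ⟨C, g, δ, hT⟩ := distinguished_cocone_triangle (adjU.unit.app M)
  refine (Triangle.isZero₃_iff_isIso₁ _ hT).1 ?_
  have hM : DCoh.IsQCohD M := (a.obj (jObj V hj Z)).property
  have hC : DCoh.IsQCohD C := isQCohD_obj₃ hT hM (isQCohD_rpush ι (isQCohD_rho ι hM))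
  haveI := isIso_restrictD_counit ι adjU
  haveI : IsIso ((rho ι).map (adjU.unit.app M)) := by
    haveI : IsIso ((rho ι).map (adjU.unit.app M) ≫ adjU.counit.app ((rho ι).obj M)) := by
      erw [adjU.left_triangle_components M]
      exact IsIso.id _
    exact IsIso.of_isIso_comp_right _ (adjU.counit.app ((rho ι).obj M))
  have hCU : IsZero ((rho ι).obj C) :=
    (Triangle.isZero₃_iff_isIso₁ _ ((rho ι).map_distinguished _ hT)).2
      (inferInstanceAs (IsIso ((rho ι).map (adjU.unit.app M))))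
  have hδ : δ = 0 := by
    let S : DCoh.DQCoh X := ⟨C⟦(-1 : ℤ)⟧, isQCohD_shift hC (-1)⟩
    have h0 : ∀ φ : C⟦(-1 : ℤ)⟧ ⟶ M, φ = 0 := fun φ => congrArg InducedCategory.Hom.hom
      (hom_eq_zero f V adjV adj Z (S := S)
        (((shiftFunctor _ (-1 : ℤ)).map_isZero hCU).of_iso (((rho ι).commShiftIso (-1 : ℤ)).app C))
        (ObjectProperty.homMk φ))
    refine (shiftFunctor (DCoh.D X) (-1)).map_injective ?_
    let u₁ := (shiftFunctorCompIsoId (DCoh.D X) (1 : ℤ) (-1) (by omega)).app M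
    refine (cancel_mono u₁.hom).1 ?_
    rw [Functor.map_zero, zero_comp]
    exact h0 _
  obtain ⟨s, hs⟩ := Triangle.coyoneda_exact₃ _ hT (𝟙 C)
    (show 𝟙 C ≫ δ = 0 by rw [hδ, comp_zero])
  have hs0 : s = 0 := (adjU.homEquiv _ _).symm.injective (hCU.eq_of_src _ _)
  refine (IsZero.iff_id_eq_zero _).2 ?_
  exact hs.trans (by rw [hs0]; exact zero_comp)

include adjV adj in
/-- Functions on `V` act on `a(Rj_* Z)` through `f`. -/
theorem rho_map_a [DCoh.HasRpush (f ⁻¹ᵁ V).ι] (adjU : rho (f ⁻¹ᵁ V).ι ⊣ DCoh.Rpush (f ⁻¹ᵁ V).ι)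
    (r : Γ((V : Scheme.{u}), ⊤)) (m : Z ⟶ Z) (hm : m.hom = mu r Z.obj) :
    (rho (f ⁻¹ᵁ V).ι).map (a.map ((DCoh.RpushQ V.ι hj).map m)).hom =
      mu ((f ∣_ V).appTop r) ((rho (f ⁻¹ᵁ V).ι).obj (a.obj (jObj V hj Z)).obj) := by
  haveI := hasRpush_scheme (f ∣_ V)
  haveI := isIso_unit f V (hj := hj) adjV adj Z adjU
  obtain ⟨κ⟩ := nonempty_rpush_restrictD_iso f V
  let M := a.obj (jObj V hj Z)
  obtain ⟨β, hβ⟩ := rho_map_surjective _ adjU (mu ((f ∣_ V).appTop r) ((rho (f ⁻¹ᵁ V).ι).obj M.obj))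
  suffices h : a.map ((DCoh.RpushQ V.ι hj).map m) = ObjectProperty.homMk β by
    rw [h]; exact hβ
  refine (adj.homEquiv _ _).symm.injective ?_
  rw [adj.homEquiv_counit, adj.homEquiv_counit]
  refine (adj.counit.naturality ((DCoh.RpushQ V.ι hj).map m)).trans ?_
  apply ObjectProperty.hom_ext
  change (adj.counit.app (jObj V hj Z)).hom ≫ (DCoh.Rpush V.ι).map m.hom =
    (DCoh.Rpush f).map β ≫ (adj.counit.app (jObj V hj Z)).hom
  refine (adjV.homEquiv _ _).symm.injective ?_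
  rw [adjV.homEquiv_naturality_right_symm, adjV.homEquiv_naturality_left_symm, hm]
  refine (mu_natural r _).trans ?_
  refine congrArg (· ≫ _) ?_
  have hn : (rho V.ι).map ((DCoh.Rpush f).map β) ≫ κ.hom.app M.obj =
      κ.hom.app M.obj ≫ (DCoh.Rpush (f ∣_ V)).map ((rho (f ⁻¹ᵁ V).ι).map β) := κ.hom.naturality β
  rw [hβ, rpush_mu] at hn
  refine (cancel_mono (κ.hom.app M.obj)).1 ?_
  rw [hn]
  exact (mu_natural r (κ.hom.app M.obj)).symm

include adjV adj in
/-- The action commutes with morphisms into `a(Rj_* Z)`. -/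
theorem comp_map_a [DCoh.HasRpush (f ⁻¹ᵁ V).ι] (adjU : rho (f ⁻¹ᵁ V).ι ⊣ DCoh.Rpush (f ⁻¹ᵁ V).ι)
    (r : Γ((V : Scheme.{u}), ⊤)) (m : Z ⟶ Z) (hm : m.hom = mu r Z.obj) {S : DCoh.D X} (s : S ⟶ S)
    (hs : (rho (f ⁻¹ᵁ V).ι).map s = mu ((f ∣_ V).appTop r) ((rho (f ⁻¹ᵁ V).ι).obj S))
    (χ : S ⟶ (a.obj (jObj V hj Z)).obj) :
    χ ≫ (a.map ((DCoh.RpushQ V.ι hj).map m)).hom = s ≫ χ := by
  haveI := isIso_unit f V (hj := hj) adjV adj Z adjU
  refine rho_map_injective _ adjU ?_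
  rw [Functor.map_comp, Functor.map_comp, rho_map_a f V adjV adj Z adjU r m hm, hs, mu_natural]

end Groth.Agent.KFlatLib.RALocal
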