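import Groth.Agent.KFlatLib.Scheme.RpushLocus
import Groth.Agent.KFlatLib.Scheme.RpushBound
import Groth.Agent.LimModLib.FP

/-!
# Direct images that are a locally free module in a single degree
-/

set_option linter.style.haveILetI false
set_option backward.isDefEq.respectTransparency false

universe u

open CategoryTheory CategoryTheory.Limits AlgebraicGeometry TopologicalSpace

attribute [local instance] HasDerivedCategory.standard

namespace Groth.Agent.KFlatLib.Locus

variable {X S : Scheme.{u}} (f : X ⟶ S) [IsProper f] [LocallyOfFinitePresentation f] {M : X.Modules}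
  (hfp : CohB1.IsFP M) (hfl : FlatMod.IsFlatOver f M) [DCoh.HasRpush f]

include hfp hfl

/-- `Rf_*M` is locally free of rank `r` in degree `i` exactly when the fibre cohomology is concentrated in
degree `i` and has dimension `r`. -/
theorem concentrated_iff (i : ℤ) (r : ℕ) :
    (∀ s : S, (∀ p : ℕ, CohIII.fiberRank f M p s = if (p : ℤ) = i then r else 0) ∧ (i < 0 → r = 0)) ↔
      ∃ V : S.Modules, FlatMod.IsFinLocFreeOfRank r V ∧
        Nonempty ((DCoh.Rpush f).obj (DCoh.inD X M) ≅ (DCoh.inD S V)⟦-i⟧) := by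
  haveI := hasInjectiveResolutions_modules (X := X)
  have hM := QCoh.isQCoh_of_isFP hfp
  let K := (DCoh.Rpush f).obj (DCoh.inD X M)
  constructor
  · intro h
    have hz : ∀ p : ℕ, (p : ℤ) ≠ i → IsZero ((Coh.Rpush f p).obj M) := fun p hp => by
      refine isZero_of_isZero_restrict _ fun y => ?_
      obtain ⟨_, ⟨W, hW, rfl⟩, hy, -⟩ :=
        S.isBasis_affineOpens.exists_subset_of_mem_open (Set.mem_univ y) isOpen_univ
      obtain ⟨A₀, _, hA, φ, P, hP⟩ := CohPullX.exists_isFpModel hfp hfl (show IsAffineOpen W from hW)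
      haveI := (hP.2.2.2.2.2 p y hy).2
      obtain ⟨U, hU, -, -, h0⟩ := CohPullX.exists_vanish_nhd hfp hfl y p
        (Module.finrank_zero_iff.1 (((h y).1 p).trans (if_neg hp)))
      exact ⟨U, hU, h0⟩
    have hHD : ∀ j : ℤ, j ≠ i → IsZero (DCoh.HD K j) := fun j hj => by
      rcases lt_or_ge j 0 with hj' | hj'
      · exact isZero_hd_rpush_of_lt f _ 0 j hj'
      · obtain ⟨p, rfl⟩ := Int.eq_ofNat_of_zero_le hj'
        exact (hz p hj).of_iso (nonempty_hd_rpush_single f M p).some
    haveI : K.IsGE i := (DerivedCategory.isGE_iff _ _).2 fun j hj => hHD j (by omega)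
    haveI : K.IsLE i := (DerivedCategory.isLE_iff _ _).2 fun j hj => hHD j (by omega)
    obtain ⟨V, ⟨e⟩⟩ := DerivedCategory.exists_iso_singleFunctor_obj_of_isGE_of_isLE K i
    refine ⟨V, fun y => ?_, ⟨e ≪≫
      (((DerivedCategory.singleFunctors S.Modules).shiftIso (-i) i 0 (by omega)).app V).symm⟩⟩
    let eV : DCoh.HD K i ≅ V := (DerivedCategory.homologyFunctor S.Modules i).mapIso e ≪≫
      (DerivedCategory.singleFunctorCompHomologyFunctorIso S.Modules i).app V
    rcases lt_or_ge i 0 with hi | hi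
    · have hV : IsZero V := (isZero_hd_rpush_of_lt f _ 0 i hi).of_iso eV.symm
      obtain rfl := (h y).2 hi
      exact ⟨⊤, trivial, ⟨((Scheme.Modules.restrictFunctor (⊤ : S.Opens).ι).map_isZero hV).iso
        (QCoh.isZero_freeMod_zero' _)⟩⟩
    · obtain ⟨p, rfl⟩ := Int.eq_ofNat_of_zero_le hi
      have hsub : ∀ q : ℕ, q ≠ p → Subsingleton (CohIII.fiberH f M y q) := fun q hq => by
        obtain ⟨_, ⟨W, hW, rfl⟩, hy, -⟩ :=
          S.isBasis_affineOpens.exists_subset_of_mem_open (Set.mem_univ y) isOpen_univ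
        obtain ⟨A₀, _, hA, φ, P, hP⟩ := CohPullX.exists_isFpModel hfp hfl (show IsAffineOpen W from hW)
        haveI := (hP.2.2.2.2.2 q y hy).2
        exact Module.finrank_zero_iff.1 (((h y).1 q).trans (if_neg (by omega)))
      obtain ⟨U, hU, ⟨eU⟩⟩ := CohPullX.exists_free_of_neighbours hfp hfl y p (hsub (p + 1) (by omega))
        (fun j hj => hsub j (by omega))
      refine ⟨U, hU, ⟨(Scheme.Modules.restrictFunctor U.ι).mapIso
        (eV.symm ≪≫ (nonempty_hd_rpush_single f M p).some) ≪≫ eU ≪≫ eqToIso (congrArg _ ?_)⟩⟩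
      exact ((h y).1 p).trans (if_pos rfl)
  · rintro ⟨V, hV, ⟨e⟩⟩ s
    let eH : ∀ j : ℤ, DCoh.HD K j ≅ DCoh.HD (DCoh.inD S V) (j - i) := fun j =>
      (DerivedCategory.homologyFunctor S.Modules j).mapIso e ≪≫
        ((DerivedCategory.homologyFunctor S.Modules 0).shiftIso (-i) j (j - i) (by omega)).app _
    obtain ⟨U, hsU, ⟨eU⟩⟩ := hV s
    obtain ⟨_, ⟨W, hW, rfl⟩, hsW, hWU⟩ :=
      S.isBasis_affineOpens.exists_subset_of_mem_open (show s ∈ U from hsU) U.isOpen
    have hW' : IsAffineOpen W := hW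
    refine ⟨fun p => ?_, fun hi => ?_⟩
    · refine fiberRank_of_free hfp hfl hW' hsW (fun q => if (q : ℤ) = i then r else 0) (fun q => ?_) p
      let eq : (Coh.Rpush f q).obj M ≅ DCoh.HD (DCoh.inD S V) ((q : ℤ) - i) :=
        (nonempty_hd_rpush_single f M q).some.symm ≪≫ eH q
      by_cases hq : (q : ℤ) = i
      · obtain ⟨l⟩ := QCoh.free_sections hW' hWU ((Scheme.Modules.restrictFunctor U.ι).mapIso
          (eq ≪≫ eqToIso (by rw [show ((q : ℤ) - i) = 0 by omega]) ≪≫ hdSingleIso V) ≪≫ eU ≪≫ eqToIso (congrArg _ (if_pos hq).symm))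
        exact ⟨l⟩
      · haveI : IsEmpty (ULift.{u} (Fin (if (q : ℤ) = i then r else 0))) := by rw [if_neg hq]; infer_instance
        haveI : Subsingleton Γ((Coh.Rpush f q).obj M, W) :=
          QCoh.subsingleton_Γ_of_isZero ((hd_single_isZero V _ (by omega)).of_iso eq) W
        exact ⟨LinearEquiv.ofSubsingleton _ _⟩
    · by_contra hr
      have hV0 : IsZero V := ((isZero_hd_rpush_of_lt f _ 0 i hi).of_iso (eH i).symm).of_iso
        ((hdSingleIso V).symm ≪≫ eqToIso (by rw [sub_self]))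
      haveI : Subsingleton Γ(V, W) := QCoh.subsingleton_Γ_of_isZero hV0 W
      obtain ⟨l⟩ := QCoh.free_sections hW' hWU eU
      haveI : Nontrivial Γ(S, W) := (S.presheaf.germ W s hsW).hom.domain_nontrivial
      haveI : Nonempty (Fin r) := ⟨⟨0, Nat.pos_of_ne_zero hr⟩⟩
      haveI := l.symm.toEquiv.subsingleton
      exact false_of_nontrivial_of_subsingleton (ULift.{u} (Fin r) →₀ Γ(S, W))

omit [DCoh.HasRpush f] in
/-- The locus where the direct image is locally free of rank `r` in degree `i`. -/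
theorem exists_locus (i : ℤ) (r : ℕ) :
    ∃ U : S.Opens, ∀ (T : Scheme.{u}) (g : T ⟶ S) [DCoh.HasRpush (pullback.snd f g)],
      Set.range g.base ⊆ (U : Set S) ↔
        ∃ V : T.Modules, FlatMod.IsFinLocFreeOfRank r V ∧
          Nonempty ((DCoh.Rpush (pullback.snd f g)).obj (DCoh.inD (pullback f g)
            ((Scheme.Modules.pullback (pullback.fst f g)).obj M)) ≅ (DCoh.inD T V)⟦-i⟧) := by
  refine ⟨⟨_, isOpen_locus hfp hfl i r⟩, fun T g _ => ?_⟩
  have sq := IsPullback.of_hasPullback f g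
  have hM := QCoh.isQCoh_of_isFP hfp
  have hfl' : FlatMod.IsFlatOver (pullback.snd f g) ((Scheme.Modules.pullback (pullback.fst f g)).obj M) :=
    fun x => MorLib.FlatBC.isFlatOverAt_baseChange f _ _ g sq M x (hfl _)
  refine Iff.trans ?_ (concentrated_iff (pullback.snd f g) (LimModLib.isFP_pullback _ hM hfp) hfl' i r)
  constructor
  · intro h t
    obtain ⟨h1, h2⟩ := h ⟨t, rfl⟩
    exact ⟨fun p => (fiberRank_baseChange hfp hfl sq p t).trans (h1 p), h2⟩
  · rintro h _ ⟨t, rfl⟩
    exact ⟨fun p => (fiberRank_baseChange hfp hfl sq p t).symm.trans ((h t).1 p), (h t).2⟩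

end Groth.Agent.KFlatLib.Locus
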