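import Groth.Agent.KFlatLib.Scheme.TensorOver
import Groth.Agent.KFlatLib.Scheme.RpushPerfectSupport

/-!
# Perfect direct images: the general criterion
-/

set_option linter.style.haveILetI false
set_option backward.isDefEq.respectTransparency false

universe u

open CategoryTheory CategoryTheory.Limits AlgebraicGeometry TopologicalSpace

attribute [local instance] HasDerivedCategory.standard

namespace Groth.Agent.KFlatLib

variable {X S : Scheme.{u}}

/-- Vanishing of tensor products with derived pullbacks passes to opens. -/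
lemma isZero_hd_ltensor_lpull_rho (f : X ⟶ S) [DCoh.HasLpull f] {U : Scheme.{u}} (j : U ⟶ X) [IsOpenImmersion j]
    [DCoh.HasLpull (j ≫ f)] (K : DCoh.D X) (F : S.Modules) (a b : ℤ)
    (h : ∀ (M : CochainComplex X.Modules ℤ) (_ : DerivedCategory.Q.obj M ≅ (DCoh.Lpull f).obj (DCoh.inD S F))
      [DCoh.HasLTensorCx M] (i : ℤ), (i < a ∨ b < i) → IsZero (DCoh.HD ((DCoh.LTensorCx M).obj K) i))
    (N : CochainComplex U.Modules ℤ) (eN : DerivedCategory.Q.obj N ≅ (DCoh.Lpull (j ≫ f)).obj (DCoh.inD S F))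
    [DCoh.HasLTensorCx N] (i : ℤ) (hi : i < a ∨ b < i) :
    IsZero (DCoh.HD ((DCoh.LTensorCx N).obj ((rho j).obj K)) i) := by
  haveI := hasLpull j
  let C := repK ((DCoh.Lpull f).obj (DCoh.inD S F))
  have hC : DCoh.IsKFlat C := isKFlat_repK _
  haveI := hasLTensorCx C
  let C' := (pullCx j).obj C
  haveI := hasLTensorCx C'
  obtain ⟨q⟩ := nonempty_rho_iso_lpull j
  obtain ⟨l⟩ := nonempty_lpull_ltensor j C hC K
  obtain ⟨d⟩ := nonempty_lpull_comp j f
  obtain ⟨c⟩ := nonempty_LTensorCx_congr_D (P := N) (E := C')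
    (eN ≪≫ (d.app _).symm ≪≫ (DCoh.Lpull j).mapIso (repKIso _).symm ≪≫ lpullIso j hC)
  have hz := (Scheme.Modules.restrictFunctor j).map_isZero (h C (repKIso _) i hi)
  exact (hz.of_iso (restrictHDIso j _ i)).of_iso ((DerivedCategory.homologyFunctor U.Modules i).mapIso
    (c.app _ ≪≫ (DCoh.LTensorCx C').mapIso (q.app K) ≪≫ l.symm ≪≫ (q.app _).symm))

/-- Direct images of bounded coherent objects with proper support, of finite tor amplitude over a noetherian
base, are perfect. -/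
theorem locSP_rpush_of_amp [IsNoetherian S] (f : X ⟶ S) [LocallyOfFiniteType f] [DCoh.HasRpush f] [DCoh.HasLpull f]
    (K : DCoh.D X) (c d : ℤ) (hz : ∀ i : ℤ, i < c ∨ d < i → IsZero (DCoh.HD K i))
    (hK : ∀ i, ProperCoh f (DCoh.HD K i)) (Z : Set X) (hZ : IsClosed Z) (hZc : IsCompact Z)
    (hsupp : ∀ i, CohB1.support (DCoh.HD K i) ⊆ Z) (a b : ℤ)
    (hamp : ∀ (F : S.Modules), Coh.IsQCoh F → ∀ (M : CochainComplex X.Modules ℤ)
      (_ : DerivedCategory.Q.obj M ≅ (DCoh.Lpull f).obj (DCoh.inD S F)) [DCoh.HasLTensorCx M]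
      (i : ℤ), (i < a ∨ b < i) → IsZero (DCoh.HD ((DCoh.LTensorCx M).obj K) i)) :
    LocSP ((DCoh.Rpush f).obj K) := by
  haveI : IsLocallyNoetherian X := LocallyOfFiniteType.isLocallyNoetherian f
  have hex : ∀ x : Z, ∃ V : X.Opens, IsAffineOpen V ∧ (x : X) ∈ V := fun x => by
    obtain ⟨V, hV, hxV, -⟩ := exists_isAffineOpen_mem_and_subset (x := (x : X)) (U := (⊤ : X.Opens)) trivial
    exact ⟨V, hV, hxV⟩
  choose V hV hxV using hex
  obtain ⟨t, ht⟩ := hZc.elim_finite_subcover (fun x : Z => (V x : Set X)) (fun x => (V x).2)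
    (fun x hx => Set.mem_iUnion.2 ⟨⟨x, hx⟩, hxV ⟨x, hx⟩⟩)
  let U : X.Opens := ⨆ x : t, V x
  have hUc : IsCompact (U : Set X) := by
    rw [Opens.coe_iSup]
    exact isCompact_iUnion fun x => (hV x).isCompact
  have hZU : Z ⊆ (U : Set X) := fun x hx => by
    obtain ⟨y, hy, hxy⟩ := Set.mem_iUnion₂.1 (ht hx)
    exact Opens.mem_iSup.2 ⟨⟨y, hy⟩, hxy⟩
  haveI : CompactSpace U := isCompact_iff_compactSpace.1 hUc
  let g := U.ι ≫ f
  haveI := hasRpush_scheme U.ι
  haveI := hasRpush_scheme g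
  haveI := hasRpush_scheme (U.ι ≫ f)
  haveI := hasLpull g
  haveI := hasLpull (U.ι ≫ f)
  haveI : IsLocallyNoetherian (U : Scheme.{u}) := isLocallyNoetherian_of_isOpenImmersion U.ι
  haveI : QuasiCompact g := quasiCompact_of_compactSpace g
  haveI : QuasiSeparated g := QuasiSeparated.of_quasiSeparatedSpace g
  let K' := (rho U.ι).obj K
  have hq : DCoh.IsQCohD K' := isQCohD_rho U.ι fun i => (hK i).1.1
  haveI : K.IsGE c := (DerivedCategory.isGE_iff _ _).2 fun i hi => hz i (Or.inl hi)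
  obtain ⟨hcoh, hbd⟩ := rpush_coherent_bounded f (d - c).toNat c K inferInstance
    ((DerivedCategory.isLE_iff _ _).2 fun i hi => hz i (Or.inr (by omega))) hK
  obtain ⟨b', hb'⟩ := hbd inferInstance
  obtain ⟨eK⟩ := nonempty_iso_rpush_restrict U Z hZ hZU K hsupp
  obtain ⟨cc⟩ := nonempty_rpush_comp U.ι f
  let e : (DCoh.Rpush f).obj K ≅ (DCoh.Rpush g).obj K' := (DCoh.Rpush f).mapIso eK ≪≫ cc.app K'
  obtain ⟨n, hn⟩ := exists_Rpush_bound g
  have hamp' := torAmplitude_rpush_gen g n (fun M hM p hp => hn M hM p hp.le) K' hq a b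
    (fun F hF N eN _ i hi => isZero_hd_ltensor_lpull_rho f U.ι K F a b
      (fun M eM _ k hk => hamp F hF M eM k hk) N eN i hi)
  refine LocSP.of_iso e.symm (locSP_of_flat_pc (le_max_left a (b + n))
    (flatAmplitude_of_torAmplitude hasLTensorMod (le_max_left a (b + n))
      (fun G _ i hi => hamp' G i (by omega))) ?_)
  exact (locPC_of_coh (isCohD_isQCohD hcoh) (fun i _ => hcoh i) b' hb').of_iso e

end Groth.Agent.KFlatLib
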