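import Groth.Agent.KFlatLib.Scheme.LocFinite
import Groth.Agent.KFlatLib.Scheme.DQCohCompact
import Groth.Agent.KFlatLib.Scheme.CohD
import Groth.Agent.KFlatLib.Scheme.TildePC

/-!
# Perfect objects on an open of an affine scheme are retracts of restricted perfect objects
-/

set_option linter.style.haveILetI false
set_option backward.isDefEq.respectTransparency false

universe u

open CategoryTheory CategoryTheory.Limits AlgebraicGeometry Pretriangulated ZeroObject

attribute [local instance] HasDerivedCategory.standard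

namespace Groth.Agent.KFlatLib.SummandLift

variable {A : Type u} [CommRing A] [PreservesFiniteLimits (tilde.functor (CommRingCat.of A))] (fs : List A)

local notation "jU" => Scheme.Opens.ι (KoszulOrth.pU fs)

lemma basicOpen_subset (f : A) (hf : f ∈ fs) : (PrimeSpectrum.basicOpen f : Set (PrimeSpectrum A)) ⊆
    ((KoszulOrth.pU fs : (Spec (CommRingCat.of A)).Opens) : Set (Spec (CommRingCat.of A))) := fun p hp =>
  (KoszulOrth.mem_pU_iff fs p).2 ⟨f, hf, hp⟩

/-- Torsion cohomology vanishes over the punctured spectrum. -/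
lemma isZero_hd_restrict (M : Dual.D A) (i : ℤ)
    (ht : ∀ f ∈ fs, ∀ x : Dual.HD A M i, ∃ k : ℕ, f ^ k • x = 0) :
    IsZero (DCoh.HD ((rho jU).obj (KoszulOrth.tld M)) i) := by
  let E := DCoh.HD (KoszulOrth.tld M) i
  have h := isIso_restrict_of_stalk (KoszulOrth.pU fs) (0 : E ⟶ E) fun x hx => by
    haveI : Subsingleton (E.presheaf.stalk x) := not_nontrivial_iff_subsingleton.1 fun h => by
      obtain ⟨f, hf, hfx⟩ := (KoszulOrth.mem_pU_iff fs x).1 hx
      refine not_subsingleton_iff_nontrivial.2 ((KoszulOrth.nontrivial_stalk_tld M i x).1 h)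
        (LocalizedModule.subsingleton_iff.2 fun z => ?_)
      obtain ⟨k, hk⟩ := ht f hf z
      exact ⟨f ^ k, x.asIdeal.primeCompl.pow_mem hfx k, hk⟩
    exact (ConcreteCategory.isIso_iff_bijective _).2
      ⟨fun a b _ => Subsingleton.elim (α := E.presheaf.stalk x) a b,
        fun a => ⟨a, Subsingleton.elim (α := E.presheaf.stalk x) _ a⟩⟩
  rw [Functor.map_zero] at h
  exact ((IsZero.iff_id_eq_zero _).2 ((isIsoZeroEquiv _ _).toFun h).1).of_iso (restrictHDIso _ _ i)

/-- Cohomology vanishing over the punctured spectrum is torsion. -/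
lemma torsion_of_isZero_hd (M : Dual.D A) (i : ℤ) (hz : IsZero (DCoh.HD ((rho jU).obj (KoszulOrth.tld M)) i)) :
    ∀ f ∈ fs, ∀ x : Dual.HD A M i, ∃ k : ℕ, f ^ k • x = 0 := by
  intro f hf x
  let I : Ideal A := LinearMap.ker (LinearMap.toSpanSingleton A (Dual.HD A M i) x)
  suffices f ∈ I.radical by
    obtain ⟨k, hk⟩ := this
    exact ⟨k, LinearMap.mem_ker.1 hk⟩
  rw [Ideal.radical_eq_sInf, Submodule.mem_sInf]
  rintro P ⟨hIP, hP⟩
  by_contra hfP
  let p : Spec (CommRingCat.of A) := (⟨P, hP⟩ : PrimeSpectrum A)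
  have hpU : p ∈ KoszulOrth.pU fs := (KoszulOrth.mem_pU_iff fs p).2 ⟨f, hf, hfP⟩
  have hz' : IsZero ((Scheme.Modules.restrictFunctor jU).obj (DCoh.HD (KoszulOrth.tld M) i)) :=
    hz.of_iso (restrictHDIso jU _ i).symm
  haveI hq : Subsingleton (((Scheme.Modules.restrictFunctor jU).obj (DCoh.HD (KoszulOrth.tld M) i)).presheaf.stalk
      (⟨p, hpU⟩ : KoszulOrth.pU fs)) :=
    ModuleCat.subsingleton_of_isZero
      ((DerSch.stalkFunctor (KoszulOrth.pU fs : Scheme.{u}) (⟨p, hpU⟩ : KoszulOrth.pU fs)).map_isZero hz')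
  have : Subsingleton (LocalizedModule p.asIdeal.primeCompl (Dual.HD A M i)) :=
    not_nontrivial_iff_subsingleton.1 fun h =>
      not_nontrivial_iff_subsingleton.2
        (((Scheme.Modules.restrictStalkNatIso jU (⟨p, hpU⟩ : KoszulOrth.pU fs)).app
          (DCoh.HD (KoszulOrth.tld M) i)).addCommGroupIsoToAddEquiv.toEquiv.subsingleton_congr.1 hq)
        ((KoszulOrth.nontrivial_stalk_tld M i p).2 h)
  obtain ⟨r, hr, hrx⟩ := LocalizedModule.subsingleton_iff.1 this x
  exact hr (hIP (LinearMap.mem_ker.2 hrx))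

/-- A finitely generated submodule which is everything over the punctured spectrum. -/
theorem exists_finset (C : Dual.D A) (m : ℤ)
    (hC : LocSP ((rho jU).obj (KoszulOrth.tld C)))
    (hz : ∀ i, m < i → IsZero (DCoh.HD ((rho jU).obj (KoszulOrth.tld C)) i)) :
    ∃ S : Finset (Dual.HD A C m), ∀ f ∈ fs, ∀ h : Dual.HD A C m,
      ∃ k : ℕ, f ^ k • h ∈ Submodule.span A (S : Set (Dual.HD A C m)) := by
  classical
  suffices ∀ l : List A, (∀ f ∈ l, f ∈ fs) → ∃ S : Finset (Dual.HD A C m), ∀ f ∈ l, ∀ h : Dual.HD A C m,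
      ∃ k : ℕ, f ^ k • h ∈ Submodule.span A (S : Set (Dual.HD A C m)) from this fs fun _ h => h
  intro l
  induction l with
  | nil => exact fun _ => ⟨∅, fun f hf => absurd hf List.not_mem_nil⟩
  | cons g l ih =>
    intro hl
    obtain ⟨S, hS⟩ := ih fun f hf => hl f (List.mem_cons_of_mem _ hf)
    obtain ⟨S', hS'⟩ := LocFinite.exists_finset_top (KoszulOrth.pU fs) C m hC hz g
      (basicOpen_subset fs g (hl g List.mem_cons_self))
    refine ⟨S ∪ S', fun f hf h => ?_⟩
    rcases List.mem_cons.1 hf with rfl | hf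
    · exact (hS' h).imp fun k hk => Submodule.span_mono (by simp) hk
    · exact (hS f hf h).imp fun k hk => Submodule.span_mono (by simp) hk

/-- A finite free module in one degree is perfect. -/
lemma isPerfect_free (n : ℕ) (i : ℤ) : DRing.IsPerfect A
    ((DerivedCategory.singleFunctor (ModuleCat.{u} A) i).obj (ModuleCat.of A (Fin n → A))) :=
  H9Misc.DRingPC.isPerfect_single ⟨(HomologicalComplex.single (ModuleCat.{u} A) (ComplexShape.up ℤ) 0).obj
    (ModuleCat.of A (Fin n → A)), 0, 0,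
    fun j hj => HomologicalComplex.isZero_single_obj_X (ComplexShape.up ℤ) 0 _ j (by omega),
    fun j => by
      rcases eq_or_ne j 0 with h | h
      · subst h
        let e := (HomologicalComplex.singleObjXSelf (ComplexShape.up ℤ) 0
          (ModuleCat.of A (Fin n → A))).toLinearEquiv
        exact ⟨Module.Finite.equiv e.symm, Module.Projective.of_equiv e.symm⟩
      · haveI := ModuleCat.subsingleton_of_isZero (HomologicalComplex.isZero_single_obj_X (ComplexShape.up ℤ) 0
          (ModuleCat.of A (Fin n → A)) j h)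
        exact ⟨inferInstance, Module.Projective.of_free⟩,
    ⟨((DerivedCategory.singleFunctorIsoCompQ (ModuleCat.{u} A) 0).app _).symm⟩⟩

/-- Killing the top cohomology over the punctured spectrum by a finite free module. -/
theorem exists_step (C : Dual.D A) (m : ℤ)
    (hC : LocSP ((rho jU).obj (KoszulOrth.tld C)))
    (hz : ∀ i, m < i → IsZero (DCoh.HD ((rho jU).obj (KoszulOrth.tld C)) i)) :
    ∃ (N C' : Dual.D A) (φ : N ⟶ C) (u : C ⟶ C') (v : C' ⟶ N⟦(1 : ℤ)⟧),
      Triangle.mk φ u v ∈ distTriang _ ∧ DRing.IsPerfect A N ∧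
      ∀ i, m ≤ i → IsZero (DCoh.HD ((rho jU).obj (KoszulOrth.tld C')) i) := by
  obtain ⟨S, hS⟩ := exists_finset fs C m hC hz
  let H := DerivedCategory.homologyFunctor (ModuleCat.{u} A)
  let F := ModuleCat.of A (Fin S.card → A)
  let v : Fin S.card → (H m).obj C := fun i => (S.equivFin.symm i : Dual.HD A C m)
  let g : F ⟶ (H m).obj C := ModuleCat.ofHom (Fintype.linearCombination A v)
  obtain ⟨φ, hφ⟩ := (bijective_psiC_of_projective (P := F) m C).2 g
  obtain ⟨C', u, w, hT⟩ := distinguished_cocone_triangle φ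
  refine ⟨_, C', φ, u, w, hT, isPerfect_free _ m, fun i hi => isZero_hd_restrict fs C' i fun f hf x => ?_⟩
  have hzN : ∀ j, j ≠ m → IsZero ((H j).obj ((DerivedCategory.singleFunctor (ModuleCat.{u} A) m).obj F)) :=
    fun j hj => (ShortComplex.isZero_homology_of_isZero_X₂ _
      (HomologicalComplex.isZero_single_obj_X (ComplexShape.up ℤ) m F j hj)).of_iso
        ((H j).mapIso (singleQ m F) ≪≫ (DerivedCategory.homologyFunctorFactors _ j).app _)
  have hepi : Epi ((H i).map u) := (DerivedCategory.HomologySequence.exact₃ _ hT i (i + 1) rfl).epi_f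
    ((hzN (i + 1) (by omega)).eq_of_tgt _ _)
  obtain ⟨y, rfl⟩ := (ModuleCat.epi_iff_surjective _).1 hepi x
  rcases eq_or_lt_of_le hi with rfl | hlt
  · obtain ⟨k, hk⟩ := hS f hf y
    refine ⟨k, ?_⟩
    rw [← map_smul]
    have hg : f ^ k • y ∈ LinearMap.range g.hom := by
      show f ^ k • y ∈ LinearMap.range (Fintype.linearCombination A v)
      rw [Fintype.range_linearCombination]
      refine Submodule.span_mono (t := Set.range v) (fun s hs => Set.mem_range.2 ⟨S.equivFin ⟨s, hs⟩, by simp [v]⟩) hk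
    obtain ⟨z, hz'⟩ := hg
    rw [← hz', ← hφ]
    show (H m).map u ((H m).map φ ((hSingle m F).inv z)) = 0
    rw [← ModuleCat.comp_apply, ← Functor.map_comp]
    have h0 : φ ≫ u = 0 := comp_distTriang_mor_zero₁₂ _ hT
    rw [h0, Functor.map_zero]
    rfl
  · let e := restrictHDIso jU (KoszulOrth.tld C) i
    obtain ⟨eH⟩ := KoszulOrth.nonempty_hd_tld C i
    have hzero := torsion_of_isZero_hd fs C i (hz i hlt) f hf y
    obtain ⟨k, hk⟩ := hzero
    exact ⟨k, by rw [← map_smul, hk, map_zero]⟩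

/-- Perfect objects on a quasi-compact open of an affine scheme are retracts of restrictions of perfect ones. -/
theorem exists_retract (F : DCoh.D (KoszulOrth.pU fs : Scheme.{u})) (hF : LocSP F) :
    ∃ (P : Dual.D A) (s : F ⟶ (rho jU).obj (KoszulOrth.tld P)) (r : (rho jU).obj (KoszulOrth.tld P) ⟶ F),
      DRing.IsPerfect A P ∧ s ≫ r = 𝟙 F := by
  haveI := hasRpush_scheme jU
  haveI := KoszulOrth.quasiCompact_pU fs
  haveI : CompactSpace (KoszulOrth.pU fs) := QuasiCompact.compactSpace_of_compactSpace jU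
  haveI : QuasiSeparatedSpace (KoszulOrth.pU fs) := quasiSeparatedSpace_of_quasiSeparated jU
  obtain ⟨M, ⟨eM⟩⟩ := exists_tildeD_iso (R := CommRingCat.of A) (isQCohD_rpush jU (AffineLift.isQCohD_of_locSP hF))
  obtain ⟨iso⟩ := nonempty_rpush_restrictD_id jU
  let e : (rho jU).obj (KoszulOrth.tld M) ≅ F := (rho jU).mapIso eM ≪≫ iso.app F
  obtain ⟨b₁, hb₁⟩ := exists_bound_of_locPC (hF.locPC 0)
  obtain ⟨b₀, hb₀⟩ := DQCompact.exists_bound hF
  have key : ∀ k : ℕ, ∃ (C P : Dual.D A) (q : M ⟶ C) (d : C ⟶ P) (p : P ⟶ M⟦(1 : ℤ)⟧),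
      Triangle.mk q d p ∈ distTriang _ ∧ DRing.IsPerfect A P ∧
      ∀ i, b₁ - (k : ℤ) < i → IsZero (DCoh.HD ((rho jU).obj (KoszulOrth.tld C)) i) := by
    intro k
    induction k with
    | zero =>
      refine ⟨M, 0, 𝟙 M, 0, 0, contractible_distinguished M, H9Misc.DRingPC.isPerfect_of_isZero (isZero_zero _),
        fun i hi => (hb₁ i (by simpa using hi)).of_iso ((DerivedCategory.homologyFunctor _ i).mapIso e)⟩
    | succ k ih =>
      obtain ⟨C, P, q, d, p, hT, hP, hz⟩ := ih
      have hP' : LocSP ((rho jU).obj (KoszulOrth.tld P)) :=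
        ((isPerfect_iff _).1 ((perfect_tildeD_iff (R := CommRingCat.of A) P).2 hP)).restrict' jU
      have hC : LocSP ((rho jU).obj (KoszulOrth.tld C)) :=
        (locSP_two_of_three _ ((rho jU).map_distinguished _
          ((DCoh.tildeD (CommRingCat.of A)).map_distinguished _ hT))).2.1 (hF.of_iso e.symm) hP'
      obtain ⟨N, C', φ, u, v, hN, hNP, hz'⟩ := exists_step fs C (b₁ - (k : ℤ)) hC hz
      obtain ⟨P', d', p', hT'⟩ := distinguished_cocone_triangle (q ≫ u)
      let o := Triangulated.someOctahedron rfl hT (rot_of_distTriang _ hN) hT'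
      refine ⟨C', P', q ≫ u, d', p', hT', H9Misc.DRingPC.isPerfect₂ _ o.mem hP (H9Misc.DRingPC.isPerfect_shift hNP 1),
        fun i hi => hz' i (by push_cast at hi; omega)⟩
  obtain ⟨C, P, q, d, p, hT, hP, hz⟩ := key (b₁ - b₀).toNat
  let R := DCoh.tildeD (CommRingCat.of A) ⋙ rho jU
  haveI hle : DerivedCategory.IsLE (R.obj C) b₀ :=
    (DerivedCategory.isLE_iff _ _).2 fun i hi => hz i (by omega)
  have h0 : e.inv ≫ R.map q = 0 :=
    hb₀ (R.obj C) (isQCohD_rho jU (isQCohD_tildeD (CommRingCat.of A) C)) hle _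
  have hT₁ := (rho jU).map_distinguished _
    ((DCoh.tildeD (CommRingCat.of A)).map_distinguished _ (inv_rot_of_distTriang _ hT))
  obtain ⟨s, hs⟩ := Triangle.coyoneda_exact₂ _ hT₁ e.inv h0
  refine ⟨P⟦(-1 : ℤ)⟧, s, (rho jU).map ((DCoh.tildeD (CommRingCat.of A)).map (Triangle.mk q d p).invRotate.mor₁) ≫ e.hom,
    H9Misc.DRingPC.isPerfect_shift hP (-1), ?_⟩
  rw [← Category.assoc]
  exact (congrArg (· ≫ e.hom) hs.symm).trans e.inv_hom_id

end Groth.Agent.KFlatLib.SummandLift
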