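import Groth.Agent.KFlatLib.Scheme.TorBC
import Groth.Agent.KFlatLib.Scheme.TensorOver
import Groth.Agent.KFlatLib.Scheme.RelTor

/-!
# Base change maps on tensor products with modules flat over the base
-/

set_option linter.style.haveILetI false
set_option backward.isDefEq.respectTransparency false

universe u

open CategoryTheory CategoryTheory.Limits AlgebraicGeometry Opposite

attribute [local instance] HasDerivedCategory.standard

namespace Groth.Agent.KFlatLib.TorBC

open FlatBC

variable {X Y X' S S' : Scheme.{u}}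

local notation "Kh" X:max => HomotopyCategory (Scheme.Modules X) (ComplexShape.up ℤ)
local notation "qq" X:max => HomotopyCategory.quotient (Scheme.Modules X) (ComplexShape.up ℤ)

/-- A module whose sections over `O` are those over `O ⊓ V` is pushed forward from `V`. -/
lemma isIso_pushUnit_of_bijective (V : X.Opens) (N : X.Modules)
    (hb : ∀ O : X.Opens, Function.Bijective (QCoh.rs N (inf_le_left : O ⊓ V ≤ O))) :
    IsIso ((pushUnit V).app N) := by
  refine QCoh.isIso_of_isBasis _ X.isBasis_affineOpens fun O _ => ?_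
  have e : V.ι ''ᵁ (V.ι ⁻¹ᵁ O) = O ⊓ V := by rw [image_preimage_ι, inf_comm]
  have key : ∀ y, ((pushUnit V).app N).app O y = QCoh.rs N e.le (QCoh.rs N inf_le_left y) := fun y => by
    rw [QCoh.rs_rs, Scheme.Modules.restrictAdjunction_unit_app_app]
    rfl
  have h := (bijective_rs_of_eq N e).comp (hb O)
  exact (funext key : (((pushUnit V).app N).app O : _ → _) = _) ▸ h

/-- Direct images along affine morphisms of modules flat over the base are flat. -/
theorem isFlat_pushforward_of_flatOver (p : Y ⟶ X) [IsAffineHom p] {M : Y.Modules} (hM : Coh.IsQCoh M)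
    (hflat : FlatMod.IsFlatOver p M) : FlatMod.IsFlat ((Scheme.Modules.pushforward p).obj M) := by
  refine (isFlatOver_id_iff _).1 ((QCoh.isFlatOver_iff _
    (QCoh.isQCoh_pushforward p hM)).2 fun U V hle hU hV => ?_)
  letI : Module Γ(X, V) Γ(M, p ⁻¹ᵁ U) :=
    Module.compHom _ (p.appLE V (p ⁻¹ᵁ U) (p.preimage_mono hle)).hom
  have h : Module.Flat Γ(X, V) Γ(M, p ⁻¹ᵁ U) :=
    (QCoh.isFlatOver_iff p hM).1 hflat (p ⁻¹ᵁ U) V (p.preimage_mono hle) (hU.preimage p) hV
  letI : Module Γ(X, V) Γ((Scheme.Modules.pushforward p).obj M, U) :=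
    Module.compHom _ ((𝟙 X : X ⟶ X).appLE V U hle).hom
  refine Module.Flat.of_linearEquiv (M := Γ(M, p ⁻¹ᵁ U))
    { toFun := fun y => y
      invFun := fun y => y
      left_inv := fun _ => rfl
      right_inv := fun _ => rfl
      map_add' := fun _ _ => rfl
      map_smul' := fun a y => ?_ }
  exact congrArg (fun r : Γ(Y, p ⁻¹ᵁ U) => r • (show Γ(M, p ⁻¹ᵁ U) from y))
    (show p.app U ((𝟙 X : X ⟶ X).appLE V U hle a) = p.appLE V (p ⁻¹ᵁ U) (p.preimage_mono hle) a by
      rw [← Scheme.Hom.appLE_eq_app, ← CommRingCat.comp_apply, Scheme.Hom.appLE_comp_appLE]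
      simp only [Category.comp_id])

/-- A natural transformation into a functor computed by a counit on resolutions. -/
theorem exists_natTrans_of_counit {C : Type*} [Category C] {D : Type*} [Category D] {H : Type*} [Category H]
    (L : C ⥤ D) (W : MorphismProperty C) [L.IsLocalization W] (P : C ⥤ C) (ψ : P ⟶ 𝟭 C) (hψ : ∀ X, W (ψ.app X))
    {F : C ⥤ H} {A B : D ⥤ H} (β : L ⋙ A ⟶ F) (c : L ⋙ B ⟶ F) (hc : ∀ X, IsIso (c.app (P.obj X))) :
    ∃ φ : A ⟶ B, ∀ X, φ.app (L.obj X) ≫ c.app X = β.app X := by
  haveI : ∀ X, IsIso (L.map (ψ.app X)) := fun X => Localization.inverts L W _ (hψ X)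
  haveI := hc
  let φ₀ : L ⋙ A ⟶ L ⋙ B :=
    { app := fun X => inv (A.map (L.map (ψ.app X))) ≫ β.app (P.obj X) ≫ inv (c.app (P.obj X)) ≫
        B.map (L.map (ψ.app X))
      naturality := fun X Y f => by
        have e : ψ.app X ≫ f = P.map f ≫ ψ.app Y := (ψ.naturality f).symm
        have h₁ : A.map (L.map (ψ.app X)) ≫ A.map (L.map f) =
            A.map (L.map (P.map f)) ≫ A.map (L.map (ψ.app Y)) := by
          simp only [← Functor.map_comp, e]
        have h₂ : B.map (L.map (ψ.app X)) ≫ B.map (L.map f) =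
            B.map (L.map (P.map f)) ≫ B.map (L.map (ψ.app Y)) := by
          simp only [← Functor.map_comp, e]
        have hb : A.map (L.map (P.map f)) ≫ β.app (P.obj Y) = β.app (P.obj X) ≫ F.map (P.map f) :=
          β.naturality (P.map f)
        have hc' : B.map (L.map (P.map f)) ≫ c.app (P.obj Y) = c.app (P.obj X) ≫ F.map (P.map f) :=
          c.naturality (P.map f)
        rw [← cancel_epi (A.map (L.map (ψ.app X)))]
        dsimp
        rw [reassoc_of% h₁, IsIso.hom_inv_id_assoc, reassoc_of% hb]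
        simp only [Category.assoc, IsIso.hom_inv_id_assoc]
        rw [h₂]
        refine congrArg (β.app (P.obj X) ≫ ·) ?_
        rw [← cancel_epi (c.app (P.obj X)), IsIso.hom_inv_id_assoc, ← reassoc_of% hc', IsIso.hom_inv_id_assoc] }
  refine ⟨Localization.liftNatTrans L W (L ⋙ A) (L ⋙ B) A B φ₀, fun X => ?_⟩
  have e : (Localization.liftNatTrans L W (L ⋙ A) (L ⋙ B) A B φ₀).app (L.obj X) = φ₀.app X := by
    simp [Localization.Lifting.iso]
  rw [e]
  have h₁ : B.map (L.map (ψ.app X)) ≫ c.app X = c.app (P.obj X) ≫ F.map (ψ.app X) := c.naturality (ψ.app X)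
  have h₂ : A.map (L.map (ψ.app X)) ≫ β.app X = β.app (P.obj X) ≫ F.map (ψ.app X) := β.naturality (ψ.app X)
  simp only [φ₀, Category.assoc]
  rw [h₁, IsIso.inv_hom_id_assoc, IsIso.inv_comp_eq, h₂]

section BC

variable {f : X ⟶ S} {g : S' ⟶ S} {g' : X' ⟶ X} {f' : X' ⟶ S'}
  [DCoh.HasRpush f] [DCoh.HasRpush g] [DCoh.HasLpull g] [DCoh.HasRpush f'] [DCoh.HasRpush g']
  [DCoh.HasLpull g']

/-- The base change map followed by the comparison is invertible on complexes where the functors on the base are
computed termwise. -/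
theorem isIso_baseChangeApp_comp_alpha {A : DCoh.Lpull g ⊣ DCoh.Rpush g}
    (hA : ∀ K : Kh S, A.unit.app (DerivedCategory.Qh.obj K) ≫ (DCoh.Rpush g).map ((alpha g).app K) =
      DerivedCategory.Qh.map ((adjH g).unit.app K) ≫ (beta g).app ((pullH g).obj K))
    {A' : DCoh.Lpull g' ⊣ DCoh.Rpush g'}
    (hA' : ∀ K : Kh X, A'.unit.app (DerivedCategory.Qh.obj K) ≫ (DCoh.Rpush g').map ((alpha g').app K) =
      DerivedCategory.Qh.map ((adjH g').unit.app K) ≫ (beta g').app ((pullH g').obj K))
    (hw : g' ≫ f = f' ≫ g) (e : DCoh.Rpush g' ⋙ DCoh.Rpush f ≅ DCoh.Rpush f' ⋙ DCoh.Rpush g)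
    (he : ∀ M : Kh X', ((beta f).app ((pushH g').obj M) ≫ (DCoh.Rpush f).map ((beta g').app M)) ≫
        e.hom.app (DerivedCategory.Qh.obj M) =
      (squareH hw).hom.app M ≫ (beta g).app ((pushH f').obj M) ≫ (DCoh.Rpush g).map ((beta f').app M))
    (I : CochainComplex X.Modules ℤ)
    (h₂ : IsIso ((alpha g).app ((pushH f).obj ((qq X).obj I))))
    (h₃ : IsIso ((beta f).app ((qq X).obj I))) (h₄ : IsIso ((beta f').app ((qq X').obj ((pullCx g').obj I))))
    (hbc : ∀ n, IsIso (bcMod hw (I.X n))) :
    IsIso (DCoh.baseChangeApp A A' e (DerivedCategory.Qh.obj ((qq X).obj I)) ≫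
      (DCoh.Rpush f').map ((alpha g').app ((qq X).obj I))) := by
  let G := fun {W W' : Scheme.{u}} (u : W ⟶ W') =>
    (Scheme.Modules.pushforward u).mapHomologicalComplex (ComplexShape.up ℤ)
  let J := (pullCx g').obj I
  let m : I ⟶ (G g').obj J :=
    { f := fun n => (Scheme.Modules.pullbackPushforwardAdjunction g').unit.app (I.X n)
      comm' := fun i j _ => ((Scheme.Modules.pullbackPushforwardAdjunction g').unit.naturality (I.d i j)).symm }
  let c : (G f).obj I ⟶ (G g).obj ((G f').obj J) := (G f).map m ≫ (squareCx hw J).hom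
  let χ := transposeCx c
  haveI : ∀ n, IsIso (χ.f n) := fun n => hbc n
  haveI : IsIso χ := HomologicalComplex.Hom.isIso_of_components χ
  let qI := (qq X).obj I
  let qJ := (qq X').obj J
  let θ := DCoh.baseChangeApp A A' e (DerivedCategory.Qh.obj qI)
  have h5 : DerivedCategory.Qh.map ((qq S).map c) =
      (DCoh.pushKh f).map ((adjH g').unit.app qI) ≫ (squareH hw).hom.app ((pullH g').obj qI) :=
    (congrArg DerivedCategory.Qh.map ((qq S).map_comp ((G f).map m) (squareCx hw J).hom)).trans
      (DerivedCategory.Qh.map_comp _ _)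
  have h6 : A.homEquiv _ _ ((DCoh.Lpull g).map ((beta f).app qI) ≫ θ ≫
      (DCoh.Rpush f').map ((alpha g').app qI)) =
        A.homEquiv _ _ ((alpha g).app ((qq S).obj ((G f).obj I)) ≫ DerivedCategory.Qh.map ((qq S').map χ) ≫
          (beta f').app qJ) := by
    dsimp only [θ, DCoh.baseChangeApp]
    rw [A.homEquiv_naturality_left]
    erw [A.homEquiv_naturality_right]
    erw [Equiv.apply_symm_apply]
    refine (unit_map_comp hA' hw e he qI).trans ?_
    erw [← h5]
    refine Eq.trans ?_ (congrArg (A.homEquiv _ _) (Category.assoc _ _ _))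
    rw [A.homEquiv_naturality_right]
    erw [homEquiv_alpha hA, homEquiv_transposeCx, Category.assoc]
    rfl
  have key := (A.homEquiv _ _).injective h6
  haveI := h₃
  change IsIso (θ ≫ (DCoh.Rpush f').map ((alpha g').app qI))
  haveI : IsIso ((DCoh.Lpull g).map ((beta f).app qI) ≫ θ ≫ (DCoh.Rpush f').map ((alpha g').app qI)) := by
    rw [key]
    exact IsIso.comp_isIso' h₂ (IsIso.comp_isIso' inferInstance h₄)
  exact IsIso.of_isIso_comp_left ((DCoh.Lpull g).map ((beta f).app qI)) _

/-- On a quasi-coherent module pushed forward from an affine open, with flat direct image on the base, the base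
change map is invertible once followed by the comparison. -/
theorem isIso_baseChangeApp_comp_single [IsAffine S] [IsAffine S'] (h : IsPullback g' f' f g) [IsSeparated f] [QuasiCompact f]
    {A : DCoh.Lpull g ⊣ DCoh.Rpush g}
    (hA : ∀ K : Kh S, A.unit.app (DerivedCategory.Qh.obj K) ≫ (DCoh.Rpush g).map ((alpha g).app K) =
      DerivedCategory.Qh.map ((adjH g).unit.app K) ≫ (beta g).app ((pullH g).obj K))
    {A' : DCoh.Lpull g' ⊣ DCoh.Rpush g'}
    (hA' : ∀ K : Kh X, A'.unit.app (DerivedCategory.Qh.obj K) ≫ (DCoh.Rpush g').map ((alpha g').app K) =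
      DerivedCategory.Qh.map ((adjH g').unit.app K) ≫ (beta g').app ((pullH g').obj K))
    (e : DCoh.Rpush g' ⋙ DCoh.Rpush f ≅ DCoh.Rpush f' ⋙ DCoh.Rpush g)
    (he : ∀ M : Kh X', ((beta f).app ((pushH g').obj M) ≫ (DCoh.Rpush f).map ((beta g').app M)) ≫
        e.hom.app (DerivedCategory.Qh.obj M) =
      (squareH h.w).hom.app M ≫ (beta g).app ((pushH f').obj M) ≫ (DCoh.Rpush g).map ((beta f').app M))
    {M : X.Modules} (hM : Coh.IsQCoh M) (V : X.Opens) (hV : IsAffineOpen V)
    (hb : ∀ O : X.Opens, Function.Bijective (QCoh.rs M (inf_le_left : O ⊓ V ≤ O)))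
    (hflat : FlatMod.IsFlat ((Scheme.Modules.pushforward f).obj M)) (n : ℤ) :
    IsIso (DCoh.baseChangeApp A A' e
        (DerivedCategory.Qh.obj ((qq X).obj ((HomologicalComplex.single X.Modules (ComplexShape.up ℤ) n).obj M))) ≫
      (DCoh.Rpush f').map ((alpha g').app
        ((qq X).obj ((HomologicalComplex.single X.Modules (ComplexShape.up ℤ) n).obj M)))) := by
  haveI : IsAffine (V : Scheme.{u}) := hV
  haveI : IsAffineHom g' := MorphismProperty.of_isPullback (P := @IsAffineHom) h.flip inferInstance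
  haveI : IsAffineHom V.ι := by
    haveI : IsAffineHom (V.ι ≫ f) := isAffineHom_of_isAffine _
    exact MorphismProperty.of_postcomp (W := @IsAffineHom) (W' := @IsSeparated) V.ι f inferInstance inferInstance
  let C := (HomologicalComplex.single X.Modules (ComplexShape.up ℤ) n).obj M
  let sIso := (HomologicalComplex.singleMapHomologicalComplex (Scheme.Modules.pushforward f)
    (ComplexShape.up ℤ) n).app M
  have a₂ : IsIso ((alpha g).app ((pushH f).obj ((qq X).obj C))) := by
    let C' := (HomologicalComplex.single S.Modules (ComplexShape.up ℤ) n).obj ((Scheme.Modules.pushforward f).obj M)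
    haveI : CochainComplex.IsStrictlyLE C' n := (CochainComplex.isStrictlyLE_iff _ n).2
      fun i hi => HomologicalComplex.isZero_single_obj_X (ComplexShape.up ℤ) n _ i (by omega)
    exact (NatTrans.isIso_app_iff_of_iso (alpha g) ((qq S).mapIso sIso)).2
      (isIso_Lpull_counit g (isKFlat_of_isStrictlyLE C' n (isFlat_single n hflat)))
  haveI := isIso_pushUnit_of_bijective V M hb
  have b₁ : IsIso ((beta f).app ((qq X).obj C)) := by
    haveI : IsAffineHom (V.ι ≫ f) := isAffineHom_of_isAffine _
    let H₀ := (Scheme.Modules.restrictFunctor V.ι).obj M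
    let C₀ := (HomologicalComplex.single (V : Scheme.{u}).Modules (ComplexShape.up ℤ) n).obj H₀
    let eC : ((Scheme.Modules.pushforward V.ι).mapHomologicalComplex (ComplexShape.up ℤ)).obj C₀ ≅ C :=
      (HomologicalComplex.singleMapHomologicalComplex (Scheme.Modules.pushforward V.ι) _ n).app H₀ ≪≫
        (HomologicalComplex.single X.Modules _ n).mapIso (asIso ((pushUnit V).app M)).symm
    refine (NatTrans.isIso_app_iff_of_iso (beta f) ((qq X).mapIso eC)).1
      (isIso_beta_pushH V.ι f C₀ fun k => ?_)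
    by_cases hk : k = n
    · subst hk
      exact isQCoh_of_iso (HomologicalComplex.singleObjXSelf (ComplexShape.up ℤ) k _).symm
        (QCoh.isQCoh_restrict V.ι hM)
    · exact isQCoh_of_isZero (HomologicalComplex.isZero_single_obj_X _ _ _ _ hk)
  have b₂ : IsIso ((beta f').app ((qq X').obj ((pullCx g').obj C))) := by
    let H := (Scheme.Modules.pullback g').obj M
    let V' := g' ⁻¹ᵁ V
    haveI := isIso_pushUnit_pullback h hM V hb
    haveI : IsAffine (V' : Scheme.{u}) := hV.preimage g'
    haveI : IsAffineHom (V'.ι ≫ f') := isAffineHom_of_isAffine _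
    haveI : IsAffineHom V'.ι :=
      MorphismProperty.of_isPullback (P := @IsAffineHom) (isPullback_morphismRestrict g' V) inferInstance
    let H₀ := (Scheme.Modules.restrictFunctor V'.ι).obj H
    let C₀ := (HomologicalComplex.single (V' : Scheme.{u}).Modules (ComplexShape.up ℤ) n).obj H₀
    let eC : ((Scheme.Modules.pushforward V'.ι).mapHomologicalComplex (ComplexShape.up ℤ)).obj C₀ ≅
        (pullCx g').obj C :=
      (HomologicalComplex.singleMapHomologicalComplex (Scheme.Modules.pushforward V'.ι) _ n).app H₀ ≪≫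
        (HomologicalComplex.single X'.Modules _ n).mapIso (asIso ((pushUnit V').app H)).symm ≪≫
        ((HomologicalComplex.singleMapHomologicalComplex (Scheme.Modules.pullback g') _ n).app M).symm
    refine (NatTrans.isIso_app_iff_of_iso (beta f') ((qq X').mapIso eC)).1
      (isIso_beta_pushH V'.ι f' C₀ fun k => ?_)
    by_cases hk : k = n
    · subst hk
      exact isQCoh_of_iso (HomologicalComplex.singleObjXSelf (ComplexShape.up ℤ) k _).symm
        (QCoh.isQCoh_restrict V'.ι (QCoh.isQCoh_pullback g' hM))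
    · exact isQCoh_of_isZero (HomologicalComplex.isZero_single_obj_X _ _ _ _ hk)
  have hbc : ∀ k, IsIso (bcMod h.w (C.X k)) := fun k => by
    by_cases hk : k = n
    · subst hk
      let e := HomologicalComplex.singleObjXSelf (ComplexShape.up ℤ) k M
      refine isIso_bcMod h (isQCoh_of_iso e.symm hM) V hV fun O => ?_
      have key : ∀ x, e.hom.app (O ⊓ V) (QCoh.rs _ (inf_le_left : O ⊓ V ≤ O) x) =
          QCoh.rs M inf_le_left (e.hom.app O x) := fun x => QCoh.app_rs e.hom _ x
      refine (Function.Bijective.of_comp_iff'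
        (ConcreteCategory.bijective_of_isIso (e.hom.app (O ⊓ V))) _).1 ?_
      rw [show (e.hom.app (O ⊓ V) : _ → _) ∘ QCoh.rs _ (inf_le_left : O ⊓ V ≤ O) = _ from funext key]
      exact (hb O).comp (ConcreteCategory.bijective_of_isIso (e.hom.app O))
    · have hz : IsZero (C.X k) := HomologicalComplex.isZero_single_obj_X _ _ _ _ hk
      exact ⟨0, ((Scheme.Modules.pullback g).map_isZero ((Scheme.Modules.pushforward f).map_isZero hz)).eq_of_src _ _,
        ((Scheme.Modules.pushforward f').map_isZero ((Scheme.Modules.pullback g').map_isZero hz)).eq_of_src _ _⟩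
  exact isIso_baseChangeApp_comp_alpha hA hA' h.w e he C a₂ b₁ b₂ hbc

end BC

end Groth.Agent.KFlatLib.TorBC
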