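import Groth.Agent.KFlatLib.Scheme.TorBCTensorMap
import Groth.Agent.KFlatLib.Scheme.TorBCPerfect
import Groth.Agent.KFlatLib.Scheme.TriNatShift
import Groth.Agent.KFlatLib.Scheme.PerfTensorCoh
import Groth.Agent.CohPullX.ProperModel
import Groth.Agent.KFlatLib.Scheme.RelPerfectFP

/-!
# `Rf_*(E ⊗ G)` is perfect for proper `f`, perfect `E` and finitely presented `G` flat over the base
-/

set_option linter.style.haveILetI false
set_option backward.isDefEq.respectTransparency false

universe u

open CategoryTheory CategoryTheory.Limits CategoryTheory.Pretriangulated AlgebraicGeometry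

attribute [local instance] HasDerivedCategory.standard

namespace Groth.Agent.KFlatLib.TorBC

variable {X X' S S' : Scheme.{u}}

/-- The derived tensor product depends on the module up to isomorphism. -/
theorem nonempty_ltensorMod_congr {G G' : X.Modules} (e : G ≅ G') [DCoh.HasLTensorMod G] [DCoh.HasLTensorMod G']
    (E : DCoh.D X) : Nonempty ((DCoh.LTensorMod G).obj E ≅ (DCoh.LTensorMod G').obj E) := by
  let R := (kRes X).obj (DerivedCategory.Q.objPreimage E)
  haveI := isIso_ltensorModComparison G (isKFlat_kRes (DerivedCategory.Q.objPreimage E))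
  haveI := isIso_ltensorModComparison G' (isKFlat_kRes (DerivedCategory.Q.objPreimage E))
  let r : DerivedCategory.Q.obj R ≅ E := (resQIso X).app _ ≪≫ DerivedCategory.Q.objObjPreimageIso E
  let e₁ : DCoh.tensorRightMod G ≅ DCoh.tensorRightMod G' := DCoh.tensorBi.flip.mapIso e
  exact ⟨(DCoh.LTensorMod G).mapIso r.symm ≪≫ asIso ((ltensorModComparison G).app R) ≪≫
    DerivedCategory.Q.mapIso ((NatIso.mapHomologicalComplex e₁ (ComplexShape.up ℤ)).app R) ≪≫
    (asIso ((ltensorModComparison G').app R)).symm ≪≫ (DCoh.LTensorMod G').mapIso r⟩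

variable (f : X ⟶ S)

/-- The perfect case over a base change of a proper morphism over an affine noetherian scheme. -/
theorem locSP_rpush_tensor_of_model {X₀ S₀ : Scheme.{u}} [IsAffine S] [IsAffine S₀] [IsNoetherian S₀]
    {f₀ : X₀ ⟶ S₀} {g : S ⟶ S₀} {g' : X ⟶ X₀} (h : IsPullback g' f f₀ g) [IsProper f₀] [DCoh.HasRpush f]
    (F₀ : X₀.Modules) (hF : Coh.IsCoh F₀) (hflat : FlatMod.IsFlatOver f₀ F₀)
    [DCoh.HasLTensorMod ((Scheme.Modules.pullback g').obj F₀)] {E : DCoh.D X} (hE : LocSP E) :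
    LocSP ((DCoh.Rpush f).obj ((DCoh.LTensorMod ((Scheme.Modules.pullback g').obj F₀)).obj E)) := by
  haveI : IsProper f := MorphismProperty.of_isPullback (P := @IsProper) h inferInstance
  haveI : IsAffineHom g' := MorphismProperty.of_isPullback (P := @IsAffineHom) h.flip inferInstance
  haveI : CompactSpace X₀ := QuasiCompact.compactSpace_of_compactSpace f₀
  haveI : QuasiSeparatedSpace X₀ := quasiSeparatedSpace_of_quasiSeparated f₀
  haveI : IsLocallyNoetherian X₀ := LocallyOfFiniteType.isLocallyNoetherian f₀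
  haveI : CompactSpace X := QuasiCompact.compactSpace_of_compactSpace f
  haveI : QuasiSeparatedSpace X := quasiSeparatedSpace_of_quasiSeparated f
  haveI := hasRpush_scheme f₀
  haveI := hasRpush_scheme g
  haveI := hasRpush_scheme g'
  haveI := hasLpull g
  haveI := hasLpull g'
  haveI := hasLTensorMod F₀
  obtain ⟨τ, hτ⟩ := exists_tensor_theta h F₀ hF.1 hflat
  let G' := (Scheme.Modules.pullback g').obj F₀
  let H := DCoh.LTensorMod G' ⋙ DCoh.Rpush f
  have hH : TriNat.PresTri H := TriNat.presTri_comp (TriNat.presTri_ltensorMod G') (TriNat.presTri_rpush f)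
  haveI := TriNat.isTriangulated_good τ
    (TriNat.presTri_comp (TriNat.presTri_comp (TriNat.presTri_ltensorMod F₀) (TriNat.presTri_rpush f₀))
      (TriNat.presTri_lpull g))
    (TriNat.presTri_comp (TriNat.presTri_comp (TriNat.presTri_lpull g') (TriNat.presTri_ltensorMod G'))
      (TriNat.presTri_rpush f))
  have hgood : ∀ L, LocSP L → TriNat.good τ L := fun L hL => by
    refine prop_of_locSP (TriNat.good τ) (fun W j _ _ _ => ?_) L hL
    haveI : IsAffineHom (j ≫ f₀) := isAffineHom_of_isAffine _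
    haveI : IsAffineHom j :=
      MorphismProperty.of_postcomp (W := @IsAffineHom) (W' := @IsSeparated) j f₀ inferInstance inferInstance
    obtain ⟨e⟩ := AffineRpush.nonempty_rpush_inD j (Coh.structureModule W) QCoh.isQCoh_structureModule
    refine (TriNat.good τ).prop_of_iso e.symm fun k => ?_
    exact (NatTrans.isIso_app_iff_of_iso τ
      (((DerivedCategory.singleFunctors X₀.Modules).shiftIso k (-k) 0 (by omega)).app _).symm).1 (hτ W j (-k))
  obtain ⟨P₀, hP₀, hgen₀⟩ := Generator.exists_gen X₀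
  let P := (DCoh.Lpull g').obj P₀
  have hP : LocSP P := (isPerfect_iff _).1 (isPerfect_lpull g' ((isPerfect_iff _).2 hP₀))
  have hgen : ∀ F, DCoh.IsQCohD F → Generator.Orth P F → IsZero F := fun F hF ho => by
    obtain ⟨adj⟩ := nonempty_lpull_rpush_adj g'
    refine isZero_of_rpush_isZero g' hF (hgen₀ _ (isQCohD_rpush g' hF) ?_)
    rw [orth_iff_shift_right]
    intro m ψ
    obtain ⟨es⟩ := nonempty_rpush_shift g' F m
    have h0 := (orth_iff_shift_right P F).1 ho m ((adj.homEquiv _ _).symm (ψ ≫ es.inv))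
    have h1 := congrArg (adj.homEquiv P₀ (F⟦m⟧)) h0
    rw [Equiv.apply_symm_apply] at h1
    haveI : (DCoh.Rpush g').Additive :=
      (exists_rightDerived_triangle (Scheme.Modules.pushforward g') _ (contractible_distinguished F)).1
    rw [← cancel_mono es.inv, zero_comp, h1, adj.homEquiv_unit, Functor.map_zero, comp_zero]
  haveI := TriNat.isTriangulated_comap (CompactPerfect.perfD S) H hH
    (fun K n => hH.nonempty_shift K n)
  refine CompactPerfect.prop_of_finSums (TriNat.comap (CompactPerfect.perfD S) H) hP hgen ?_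
    (AffineLift.isQCohD_of_locSP hE) (CompactPerfect.finSums_of_isPerfect ((isPerfect_iff _).2 hE))
  haveI : IsIso (τ.app P₀) :=
    (NatTrans.isIso_app_iff_of_iso τ ((shiftFunctorZero (DCoh.D X₀) ℤ).app P₀)).1 (hgood P₀ hP₀ 0)
  obtain ⟨hcoh, htor, hs⟩ := perfTensor_props f₀ hP₀ F₀ hF hflat
  have h₀ : LocSP ((DCoh.Rpush f₀).obj ((DCoh.LTensorMod F₀).obj P₀)) :=
    locSP_rpush_of_relTor f₀ _ (fun i => ⟨hcoh i, isProperOver_of_isProper f₀
      (QCoh.isClosed_support_of_isFT (hcoh i).1 (hcoh i).2)⟩) Set.univ isClosed_univ isCompact_univ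
      (fun _ => Set.subset_univ _) htor
  exact LocSP.of_iso (asIso (τ.app P₀))
    ((isPerfect_iff _).1 (isPerfect_lpull g ((isPerfect_iff _).2 h₀)))

/-- The perfect case over an affine base. -/
theorem locSP_rpush_tensor_affine [IsAffine S] [IsProper f] [LocallyOfFinitePresentation f] [DCoh.HasRpush f]
    (G : X.Modules) (hG : CohB1.IsFP G) (hflat : FlatMod.IsFlatOver f G) [DCoh.HasLTensorMod G]
    {E : DCoh.D X} (hE : LocSP E) : LocSP ((DCoh.Rpush f).obj ((DCoh.LTensorMod G).obj E)) := by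
  let fV := f ≫ S.isoSpec.hom
  haveI : IsProper fV := inferInstanceAs (IsProper (_ ≫ _))
  haveI : LocallyOfFinitePresentation fV := inferInstanceAs (LocallyOfFinitePresentation (_ ≫ _))
  have hflatV : FlatMod.IsFlatOver fV G := fun x => (RelTor.flatOverAt_comp_iff f S.isoSpec.hom G x).1 (hflat x)
  obtain ⟨A₀, _, _, φ, X₀, f₀, g', F₀, hp, h, hcoh, hfl, ⟨e⟩⟩ :=
    CohPullX.exists_proper_flat_model Γ(S, ⊤) fV hG hflatV
  have h' : IsPullback g' f f₀ (S.isoSpec.hom ≫ Spec.map (CommRingCat.ofHom φ)) :=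
    h.of_iso (Iso.refl _) (Iso.refl _) S.isoSpec.symm (Iso.refl _) (by simp) (by simp [fV]) (by simp) (by simp)
  haveI := hasLTensorMod ((Scheme.Modules.pullback g').obj F₀)
  obtain ⟨e'⟩ := nonempty_ltensorMod_congr e E
  exact LocSP.of_iso ((DCoh.Rpush f).mapIso e') (locSP_rpush_tensor_of_model f h' F₀ hcoh hfl hE)

/-- Direct images along proper morphisms of perfect objects tensored with finitely presented modules flat over
the base are perfect. -/
theorem locSP_rpush_tensor [IsProper f] [LocallyOfFinitePresentation f] [DCoh.HasRpush f]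
    (G : X.Modules) (hG : CohB1.IsFP G) (hflat : FlatMod.IsFlatOver f G) [DCoh.HasLTensorMod G]
    {E : DCoh.D X} (hE : LocSP E) : LocSP ((DCoh.Rpush f).obj ((DCoh.LTensorMod G).obj E)) := by
  refine LocSP.of_local fun x => ?_
  obtain ⟨V, hV, hxV, -⟩ := exists_isAffineOpen_mem_and_subset (X := S) (x := x) (U := ⊤) trivial
  haveI : IsAffine (V : Scheme.{u}) := hV
  haveI : IsProper (f ∣_ V) := MorphismProperty.of_isPullback (isPullback_morphismRestrict f V).flip inferInstance
  haveI : LocallyOfFinitePresentation (f ∣_ V) :=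
    MorphismProperty.of_isPullback (isPullback_morphismRestrict f V).flip inferInstance
  haveI := hasRpush_scheme (f ∣_ V)
  let U := f ⁻¹ᵁ V
  let G' := (Scheme.Modules.pullback U.ι).obj G
  haveI := hasLTensorMod G'
  have hflat' : FlatMod.IsFlatOver (f ∣_ V) G' := fun v => by
    rw [RelTor.flatOverAt_comp_iff (f ∣_ V) V.ι G' v, morphismRestrict_ι]
    exact RelTor.flatOverAt_of_iso ((Scheme.Modules.restrictFunctorIsoPullback U.ι).app G)
      ((RelTor.flatOverAt_restrict_iff U.ι f G v).1 (hflat (U.ι.base v)))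
  obtain ⟨e⟩ := nonempty_rpush_restrictD_iso f V
  obtain ⟨P, hP⟩ : ∃ P, P = (rho U.ι).obj E := ⟨_, rfl⟩
  let R := (kRes (U : Scheme.{u})).obj (DerivedCategory.Q.objPreimage P)
  obtain ⟨r⟩ := nonempty_rho_ltensorMod U.ι G E R (isKFlat_kRes _)
    ((resQIso _).app _ ≪≫ DerivedCategory.Q.objObjPreimageIso P ≪≫ eqToIso hP)
  haveI := isIso_ltensorModComparison G' (isKFlat_kRes (DerivedCategory.Q.objPreimage P))
  let r' : (rho U.ι).obj ((DCoh.LTensorMod G).obj E) ≅ (DCoh.LTensorMod G').obj P :=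
    r ≪≫ (asIso ((ltensorModComparison G').app R)).symm ≪≫
      (DCoh.LTensorMod G').mapIso ((resQIso _).app _ ≪≫ DerivedCategory.Q.objObjPreimageIso P)
  exact ⟨_, V.ι, inferInstance, ⟨⟨x, hxV⟩, rfl⟩,
    (locSP_rpush_tensor_affine (f ∣_ V) G' (LimModLib.isFP_pullback U.ι (QCoh.isQCoh_of_isFP hG) hG) hflat' (hP ▸ hE.restrict' U.ι)).of_iso
      ((DCoh.Rpush (f ∣_ V)).mapIso r'.symm ≪≫ (e.app _).symm)⟩

end Groth.Agent.KFlatLib.TorBC
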