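import Groth.Agent.KFlatLib.Scheme.TorBCTensorPerfect
import Groth.Agent.KFlatLib.Scheme.DualTensorMod
import Groth.Agent.KFlatLib.Scheme.Adjoint
import Groth.Agent.FittX.Sheaf
import Groth.Agent.MorLib.IdealFG2
import Groth.Agent.QCoh.ProperOver
import Groth.Agent.QCoh.ClosedPush

/-!
# `Rf_*(E ⊗ G)` is perfect for `G` flat over the base with proper support
-/

set_option linter.style.haveILetI false
set_option backward.isDefEq.respectTransparency false

universe u

open CategoryTheory CategoryTheory.Limits AlgebraicGeometry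

attribute [local instance] HasDerivedCategory.standard

namespace Groth.Agent.KFlatLib.TorBC

variable {X S : Scheme.{u}}

/-- A module of finite presentation is pushed forward from a closed subscheme of finite presentation on its
support. -/
theorem exists_fitting_model {G : X.Modules} (hG : CohB1.IsFP G) :
    ∃ (Z : Scheme.{u}) (i : Z ⟶ X) (_ : IsClosedImmersion i) (_ : LocallyOfFinitePresentation i),
      Set.range i = CohB1.support G ∧ CohB1.IsFP ((Scheme.Modules.pullback i).obj G) ∧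
        IsIso ((Scheme.Modules.pullbackPushforwardAdjunction i).unit.app G) := by
  have hq := QCoh.isQCoh_of_isFP hG
  have hft := QCoh.isFT_of_isFP hG
  let I := Fitt.sheafIdeal G 0
  refine ⟨I.subscheme, I.subschemeι, inferInstance, MorLib.IdealFG.lfp_subschemeι (FittX.isFiniteTypeIdeal hG 0), ?_,
    LimModLib.isFP_pullback _ hq hG, (QCoh.isIso_unit_closed_iff _ hq).2 fun U a ha s => ?_⟩
  · rw [Scheme.IdealSheafData.range_subschemeι]
    exact FittX.support_sheafIdeal_zero hq hft
  · haveI := QCoh.finite_of_isFT hq hft U.2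
    rw [Scheme.IdealSheafData.ker_subschemeι, FittX.sheafIdeal_ideal hq hft] at ha
    exact Module.mem_annihilator.1 (FittX.ideal_annihilator (R := Γ(X, U.1)) (M := Γ(G, U.1)) ha) s

/-- Flatness over the base of a module pushed forward along a closed immersion. -/
theorem isFlatOver_of_push {Z : Scheme.{u}} (i : Z ⟶ X) [IsAffineHom i] (f : X ⟶ S) {M : Z.Modules}
    (hM : Coh.IsQCoh M) (h : FlatMod.IsFlatOver f ((Scheme.Modules.pushforward i).obj M)) :
    FlatMod.IsFlatOver (i ≫ f) M := fun z => by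
  obtain ⟨_, ⟨V, hV, rfl⟩, hxV, -⟩ :=
    S.isBasis_affineOpens.exists_subset_of_mem_open (Set.mem_univ ((i ≫ f).base z)) isOpen_univ
  obtain ⟨_, ⟨U, hU, rfl⟩, hxU, hle⟩ :=
    X.isBasis_affineOpens.exists_subset_of_mem_open (show i.base z ∈ f ⁻¹ᵁ V from hxV) (f ⁻¹ᵁ V).2
  have hle' : i ⁻¹ᵁ U ≤ (i ≫ f) ⁻¹ᵁ V := i.preimage_mono hle
  refine (QCoh.flat_appLE_iff (i ≫ f) hM (hU.preimage i) hV hle').1 ?_ z hxU
  have hs := (QCoh.isFlatOver_iff f (QCoh.isQCoh_pushforward i hM)).1 h U V hle hU hV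
  letI : Module Γ(S, V) Γ((Scheme.Modules.pushforward i).obj M, U) := Module.compHom _ (f.appLE V U hle).hom
  letI : Module Γ(S, V) Γ(M, i ⁻¹ᵁ U) := Module.compHom _ ((i ≫ f).appLE V (i ⁻¹ᵁ U) hle').hom
  haveI : Module.Flat Γ(S, V) Γ((Scheme.Modules.pushforward i).obj M, U) := hs
  refine Module.Flat.of_linearEquiv (M := Γ((Scheme.Modules.pushforward i).obj M, U))
    { toFun := fun y => y
      invFun := fun y => y
      left_inv := fun _ => rfl
      right_inv := fun _ => rfl
      map_add' := fun _ _ => rfl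
      map_smul' := fun a y => ?_ }
  exact congrArg (fun r : Γ(Z, i ⁻¹ᵁ U) => r • (show Γ(M, i ⁻¹ᵁ U) from y))
    (show (i ≫ f).appLE V (i ⁻¹ᵁ U) hle' a = i.app U (f.appLE V U hle a) by
      rw [← Scheme.Hom.appLE_eq_app, ← CommRingCat.comp_apply, Scheme.Hom.appLE_comp_appLE])

/-- Direct images of perfect objects tensored with finitely presented modules flat over the base with proper
support are perfect. -/
theorem locSP_rpush_tensor_support (f : X ⟶ S) [LocallyOfFinitePresentation f] [DCoh.HasRpush f]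
    (G : X.Modules) (hG : CohB1.IsFP G) (hflat : FlatMod.IsFlatOver f G)
    (hsupp : ClSub.IsProperOver f (CohB1.support G)) [DCoh.HasLTensorMod G]
    {E : DCoh.D X} (hE : LocSP E) : LocSP ((DCoh.Rpush f).obj ((DCoh.LTensorMod G).obj E)) := by
  have hq := QCoh.isQCoh_of_isFP hG
  obtain ⟨Z, i, _, _, hr, hfp, hu⟩ := exists_fitting_model hG
  haveI : IsProper (i ≫ f) := (QCoh.isProperOver_iff i).1 (hr ▸ hsupp)
  let M := (Scheme.Modules.pullback i).obj G
  have hM : Coh.IsQCoh M := QCoh.isQCoh_pullback i hq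
  let u : G ≅ (Scheme.Modules.pushforward i).obj M :=
    @asIso _ _ _ _ ((Scheme.Modules.pullbackPushforwardAdjunction i).unit.app G) hu
  have hflatM : FlatMod.IsFlatOver (i ≫ f) M :=
    isFlatOver_of_push i f hM (fun x => RelTor.flatOverAt_of_iso u (hflat x))
  haveI := hasRpush_scheme i
  haveI := hasRpush_scheme (i ≫ f)
  haveI := hasLpull i
  haveI := hasLTensorMod M
  haveI := hasLTensorMod ((Scheme.Modules.pushforward i).obj M)
  let K := repK E
  let L := repK ((DCoh.Lpull i).obj E)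
  haveI := hasLTensorCx K
  haveI := hasLTensorCx L
  let C := (HomologicalComplex.single Z.Modules (ComplexShape.up ℤ) 0).obj M
  let D := (HomologicalComplex.single X.Modules (ComplexShape.up ℤ) 0).obj ((Scheme.Modules.pushforward i).obj M)
  haveI := hasLTensorCx C
  haveI := hasLTensorCx D
  obtain ⟨p⟩ := nonempty_projection_DQCoh i (DCoh.inD Z M) (isQCohD_inD_of_isQCoh hM) K
    (isQCohD_of_iso (repKIso E).symm (AffineLift.isQCohD_of_locSP hE)) L
    ⟨repKIso _ ≪≫ (DCoh.Lpull i).mapIso (repKIso E).symm⟩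
  obtain ⟨a⟩ := AffineRpush.nonempty_rpush_inD i M hM
  obtain ⟨sK⟩ := nonempty_ltensor_symm K D (isKFlat_repK E)
  obtain ⟨sL⟩ := nonempty_ltensor_symm L C (isKFlat_repK _)
  obtain ⟨mD⟩ := nonempty_ltensorMod_ltensorCx ((Scheme.Modules.pushforward i).obj M) E
  obtain ⟨mC⟩ := nonempty_ltensorMod_ltensorCx M ((DCoh.Lpull i).obj E)
  obtain ⟨t⟩ := nonempty_ltensorMod_congr u E
  let eD : DerivedCategory.Q.obj D ≅ DCoh.inD X ((Scheme.Modules.pushforward i).obj M) :=
    ((DerivedCategory.singleFunctorIsoCompQ X.Modules 0).app _).symm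
  let eC : DerivedCategory.Q.obj C ≅ DCoh.inD Z M :=
    ((DerivedCategory.singleFunctorIsoCompQ Z.Modules 0).app M).symm
  let key : (DCoh.LTensorMod G).obj E ≅
      (DCoh.Rpush i).obj ((DCoh.LTensorMod M).obj ((DCoh.Lpull i).obj E)) :=
    t ≪≫ mD ≪≫ (DCoh.LTensorCx D).mapIso (repKIso E).symm ≪≫ sK.symm ≪≫ (DCoh.LTensorCx K).mapIso eD ≪≫
      (DCoh.LTensorCx K).mapIso a.symm ≪≫ p ≪≫
      (DCoh.Rpush i).mapIso ((DCoh.LTensorCx L).mapIso eC.symm ≪≫ sL ≪≫
        (DCoh.LTensorCx C).mapIso (repKIso _) ≪≫ mC.symm)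
  obtain ⟨c⟩ := nonempty_rpush_comp (f := i) f
  exact (locSP_rpush_tensor (i ≫ f) M hfp hflatM
    ((isPerfect_iff _).1 (isPerfect_lpull i ((isPerfect_iff _).2 hE)))).of_iso
      (((DCoh.Rpush f).mapIso key) ≪≫ c.app _).symm

end Groth.Agent.KFlatLib.TorBC
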